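/-
helper28 library: elements of `GL ι F` coming from linear equivalences of `ι → F`, transvections,
and membership criteria for the subgroups of `Cfsg.Geo` (Def_GeometricClasses).
-/
import Mathlib
import Cfsg.Prelude.Def_GeometricClasses

set_option autoImplicit false

namespace Cfsg.Agent.Lib.H28

open Matrix Module

variable {ι : Type} [Fintype ι] [DecidableEq ι] {F : Type*} [Field F]

/-- The element of `GL ι F` with the matrix of a linear equivalence of `ι → F`. -/
noncomputable def glOfEquiv (e : (ι → F) ≃ₗ[F] (ι → F)) : GL ι F :=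
  ⟨LinearMap.toMatrix' (e : (ι → F) →ₗ[F] (ι → F)),
    LinearMap.toMatrix' (e.symm : (ι → F) →ₗ[F] (ι → F)),
    by rw [← LinearMap.toMatrix'_comp]; simp,
    by rw [← LinearMap.toMatrix'_comp]; simp⟩

theorem glOfEquiv_val (e : (ι → F) ≃ₗ[F] (ι → F)) :
    ((glOfEquiv e : GL ι F) : Matrix ι ι F) = LinearMap.toMatrix' (e : (ι → F) →ₗ[F] (ι → F)) := rfl

theorem glOfEquiv_mulVec (e : (ι → F) ≃ₗ[F] (ι → F)) (x : ι → F) :
    ((glOfEquiv e : GL ι F) : Matrix ι ι F) *ᵥ x = e x := by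
  rw [glOfEquiv_val, LinearMap.toMatrix'_mulVec]; rfl

theorem glOfEquiv_det (e : (ι → F) ≃ₗ[F] (ι → F)) :
    ((glOfEquiv e : GL ι F) : Matrix ι ι F).det = LinearMap.det (e : (ι → F) →ₗ[F] (ι → F)) := by
  rw [glOfEquiv_val, LinearMap.det_toMatrix']

theorem mem_specialLinear_iff (g : GL ι F) :
    g ∈ Cfsg.Geo.specialLinear ι F ↔ (g : Matrix ι ι F).det = 1 := by
  unfold Cfsg.Geo.specialLinear
  rw [MonoidHom.mem_ker]
  constructor
  · intro h
    have := congrArg (fun u : Fˣ => (u : F)) h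
    simpa using this
  · intro h
    apply Units.ext
    simpa using h

theorem mem_subspaceStabilizer_iff (g : GL ι F) (W : Submodule F (ι → F)) :
    g ∈ Cfsg.Geo.subspaceStabilizer W ↔ ∀ v, v ∈ W ↔ (g : Matrix ι ι F) *ᵥ v ∈ W := Iff.rfl

/-- If `g` fixes `W` pointwise then `g` stabilises `W`. -/
theorem mem_subspaceStabilizer_of_fix (g : GL ι F) (W : Submodule F (ι → F))
    (h : ∀ v ∈ W, (g : Matrix ι ι F) *ᵥ v = v) : g ∈ Cfsg.Geo.subspaceStabilizer W := by
  rw [mem_subspaceStabilizer_iff]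
  intro v
  constructor
  · intro hv; rw [h v hv]; exact hv
  · intro hv
    have h2 := h _ hv
    -- g (g v) = g v, so g v = v
    have hinj : (g : Matrix ι ι F) *ᵥ v = v := by
      have hcancel : ∀ w : ι → F, ((g⁻¹ : GL ι F) : Matrix ι ι F) *ᵥ ((g : Matrix ι ι F) *ᵥ w) = w := by
        intro w
        rw [Matrix.mulVec_mulVec, ← Units.val_mul, inv_mul_cancel, Units.val_one, Matrix.one_mulVec]
      have h3 : ((g⁻¹ : GL ι F) : Matrix ι ι F) *ᵥ ((g : Matrix ι ι F) *ᵥ ((g : Matrix ι ι F) *ᵥ v))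
          = ((g⁻¹ : GL ι F) : Matrix ι ι F) *ᵥ ((g : Matrix ι ι F) *ᵥ v) := by rw [h2]
      rw [hcancel, hcancel] at h3
      exact h3
    rw [← hinj]; exact hv

/-- The transvection `x ↦ x + f x • v` (with `f v = 0`) as an element of `GL ι F`. -/
noncomputable def tvGL (f : Dual F (ι → F)) (v : ι → F) (h : f v = 0) : GL ι F :=
  glOfEquiv (LinearEquiv.transvection h)

theorem tvGL_mulVec (f : Dual F (ι → F)) (v : ι → F) (h : f v = 0) (x : ι → F) :
    ((tvGL f v h : GL ι F) : Matrix ι ι F) *ᵥ x = x + f x • v := by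
  unfold tvGL
  rw [glOfEquiv_mulVec, LinearEquiv.transvection.apply]

theorem tvGL_mem_specialLinear (f : Dual F (ι → F)) (v : ι → F) (h : f v = 0) :
    tvGL f v h ∈ Cfsg.Geo.specialLinear ι F := by
  rw [mem_specialLinear_iff]
  unfold tvGL
  rw [glOfEquiv_det]
  have := LinearEquiv.transvection.det_eq_one h
  rw [← LinearEquiv.coe_det, this, Units.val_one]

/-- Key existence lemma: if `x ∉ S ⊔ span {y}` there is an element of the special linear group fixing `S`
pointwise and mapping `x` to `x + y`. -/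
theorem exists_sl_fix_add (S : Submodule F (ι → F)) (x y : ι → F)
    (hx : x ∉ S ⊔ Submodule.span F {y}) :
    ∃ g : GL ι F, g ∈ Cfsg.Geo.specialLinear ι F ∧ (∀ s ∈ S, (g : Matrix ι ι F) *ᵥ s = s) ∧
      (g : Matrix ι ι F) *ᵥ x = x + y := by
  obtain ⟨f, hfx, hker⟩ := Submodule.exists_le_ker_of_notMem hx
  set f' : Dual F (ι → F) := (f x)⁻¹ • f with hf'
  have hy : f y = 0 := by
    have : y ∈ S ⊔ Submodule.span F {y} :=
      Submodule.mem_sup_right (Submodule.mem_span_singleton_self y)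
    exact hker this
  have hf'y : f' y = 0 := by simp [hf', hy]
  refine ⟨tvGL f' y hf'y, tvGL_mem_specialLinear _ _ _, ?_, ?_⟩
  · intro s hs
    have : f s = 0 := hker (Submodule.mem_sup_left hs)
    rw [tvGL_mulVec]
    simp [hf', this]
  · rw [tvGL_mulVec]
    have : f' x = 1 := by simp [hf', inv_mul_cancel₀ hfx]
    rw [this, one_smul]

/-- For a proper non-zero subspace `W`, the stabiliser of `W` in `SL` is a proper subgroup of `SL`. -/
theorem stab_inf_sl_lt {ι : Type} [Fintype ι] [DecidableEq ι] {F : Type*} [Field F]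
    (W : Submodule F (ι → F)) (hW0 : W ≠ ⊥) (hW1 : W ≠ ⊤) :
    Cfsg.Geo.subspaceStabilizer W ⊓ Cfsg.Geo.specialLinear ι F < Cfsg.Geo.specialLinear ι F := by
  refine lt_of_le_of_ne inf_le_right ?_
  intro heq
  obtain ⟨w, hwW, hw0⟩ := (Submodule.ne_bot_iff W).1 hW0
  obtain ⟨v, hv⟩ : ∃ v, v ∉ W := by
    by_contra hcon
    push Not at hcon
    exact hW1 (eq_top_iff.2 fun x _ => hcon x)
  have hw : w ∉ (⊥ : Submodule F (ι → F)) ⊔ Submodule.span F {v} := by
    rw [bot_sup_eq, Submodule.mem_span_singleton]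
    rintro ⟨c, hc⟩
    have hc0 : c ≠ 0 := by
      rintro rfl
      exact hw0 (by simpa using hc.symm)
    apply hv
    have : v = c⁻¹ • w := by rw [← hc, smul_smul, inv_mul_cancel₀ hc0, one_smul]
    rw [this]
    exact W.smul_mem _ hwW
  obtain ⟨g, hgSL, -, hgw⟩ := exists_sl_fix_add (⊥ : Submodule F (ι → F)) w v hw
  have hg : g ∈ Cfsg.Geo.subspaceStabilizer W ⊓ Cfsg.Geo.specialLinear ι F := by rw [heq]; exact hgSL
  have hgW := (mem_subspaceStabilizer_iff g W).1 hg.1 w
  have := hgW.1 hwW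
  rw [hgw] at this
  exact hv ((W.add_mem_iff_right hwW).1 this)

end Cfsg.Agent.Lib.H28
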