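import Mathlib

set_option autoImplicit false

/-!
# S3211: a commuting pair of `SL₂(q)`'s swapped by an element of square `j` — abstract setting
(helper28)
-/

namespace Cfsg.Agent.Lib.H28.CSL2

variable {G : Type*} [Group G]

/-- `L` looks like `SL₂(q)`, `q` odd, with central involution `j`: `j` is the only involution of `L`,
the elements of square `j` are conjugate in `L`, and an element inverting one of them has square `j`. -/
structure SLike (L : Subgroup G) (j : G) : Prop where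
  jL : j ∈ L
  jne : j ≠ 1
  jj : j * j = 1
  cen : ∀ a ∈ L, a * j = j * a
  inv : ∀ a ∈ L, a * a = 1 → a = 1 ∨ a = j
  conj : ∀ a ∈ L, ∀ a' ∈ L, a * a = j → a' * a' = j → ∃ k ∈ L, k * a * k⁻¹ = a'
  invt : ∀ a ∈ L, ∀ d ∈ L, a * a = j → d * a * d⁻¹ = a⁻¹ → d * d = j

/-- the extra data on `L₁`: no element of `L` has an `M`-th power of square `j`, but some element
`c` commuting with an `x` of square `j` has `c ^ M = j`; and `x` is inverted in `L`. -/
structure SPow (L : Subgroup G) (j : G) (M : ℕ) : Prop where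
  even : Even M
  npow : ∀ d ∈ L, (d ^ M) * (d ^ M) ≠ j
  ex : ∃ x ∈ L, ∃ c ∈ L, ∃ y ∈ L, x * x = j ∧ c * x = x * c ∧ c ^ M = j ∧ y * x * y⁻¹ = x⁻¹

/-- the configuration of S3211: `C_G(j) = L₁L₂ ∪ L₁L₂n`. -/
structure Cfg (L₁ L₂ : Subgroup G) (j n : G) : Prop where
  s1 : SLike L₁ j
  s2 : SLike L₂ j
  comm : ∀ a ∈ L₁, ∀ b ∈ L₂, a * b = b * a
  meet : ∀ g, g ∈ L₁ → g ∈ L₂ → g = 1 ∨ g = j
  cover : ∀ g, g * j = j * g → ∃ a ∈ L₁, ∃ b ∈ L₂, g = a * b ∨ g = a * b * n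
  nj : n * j = j * n
  nn : n * n = j
  n12 : ∀ a ∈ L₁, n * a * n⁻¹ ∈ L₂
  n21 : ∀ b ∈ L₂, n * b * n⁻¹ ∈ L₁

end Cfsg.Agent.Lib.H28.CSL2
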