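/-
helper28 library: binary words, supports and weights; cosets of a self-dual [24,12,≥8] binary code
("abstract Golay code"): every coset has a unique word of weight ≤ 3 or exactly six words of weight 4.
-/
import Mathlib
import Cfsg.Prelude.Def_Sporadic_a

set_option autoImplicit false
set_option linter.unusedSectionVars false

namespace Cfsg.Agent.Lib.H28

open Finset

section Words

variable {ι : Type*} [Fintype ι] [DecidableEq ι]

/-- The support of a binary word. -/
def supp (v : ι → ZMod 2) : Finset ι := Finset.univ.filter fun i => v i ≠ 0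

theorem mem_supp {v : ι → ZMod 2} {i : ι} : i ∈ supp v ↔ v i ≠ 0 := by simp [supp]

theorem mem_supp' {v : ι → ZMod 2} {i : ι} : i ∈ supp v ↔ v i = 1 := by
  rw [mem_supp]
  have : ∀ a : ZMod 2, a ≠ 0 ↔ a = 1 := by decide
  exact this _

theorem hammingNorm_eq_card_supp (v : ι → ZMod 2) : hammingNorm v = (supp v).card := rfl

theorem supp_eq_support₂ (v : ι → ZMod 2) : supp v = Cfsg.support₂ v := by
  ext i; simp [supp, Cfsg.support₂]

/-- The indicator word of a set. -/
def ind (S : Finset ι) : ι → ZMod 2 := fun i => if i ∈ S then 1 else 0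

theorem supp_ind (S : Finset ι) : supp (ind S) = S := by
  ext i
  rw [mem_supp]
  unfold ind
  split_ifs with h <;> simp [h]

theorem ind_supp (v : ι → ZMod 2) : ind (supp v) = v := by
  funext i
  unfold ind
  split_ifs with h
  · exact (mem_supp'.1 h).symm
  · rw [mem_supp, not_not] at h; exact h.symm

/-- Binary words correspond to subsets. -/
def suppEquiv : (ι → ZMod 2) ≃ Finset ι where
  toFun := supp
  invFun := ind
  left_inv := ind_supp
  right_inv := supp_ind

theorem supp_injective : Function.Injective (supp : (ι → ZMod 2) → Finset ι) := suppEquiv.injective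

theorem supp_zero : supp (0 : ι → ZMod 2) = ∅ := by
  ext i; simp [mem_supp]

theorem supp_eq_empty {v : ι → ZMod 2} : supp v = ∅ ↔ v = 0 := by
  constructor
  · intro h
    apply supp_injective
    rw [h, supp_zero]
  · rintro rfl; exact supp_zero

theorem sub_eq_add' (u v : ι → ZMod 2) : u - v = u + v := by
  funext i
  have : ∀ a b : ZMod 2, a - b = a + b := by decide
  exact this _ _

theorem add_self' (u : ι → ZMod 2) : u + u = 0 := by
  funext i
  have : ∀ a : ZMod 2, a + a = 0 := by decide
  exact this _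

theorem supp_add (u v : ι → ZMod 2) : supp (u + v) = symmDiff (supp u) (supp v) := by
  ext i
  rw [mem_symmDiff, mem_supp, mem_supp, mem_supp, Pi.add_apply]
  have : ∀ a b : ZMod 2, a + b ≠ 0 ↔ (a ≠ 0 ∧ ¬ b ≠ 0) ∨ (b ≠ 0 ∧ ¬ a ≠ 0) := by decide
  exact this _ _

theorem card_symmDiff' (A B : Finset ι) : (symmDiff A B).card + 2 * (A ∩ B).card = A.card + B.card := by
  have h1 : symmDiff A B = (A \ B) ∪ (B \ A) := rfl
  have h2 : Disjoint (A \ B) (B \ A) := disjoint_sdiff_sdiff
  rw [h1, card_union_of_disjoint h2]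
  have h3 := card_sdiff_add_card_inter A B
  have h4 := card_sdiff_add_card_inter B A
  rw [inter_comm B A] at h4
  omega

theorem wt_add (u v : ι → ZMod 2) :
    hammingNorm (u + v) + 2 * (supp u ∩ supp v).card = hammingNorm u + hammingNorm v := by
  rw [hammingNorm_eq_card_supp, hammingNorm_eq_card_supp, hammingNorm_eq_card_supp, supp_add]
  exact card_symmDiff' _ _

theorem dot_eq (u v : ι → ZMod 2) : ∑ i, u i * v i = ((supp u ∩ supp v).card : ZMod 2) := by
  rw [card_eq_sum_ones, Nat.cast_sum, ← sum_filter_add_sum_filter_not univ (fun i => i ∈ supp u ∩ supp v)]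
  have h1 : ∀ i ∈ univ.filter (fun i => i ∈ supp u ∩ supp v), u i * v i = 1 := by
    intro i hi
    rw [mem_filter, mem_inter, mem_supp', mem_supp'] at hi
    rw [hi.2.1, hi.2.2, mul_one]
  have h2 : ∀ i ∈ univ.filter (fun i => ¬ i ∈ supp u ∩ supp v), u i * v i = 0 := by
    intro i hi
    rw [mem_filter, mem_inter, mem_supp, mem_supp] at hi
    by_cases hu : u i = 0
    · rw [hu, zero_mul]
    · have : v i = 0 := by
        by_contra hv
        exact hi.2 ⟨hu, hv⟩
      rw [this, mul_zero]
  rw [sum_congr rfl h1, sum_congr rfl h2, sum_const_zero, add_zero]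
  rw [filter_mem_eq_inter, univ_inter]
  simp

theorem even_inter_of_dot_eq_zero {u v : ι → ZMod 2} (h : ∑ i, u i * v i = 0) :
    Even (supp u ∩ supp v).card := by
  rw [dot_eq] at h
  exact ZMod.natCast_eq_zero_iff_even.1 h

/-- Number of words of a given weight. -/
theorem card_wt_eq (j : ℕ) :
    (Finset.univ.filter (fun v : ι → ZMod 2 => hammingNorm v = j)).card = Nat.choose (Fintype.card ι) j := by
  rw [← card_univ, ← card_powersetCard]
  apply card_bij (fun v _ => supp v)
  · intro v hv
    rw [mem_filter] at hv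
    rw [mem_powersetCard]
    exact ⟨subset_univ _, hv.2⟩
  · intro u _ v _ h
    exact supp_injective h
  · intro S hS
    rw [mem_powersetCard] at hS
    refine ⟨ind S, ?_, supp_ind S⟩
    rw [mem_filter, hammingNorm_eq_card_supp, supp_ind]
    exact ⟨mem_univ _, hS.2⟩

end Words

section Golay

variable {ι : Type*} [Fintype ι] [DecidableEq ι]

/-- The hypotheses on an abstract Golay code (a self-dual binary code of length 24 and minimum weight at
least 8), on an arbitrary index type with 24 elements. -/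
structure IsAbsGolay (C : Submodule (ZMod 2) (ι → ZMod 2)) : Prop where
  hcard : Fintype.card ι = 24
  hdim : Module.finrank (ZMod 2) C = 12
  horth : ∀ v ∈ C, ∀ w ∈ C, ∑ i, v i * w i = 0
  hmin : ∀ w ∈ C, w ≠ 0 → 8 ≤ hammingNorm w

variable {C : Submodule (ZMod 2) (ι → ZMod 2)}

theorem same_coset_wt (hC : IsAbsGolay C) {u u' : ι → ZMod 2} (hne : u ≠ u') (hcos : u - u' ∈ C)
    (hu : hammingNorm u ≤ 4) (hu' : hammingNorm u' ≤ 4) :
    hammingNorm u = 4 ∧ hammingNorm u' = 4 ∧ Disjoint (supp u) (supp u') := by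
  have h0 : u - u' ≠ 0 := sub_ne_zero.2 hne
  have h8 := hC.hmin _ hcos h0
  rw [sub_eq_add'] at h8
  have := wt_add u u'
  have h1 : hammingNorm u = 4 := by omega
  have h2 : hammingNorm u' = 4 := by omega
  refine ⟨h1, h2, ?_⟩
  rw [disjoint_iff_inter_eq_empty, ← card_eq_zero]
  omega

theorem card_quotient (hC : IsAbsGolay C) : Nat.card ((ι → ZMod 2) ⧸ C) = 4096 := by
  have h1 := Submodule.card_eq_card_quotient_mul_card C
  have h2 : Nat.card (ι → ZMod 2) = 2 ^ 24 := by
    rw [Nat.card_eq_fintype_card, Fintype.card_fun, ZMod.card, hC.hcard]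
  have h3 : Nat.card C = 2 ^ 12 := by
    rw [Module.natCard_eq_pow_finrank (K := ZMod 2), hC.hdim, Nat.card_eq_fintype_card, ZMod.card]
  rw [h2, h3] at h1
  have : (2 : ℕ) ^ 24 = 2 ^ 12 * 4096 := by norm_num
  rw [this] at h1
  exact (Nat.eq_of_mul_eq_mul_left (by norm_num) h1).symm

open Classical in
/-- The words of weight `≤ 3` in a coset. -/
noncomputable def cosetLow (C : Submodule (ZMod 2) (ι → ZMod 2)) (q : (ι → ZMod 2) ⧸ C) :
    Finset (ι → ZMod 2) :=
  Finset.univ.filter fun u => Submodule.Quotient.mk u = q ∧ hammingNorm u ≤ 3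

open Classical in
/-- The words of weight `4` in a coset. -/
noncomputable def cosetFour (C : Submodule (ZMod 2) (ι → ZMod 2)) (q : (ι → ZMod 2) ⧸ C) :
    Finset (ι → ZMod 2) :=
  Finset.univ.filter fun u => Submodule.Quotient.mk u = q ∧ hammingNorm u = 4

theorem mem_cosetLow {q : (ι → ZMod 2) ⧸ C} {u : ι → ZMod 2} :
    u ∈ cosetLow C q ↔ Submodule.Quotient.mk u = q ∧ hammingNorm u ≤ 3 := by
  unfold cosetLow; simp

theorem mem_cosetFour {q : (ι → ZMod 2) ⧸ C} {u : ι → ZMod 2} :
    u ∈ cosetFour C q ↔ Submodule.Quotient.mk u = q ∧ hammingNorm u = 4 := by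
  unfold cosetFour; simp

attribute [irreducible] cosetLow cosetFour

theorem cosetLow_card_le (hC : IsAbsGolay C) (q : (ι → ZMod 2) ⧸ C) : (cosetLow C q).card ≤ 1 := by
  rw [card_le_one]
  intro u hu u' hu'
  rw [mem_cosetLow] at hu hu'
  by_contra hne
  have hcos : u - u' ∈ C := by
    rw [← Submodule.Quotient.eq, hu.1, hu'.1]
  have := same_coset_wt hC hne hcos (by omega) (by omega)
  omega

theorem cosetFour_eq_empty_of_low (hC : IsAbsGolay C) (q : (ι → ZMod 2) ⧸ C)
    (h : (cosetLow C q).Nonempty) : cosetFour C q = ∅ := by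
  obtain ⟨u, hu⟩ := h
  rw [mem_cosetLow] at hu
  rw [eq_empty_iff_forall_notMem]
  intro u' hu'
  rw [mem_cosetFour] at hu'
  have hne : u ≠ u' := by
    rintro rfl; omega
  have hcos : u - u' ∈ C := by
    rw [← Submodule.Quotient.eq, hu.1, hu'.1]
  have := same_coset_wt hC hne hcos (by omega) (by omega)
  omega

theorem cosetFour_disjoint (hC : IsAbsGolay C) (q : (ι → ZMod 2) ⧸ C) :
    ∀ u ∈ cosetFour C q, ∀ u' ∈ cosetFour C q, u ≠ u' → Disjoint (supp u) (supp u') := by
  intro u hu u' hu' hne
  rw [mem_cosetFour] at hu hu'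
  have hcos : u - u' ∈ C := by
    rw [← Submodule.Quotient.eq, hu.1, hu'.1]
  exact (same_coset_wt hC hne hcos (by omega) (by omega)).2.2

theorem cosetFour_card_le (hC : IsAbsGolay C) (q : (ι → ZMod 2) ⧸ C) : (cosetFour C q).card ≤ 6 := by
  have hdisj : ((cosetFour C q : Finset _) : Set (ι → ZMod 2)).PairwiseDisjoint supp := by
    intro u hu u' hu' hne
    exact cosetFour_disjoint hC q u hu u' hu' hne
  have h1 := card_biUnion hdisj
  have h2 : ∀ u ∈ cosetFour C q, (supp u).card = 4 := by
    intro u hu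
    rw [mem_cosetFour] at hu
    exact hu.2
  rw [sum_congr rfl h2, sum_const, smul_eq_mul] at h1
  have h3 : ((cosetFour C q).biUnion supp).card ≤ 24 := by
    have := card_le_univ ((cosetFour C q).biUnion supp)
    rw [hC.hcard] at this
    exact this
  omega

theorem card_wt_le_three (hcard : Fintype.card ι = 24) :
    (Finset.univ.filter (fun v : ι → ZMod 2 => hammingNorm v ≤ 3)).card = 2325 := by
  have hmaps : ∀ v ∈ Finset.univ.filter (fun v : ι → ZMod 2 => hammingNorm v ≤ 3),
      hammingNorm v ∈ range 4 := by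
    intro v hv
    rw [mem_filter] at hv
    rw [mem_range]; omega
  rw [card_eq_sum_card_fiberwise hmaps]
  have : ∀ j ∈ range 4, ((Finset.univ.filter (fun v : ι → ZMod 2 => hammingNorm v ≤ 3)).filter
      (fun v => hammingNorm v = j)).card = Nat.choose 24 j := by
    intro j hj
    rw [mem_range] at hj
    rw [filter_filter]
    have : (Finset.univ.filter (fun v : ι → ZMod 2 => hammingNorm v ≤ 3 ∧ hammingNorm v = j))
        = Finset.univ.filter (fun v : ι → ZMod 2 => hammingNorm v = j) := by
      ext v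
      simp only [mem_filter, mem_univ, true_and]
      constructor
      · exact fun h => h.2
      · intro h; exact ⟨by omega, h⟩
    rw [this, card_wt_eq, hcard]
  rw [sum_congr rfl this]
  decide

open Classical in
/-- The key counting statement: each coset either has exactly one word of weight `≤ 3` and none of weight 4,
or none of weight `≤ 3` and exactly six of weight 4. -/
theorem coset_count (hC : IsAbsGolay C) (q : (ι → ZMod 2) ⧸ C) :
    6 * (cosetLow C q).card + (cosetFour C q).card = 6 := by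
  have : Fintype ((ι → ZMod 2) ⧸ C) := Fintype.ofFinite _
  have hQ : Fintype.card ((ι → ZMod 2) ⧸ C) = 4096 := by
    rw [← Nat.card_eq_fintype_card, card_quotient hC]
  set φ : (ι → ZMod 2) ⧸ C → ℕ := fun q => 6 * (cosetLow C q).card + (cosetFour C q).card with hφ
  have hle : ∀ q, φ q ≤ 6 := by
    intro q
    simp only [hφ]
    by_cases h : (cosetLow C q).Nonempty
    · rw [cosetFour_eq_empty_of_low hC q h, card_empty]
      have := cosetLow_card_le hC q
      omega
    · rw [not_nonempty_iff_eq_empty] at h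
      rw [h, card_empty]
      have := cosetFour_card_le hC q
      omega
  have hsumLow : ∑ q : (ι → ZMod 2) ⧸ C, (cosetLow C q).card = 2325 := by
    rw [← card_wt_le_three hC.hcard]
    rw [card_eq_sum_card_fiberwise (f := fun u : ι → ZMod 2 => (Submodule.Quotient.mk u : (ι → ZMod 2) ⧸ C))
      (t := Finset.univ) (fun _ _ => mem_univ _)]
    apply sum_congr rfl
    intro q _
    congr 1
    ext u
    simp only [mem_cosetLow, mem_filter, mem_univ, true_and]
    exact and_comm
  have hsumFour : ∑ q : (ι → ZMod 2) ⧸ C, (cosetFour C q).card = 10626 := by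
    have h4 : (Finset.univ.filter (fun v : ι → ZMod 2 => hammingNorm v = 4)).card = 10626 := by
      rw [card_wt_eq, hC.hcard]; norm_num [Nat.choose]
    rw [← h4]
    rw [card_eq_sum_card_fiberwise (f := fun u : ι → ZMod 2 => (Submodule.Quotient.mk u : (ι → ZMod 2) ⧸ C))
      (t := Finset.univ) (fun _ _ => mem_univ _)]
    apply sum_congr rfl
    intro q _
    congr 1
    ext u
    simp only [mem_cosetFour, mem_filter, mem_univ, true_and]
    exact and_comm
  have hsum : ∑ q : (ι → ZMod 2) ⧸ C, φ q = 6 * 4096 := by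
    have h1 : ∑ q : (ι → ZMod 2) ⧸ C, φ q
        = 6 * ∑ q : (ι → ZMod 2) ⧸ C, (cosetLow C q).card + ∑ q : (ι → ZMod 2) ⧸ C, (cosetFour C q).card := by
      simp only [hφ]
      rw [sum_add_distrib, ← mul_sum]
    rw [h1, hsumLow, hsumFour]
  by_contra hne
  have hlt : φ q < 6 := lt_of_le_of_ne (hle q) hne
  have : ∑ q : (ι → ZMod 2) ⧸ C, φ q < ∑ _q : (ι → ZMod 2) ⧸ C, 6 :=
    sum_lt_sum (fun q _ => hle q) ⟨q, mem_univ q, hlt⟩
  rw [hsum, sum_const, card_univ, hQ] at this
  simp at this

theorem coset_dichotomy (hC : IsAbsGolay C) (q : (ι → ZMod 2) ⧸ C) :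
    (∃ u, cosetLow C q = {u} ∧ cosetFour C q = ∅) ∨ (cosetLow C q = ∅ ∧ (cosetFour C q).card = 6) := by
  have h := coset_count hC q
  have h1 := cosetLow_card_le hC q
  by_cases h0 : (cosetLow C q).card = 0
  · right
    refine ⟨card_eq_zero.1 h0, by omega⟩
  · left
    have h2 : (cosetLow C q).card = 1 := by omega
    obtain ⟨u, hu⟩ := card_eq_one.1 h2
    refine ⟨u, hu, ?_⟩
    rw [← card_eq_zero]; omega

theorem sextet_cover (hC : IsAbsGolay C) (q : (ι → ZMod 2) ⧸ C) (h6 : (cosetFour C q).card = 6)
    (p : ι) : ∃ u ∈ cosetFour C q, p ∈ supp u := by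
  have hdisj : ((cosetFour C q : Finset _) : Set (ι → ZMod 2)).PairwiseDisjoint supp := by
    intro u hu u' hu' hne
    exact cosetFour_disjoint hC q u hu u' hu' hne
  have h1 := card_biUnion hdisj
  have h2 : ∀ u ∈ cosetFour C q, (supp u).card = 4 := by
    intro u hu
    rw [mem_cosetFour] at hu
    exact hu.2
  rw [sum_congr rfl h2, sum_const, smul_eq_mul, h6] at h1
  have h3 : (cosetFour C q).biUnion supp = univ := by
    apply eq_univ_of_card
    rw [h1, hC.hcard]
  have : p ∈ (cosetFour C q).biUnion supp := by rw [h3]; exact mem_univ _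
  rw [mem_biUnion] at this
  exact this

theorem exists_octad (hC : IsAbsGolay C) (S : Finset ι) (hS : S.card = 5) :
    ∃ c ∈ C, hammingNorm c = 8 ∧ S ⊆ supp c := by
  obtain ⟨T, hTS, hT⟩ := exists_subset_card_eq (s := S) (n := 4) (by omega)
  have hex : ∃ p ∈ S, p ∉ T := by
    by_contra hcon
    push Not at hcon
    have : S ⊆ T := hcon
    have := card_le_card this
    omega
  obtain ⟨p, hpS, hpT⟩ := hex
  set q : (ι → ZMod 2) ⧸ C := Submodule.Quotient.mk (ind T) with hq
  have hT4 : ind T ∈ cosetFour C q := by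
    rw [mem_cosetFour]
    refine ⟨rfl, ?_⟩
    rw [hammingNorm_eq_card_supp, supp_ind, hT]
  have h6 : (cosetFour C q).card = 6 := by
    rcases coset_dichotomy hC q with ⟨u, _, h0⟩ | ⟨_, h6⟩
    · rw [h0] at hT4; exact absurd hT4 (notMem_empty _)
    · exact h6
  obtain ⟨u', hu', hpu'⟩ := sextet_cover hC q h6 p
  have hne : ind T ≠ u' := by
    rintro rfl
    rw [supp_ind] at hpu'
    exact hpT hpu'
  have hdisj := cosetFour_disjoint hC q _ hT4 _ hu' hne
  rw [supp_ind] at hdisj
  rw [mem_cosetFour] at hu'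
  have hcos : ind T + u' ∈ C := by
    rw [← sub_eq_add', ← Submodule.Quotient.eq, hu'.1]
  refine ⟨ind T + u', hcos, ?_, ?_⟩
  · have := wt_add (ind T) u'
    rw [supp_ind, disjoint_iff_inter_eq_empty.1 hdisj, card_empty, hu'.2, hammingNorm_eq_card_supp (ind T),
      supp_ind, hT] at this
    omega
  · rw [supp_add, supp_ind]
    intro x hx
    rw [mem_symmDiff]
    by_cases hxT : x ∈ T
    · left
      exact ⟨hxT, fun h => (disjoint_left.1 hdisj) hxT h⟩
    · right
      have hxp : x = p := by
        by_contra hxp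
        have hsub : insert x (insert p T) ⊆ S := by
          intro y hy
          rw [mem_insert, mem_insert] at hy
          rcases hy with rfl | rfl | hy
          · exact hx
          · exact hpS
          · exact hTS hy
        have := card_le_card hsub
        rw [card_insert_of_notMem, card_insert_of_notMem hpT, hT, hS] at this
        · omega
        · rw [mem_insert]; push Not; exact ⟨hxp, hxT⟩
      rw [hxp]
      exact ⟨hpu', hpT⟩

theorem octad_unique (hC : IsAbsGolay C) (S : Finset ι) (hS : S.card = 5)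
    {c c' : ι → ZMod 2} (hc : c ∈ C) (hc' : c' ∈ C) (h8 : hammingNorm c = 8) (h8' : hammingNorm c' = 8)
    (hSc : S ⊆ supp c) (hSc' : S ⊆ supp c') : c = c' := by
  by_contra hne
  have hcc : c + c' ∈ C := C.add_mem hc hc'
  have h0 : c + c' ≠ 0 := by
    rw [← sub_eq_add']
    exact sub_ne_zero.2 hne
  have hmin := hC.hmin _ hcc h0
  have := wt_add c c'
  have hS' : S ⊆ supp c ∩ supp c' := subset_inter hSc hSc'
  have := card_le_card hS'
  omega

theorem mem_span_octads (hC : IsAbsGolay C) :
    ∀ n : ℕ, ∀ c ∈ C, hammingNorm c = n →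
      c ∈ Submodule.span (ZMod 2) {w : ι → ZMod 2 | w ∈ C ∧ hammingNorm w = 8} := by
  intro n
  induction n using Nat.strong_induction_on with
  | _ n ih =>
    intro c hc hn
    by_cases h0 : c = 0
    · rw [h0]; exact Submodule.zero_mem _
    · have h8 := hC.hmin c hc h0
      obtain ⟨S, hSc, hS⟩ := exists_subset_card_eq (s := supp c) (n := 5) (by
        rw [← hammingNorm_eq_card_supp]; omega)
      obtain ⟨o, ho, ho8, hSo⟩ := exists_octad hC S hS
      have hco : c + o ∈ C := C.add_mem hc ho
      have hw := wt_add c o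
      have hS' : S ⊆ supp c ∩ supp o := subset_inter hSc hSo
      have hle := card_le_card hS'
      have hlt : hammingNorm (c + o) < n := by omega
      have h1 := ih _ hlt (c + o) hco rfl
      have h2 : o ∈ Submodule.span (ZMod 2) {w : ι → ZMod 2 | w ∈ C ∧ hammingNorm w = 8} :=
        Submodule.subset_span ⟨ho, ho8⟩
      have h3 : c = (c + o) + o := by
        rw [add_assoc, add_self', add_zero]
      rw [h3]
      exact Submodule.add_mem _ h1 h2

theorem span_octads (hC : IsAbsGolay C) :
    Submodule.span (ZMod 2) {w : ι → ZMod 2 | w ∈ C ∧ hammingNorm w = 8} = C := by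
  apply le_antisymm
  · rw [Submodule.span_le]
    intro w hw
    exact hw.1
  · intro c hc
    exact mem_span_octads hC _ c hc rfl

theorem doubly_even (hC : IsAbsGolay C) : ∀ w ∈ C, 4 ∣ hammingNorm w := by
  intro w hw
  rw [← span_octads hC] at hw
  have key : w ∈ C ∧ 4 ∣ hammingNorm w := by
    induction hw using Submodule.span_induction with
    | mem x hx => exact ⟨hx.1, by rw [hx.2]; norm_num⟩
    | zero => exact ⟨C.zero_mem, by simp⟩
    | add x y _ _ hx hy =>
      refine ⟨C.add_mem hx.1 hy.1, ?_⟩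
      have h1 := wt_add x y
      have h2 := even_inter_of_dot_eq_zero (hC.horth x hx.1 y hy.1)
      obtain ⟨k, hk⟩ := h2
      obtain ⟨a, ha⟩ := hx.2
      obtain ⟨b, hb⟩ := hy.2
      omega
    | smul a x _ hx =>
      have : a = 0 ∨ a = 1 := by
        revert a; decide
      rcases this with rfl | rfl
      · rw [zero_smul]; exact ⟨C.zero_mem, by simp⟩
      · rw [one_smul]; exact hx
  exact key.2

/-- The octads of an abstract Golay code form a Steiner system `S(5, 8, 24)`. -/
theorem steiner_wordsOfWeight (hC : IsAbsGolay C) :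
    Cfsg.IsSteinerSystem 5 8 (Cfsg.wordsOfWeight (C : Set (ι → ZMod 2)) 8) := by
  refine ⟨fun b hb => hb.2, ?_⟩
  intro S hS
  obtain ⟨c, hc, h8, hSc⟩ := exists_octad hC S hS
  refine ⟨supp c, ⟨⟨⟨c, hc, (supp_eq_support₂ c).symm⟩, h8⟩, hSc⟩, ?_⟩
  rintro b ⟨⟨⟨c', hc', rfl⟩, hb8⟩, hSb⟩
  rw [← supp_eq_support₂] at hb8 hSb ⊢
  have := octad_unique hC S hS hc' hc hb8 h8 hSb hSc
  rw [this]

theorem exists_weight_eight (hC : IsAbsGolay C) : ∃ w ∈ C, hammingNorm w = 8 := by
  obtain ⟨S, _, hS⟩ := Finset.exists_subset_card_eq (s := (Finset.univ : Finset ι)) (n := 5)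
    (by rw [Finset.card_univ, hC.hcard]; norm_num)
  obtain ⟨c, hc, h8, _⟩ := exists_octad hC S hS
  exact ⟨c, hc, h8⟩


end Golay

end Cfsg.Agent.Lib.H28
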