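/-
helper28 library: the concrete length-24 code `Cfsg.golayCode` (extended quadratic residue code mod 23)
by verified computation on bitmasks: explicit systematic basis, dimension 12, self-orthogonality,
minimum weight 8; hence `golayCode` satisfies `IsAbsGolay` and all the abstract theory applies.
-/
import Mathlib
import Cfsg.Prelude.Def_Sporadic_a
import Cfsg.Agent.Lib.H28.GolayAbstract

set_option autoImplicit false

namespace Cfsg.Agent.Lib.H28

open Cfsg

/-! ### Bitmask encoding of words -/

/-- Index of a point: the residues are `0..22`, the extra point is `23`. -/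
def gIdx : GolayPt → ℕ
  | none => 23
  | some x => x.val

theorem gIdx_none : gIdx none = 23 := rfl

theorem gIdx_some (x : ZMod 23) : gIdx (some x) = x.val := rfl

theorem gIdx_lt (p : GolayPt) : gIdx p < 24 := by
  cases p with
  | none => decide
  | some x =>
    have := ZMod.val_lt x
    rw [gIdx_some]; omega

theorem gIdx_injective : Function.Injective gIdx := by
  intro p q h
  cases p with
  | none =>
    cases q with
    | none => rfl
    | some y =>
      have := ZMod.val_lt y
      rw [gIdx_none, gIdx_some] at h; omega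
  | some x =>
    cases q with
    | none =>
      have := ZMod.val_lt x
      rw [gIdx_none, gIdx_some] at h; omega
    | some y =>
      rw [gIdx_some, gIdx_some] at h
      rw [ZMod.val_injective 23 h]

/-- The point with a given index. -/
def gPt (k : ℕ) : GolayPt := if k = 23 then none else some (k : ZMod 23)

theorem gIdx_gPt {k : ℕ} (hk : k < 24) : gIdx (gPt k) = k := by
  unfold gPt
  split_ifs with h
  · rw [gIdx_none, h]
  · rw [gIdx_some, ZMod.val_natCast_of_lt (by omega)]

theorem gPt_gIdx (p : GolayPt) : gPt (gIdx p) = p :=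
  gIdx_injective (gIdx_gPt (gIdx_lt p))

/-- The binary word with a given bitmask. -/
def W (m : ℕ) : GolayPt → ZMod 2 := fun p => if m.testBit (gIdx p) then 1 else 0

theorem W_apply (m : ℕ) (p : GolayPt) : W m p = if m.testBit (gIdx p) then 1 else 0 := rfl

theorem W_apply_ne_zero (m : ℕ) (p : GolayPt) : W m p ≠ 0 ↔ m.testBit (gIdx p) = true := by
  rw [W_apply]
  split_ifs with h <;> simp [h]

theorem W_zero : W 0 = 0 := by
  funext p
  simp [W]

theorem W_xor (m n : ℕ) : W (m ^^^ n) = W m + W n := by
  funext p
  simp only [W, Nat.testBit_xor, Pi.add_apply]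
  cases m.testBit (gIdx p) <;> cases n.testBit (gIdx p) <;> decide

/-- Number of set bits among the low 24 bits. -/
def popc (m : ℕ) : ℕ := Nat.count (fun k => m.testBit k = true) 24

theorem hammingNorm_W (m : ℕ) : hammingNorm (W m) = popc m := by
  unfold popc
  rw [Nat.count_eq_card_filter_range]
  unfold hammingNorm
  apply Finset.card_bij (fun p _ => gIdx p)
  · intro p hp
    rw [Finset.mem_filter] at hp ⊢
    exact ⟨Finset.mem_range.2 (gIdx_lt p), (W_apply_ne_zero m p).1 hp.2⟩
  · intro p _ q _ h
    exact gIdx_injective h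
  · intro k hk
    rw [Finset.mem_filter, Finset.mem_range] at hk
    refine ⟨gPt k, ?_, gIdx_gPt hk.1⟩
    rw [Finset.mem_filter]
    refine ⟨Finset.mem_univ _, ?_⟩
    rw [W_apply_ne_zero, gIdx_gPt hk.1]
    exact hk.2

theorem W_eq_zero_of_popc {m : ℕ} (h : popc m = 0) : W m = 0 := by
  rw [← hammingNorm_W, hammingNorm_eq_zero] at h
  exact h

/-- xor of a list of masks. -/
def xorL (l : List ℕ) : ℕ := l.foldr (· ^^^ ·) 0

theorem xorL_nil : xorL [] = 0 := rfl

theorem xorL_cons (a : ℕ) (l : List ℕ) : xorL (a :: l) = a ^^^ xorL l := rfl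

theorem W_xorL_mem (S : Submodule (ZMod 2) (GolayPt → ZMod 2)) (l : List ℕ) (h : ∀ m ∈ l, W m ∈ S) :
    W (xorL l) ∈ S := by
  induction l with
  | nil => rw [xorL_nil, W_zero]; exact S.zero_mem
  | cons a l ih =>
    rw [xorL_cons, W_xor]
    exact S.add_mem (h a (by simp)) (ih (fun m hm => h m (by simp [hm])))

/-- The sublist of `l` selected by the bits of `s`. -/
def sel : List ℕ → ℕ → List ℕ
  | [], _ => []
  | a :: l, s => if s.testBit 0 then a :: sel l (s / 2) else sel l (s / 2)

theorem sel_nil (s : ℕ) : sel [] s = [] := rfl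

theorem sel_cons (a : ℕ) (l : List ℕ) (s : ℕ) :
    sel (a :: l) s = if s.testBit 0 then a :: sel l (s / 2) else sel l (s / 2) := rfl

theorem mem_of_mem_sel {l : List ℕ} {s m : ℕ} (h : m ∈ sel l s) : m ∈ l := by
  induction l generalizing s with
  | nil => rw [sel_nil] at h; exact h
  | cons a l ih =>
    rw [sel_cons] at h
    split_ifs at h with hs
    · rcases List.mem_cons.1 h with rfl | h
      · simp
      · exact List.mem_cons_of_mem _ (ih h)
    · exact List.mem_cons_of_mem _ (ih h)

/-- All xor-combinations of a list of masks. -/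
def combos : List ℕ → List ℕ
  | [] => [0]
  | b :: bs => combos bs ++ (combos bs).map (b ^^^ ·)

theorem combos_nil : combos [] = [0] := rfl

theorem combos_cons (b : ℕ) (bs : List ℕ) : combos (b :: bs) = combos bs ++ (combos bs).map (b ^^^ ·) := rfl

/-- Every element of the span of the words `W m`, `m ∈ l`, is `W` of an xor-combination. -/
theorem exists_mem_combos (l : List ℕ) (w : GolayPt → ZMod 2)
    (hw : w ∈ Submodule.span (ZMod 2) (W '' {m | m ∈ l})) : ∃ m ∈ combos l, w = W m := by
  induction l generalizing w with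
  | nil =>
    have : (W '' {m | m ∈ ([] : List ℕ)}) = ∅ := by
      ext x; simp
    rw [this, Submodule.span_empty, Submodule.mem_bot] at hw
    exact ⟨0, by simp [combos_nil], by rw [hw, W_zero]⟩
  | cons b bs ih =>
    have : (W '' {m | m ∈ b :: bs}) = insert (W b) (W '' {m | m ∈ bs}) := by
      ext x
      simp only [Set.mem_image, Set.mem_ofPred_eq, List.mem_cons, Set.mem_insert_iff]
      constructor
      · rintro ⟨m, rfl | hm, rfl⟩
        · exact Or.inl rfl
        · exact Or.inr ⟨m, hm, rfl⟩
      · rintro (rfl | ⟨m, hm, rfl⟩)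
        · exact ⟨b, Or.inl rfl, rfl⟩
        · exact ⟨m, Or.inr hm, rfl⟩
    rw [this, Submodule.mem_span_insert] at hw
    obtain ⟨a, z, hz, rfl⟩ := hw
    obtain ⟨m, hm, rfl⟩ := ih z hz
    have ha : a = 0 ∨ a = 1 := by
      revert a; decide
    rcases ha with rfl | rfl
    · refine ⟨m, ?_, by rw [zero_smul, zero_add]⟩
      rw [combos_cons]
      exact List.mem_append_left _ hm
    · refine ⟨b ^^^ m, ?_, by rw [one_smul, W_xor]⟩
      rw [combos_cons]
      exact List.mem_append_right _ (List.mem_map_of_mem hm)

/-! ### The concrete code -/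

/-- Masks of the 23 translates of the squares modulo 23. -/
def qrMasks : List ℕ := [340831, 681662, 1363324, 2726648, 5453296, 2517985, 5035970, 1683333, 3366666,
  6733332, 5078057, 1767507, 3535014, 7070028, 5751449, 3114291, 6228582, 4068557, 8137114, 7885621,
  7382635, 6376663, 4364719]

/-- Masks of the generators of `golayCode`: the translates and the all-ones word. -/
def genMasks : List ℕ := qrMasks ++ [16777215]

/-- Masks of a systematic basis (pivots at the residues `0..11`), all of weight 8. -/
def basisMasks : List ℕ := [13062145, 4845570, 13938692, 7221256, 10170384, 11952160, 15515712, 2019456,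
  4038912, 8077824, 11654144, 14919680]

/-- For each basis word, the set of generators whose sum it is (as a bitmask over `genMasks`). -/
def basisCoefs : List ℕ := [8390313, 280, 8389785, 1400, 8390330, 8390551, 8390093, 2000, 1347, 101,
  8390243, 8390181]

set_option maxRecDepth 100000 in
theorem qrWord_eq : ∀ t : ZMod 23, ∀ p : GolayPt, qrWord t p = W (qrMasks.getD t.val 0) p := by
  decide +kernel

theorem qrWord_eq_W (t : ZMod 23) : qrWord t = W (qrMasks.getD t.val 0) := funext (qrWord_eq t)

theorem qrMasks_getD_mem (t : ZMod 23) : qrMasks.getD t.val 0 ∈ qrMasks := by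
  revert t; decide +kernel

theorem one_eq_W : (1 : GolayPt → ZMod 2) = W 16777215 := by
  funext p
  revert p
  decide +kernel

theorem gens_in_basis : ∀ g ∈ genMasks, xorL (sel basisMasks g) = g := by decide +kernel

theorem basis_in_gens : ∀ i < 12, xorL (sel genMasks (basisCoefs.getD i 0)) = basisMasks.getD i 0 := by
  decide +kernel

theorem W_genMasks_mem_golayCode : ∀ g ∈ genMasks, W g ∈ golayCode := by
  intro g hg
  unfold genMasks at hg
  rw [List.mem_append] at hg
  rcases hg with hg | hg
  · obtain ⟨i, hi, rfl⟩ := List.getElem_of_mem hg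
    have hlen : qrMasks.length = 23 := rfl
    have h1 : qrMasks[i] = qrMasks.getD ((i : ZMod 23)).val 0 := by
      rw [ZMod.val_natCast_of_lt (by omega), List.getD_eq_getElem _ _ hi]
    rw [h1, ← qrWord_eq_W]
    exact Submodule.subset_span (Or.inl ⟨_, rfl⟩)
  · rw [List.mem_singleton] at hg
    rw [hg, ← one_eq_W]
    exact Submodule.subset_span (Or.inr rfl)

theorem W_basisMasks_mem_golayCode : ∀ b ∈ basisMasks, W b ∈ golayCode := by
  intro b hb
  obtain ⟨i, hi, rfl⟩ := List.getElem_of_mem hb
  have hlen : basisMasks.length = 12 := rfl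
  have h1 := basis_in_gens i (by omega)
  rw [List.getD_eq_getElem _ _ hi] at h1
  rw [← h1]
  apply W_xorL_mem
  intro m hm
  exact W_genMasks_mem_golayCode m (mem_of_mem_sel hm)

theorem golayCode_eq_span : golayCode = Submodule.span (ZMod 2) (W '' {m | m ∈ basisMasks}) := by
  apply le_antisymm
  · unfold golayCode
    rw [Submodule.span_le]
    have key : ∀ g ∈ genMasks, W g ∈ Submodule.span (ZMod 2) (W '' {m | m ∈ basisMasks}) := by
      intro g hg
      rw [← gens_in_basis g hg]
      apply W_xorL_mem
      intro m hm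
      exact Submodule.subset_span ⟨m, mem_of_mem_sel hm, rfl⟩
    rintro w (⟨t, rfl⟩ | hw)
    · rw [qrWord_eq_W]
      apply key
      unfold genMasks
      exact List.mem_append_left _ (qrMasks_getD_mem t)
    · rw [Set.mem_singleton_iff] at hw
      rw [hw, one_eq_W]
      apply key
      unfold genMasks
      simp
  · rw [Submodule.span_le]
    rintro w ⟨m, hm, rfl⟩
    exact W_basisMasks_mem_golayCode m hm

/-- Every codeword is `W m` for some `m` in the list of the 4096 xor-combinations of the basis. -/
theorem exists_mask_of_mem_golayCode {w : GolayPt → ZMod 2} (hw : w ∈ golayCode) :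
    ∃ m ∈ combos basisMasks, w = W m := by
  rw [golayCode_eq_span] at hw
  exact exists_mem_combos basisMasks w hw

theorem W_mem_golayCode_of_mem_combos {m : ℕ} (hm : m ∈ combos basisMasks) : W m ∈ golayCode := by
  have key : ∀ (l : List ℕ), (∀ b ∈ l, W b ∈ golayCode) → ∀ m ∈ combos l, W m ∈ golayCode := by
    intro l
    induction l with
    | nil =>
      intro _ m hm
      rw [combos_nil, List.mem_singleton] at hm
      rw [hm, W_zero]; exact golayCode.zero_mem
    | cons b bs ih =>
      intro h m hm
      have ih' := ih (fun b' hb' => h b' (List.mem_cons_of_mem _ hb'))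
      rw [combos_cons, List.mem_append] at hm
      rcases hm with hm | hm
      · exact ih' m hm
      · rw [List.mem_map] at hm
        obtain ⟨m', hm', rfl⟩ := hm
        rw [W_xor]
        exact golayCode.add_mem (h b (by simp)) (ih' m' hm')
  exact key basisMasks W_basisMasks_mem_golayCode m hm

/-! ### Weights -/

/-- Weight check on all 4096 combinations. -/
theorem combos_weight_bool : (combos basisMasks).all
    (fun m => m == 0 || popc m == 8 || popc m == 12 || popc m == 16 || m == 16777215) = true := by
  decide +kernel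

theorem combos_weight : ∀ m ∈ combos basisMasks,
    m = 0 ∨ popc m = 8 ∨ popc m = 12 ∨ popc m = 16 ∨ m = 16777215 := by
  intro m hm
  have := List.all_eq_true.1 combos_weight_bool m hm
  simp only [Bool.or_eq_true, beq_iff_eq] at this
  tauto

theorem popc_full : popc 16777215 = 24 := by decide +kernel

/-- The weight of a codeword is 0, 8, 12, 16 or 24. -/
theorem golayCode_weight {w : GolayPt → ZMod 2} (hw : w ∈ golayCode) :
    hammingNorm w = 0 ∨ hammingNorm w = 8 ∨ hammingNorm w = 12 ∨ hammingNorm w = 16 ∨ hammingNorm w = 24 := by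
  obtain ⟨m, hm, rfl⟩ := exists_mask_of_mem_golayCode hw
  rw [hammingNorm_W]
  rcases combos_weight m hm with rfl | h | h | h | rfl
  · left; decide +kernel
  · right; left; exact h
  · right; right; left; exact h
  · right; right; right; left; exact h
  · right; right; right; right; exact popc_full

theorem golayCode_min_weight {w : GolayPt → ZMod 2} (hw : w ∈ golayCode) (h0 : w ≠ 0) :
    8 ≤ hammingNorm w := by
  have h1 : hammingNorm w ≠ 0 := by
    rw [Ne, hammingNorm_eq_zero]; exact h0
  rcases golayCode_weight hw with h | h | h | h | h <;> omega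

/-! ### Self-orthogonality -/

theorem supp_W_inter (m n : ℕ) : supp (W m) ∩ supp (W n) = supp (W (m &&& n)) := by
  ext p
  rw [Finset.mem_inter, mem_supp, mem_supp, mem_supp, W_apply_ne_zero, W_apply_ne_zero, W_apply_ne_zero,
    Nat.testBit_and, Bool.and_eq_true]

theorem dot_W (m n : ℕ) : ∑ p, W m p * W n p = ((popc (m &&& n) : ℕ) : ZMod 2) := by
  rw [dot_eq, supp_W_inter, ← hammingNorm_eq_card_supp, hammingNorm_W]

theorem basis_orth_bool : basisMasks.all (fun b => basisMasks.all (fun b' => popc (b &&& b') % 2 == 0)) = true := by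
  decide +kernel

theorem basis_orth : ∀ b ∈ basisMasks, ∀ b' ∈ basisMasks, ∑ p, W b p * W b' p = 0 := by
  intro b hb b' hb'
  have h1 := List.all_eq_true.1 (List.all_eq_true.1 basis_orth_bool b hb) b' hb'
  rw [dot_W]
  have h2 : popc (b &&& b') % 2 = 0 := by simpa using h1
  rw [ZMod.natCast_eq_zero_iff]
  exact Nat.dvd_of_mod_eq_zero h2

/-- The span of a family of pairwise orthogonal (and self-orthogonal) binary words is self-orthogonal. -/
theorem span_orth {ι : Type*} [Fintype ι] (S : Set (ι → ZMod 2))
    (h : ∀ u ∈ S, ∀ v ∈ S, ∑ i, u i * v i = 0) :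
    ∀ u ∈ Submodule.span (ZMod 2) S, ∀ v ∈ Submodule.span (ZMod 2) S, ∑ i, u i * v i = 0 := by
  have h1 : ∀ u ∈ S, ∀ v ∈ Submodule.span (ZMod 2) S, ∑ i, u i * v i = 0 := by
    intro u hu v hv
    induction hv using Submodule.span_induction with
    | mem x hx => exact h u hu x hx
    | zero => simp
    | add x y _ _ hx hy =>
      simp only [Pi.add_apply, mul_add, Finset.sum_add_distrib, hx, hy, add_zero]
    | smul a x _ hx =>
      simp only [Pi.smul_apply, smul_eq_mul, mul_left_comm _ a, ← Finset.mul_sum, hx, mul_zero]
  intro u hu v hv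
  induction hu using Submodule.span_induction with
  | mem x hx => exact h1 x hx v hv
  | zero => simp
  | add x y _ _ hx hy =>
    simp only [Pi.add_apply, add_mul, Finset.sum_add_distrib, hx, hy, add_zero]
  | smul a x _ hx =>
    simp only [Pi.smul_apply, smul_eq_mul, mul_assoc, ← Finset.mul_sum, hx, mul_zero]

theorem golayCode_orth : ∀ v ∈ golayCode, ∀ w ∈ golayCode, ∑ i, v i * w i = 0 := by
  rw [golayCode_eq_span]
  apply span_orth
  rintro u ⟨m, hm, rfl⟩ v ⟨n, hn, rfl⟩
  exact basis_orth m hm n hn

/-! ### Dimension -/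

/-- The basis as an indexed family. -/
def bvec (i : Fin 12) : GolayPt → ZMod 2 := W (basisMasks.getD i.val 0)

theorem range_bvec : Set.range bvec = W '' {m | m ∈ basisMasks} := by
  ext w
  constructor
  · rintro ⟨i, rfl⟩
    refine ⟨basisMasks.getD i.val 0, ?_, rfl⟩
    revert i; decide +kernel
  · rintro ⟨m, hm, rfl⟩
    obtain ⟨i, hi, rfl⟩ := List.getElem_of_mem hm
    have hlen : basisMasks.length = 12 := rfl
    refine ⟨⟨i, by omega⟩, ?_⟩
    unfold bvec
    rw [List.getD_eq_getElem _ _ hi]

theorem bvec_pivot : ∀ i j : Fin 12, bvec i (some ((j.val : ℕ) : ZMod 23)) = if j = i then 1 else 0 := by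
  unfold bvec
  decide +kernel

theorem linearIndependent_bvec : LinearIndependent (ZMod 2) bvec := by
  apply LinearIndependent.of_comp
    (LinearMap.funLeft (ZMod 2) (ZMod 2) (fun j : Fin 12 => (some ((j.val : ℕ) : ZMod 23) : GolayPt)))
  have : (⇑(LinearMap.funLeft (ZMod 2) (ZMod 2) (fun j : Fin 12 => (some ((j.val : ℕ) : ZMod 23) : GolayPt))) ∘ bvec)
      = fun i : Fin 12 => (Pi.single i 1 : Fin 12 → ZMod 2) := by
    funext i j
    simp only [Function.comp_apply, LinearMap.funLeft_apply, bvec_pivot, Pi.single_apply]
  rw [this]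
  exact Pi.linearIndependent_single_one (Fin 12) (ZMod 2)

theorem golayCode_finrank : Module.finrank (ZMod 2) golayCode = 12 := by
  rw [golayCode_eq_span, ← range_bvec, finrank_span_eq_card linearIndependent_bvec, Fintype.card_fin]

theorem golayCode_isAbsGolay : IsAbsGolay golayCode where
  hcard := by decide
  hdim := golayCode_finrank
  horth := golayCode_orth
  hmin := fun _ hw h0 => golayCode_min_weight hw h0

/-! ### Convenience forms -/

theorem one_mem_golayCode : (1 : GolayPt → ZMod 2) ∈ golayCode :=
  Submodule.subset_span (Or.inr rfl)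

theorem golayCode_doubly_even : ∀ c ∈ golayCode, 4 ∣ hammingNorm c :=
  doubly_even golayCode_isAbsGolay

theorem golayCode_support_card_dvd : ∀ c ∈ golayCode, 4 ∣ (Cfsg.support₂ c).card := by
  intro c hc
  rw [← supp_eq_support₂, ← hammingNorm_eq_card_supp]
  exact golayCode_doubly_even c hc

theorem golayCode_support_card_ge : ∀ c ∈ golayCode, c ≠ 0 → 8 ≤ (Cfsg.support₂ c).card := by
  intro c hc h0
  rw [← supp_eq_support₂, ← hammingNorm_eq_card_supp]
  exact golayCode_min_weight hc h0

theorem golayCode_natCard : Nat.card golayCode = 4096 := by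
  rw [Module.natCard_eq_pow_finrank (K := ZMod 2), golayCode_finrank, Nat.card_eq_fintype_card, ZMod.card]
  norm_num

theorem octads_isSteinerSystem : Cfsg.IsSteinerSystem 5 8 Cfsg.octads :=
  steiner_wordsOfWeight golayCode_isAbsGolay

end Cfsg.Agent.Lib.H28
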