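/-
helper28 library: counting in Steiner systems (`Cfsg.IsSteinerSystem`, Def_Sporadic_a).
-/
import Mathlib
import Cfsg.Prelude.Def_Sporadic_a

set_option autoImplicit false
set_option linter.unusedSectionVars false

namespace Cfsg.Agent.Lib.H28

open Finset

variable {α : Type*} [Fintype α] [DecidableEq α]

/-- The blocks of a set system on a finite type, as a finset. -/
noncomputable def blocksF (B : Set (Finset α)) : Finset (Finset α) :=
  haveI : DecidablePred (· ∈ B) := Classical.decPred _
  Finset.univ.filter (· ∈ B)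

theorem mem_blocksF {B : Set (Finset α)} {b : Finset α} : b ∈ blocksF B ↔ b ∈ B := by
  unfold blocksF
  simp

theorem ncard_eq_card_filter (B : Set (Finset α)) (P : Finset α → Prop) [DecidablePred P] :
    {b : Finset α | b ∈ B ∧ P b}.ncard = ((blocksF B).filter P).card := by
  rw [← Set.ncard_coe_finset]
  congr 1
  ext b
  simp [mem_blocksF]

/-- In a Steiner system `S(t, k, v)`, the number `λ_i` of blocks through an `i`-set `I` (`i ≤ t`) satisfies
`λ_i * C(k - i, t - i) = C(v - i, t - i)`. -/
theorem steiner_count {t k : ℕ} {B : Set (Finset α)} (hB : Cfsg.IsSteinerSystem t k B)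
    (I : Finset α) (hI : I.card ≤ t) :
    ((blocksF B).filter (I ⊆ ·)).card * Nat.choose (k - I.card) (t - I.card)
      = Nat.choose (Fintype.card α - I.card) (t - I.card) := by
  classical
  set S : Finset (Finset α) := ((Finset.univ : Finset α).powersetCard t).filter (I ⊆ ·) with hS
  set T : Finset (Finset α) := (blocksF B).filter (I ⊆ ·) with hT
  have hScard : S.card = Nat.choose (Fintype.card α - I.card) (t - I.card) := by
    rw [hS, card_filter_powersetCard_subset I _ t (subset_univ _) hI, card_univ]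
  have hdc := sum_card_bipartiteAbove_eq_sum_card_bipartiteBelow (s := S) (t := T)
    (r := fun (s b : Finset α) => s ⊆ b)
  have hleft : ∀ s ∈ S, (T.bipartiteAbove (fun (s b : Finset α) => s ⊆ b) s).card = 1 := by
    intro s hs
    rw [hS, mem_filter, mem_powersetCard] at hs
    obtain ⟨b, ⟨hbB, hsb⟩, huniq⟩ := hB.2 s hs.1.2
    rw [card_eq_one]
    refine ⟨b, ?_⟩
    ext b'
    simp only [bipartiteAbove, mem_filter, mem_singleton, hT, mem_blocksF]
    constructor
    · rintro ⟨⟨hb'B, -⟩, hsb'⟩
      exact huniq b' ⟨hb'B, hsb'⟩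
    · rintro rfl
      exact ⟨⟨hbB, hs.2.trans hsb⟩, hsb⟩
  have hright : ∀ b ∈ T, (S.bipartiteBelow (fun (s b : Finset α) => s ⊆ b) b).card
      = Nat.choose (k - I.card) (t - I.card) := by
    intro b hb
    rw [hT, mem_filter, mem_blocksF] at hb
    have hbk : b.card = k := hB.1 b hb.1
    have : S.bipartiteBelow (fun (s b : Finset α) => s ⊆ b) b = (b.powersetCard t).filter (I ⊆ ·) := by
      ext s
      simp only [bipartiteBelow, mem_filter, hS, mem_powersetCard]
      constructor
      · rintro ⟨⟨⟨-, hst⟩, hIs⟩, hsb⟩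
        exact ⟨⟨hsb, hst⟩, hIs⟩
      · rintro ⟨⟨hsb, hst⟩, hIs⟩
        exact ⟨⟨⟨subset_univ _, hst⟩, hIs⟩, hsb⟩
    rw [this, card_filter_powersetCard_subset I b t hb.2 hI, hbk]
  rw [sum_congr rfl hleft, sum_congr rfl hright, sum_const, sum_const, smul_eq_mul, smul_eq_mul,
    mul_one] at hdc
  rw [← hScard, hdc]

end Cfsg.Agent.Lib.H28
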