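import Mathlib

/-!
S0434 piece (ARITH3) `arith_m2` (helper28): the pure arithmetic behind `|C(t)| = 18` for `t` of order 3 in a simple
group of order 7920 (`|C(t)| = 9 m`, `m ∣ 16`).
-/

set_option autoImplicit false
namespace Cfsg.Agent.Lib.H28.M7920
open scoped BigOperators

/-- (ARITH3) PURE.  `m ∈ {1,2,4,8,16}`; `hcc` gives `m ∣ u`; `u ≠ 0`, so `u² ≥ m²` and
`9m ≥ 1 + 3 + 0 + 2m² + 1 + 1 + 1` kills `m = 4, 8, 16`; `m = 1`: `u = 1`, equality everywhere, `b = d = -1`,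
and `hy` reads `3 = 0`. -/
theorem arith_m2 (m : ℕ) (hm : m ∣ 16) (u b d f : ℤ) (n : Fin 3 → ℝ) (p : ℝ)
    (hu : u ≡ 1 [ZMOD 3]) (hb : b ≡ 2 [ZMOD 3]) (hd : d ≡ 2 [ZMOD 3]) (hf : f ≡ 1 [ZMOD 3])
    (hn : ∀ i, 1 ≤ n i) (hp : 0 ≤ p)
    (hcc : (16 : ℤ) ∣ ((880 / m : ℕ) : ℤ) * u)
    (hcol : ((9 * m : ℕ) : ℝ) =
      1 + ∑ i, n i + p + 2 * (u : ℝ) ^ 2 + (b : ℝ) ^ 2 + (d : ℝ) ^ 2 + (f : ℝ) ^ 2)
    (hy : 1 + 2 * u + b - d = 0) : m = 2 := by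
  have hm16 : m ≤ 16 := Nat.le_of_dvd (by norm_num) hm
  unfold Int.ModEq at hu hb hd hf
  have hu0 : u ≠ 0 := by omega
  have hb0 : b ≠ 0 := by omega
  have hd0 : d ≠ 0 := by omega
  have hf0 : f ≠ 0 := by omega
  have sq1 : ∀ z : ℤ, z ≠ 0 → 1 ≤ z ^ 2 := by
    intro z hz
    have h1 : 1 ≤ |z| := Int.one_le_abs hz
    nlinarith [sq_abs z, abs_nonneg z]
  have hb2 := sq1 b hb0
  have hd2 := sq1 d hd0
  have hf2 := sq1 f hf0
  have hsum : (3 : ℝ) ≤ ∑ i, n i := by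
    rw [Fin.sum_univ_three]
    linarith [hn 0, hn 1, hn 2]
  have hI : 4 + 2 * u ^ 2 + b ^ 2 + d ^ 2 + f ^ 2 ≤ 9 * (m : ℤ) := by
    have h : ((4 + 2 * u ^ 2 + b ^ 2 + d ^ 2 + f ^ 2 : ℤ) : ℝ) ≤ ((9 * (m : ℤ) : ℤ) : ℝ) := by
      push_cast
      push_cast at hcol
      linarith
    exact_mod_cast h
  have hU : u ^ 2 ≤ 68 := by omega
  have hu8 : u ≤ 8 := by nlinarith
  have hu8' : -8 ≤ u := by nlinarith
  have hmem : m ∈ ({1, 2, 4, 8, 16} : Finset ℕ) := by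
    have h : Nat.divisors 16 = {1, 2, 4, 8, 16} := by decide
    rw [← h]
    exact Nat.mem_divisors.2 ⟨hm, by norm_num⟩
  simp only [Finset.mem_insert, Finset.mem_singleton] at hmem
  rcases hmem with rfl | rfl | rfl | rfl | rfl
  · -- m = 1
    exfalso
    have hu1 : u = 1 := by
      interval_cases u <;> omega
    subst hu1
    have hb1 : b ^ 2 ≤ 1 := by omega
    have hd1 : d ^ 2 ≤ 1 := by omega
    have hbl : b ≤ 1 := by nlinarith
    have hbl' : -1 ≤ b := by nlinarith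
    have hdl : d ≤ 1 := by nlinarith
    have hdl' : -1 ≤ d := by nlinarith
    omega
  · rfl
  · exfalso
    interval_cases u <;> omega
  · exfalso
    interval_cases u <;> omega
  · exfalso
    interval_cases u <;> omega

end Cfsg.Agent.Lib.H28.M7920
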