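import Mathlib
import Cfsg.Prelude.Def_Characters
import Cfsg.Agent.Lib.H24.CharBasic

/-!
S0434 piece (SUM10) `sum_irr_eq` (helper28): a sum over `Irr(G)` is the sum over the ten listed characters.
-/

set_option autoImplicit false
namespace Cfsg.Agent.Lib.H28.M7920
open Cfsg
open scoped BigOperators ComplexConjugate
universe u

/-- (SUM10) a sum over `Irr(G)` is the sum over the ten listed characters. -/
theorem sum_irr_eq {G : Type u} [Group G] [Finite G] [Fintype (IrrCharacter G)]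
    (ψ : Fin 3 → IrrCharacter G) (ψ₄ χ₁ χ₂ θ θ' φ : IrrCharacter G)
    (hall : ∀ ξ : IrrCharacter G, (ξ : G → ℂ) = 1 ∨ (∃ i, ξ = ψ i) ∨ ξ = ψ₄ ∨ ξ = χ₁ ∨ ξ = χ₂ ∨ ξ = θ ∨
      ξ = θ' ∨ ξ = φ)
    (hinj : Function.Injective ψ)
    (hdist : (∀ i, ψ i ≠ ψ₄ ∧ ψ i ≠ χ₁ ∧ ψ i ≠ χ₂ ∧ ψ i ≠ θ ∧ ψ i ≠ θ' ∧ ψ i ≠ φ) ∧
      ψ₄ ≠ χ₁ ∧ ψ₄ ≠ χ₂ ∧ ψ₄ ≠ θ ∧ ψ₄ ≠ θ' ∧ ψ₄ ≠ φ ∧ χ₁ ≠ χ₂ ∧ χ₁ ≠ θ ∧ χ₁ ≠ θ' ∧ χ₁ ≠ φ ∧
      χ₂ ≠ θ ∧ χ₂ ≠ θ' ∧ χ₂ ≠ φ ∧ θ ≠ θ' ∧ θ ≠ φ ∧ θ' ≠ φ)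
    (hne1 : (∀ i, (ψ i : G → ℂ) ≠ 1) ∧ (ψ₄ : G → ℂ) ≠ 1 ∧ (χ₁ : G → ℂ) ≠ 1 ∧ (χ₂ : G → ℂ) ≠ 1 ∧
      (θ : G → ℂ) ≠ 1 ∧ (θ' : G → ℂ) ≠ 1 ∧ (φ : G → ℂ) ≠ 1) :
    ∃ τ : IrrCharacter G, (τ : G → ℂ) = 1 ∧ ∀ F : IrrCharacter G → ℂ,
      ∑ ξ : IrrCharacter G, F ξ = F τ + ∑ i, F (ψ i) + F ψ₄ + F χ₁ + F χ₂ + F θ + F θ' + F φ := by
  classical
  have hτ1 : ((Cfsg.Agent.Lib.H24.trivialIrr G : IrrCharacter G) : G → ℂ) = 1 := by
    funext g
    rfl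
  refine ⟨Cfsg.Agent.Lib.H24.trivialIrr G, hτ1, ?_⟩
  intro F
  generalize Cfsg.Agent.Lib.H24.trivialIrr G = τ at hτ1 ⊢
  obtain ⟨hψ, d45, d46, d47, d48, d49, d56, d57, d58, d59, d67, d68, d69, d78, d79, d89⟩ := hdist
  obtain ⟨nψ, n4, n5, n6, n7, n8, n9⟩ := hne1
  have hτ : ∀ ξ : IrrCharacter G, (ξ : G → ℂ) ≠ 1 → τ ≠ ξ := by
    intro ξ h e
    apply h
    rw [← e]
    exact hτ1
  have t0 := hτ _ (nψ 0)
  have t1 := hτ _ (nψ 1)
  have t2 := hτ _ (nψ 2)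
  have t4 := hτ _ n4
  have t5 := hτ _ n5
  have t6 := hτ _ n6
  have t7 := hτ _ n7
  have t8 := hτ _ n8
  have t9 := hτ _ n9
  have h01 : ψ 0 ≠ ψ 1 := fun e => absurd (hinj e) (by decide)
  have h02 : ψ 0 ≠ ψ 2 := fun e => absurd (hinj e) (by decide)
  have h12 : ψ 1 ≠ ψ 2 := fun e => absurd (hinj e) (by decide)
  obtain ⟨a04, a05, a06, a07, a08, a09⟩ := hψ 0
  obtain ⟨a14, a15, a16, a17, a18, a19⟩ := hψ 1
  obtain ⟨a24, a25, a26, a27, a28, a29⟩ := hψ 2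
  have huniv : (Finset.univ : Finset (IrrCharacter G)) =
      {τ, ψ 0, ψ 1, ψ 2, ψ₄, χ₁, χ₂, θ, θ', φ} := by
    ext ξ
    simp only [Finset.mem_univ, true_iff, Finset.mem_insert, Finset.mem_singleton]
    rcases hall ξ with h | ⟨i, rfl⟩ | h | h | h | h | h | h
    · left
      apply Subtype.ext
      rw [h, hτ1]
    · fin_cases i
      · right; left; rfl
      · right; right; left; rfl
      · right; right; right; left; rfl
    · right; right; right; right; left; exact h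
    · right; right; right; right; right; left; exact h
    · right; right; right; right; right; right; left; exact h
    · right; right; right; right; right; right; right; left; exact h
    · right; right; right; right; right; right; right; right; left; exact h
    · right; right; right; right; right; right; right; right; right; exact h
  have m0 : τ ∉ ({ψ 0, ψ 1, ψ 2, ψ₄, χ₁, χ₂, θ, θ', φ} : Finset (IrrCharacter G)) := by
    simp only [Finset.mem_insert, Finset.mem_singleton, not_or]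
    exact ⟨t0, t1, t2, t4, t5, t6, t7, t8, t9⟩
  have m1 : ψ 0 ∉ ({ψ 1, ψ 2, ψ₄, χ₁, χ₂, θ, θ', φ} : Finset (IrrCharacter G)) := by
    simp only [Finset.mem_insert, Finset.mem_singleton, not_or]
    exact ⟨h01, h02, a04, a05, a06, a07, a08, a09⟩
  have m2 : ψ 1 ∉ ({ψ 2, ψ₄, χ₁, χ₂, θ, θ', φ} : Finset (IrrCharacter G)) := by
    simp only [Finset.mem_insert, Finset.mem_singleton, not_or]
    exact ⟨h12, a14, a15, a16, a17, a18, a19⟩
  have m3 : ψ 2 ∉ ({ψ₄, χ₁, χ₂, θ, θ', φ} : Finset (IrrCharacter G)) := by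
    simp only [Finset.mem_insert, Finset.mem_singleton, not_or]
    exact ⟨a24, a25, a26, a27, a28, a29⟩
  have m4 : ψ₄ ∉ ({χ₁, χ₂, θ, θ', φ} : Finset (IrrCharacter G)) := by
    simp only [Finset.mem_insert, Finset.mem_singleton, not_or]
    exact ⟨d45, d46, d47, d48, d49⟩
  have m5 : χ₁ ∉ ({χ₂, θ, θ', φ} : Finset (IrrCharacter G)) := by
    simp only [Finset.mem_insert, Finset.mem_singleton, not_or]
    exact ⟨d56, d57, d58, d59⟩
  have m6 : χ₂ ∉ ({θ, θ', φ} : Finset (IrrCharacter G)) := by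
    simp only [Finset.mem_insert, Finset.mem_singleton, not_or]
    exact ⟨d67, d68, d69⟩
  have m7 : θ ∉ ({θ', φ} : Finset (IrrCharacter G)) := by
    simp only [Finset.mem_insert, Finset.mem_singleton, not_or]
    exact ⟨d78, d79⟩
  have m8 : θ' ∉ ({φ} : Finset (IrrCharacter G)) := by
    simp only [Finset.mem_singleton]
    exact d89
  rw [huniv, Finset.sum_insert m0, Finset.sum_insert m1, Finset.sum_insert m2, Finset.sum_insert m3,
    Finset.sum_insert m4, Finset.sum_insert m5, Finset.sum_insert m6, Finset.sum_insert m7,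
    Finset.sum_insert m8, Finset.sum_singleton, Fin.sum_univ_three]
  ring

end Cfsg.Agent.Lib.H28.M7920
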