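import Mathlib
import Cfsg.Prelude.Def_Characters
import Cfsg.Prelude.Def_Blocks
import Cfsg.Agent.Lib.H23.DefectZero
import Cfsg.Agent.Lib.L0.CharBasic

/-!
S4429 piece (KILLb) `kill_b` (helper28): pattern (b) is impossible.  An irreducible character of degree 5 of a
group of order 7920 vanishes at an element `y` of order 5 (defect zero), so the relation reads
`1 + 2 ψ(y) = 0`, and `-1/2` is not an algebraic integer.
-/

set_option autoImplicit false
namespace Cfsg.Agent.Lib.H28.M7920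
open Cfsg
open scoped BigOperators
universe u

/-- `-1/2` is not an algebraic integer. -/
theorem not_isIntegral_neg_half (z : ℂ) (hz : 1 + 2 * z = 0) : ¬ IsIntegral ℤ z := by
  intro hint
  have hval : z = algebraMap ℚ ℂ (-1 / 2 : ℚ) := by
    rw [eq_ratCast]
    push_cast
    linear_combination hz / 2
  rw [hval] at hint
  have hq : IsIntegral ℤ (-1 / 2 : ℚ) :=
    (isIntegral_algebraMap_iff (algebraMap ℚ ℂ).injective).1 hint
  obtain ⟨n, hn⟩ := (IsIntegrallyClosed.isIntegral_iff (R := ℤ) (K := ℚ)).1 hq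
  have h2 : (2 : ℚ) * (n : ℚ) = -1 := by
    have : (algebraMap ℤ ℚ) n = (n : ℚ) := by simp
    rw [this] at hn
    rw [hn]
    norm_num
  have h3 : (2 : ℤ) * n = -1 := by exact_mod_cast h2
  omega

/-- (KILLb) pattern (b) is impossible. -/
theorem kill_b {G : Type u} [Group G] [Fintype G] (hG : Nat.card G = 7920) (χ₁ ψ : IrrCharacter G)
    (h5 : (χ₁ : G → ℂ) 1 = 5)
    (hrel : ∀ g : G, orderOf g = 5 → 1 + 2 * (ψ : G → ℂ) g - (χ₁ : G → ℂ) g = 0) : False := by
  classical
  have : Fact (Nat.Prime 5) := ⟨by norm_num⟩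
  obtain ⟨y, hy⟩ := exists_prime_orderOf_dvd_card' (G := G) 5 (by rw [hG]; norm_num)
  obtain ⟨n, ρ, hρ, hρχ⟩ := χ₁.2
  have := hρ
  have hn5 : n = 5 := by
    have h1 : ρ.character 1 = (n : ℂ) := by
      rw [Representation.char_one]; simp
    rw [hρχ, h5] at h1
    exact_mod_cast h1.symm
  have h0 : (χ₁ : G → ℂ) y = 0 := by
    rw [← hρχ]
    apply Cfsg.Agent.Lib.H23.char_eq_zero_of_defect_zero ρ 5 1 (by norm_num)
    · rw [hG]; norm_num
    · rw [Module.finrank_fin_fun, hn5]; norm_num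
    · rw [hy]
  have h1 := hrel y hy
  rw [h0, sub_zero] at h1
  obtain ⟨n', ρ', hρ', hρψ⟩ := ψ.2
  have hint : IsIntegral ℤ ((ψ : G → ℂ) y) := by
    rw [← hρψ]
    exact Cfsg.Agent.Lib.L0.isIntegral_char ρ' y
  exact not_isIntegral_neg_half _ h1 hint

end Cfsg.Agent.Lib.H28.M7920
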