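/-
helper28 library: sextets (tetrads) of an abstract Golay code, the all-ones word, indicator-word calculus.
-/
import Cfsg.Agent.Lib.H28.GolayAbstract

set_option autoImplicit false

namespace Cfsg.Agent.Lib.H28

open Finset

section Ind

variable {ι : Type*} [Fintype ι] [DecidableEq ι]

theorem ind_add (s t : Finset ι) : ind s + ind t = ind (symmDiff s t) := by
  apply supp_injective
  rw [supp_add, supp_ind, supp_ind, supp_ind]

theorem ind_union_of_disjoint {s t : Finset ι} (h : Disjoint s t) : ind (s ∪ t) = ind s + ind t := by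
  rw [ind_add, Disjoint.symmDiff_eq_sup h]
  rfl

theorem ind_sdiff_of_subset {s t : Finset ι} (h : t ⊆ s) : ind (s \ t) = ind s + ind t := by
  rw [ind_add]
  congr 1
  ext x
  simp only [mem_sdiff, mem_symmDiff]
  constructor
  · rintro ⟨h1, h2⟩; exact Or.inl ⟨h1, h2⟩
  · rintro (⟨h1, h2⟩ | ⟨h1, h2⟩)
    · exact ⟨h1, h2⟩
    · exact absurd (h h1) h2

theorem ind_empty : ind (∅ : Finset ι) = 0 := by
  apply supp_injective
  rw [supp_ind, supp_zero]

theorem ind_univ : ind (univ : Finset ι) = 1 := by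
  funext i
  simp [ind]

theorem hammingNorm_ind (s : Finset ι) : hammingNorm (ind s) = s.card := by
  rw [hammingNorm_eq_card_supp, supp_ind]

theorem mem_wordsOfWeight_iff {C : Submodule (ZMod 2) (ι → ZMod 2)} {o : Finset ι} {n : ℕ} :
    o ∈ Cfsg.wordsOfWeight (C : Set (ι → ZMod 2)) n ↔ ind o ∈ C ∧ o.card = n := by
  constructor
  · rintro ⟨⟨c, hc, rfl⟩, hn⟩
    rw [← supp_eq_support₂] at hn ⊢
    rw [ind_supp]
    exact ⟨hc, hn⟩
  · rintro ⟨h1, h2⟩
    refine ⟨⟨ind o, h1, ?_⟩, h2⟩
    rw [← supp_eq_support₂, supp_ind]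

/-- Parity of the intersection of two sets whose indicator words are orthogonal. -/
theorem even_inter_of_ind_orth {s t : Finset ι} (h : ∑ i, ind s i * ind t i = 0) : Even (s ∩ t).card := by
  have := even_inter_of_dot_eq_zero h
  rwa [supp_ind, supp_ind] at this

end Ind

section Sextet

variable {ι : Type*} [Fintype ι] [DecidableEq ι] {C : Submodule (ZMod 2) (ι → ZMod 2)}

/-- The tetrads of the sextet through `T`: the 4-sets congruent to `T` modulo the code. -/
noncomputable def tetrads (C : Submodule (ZMod 2) (ι → ZMod 2)) (T : Finset ι) : Finset (Finset ι) :=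
  (cosetFour C (Submodule.Quotient.mk (ind T))).image supp

theorem mem_tetrads {T t : Finset ι} : t ∈ tetrads C T ↔ t.card = 4 ∧ ind t + ind T ∈ C := by
  unfold tetrads
  rw [mem_image]
  constructor
  · rintro ⟨u, hu, rfl⟩
    rw [mem_cosetFour, Submodule.Quotient.eq, sub_eq_add'] at hu
    rw [ind_supp, ← hammingNorm_eq_card_supp]
    exact ⟨hu.2, hu.1⟩
  · rintro ⟨h4, hC⟩
    refine ⟨ind t, ?_, supp_ind t⟩
    rw [mem_cosetFour, Submodule.Quotient.eq, sub_eq_add', hammingNorm_ind]
    exact ⟨hC, h4⟩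

theorem self_mem_tetrads {T : Finset ι} (hT : T.card = 4) : T ∈ tetrads C T := by
  rw [mem_tetrads, add_self']
  exact ⟨hT, C.zero_mem⟩

theorem card_of_mem_tetrads {T t : Finset ι} (h : t ∈ tetrads C T) : t.card = 4 := (mem_tetrads.1 h).1

theorem card_tetrads (hC : IsAbsGolay C) {T : Finset ι} (hT : T.card = 4) : (tetrads C T).card = 6 := by
  unfold tetrads
  rw [card_image_of_injective _ supp_injective]
  set q : (ι → ZMod 2) ⧸ C := Submodule.Quotient.mk (ind T) with hq
  have hT4 : ind T ∈ cosetFour C q := by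
    rw [mem_cosetFour]
    exact ⟨rfl, by rw [hammingNorm_ind, hT]⟩
  rcases coset_dichotomy hC q with ⟨u, _, h0⟩ | ⟨_, h6⟩
  · rw [h0] at hT4; exact absurd hT4 (notMem_empty _)
  · exact h6

theorem tetrads_disjoint (hC : IsAbsGolay C) {T t t' : Finset ι} (ht : t ∈ tetrads C T) (ht' : t' ∈ tetrads C T)
    (hne : t ≠ t') : Disjoint t t' := by
  unfold tetrads at ht ht'
  rw [mem_image] at ht ht'
  obtain ⟨u, hu, rfl⟩ := ht
  obtain ⟨u', hu', rfl⟩ := ht'
  exact cosetFour_disjoint hC _ u hu u' hu' (fun h => hne (by rw [h]))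

theorem tetrads_cover (hC : IsAbsGolay C) {T : Finset ι} (hT : T.card = 4) (p : ι) :
    ∃ t ∈ tetrads C T, p ∈ t := by
  have h6 := card_tetrads hC hT
  unfold tetrads at h6 ⊢
  rw [card_image_of_injective _ supp_injective] at h6
  obtain ⟨u, hu, hp⟩ := sextet_cover hC _ h6 p
  exact ⟨supp u, mem_image_of_mem _ hu, hp⟩

/-- The union of two distinct tetrads of a sextet is an octad. -/
theorem union_tetrads_mem (hC : IsAbsGolay C) {T t t' : Finset ι} (ht : t ∈ tetrads C T)
    (ht' : t' ∈ tetrads C T) (hne : t ≠ t') :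
    t ∪ t' ∈ Cfsg.wordsOfWeight (C : Set (ι → ZMod 2)) 8 := by
  have hd := tetrads_disjoint hC ht ht' hne
  rw [mem_wordsOfWeight_iff, ind_union_of_disjoint hd, card_union_of_disjoint hd,
    card_of_mem_tetrads ht, card_of_mem_tetrads ht']
  refine ⟨?_, rfl⟩
  have h1 := (mem_tetrads.1 ht).2
  have h2 := (mem_tetrads.1 ht').2
  have h3 : ind t + ind t' = (ind t + ind T) + (ind t' + ind T) := by
    rw [add_add_add_comm, add_self', add_zero]
  rw [h3]
  exact C.add_mem h1 h2

/-- Every octad containing `T` is the union of `T` and another tetrad of the sextet of `T`. -/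
theorem exists_tetrad_of_subset_octad {T o : Finset ι} (hT : T.card = 4)
    (ho : o ∈ Cfsg.wordsOfWeight (C : Set (ι → ZMod 2)) 8) (hTo : T ⊆ o) :
    o \ T ∈ tetrads C T ∧ o \ T ≠ T ∧ o = T ∪ (o \ T) := by
  rw [mem_wordsOfWeight_iff] at ho
  have hc : (o \ T).card = 4 := by
    rw [card_sdiff_of_subset hTo, ho.2, hT]
  refine ⟨?_, ?_, ?_⟩
  · rw [mem_tetrads, ind_sdiff_of_subset hTo, add_assoc, add_self', add_zero]
    exact ⟨hc, ho.1⟩
  · intro h
    have h1 : (o \ T) ∩ T = ∅ := by
      rw [← disjoint_iff_inter_eq_empty]; exact sdiff_disjoint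
    rw [h, inter_self] at h1
    rw [h1] at hT; simp at hT
  · rw [union_sdiff_of_subset hTo]

/-- The all-ones word lies in the code. -/
theorem one_mem (hC : IsAbsGolay C) : (1 : ι → ZMod 2) ∈ C := by
  -- pick any 4-set
  obtain ⟨T, _, hT⟩ := exists_subset_card_eq (s := (univ : Finset ι)) (n := 4)
    (by rw [card_univ, hC.hcard]; norm_num)
  -- the sum of the indicators of the six tetrads is the all-ones word
  have hsum : ∑ t ∈ tetrads C T, ind t = (1 : ι → ZMod 2) := by
    funext p
    rw [Finset.sum_apply]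
    obtain ⟨t0, ht0, hp0⟩ := tetrads_cover hC hT p
    rw [Finset.sum_eq_single_of_mem t0 ht0]
    · simp [ind, hp0]
    · intro t ht hne
      have hd := tetrads_disjoint hC ht ht0 hne
      have : p ∉ t := fun hp => (disjoint_left.1 hd) hp hp0
      simp [ind, this]
  rw [← hsum]
  -- in the quotient the sum is 6 times one class
  rw [← Submodule.Quotient.mk_eq_zero, ← Submodule.mkQ_apply, map_sum]
  have : ∀ t ∈ tetrads C T, C.mkQ (ind t) = C.mkQ (ind T) := by
    intro t ht
    rw [Submodule.mkQ_apply, Submodule.mkQ_apply, Submodule.Quotient.eq, sub_eq_add']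
    exact (mem_tetrads.1 ht).2
  rw [Finset.sum_congr rfl this, Finset.sum_const, card_tetrads hC hT]
  rw [← map_nsmul, Submodule.mkQ_apply, Submodule.Quotient.mk_eq_zero]
  have : (6 : ℕ) • ind T = (0 : ι → ZMod 2) := by
    have h6 : (6 : ℕ) • ind T = (3 : ℕ) • (ind T + ind T) := by
      rw [smul_add, ← add_smul]
    rw [h6, add_self', smul_zero]
  rw [this]
  exact C.zero_mem

/-- The weight of the complement. -/
theorem wt_one_add (w : ι → ZMod 2) : hammingNorm (1 + w) + hammingNorm w = Fintype.card ι := by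
  have h := wt_add (1 : ι → ZMod 2) w
  have h1 : supp (1 : ι → ZMod 2) = univ := by
    rw [← ind_univ, supp_ind]
  rw [h1, univ_inter, ← hammingNorm_eq_card_supp, hammingNorm_eq_card_supp (1 : ι → ZMod 2), h1, card_univ] at h
  omega

/-- No word of weight 20. -/
theorem wt_ne_twenty (hC : IsAbsGolay C) {w : ι → ZMod 2} (hw : w ∈ C) : hammingNorm w ≠ 20 := by
  intro h
  have h1 := wt_one_add w
  rw [hC.hcard, h] at h1
  have h2 : (1 : ι → ZMod 2) + w ∈ C := C.add_mem (one_mem hC) hw
  have h3 : (1 : ι → ZMod 2) + w ≠ 0 := by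
    intro h0
    rw [h0, hammingNorm_zero] at h1
    omega
  have := hC.hmin _ h2 h3
  omega

end Sextet

end Cfsg.Agent.Lib.H28
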