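/-
helper28 library: weight enumerator of an abstract Golay code: weights 0,8,12,16,24; 759 octads, 2576 dodecads.
-/
import Cfsg.Agent.Lib.H28.GolayAbstract
import Cfsg.Agent.Lib.H28.GolaySextet
import Cfsg.Agent.Lib.H28.Steiner

set_option autoImplicit false

namespace Cfsg.Agent.Lib.H28

open Finset

section Count

variable {ι : Type*} [Fintype ι] [DecidableEq ι] {C : Submodule (ZMod 2) (ι → ZMod 2)}

/-- The weights of an abstract Golay code. -/
theorem weight_cases (hC : IsAbsGolay C) {w : ι → ZMod 2} (hw : w ∈ C) :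
    hammingNorm w = 0 ∨ hammingNorm w = 8 ∨ hammingNorm w = 12 ∨ hammingNorm w = 16 ∨ hammingNorm w = 24 := by
  have h4 := doubly_even hC w hw
  have h20 := wt_ne_twenty hC hw
  have hle : hammingNorm w ≤ 24 := by
    rw [← hC.hcard, hammingNorm_eq_card_supp]
    exact card_le_univ _
  by_cases h0 : w = 0
  · left; rw [h0, hammingNorm_zero]
  · have h8 := hC.hmin w hw h0
    obtain ⟨k, hk⟩ := h4
    omega

/-- The number of octads. -/
theorem card_octads (hC : IsAbsGolay C) : (Cfsg.wordsOfWeight (C : Set (ι → ZMod 2)) 8).ncard = 759 := by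
  have h := steiner_count (steiner_wordsOfWeight hC) (∅ : Finset ι) (by simp)
  rw [card_empty, Nat.sub_zero, Nat.sub_zero, Nat.sub_zero, hC.hcard] at h
  have h1 : ((blocksF (Cfsg.wordsOfWeight (C : Set (ι → ZMod 2)) 8)).filter ((∅ : Finset ι) ⊆ ·))
      = blocksF (Cfsg.wordsOfWeight (C : Set (ι → ZMod 2)) 8) := by
    apply filter_true_of_mem
    intro b _
    exact empty_subset b
  rw [h1] at h
  have h2 : (Cfsg.wordsOfWeight (C : Set (ι → ZMod 2)) 8).ncard
      = (blocksF (Cfsg.wordsOfWeight (C : Set (ι → ZMod 2)) 8)).card := by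
    rw [← Set.ncard_coe_finset]
    congr 1
    ext b
    simp [mem_blocksF]
  rw [h2]
  have : Nat.choose 8 5 = 56 := by decide
  have h3 : Nat.choose 24 5 = 42504 := by norm_num [Nat.choose]
  rw [this, h3] at h
  omega

open Classical in
/-- The codewords of a given weight, as a finset. -/
noncomputable def wordsF (C : Submodule (ZMod 2) (ι → ZMod 2)) (n : ℕ) : Finset (ι → ZMod 2) :=
  Finset.univ.filter fun w => w ∈ C ∧ hammingNorm w = n

theorem mem_wordsF {n : ℕ} {w : ι → ZMod 2} : w ∈ wordsF C n ↔ w ∈ C ∧ hammingNorm w = n := by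
  unfold wordsF; simp

theorem ncard_wordsOfWeight (n : ℕ) :
    (Cfsg.wordsOfWeight (C : Set (ι → ZMod 2)) n).ncard = (wordsF C n).card := by
  have : Cfsg.wordsOfWeight (C : Set (ι → ZMod 2)) n = (((wordsF C n).image supp : Finset (Finset ι)) : Set (Finset ι)) := by
    ext b
    rw [mem_wordsOfWeight_iff, mem_coe, mem_image]
    constructor
    · rintro ⟨h1, h2⟩
      exact ⟨ind b, mem_wordsF.2 ⟨h1, by rw [hammingNorm_ind, h2]⟩, supp_ind b⟩
    · rintro ⟨w, hw, rfl⟩
      rw [mem_wordsF] at hw
      rw [ind_supp, ← hammingNorm_eq_card_supp]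
      exact hw
  rw [this, Set.ncard_coe_finset, card_image_of_injective _ supp_injective]

theorem card_wordsF_zero : (wordsF C 0).card = 1 := by
  rw [card_eq_one]
  refine ⟨0, ?_⟩
  ext w
  rw [mem_wordsF, mem_singleton, hammingNorm_eq_zero]
  constructor
  · exact fun h => h.2
  · rintro rfl; exact ⟨C.zero_mem, rfl⟩

theorem card_wordsF_compl (hC : IsAbsGolay C) (n : ℕ) (hn : n ≤ 24) :
    (wordsF C (24 - n)).card = (wordsF C n).card := by
  apply card_nbij' (fun w => 1 + w) (fun w => 1 + w)
  · intro w hw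
    rw [mem_coe, mem_wordsF] at hw
    show (1 : ι → ZMod 2) + w ∈ ((wordsF C n : Finset (ι → ZMod 2)) : Set (ι → ZMod 2))
    rw [mem_coe, mem_wordsF]
    refine ⟨C.add_mem (one_mem hC) hw.1, ?_⟩
    have := wt_one_add w
    rw [hC.hcard] at this
    omega
  · intro w hw
    rw [mem_coe, mem_wordsF] at hw
    show (1 : ι → ZMod 2) + w ∈ ((wordsF C (24 - n) : Finset (ι → ZMod 2)) : Set (ι → ZMod 2))
    rw [mem_coe, mem_wordsF]
    refine ⟨C.add_mem (one_mem hC) hw.1, ?_⟩
    have := wt_one_add w
    rw [hC.hcard] at this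
    omega
  · intro w _
    show (1 : ι → ZMod 2) + (1 + w) = w
    rw [← add_assoc, add_self', zero_add]
  · intro w _
    show (1 : ι → ZMod 2) + (1 + w) = w
    rw [← add_assoc, add_self', zero_add]

open Classical in
/-- The number of dodecads. -/
theorem card_dodecads (hC : IsAbsGolay C) : (Cfsg.wordsOfWeight (C : Set (ι → ZMod 2)) 12).ncard = 2576 := by
  rw [ncard_wordsOfWeight]
  -- all codewords
  set Cf : Finset (ι → ZMod 2) := Finset.univ.filter (fun w => w ∈ C) with hCf
  have hcard : Cf.card = 4096 := by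
    have h1 : Nat.card C = 4096 := by
      rw [Module.natCard_eq_pow_finrank (K := ZMod 2), hC.hdim, Nat.card_eq_fintype_card, ZMod.card]
      norm_num
    rw [← h1, Nat.card_eq_fintype_card, Fintype.card_subtype]
  have hmaps : ∀ w ∈ Cf, hammingNorm w ∈ ({0, 8, 12, 16, 24} : Finset ℕ) := by
    intro w hw
    rw [hCf, mem_filter] at hw
    have := weight_cases hC hw.2
    simp only [mem_insert, mem_singleton]
    tauto
  have hsum := card_eq_sum_card_fiberwise hmaps
  have hfib : ∀ n, (Cf.filter (fun w => hammingNorm w = n)) = wordsF C n := by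
    intro n
    ext w
    simp [hCf, mem_wordsF]
  simp only [hfib] at hsum
  rw [hcard] at hsum
  have h0 := card_wordsF_zero (C := C)
  have h24 : (wordsF C 24).card = 1 := by
    have := card_wordsF_compl hC 0 (by norm_num)
    rw [Nat.sub_zero] at this
    rw [this, h0]
  have h16 : (wordsF C 16).card = (wordsF C 8).card := card_wordsF_compl hC 8 (by norm_num)
  have h8 : (wordsF C 8).card = 759 := by
    rw [← ncard_wordsOfWeight, card_octads hC]
  rw [sum_insert (by decide), sum_insert (by decide), sum_insert (by decide), sum_insert (by decide),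
    sum_singleton, h0, h24, h16, h8] at hsum
  omega

end Count

end Cfsg.Agent.Lib.H28
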