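/-
helper28 library: the group `Cfsg.M24` of the concrete length-24 code: membership criterion (maps codewords
to codewords; enough on the basis), tables of the generators `x ↦ x+1`, `projInv`, `cubeTwist` on point
indices, their membership in `M24`, and words in the generators evaluated on point indices.
-/
import Mathlib
import Cfsg.Prelude.Def_Sporadic_a
import Cfsg.Agent.Lib.H28.GolayConcrete

set_option autoImplicit false

namespace Cfsg.Agent.Lib.H28

open Cfsg
open scoped Pointwise

/-! ### Membership in `M24` -/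

/-- The image of a support under a permutation is the support of the permuted word. -/
theorem smul_support₂ (π : Equiv.Perm GolayPt) (c : GolayPt → ZMod 2) :
    π • Cfsg.support₂ c = Cfsg.support₂ (c ∘ π.symm) := by
  ext p
  rw [Finset.mem_smul_finset]
  unfold Cfsg.support₂
  simp only [Finset.mem_filter, Finset.mem_univ, true_and, Function.comp_apply]
  constructor
  · rintro ⟨q, hq, rfl⟩
    rw [Equiv.Perm.smul_def, Equiv.symm_apply_apply]
    exact hq
  · intro h
    exact ⟨π.symm p, h, by rw [Equiv.Perm.smul_def, Equiv.apply_symm_apply]⟩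

theorem support₂_injective :
    Function.Injective (Cfsg.support₂ : (GolayPt → ZMod 2) → Finset GolayPt) := by
  intro u v h
  rw [← supp_eq_support₂, ← supp_eq_support₂] at h
  exact supp_injective h

theorem supports_golayCode_finite : (Cfsg.supports (golayCode : Set (GolayPt → ZMod 2))).Finite :=
  Set.toFinite _

/-- A permutation mapping codewords to codewords lies in `M24`. -/
theorem mem_M24_of_forall (π : Equiv.Perm GolayPt) (h : ∀ c ∈ golayCode, c ∘ π.symm ∈ golayCode) :
    π ∈ M24 := by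
  unfold M24 setSystemAut
  rw [MulAction.mem_stabilizer_set_iff_smul_set_subset supports_golayCode_finite]
  rintro b ⟨b', ⟨c, hc, rfl⟩, rfl⟩
  exact ⟨c ∘ π.symm, h c hc, (smul_support₂ π c).symm⟩

/-- An element of `M24` maps codewords to codewords. -/
theorem comp_symm_mem_of_mem_M24 {π : Equiv.Perm GolayPt} (h : π ∈ M24) {c : GolayPt → ZMod 2}
    (hc : c ∈ golayCode) : c ∘ π.symm ∈ golayCode := by
  unfold M24 setSystemAut at h
  rw [MulAction.mem_stabilizer_iff] at h
  have h1 : π • Cfsg.support₂ c ∈ π • Cfsg.supports (golayCode : Set (GolayPt → ZMod 2)) :=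
    Set.smul_mem_smul_set ⟨c, hc, rfl⟩
  rw [h] at h1
  obtain ⟨c', hc', h2⟩ := h1
  rw [smul_support₂] at h2
  rw [← support₂_injective h2]
  exact hc'

theorem mem_M24_iff (π : Equiv.Perm GolayPt) : π ∈ M24 ↔ ∀ c ∈ golayCode, c ∘ π.symm ∈ golayCode :=
  ⟨fun h _ hc => comp_symm_mem_of_mem_M24 h hc, mem_M24_of_forall π⟩

theorem comp_mem_of_mem_M24 {π : Equiv.Perm GolayPt} (h : π ∈ M24) {c : GolayPt → ZMod 2}
    (hc : c ∈ golayCode) : c ∘ π ∈ golayCode := by
  have := comp_symm_mem_of_mem_M24 (M24.inv_mem h) hc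
  exact this

/-- The linear map `c ↦ c ∘ π.symm`. -/
def permLin (π : Equiv.Perm GolayPt) : (GolayPt → ZMod 2) →ₗ[ZMod 2] (GolayPt → ZMod 2) :=
  LinearMap.funLeft (ZMod 2) (ZMod 2) π.symm

theorem permLin_apply (π : Equiv.Perm GolayPt) (c : GolayPt → ZMod 2) : permLin π c = c ∘ π.symm := rfl

/-- It suffices to check the basis words. -/
theorem mem_M24_of_basis (π : Equiv.Perm GolayPt) (h : ∀ b ∈ basisMasks, W b ∘ π.symm ∈ golayCode) :
    π ∈ M24 := by
  apply mem_M24_of_forall
  intro c hc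
  have : golayCode ≤ Submodule.comap (permLin π) golayCode := by
    conv_lhs => rw [golayCode_eq_span]
    rw [Submodule.span_le]
    rintro w ⟨m, hm, rfl⟩
    exact h m hm
  exact this hc

/-! ### Masks of permuted words -/

/-- The mask whose bit `k` is bit `t[k]` of `m` (`k < 24`). -/
def pullMask (t : List ℕ) (m : ℕ) : ℕ := Nat.ofBits (fun k : Fin 24 => m.testBit (t.getD k.val 0))

theorem testBit_pullMask (t : List ℕ) (m : ℕ) {k : ℕ} (hk : k < 24) :
    (pullMask t m).testBit k = m.testBit (t.getD k 0) := by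
  unfold pullMask
  rw [Nat.testBit_ofBits_lt _ _ hk]

/-- If `ti` is the table of `π⁻¹` on indices, `W m ∘ π.symm` has mask `pullMask ti m`. -/
theorem W_comp_symm (π : Equiv.Perm GolayPt) (ti : List ℕ)
    (hti : ∀ p, gIdx (π.symm p) = ti.getD (gIdx p) 0) (m : ℕ) :
    W m ∘ π.symm = W (pullMask ti m) := by
  funext p
  rw [Function.comp_apply, W_apply, W_apply, hti, testBit_pullMask _ _ (gIdx_lt p)]

/-- Systematic membership test for a mask. -/
def inC (m : ℕ) : Bool := xorL (sel basisMasks m) == m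

theorem W_mem_of_inC {m : ℕ} (h : inC m = true) : W m ∈ golayCode := by
  unfold inC at h
  rw [beq_iff_eq] at h
  rw [← h]
  apply W_xorL_mem
  intro b hb
  exact W_basisMasks_mem_golayCode b (mem_of_mem_sel hb)

/-- Membership test for a permutation given by the index table of its inverse. -/
theorem mem_M24_of_table (π : Equiv.Perm GolayPt) (ti : List ℕ)
    (hti : ∀ p, gIdx (π.symm p) = ti.getD (gIdx p) 0)
    (hcheck : basisMasks.all (fun b => inC (pullMask ti b)) = true) : π ∈ M24 := by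
  apply mem_M24_of_basis
  intro b hb
  rw [W_comp_symm π ti hti]
  exact W_mem_of_inC (List.all_eq_true.1 hcheck b hb)

/-- From the table of `π`, and an inverse table, the table of `π⁻¹`. -/
theorem table_symm (π : Equiv.Perm GolayPt) (t ti : List ℕ)
    (ht : ∀ p, gIdx (π p) = t.getD (gIdx p) 0)
    (hinv : ∀ k < 24, ti.getD k 0 < 24 ∧ t.getD (ti.getD k 0) 0 = k) :
    ∀ p, gIdx (π.symm p) = ti.getD (gIdx p) 0 := by
  intro p
  obtain ⟨h1, h2⟩ := hinv (gIdx p) (gIdx_lt p)
  have : π.symm p = gPt (ti.getD (gIdx p) 0) := by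
    rw [Equiv.symm_apply_eq]
    apply gIdx_injective
    rw [ht, gIdx_gPt h1, h2]
  rw [this, gIdx_gPt h1]

/-! ### The generators -/

/-- Index tables of `x ↦ x + 1`, its inverse, `projInv`, `cubeTwist` and its inverse. -/
def tabS : List ℕ := [1, 2, 3, 4, 5, 6, 7, 8, 9, 10, 11, 12, 13, 14, 15, 16, 17, 18, 19, 20, 21, 22, 0, 23]
def tabSi : List ℕ := [22, 0, 1, 2, 3, 4, 5, 6, 7, 8, 9, 10, 11, 12, 13, 14, 15, 16, 17, 18, 19, 20, 21, 23]
def tabT : List ℕ := [23, 22, 11, 15, 17, 9, 19, 13, 20, 5, 16, 2, 21, 7, 18, 3, 10, 4, 14, 6, 8, 12, 1, 0]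
def tabU : List ℕ := [0, 18, 6, 3, 2, 21, 1, 5, 16, 12, 7, 19, 8, 9, 17, 15, 13, 11, 4, 22, 10, 20, 14, 23]
def tabUi : List ℕ := [0, 6, 4, 3, 18, 7, 2, 10, 12, 13, 20, 17, 9, 16, 22, 15, 8, 14, 1, 11, 21, 5, 19, 23]

/-- The shift `x ↦ x + 1` fixing the extra point. -/
def permS : Equiv.Perm GolayPt := Equiv.optionCongr (Equiv.addRight (1 : ZMod 23))

set_option maxRecDepth 100000 in
theorem tabS_spec : ∀ p, gIdx (permS p) = tabS.getD (gIdx p) 0 := by
  unfold permS
  decide +kernel

set_option maxRecDepth 100000 in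
theorem tabT_spec : ∀ p, gIdx (projInv p) = tabT.getD (gIdx p) 0 := by
  decide +kernel

set_option maxRecDepth 100000 in
theorem tabU_spec : ∀ p, gIdx (cubeTwist p) = tabU.getD (gIdx p) 0 := by
  have : ∀ p, gIdx (cubeTwistFun p) = tabU.getD (gIdx p) 0 := by decide +kernel
  intro p
  exact this p

theorem tabS_inv : ∀ k < 24, tabSi.getD k 0 < 24 ∧ tabS.getD (tabSi.getD k 0) 0 = k := by decide +kernel
theorem tabSi_inv : ∀ k < 24, tabS.getD k 0 < 24 ∧ tabSi.getD (tabS.getD k 0) 0 = k := by decide +kernel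
theorem tabT_inv : ∀ k < 24, tabT.getD k 0 < 24 ∧ tabT.getD (tabT.getD k 0) 0 = k := by decide +kernel
theorem tabU_inv : ∀ k < 24, tabUi.getD k 0 < 24 ∧ tabU.getD (tabUi.getD k 0) 0 = k := by decide +kernel
theorem tabUi_inv : ∀ k < 24, tabU.getD k 0 < 24 ∧ tabUi.getD (tabU.getD k 0) 0 = k := by decide +kernel

theorem tabSi_spec : ∀ p, gIdx (permS.symm p) = tabSi.getD (gIdx p) 0 :=
  table_symm permS tabS tabSi tabS_spec tabS_inv

theorem tabT_symm_spec : ∀ p, gIdx (projInv.symm p) = tabT.getD (gIdx p) 0 :=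
  table_symm projInv tabT tabT tabT_spec tabT_inv

theorem tabUi_spec : ∀ p, gIdx (cubeTwist.symm p) = tabUi.getD (gIdx p) 0 :=
  table_symm cubeTwist tabU tabUi tabU_spec tabU_inv

theorem permS_mem_M24 : permS ∈ M24 :=
  mem_M24_of_table permS tabSi tabSi_spec (by decide +kernel)

theorem projInv_mem_M24 : projInv ∈ M24 :=
  mem_M24_of_table projInv tabT tabT_symm_spec (by decide +kernel)

theorem cubeTwist_mem_M24 : cubeTwist ∈ M24 :=
  mem_M24_of_table cubeTwist tabUi tabUi_spec (by decide +kernel)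

/-- It suffices to check the defining generators of the code. -/
theorem mem_M24_of_gens (π : Equiv.Perm GolayPt) (h : ∀ t, qrWord t ∘ π.symm ∈ golayCode) :
    π ∈ M24 := by
  apply mem_M24_of_forall
  intro c hc
  have : golayCode ≤ Submodule.comap (permLin π) golayCode := by
    conv_lhs => unfold golayCode
    rw [Submodule.span_le]
    rintro w (⟨t, rfl⟩ | hw)
    · exact h t
    · rw [Set.mem_singleton_iff] at hw
      rw [hw]
      exact one_mem_golayCode
  exact this hc

theorem mulLeft_square_mem_M24 (u : (ZMod 23)ˣ) (hu : IsSquare u) :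
    Equiv.optionCongr (Units.mulLeft u) ∈ M24 := by
  obtain ⟨v, rfl⟩ := hu
  apply mem_M24_of_gens
  intro t
  have : qrWord t ∘ (Equiv.optionCongr (Units.mulLeft (v * v))).symm = qrWord (((v * v : (ZMod 23)ˣ) : ZMod 23) * t) := by
    funext p
    cases p with
    | none => rfl
    | some x =>
      have hs : (Equiv.optionCongr (Units.mulLeft (v * v))).symm (some x)
          = some ((Units.mulLeft (v * v)).symm x) := rfl
      have hq : ∀ (s y : ZMod 23), qrWord s (some y) = if ∃ r : ZMod 23, y = r ^ 2 + s then 1 else 0 :=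
        fun _ _ => rfl
      rw [Function.comp_apply, hs, hq, hq]
      have hiff : (∃ r : ZMod 23, (Units.mulLeft (v * v)).symm x = r ^ 2 + t) ↔
          (∃ r : ZMod 23, x = r ^ 2 + ((v * v : (ZMod 23)ˣ) : ZMod 23) * t) := by
        have hsymm : (Units.mulLeft (v * v)).symm x = ((v * v)⁻¹ : (ZMod 23)ˣ) * x := rfl
        rw [hsymm]
        constructor
        · rintro ⟨r, hr⟩
          refine ⟨(v : ZMod 23) * r, ?_⟩
          have h1 : x = ((v * v : (ZMod 23)ˣ) : ZMod 23) * (((v * v)⁻¹ : (ZMod 23)ˣ) * x) := by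
            rw [← mul_assoc, ← Units.val_mul, mul_inv_cancel, Units.val_one, one_mul]
          rw [h1, hr, Units.val_mul]
          ring
        · rintro ⟨r, hr⟩
          refine ⟨((v⁻¹ : (ZMod 23)ˣ) : ZMod 23) * r, ?_⟩
          rw [hr, mul_add, ← mul_assoc (((v * v)⁻¹ : (ZMod 23)ˣ) : ZMod 23), ← Units.val_mul, inv_mul_cancel,
            Units.val_one, one_mul, mul_inv, Units.val_mul]
          ring
      by_cases hex : ∃ r : ZMod 23, x = r ^ 2 + ((v * v : (ZMod 23)ˣ) : ZMod 23) * t
      · rw [if_pos hex, if_pos (hiff.2 hex)]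
      · rw [if_neg hex, if_neg (fun h => hex (hiff.1 h))]
  rw [this]
  exact Submodule.subset_span (Or.inl ⟨_, rfl⟩)

end Cfsg.Agent.Lib.H28
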