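/-
helper28 library: words in the generators of `M24`, a stabilizer-chain witness table, and 5-fold transitivity
of `M24` (also of the subgroup generated by `x ↦ x+1`, `projInv`, `cubeTwist`).
-/
import Mathlib
import Cfsg.Prelude.Def_Sporadic_a
import Cfsg.Agent.Lib.H28.M24Basic

set_option autoImplicit false

namespace Cfsg.Agent.Lib.H28

open Cfsg

/-! ### Words in the generators -/

/-- The generators and their inverses: `0 ↦ S`, `1 ↦ S⁻¹`, `2 ↦ T = projInv`, `3 ↦ U = cubeTwist`, `4 ↦ U⁻¹`. -/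
noncomputable def genPerm : ℕ → Equiv.Perm GolayPt
  | 0 => permS
  | 1 => permS⁻¹
  | 2 => projInv
  | 3 => cubeTwist
  | 4 => cubeTwist⁻¹
  | _ => 1

/-- Index tables of the generators. -/
def genTab : ℕ → List ℕ
  | 0 => tabS
  | 1 => tabSi
  | 2 => tabT
  | 3 => tabU
  | 4 => tabUi
  | _ => List.range 24

theorem genTab_spec (a : ℕ) (p : GolayPt) : gIdx (genPerm a p) = (genTab a).getD (gIdx p) 0 := by
  match a with
  | 0 => exact tabS_spec p
  | 1 => exact tabSi_spec p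
  | 2 => exact tabT_spec p
  | 3 => exact tabU_spec p
  | 4 => exact tabUi_spec p
  | (n + 5) =>
    show gIdx p = (List.range 24).getD (gIdx p) 0
    have h := gIdx_lt p
    rw [List.getD_eq_getElem _ _ (by rw [List.length_range]; exact h), List.getElem_range]

/-- The subgroup generated by the three generators. -/
noncomputable def genSubgroup : Subgroup (Equiv.Perm GolayPt) :=
  Subgroup.closure {permS, projInv, cubeTwist}

theorem genPerm_mem (a : ℕ) : genPerm a ∈ genSubgroup := by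
  unfold genSubgroup
  match a with
  | 0 => exact Subgroup.subset_closure (by simp [genPerm])
  | 1 => exact Subgroup.inv_mem _ (Subgroup.subset_closure (by simp))
  | 2 => exact Subgroup.subset_closure (by simp [genPerm])
  | 3 => exact Subgroup.subset_closure (by simp [genPerm])
  | 4 => exact Subgroup.inv_mem _ (Subgroup.subset_closure (by simp))
  | (n + 5) => exact Subgroup.one_mem _

theorem genSubgroup_le_M24 : genSubgroup ≤ M24 := by
  unfold genSubgroup
  rw [Subgroup.closure_le]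
  rintro x (rfl | rfl | rfl)
  · exact permS_mem_M24
  · exact projInv_mem_M24
  · exact cubeTwist_mem_M24

/-- The permutation of a word. -/
noncomputable def wordPerm (w : List ℕ) : Equiv.Perm GolayPt := (w.map genPerm).prod

theorem wordPerm_nil : wordPerm [] = 1 := rfl

theorem wordPerm_cons (a : ℕ) (w : List ℕ) : wordPerm (a :: w) = genPerm a * wordPerm w := by
  unfold wordPerm
  rw [List.map_cons, List.prod_cons]

theorem wordPerm_mem (w : List ℕ) : wordPerm w ∈ genSubgroup := by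
  induction w with
  | nil => exact Subgroup.one_mem _
  | cons a w ih =>
    rw [wordPerm_cons]
    exact Subgroup.mul_mem _ (genPerm_mem a) ih

theorem wordPerm_mem_M24 (w : List ℕ) : wordPerm w ∈ M24 := genSubgroup_le_M24 (wordPerm_mem w)

/-- Evaluation of a word on a point index. -/
def evalPt : List ℕ → ℕ → ℕ
  | [], k => k
  | a :: w, k => (genTab a).getD (evalPt w k) 0

theorem evalPt_nil (k : ℕ) : evalPt [] k = k := rfl

theorem evalPt_cons (a : ℕ) (w : List ℕ) (k : ℕ) : evalPt (a :: w) k = (genTab a).getD (evalPt w k) 0 := rfl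

theorem gIdx_wordPerm (w : List ℕ) (p : GolayPt) : gIdx (wordPerm w p) = evalPt w (gIdx p) := by
  induction w with
  | nil => rfl
  | cons a w ih =>
    rw [wordPerm_cons, Equiv.Perm.mul_apply, genTab_spec, ih, evalPt_cons]

theorem wordPerm_gPt {w : List ℕ} {k z : ℕ} (hk : k < 24) (h : evalPt w k = z) : wordPerm w (gPt k) = gPt z := by
  apply gIdx_injective
  rw [gIdx_wordPerm, gIdx_gPt hk, h]
  have : z < 24 := by
    rw [← h, ← gIdx_gPt hk, ← gIdx_wordPerm]
    exact gIdx_lt _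
  rw [gIdx_gPt this]

/-! ### The stabilizer chain -/

/-- The base: five points of the octad `{0,1,2,3,5,14,17,∞}`, a point outside it, and a sixth point of it. -/
def basePts : List ℕ := [23, 0, 1, 2, 3, 4, 5]

/-- `w` fixes the first `k` base points and maps the next one to `z`. -/
def levelOK (k z : ℕ) (w : List ℕ) : Bool :=
  (List.range k).all (fun i => evalPt w (basePts.getD i 0) == basePts.getD i 0) &&
    evalPt w (basePts.getD k 0) == z

theorem levelOK_spec {k z : ℕ} {w : List ℕ} (hk : k < 7) (h : levelOK k z w = true) :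
    (∀ i < k, wordPerm w (gPt (basePts.getD i 0)) = gPt (basePts.getD i 0)) ∧
      wordPerm w (gPt (basePts.getD k 0)) = gPt z := by
  unfold levelOK at h
  rw [Bool.and_eq_true, List.all_eq_true, beq_iff_eq] at h
  have hb : ∀ i < 7, basePts.getD i 0 < 24 := by decide
  constructor
  · intro i hi
    have := h.1 i (List.mem_range.2 hi)
    rw [beq_iff_eq] at this
    exact wordPerm_gPt (hb i (by omega)) this
  · exact wordPerm_gPt (hb k hk) h.2

def witTab : List (List (List ℕ)) := [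
  [[2], [0,2], [0,0,2], [0,0,0,2], [3,3,0,2], [1,4,0,2], [4,0,2], [0,4,0,2], [0,0,4,0,2], [2,1,4,0,2], [1,2,0,0,2], [2,0,0,2], [2,1,1,2], [1,3,1,2], [3,1,2], [0,3,1,2], [0,0,3,1,2], [1,3,0,2], [3,0,2], [4,1,2], [0,4,1,2], [1,1,2], [1,2], []],
  [[], [0], [0,0], [0,0,0], [3,3,0], [1,4,0], [4,0], [0,4,0], [0,0,4,0], [3,1,3,1], [1,4,4,1], [4,4,1], [0,4,4,1], [1,3,1], [3,1], [0,3,1], [0,0,3,1], [1,3,0], [3,0], [4,1], [0,4,1], [1,1], [1], []],
  [[], [], [4,4], [0,3,0,3,0,4,4], [3,3], [0,0,3,1,4,0], [4], [0,0,4,1,1,1], [0,0,4,0,4,1], [1,3,0,4,1,1], [0,3,1,3,1,1], [0,3,1,1,1,1], [1,3,3,0,0,4], [3,1,1,4,4,0], [0,0,3,1,4,0,4], [1,1,4,4,0,3], [1,1,4,4,0], [0,0,0,3,1,1], [3], [0,3,1,3,1,1,4], [1,1,1,1,3,3,0], [1,3,0,4,1,1,4], [0,0,3,3,0,4,0], []],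
  [[], [], [], [1,4,1,4,1,4], [0,3,1,3,3,1,3,0,0], [1,1,4,0,0,3,3,0], [0,0,4,1,4,1,1,1,3], [0,3,1,4,4,0,3,0,0], [3,1,3,3,0,0,3], [3,1,3,1,4,4,1,1], [4,0,3,1,1,1,1,3], [0,3,1,1,1,1,3,3], [4,1,1,4,4,0,4], [3,0,4,4,0,4,1,3,1], [4,1,1,4,1,4,4,1,1], [1,1,4,4,0,4,4], [0,0,3,0,3,0,3,3,1], [4,0,0,0,0,4,1,3], [1,3,0,4,0,3,1,1,4], [0,0,4,1,4,0,4,1,3], [3,3,1,3,3,0,0], [4,4,0,0,0,0,4,1], [1,4,4,1,1,3,0,0], []],
  [[], [], [], [], [0,3,0,3,0,3], [1,4,4,1,1,1,4,1,3,0,0], [4,4,0,0,3,0,4,0,0], [0,0,0,0,0,4,0,0,0,4,1,4,1], [4,1,1,1,1,3,1,1,1,1,1], [1,4,1,3,0,4,0,4,0,3], [3,3,2,0,0,0,3,1,1,2,3], [1,3,1,4,0,3,3,0,3,3], [0,3,3,1,4,1,1,1,3,1,3,0], [4,4,1,1,1,1,1,1,4,0,4], [3,0,0,0,3,3,1,4,0], [0,0,0,0,0,4,0,0,0,0,3], [3,3,0,4,4,0,0,4,4,0,3,1], [1,3,0,4,4,1,1,1,4], [0,3,3,1,4,0,0,3,0,0,4], [1,1,3,1,4,1,1,3,3], [1,4,1,3,3,0,0,3,0,3,1], [4,1,3,1,3,1,4,0,3,0], [3,1,1,4,1,1,3,0,4,4,1], []],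
  [[], [], [], [], [], [], [4,4,0,4,0,4,0,0,0,4,0,4,4], [4,2,1,4,1,1,3,0,0,0,0,3,3,1,2], [3,0,4,4,0,3,3,0,0,3,0,4,1,3], [1,3,1,1,1,4,0,4,1,1,1,1,4], [1,4,0,0,0,0,3,1,3,0,0,4,1,1,1], [1,3,3,1,4,0,3,0,0,0,0], [3,3,1,4,1,1,1,3,0,3,3,0], [0,3,0,0,4,0,4,1,3,0,4,4,1,3], [], [1,3,2,0,3,0,2,3,1,1,4,1,4,1,2], [1,4,0,3,3,1,4,1,1,3,0,0,0,0], [], [1,4,4,1,4,1,1,1,4,1,1,3,1,1], [0,3,0,3,0,4,1,4,4,1,3,0,4,0], [1,1,1,1,4,1,3,0,4,4,0], [4,1,1,1,3,1,3,1,4,1,3,3], [1,4,4,1,4,0,0,3,1,1,1,3,1,4], []],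
  [[], [], [], [], [], [], [], [], [], [], [], [], [], [], [4,1,4,1,1,3,3,1,3,0,4,1,4,1,4], [], [], [3,0,3,0,3,1,4,0,4,4,0,0,3,0,3], [], [], [], [], [], []]]

/-- The table is correct for the five levels of the transitivity chain. -/
theorem witTab_ok : (List.range 5).all (fun k => (List.range 24).all (fun z =>
    (basePts.take k).contains z || levelOK k z ((witTab.getD k []).getD z []))) = true := by
  decide +kernel

/-- Level `k < 5`: the stabilizer of the first `k` base points is transitive on the remaining points. -/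
theorem exists_level {k : ℕ} (hk : k < 5) (z : GolayPt) (hz : ∀ i < k, z ≠ gPt (basePts.getD i 0)) :
    ∃ h ∈ genSubgroup, (∀ i < k, h (gPt (basePts.getD i 0)) = gPt (basePts.getD i 0)) ∧
      h (gPt (basePts.getD k 0)) = z := by
  have h1 := List.all_eq_true.1 (List.all_eq_true.1 witTab_ok k (List.mem_range.2 hk)) (gIdx z)
    (List.mem_range.2 (gIdx_lt z))
  rw [Bool.or_eq_true] at h1
  rcases h1 with h1 | h1
  · exfalso
    rw [List.contains_iff_mem] at h1
    obtain ⟨i, hi, hiz⟩ := List.getElem_of_mem h1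
    rw [List.length_take] at hi
    have hik : i < k := by omega
    apply hz i hik
    rw [List.getElem_take] at hiz
    have hlen : basePts.length = 7 := rfl
    rw [List.getD_eq_getElem _ _ (by omega), hiz, gPt_gIdx]
  · obtain ⟨h2, h3⟩ := levelOK_spec (by omega) h1
    refine ⟨wordPerm ((witTab.getD k []).getD (gIdx z) []), wordPerm_mem _, h2, ?_⟩
    rw [h3, gPt_gIdx]

/-- Every injective tuple of at most 5 points is the image of the base tuple under the generated group. -/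
theorem exists_map_base : ∀ n ≤ 5, ∀ y : Fin n → GolayPt, Function.Injective y →
    ∃ g ∈ genSubgroup, ∀ i : Fin n, g (gPt (basePts.getD i.val 0)) = y i := by
  intro n
  induction n with
  | zero =>
    intro _ y _
    exact ⟨1, Subgroup.one_mem _, fun i => i.elim0⟩
  | succ n ih =>
    intro hn y hy
    obtain ⟨g, hg, hgy⟩ := ih (by omega) (y ∘ Fin.castSucc)
      (hy.comp (Fin.castSucc_injective n))
    have hz : ∀ i < n, g⁻¹ (y (Fin.last n)) ≠ gPt (basePts.getD i 0) := by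
      intro i hi h
      have h1 := hgy ⟨i, hi⟩
      rw [← h, Equiv.Perm.inv_def, Equiv.apply_symm_apply] at h1
      have := hy h1
      rw [Fin.ext_iff] at this
      simp at this
      omega
    obtain ⟨h, hh, hfix, hmap⟩ := exists_level (show n < 5 by omega) (g⁻¹ (y (Fin.last n))) hz
    refine ⟨g * h, Subgroup.mul_mem _ hg hh, ?_⟩
    intro i
    rw [Equiv.Perm.mul_apply]
    rcases Fin.eq_castSucc_or_eq_last i with ⟨j, rfl⟩ | rfl
    · rw [Fin.val_castSucc, hfix j.val j.isLt]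
      exact hgy j
    · rw [Fin.val_last, hmap, Equiv.Perm.inv_def, Equiv.apply_symm_apply]

/-- Any two injective `n`-tuples (`n ≤ 5`) are conjugate under the generated group. -/
theorem exists_genSubgroup_map {n : ℕ} (hn : n ≤ 5) (x y : Fin n → GolayPt) (hx : Function.Injective x)
    (hy : Function.Injective y) : ∃ g ∈ genSubgroup, ∀ i, g (x i) = y i := by
  obtain ⟨gx, hgx, hx'⟩ := exists_map_base n hn x hx
  obtain ⟨gy, hgy, hy'⟩ := exists_map_base n hn y hy
  refine ⟨gy * gx⁻¹, Subgroup.mul_mem _ hgy (Subgroup.inv_mem _ hgx), ?_⟩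
  intro i
  rw [Equiv.Perm.mul_apply, ← hx' i, Equiv.Perm.inv_def, Equiv.symm_apply_apply, hy' i]

theorem exists_M24_map {n : ℕ} (hn : n ≤ 5) (x y : Fin n → GolayPt) (hx : Function.Injective x)
    (hy : Function.Injective y) : ∃ g ∈ M24, ∀ i, g (x i) = y i := by
  obtain ⟨g, hg, h⟩ := exists_genSubgroup_map hn x y hx hy
  exact ⟨g, genSubgroup_le_M24 hg, h⟩

/-- `M24` is 5-transitive on the 24 points. -/
theorem M24_isMultiplyPretransitive : MulAction.IsMultiplyPretransitive M24 GolayPt 5 := by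
  refine ⟨fun x y => ?_⟩
  obtain ⟨g, hg, h⟩ := exists_M24_map (le_refl 5) x y x.injective y.injective
  refine ⟨⟨g, hg⟩, ?_⟩
  apply Function.Embedding.ext
  intro i
  rw [Function.Embedding.smul_apply]
  exact h i

open scoped Pointwise

/-- Elements of `M24` permute the supports of codewords of a given weight. -/
theorem smul_mem_wordsOfWeight {g : Equiv.Perm GolayPt} (hg : g ∈ M24) {o : Finset GolayPt} {n : ℕ}
    (ho : o ∈ Cfsg.wordsOfWeight (golayCode : Set (GolayPt → ZMod 2)) n) :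
    g • o ∈ Cfsg.wordsOfWeight (golayCode : Set (GolayPt → ZMod 2)) n := by
  obtain ⟨⟨c, hc, rfl⟩, hn⟩ := ho
  refine ⟨⟨c ∘ g.symm, comp_symm_mem_of_mem_M24 hg hc, (smul_support₂ g c).symm⟩, ?_⟩
  rw [Finset.card_smul_finset]
  exact hn

theorem smul_mem_octads {g : Equiv.Perm GolayPt} (hg : g ∈ M24) {o : Finset GolayPt} (ho : o ∈ octads) :
    g • o ∈ octads := smul_mem_wordsOfWeight hg ho

theorem smul_mem_dodecads {g : Equiv.Perm GolayPt} (hg : g ∈ M24) {o : Finset GolayPt} (ho : o ∈ dodecads) :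
    g • o ∈ dodecads := smul_mem_wordsOfWeight hg ho

/-- `M24` is transitive on octads. -/
theorem exists_M24_smul_octad {o o' : Finset GolayPt} (ho : o ∈ octads) (ho' : o' ∈ octads) :
    ∃ g ∈ M24, g • o = o' := by
  have h8 : o.card = 8 := ho.2
  have h8' : o'.card = 8 := ho'.2
  obtain ⟨X, hXo, hX⟩ := Finset.exists_subset_card_eq (s := o) (n := 5) (by omega)
  obtain ⟨Y, hYo, hY⟩ := Finset.exists_subset_card_eq (s := o') (n := 5) (by omega)
  let ex := (Finset.equivFinOfCardEq hX).symm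
  let ey := (Finset.equivFinOfCardEq hY).symm
  obtain ⟨g, hg, hmap⟩ := exists_M24_map (le_refl 5) (fun i => (ex i : GolayPt)) (fun i => (ey i : GolayPt))
    (Subtype.val_injective.comp ex.injective) (Subtype.val_injective.comp ey.injective)
  refine ⟨g, hg, ?_⟩
  have hgo : g • o ∈ octads := smul_mem_octads hg ho
  have hYsub : Y ⊆ g • o := by
    intro p hp
    obtain ⟨i, hi⟩ := ey.surjective ⟨p, hp⟩
    have : p = (ey i : GolayPt) := by rw [hi]
    rw [this, ← hmap i]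
    exact Finset.smul_mem_smul_finset (hXo (ex i).2)
  obtain ⟨b, _, hb⟩ := octads_isSteinerSystem.2 Y hY
  rw [hb (g • o) ⟨hgo, hYsub⟩, hb o' ⟨ho', hYo⟩]

end Cfsg.Agent.Lib.H28
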