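/-
helper28 library: the order of `Cfsg.M24` (244823040) by a stabilizer chain: rigidity (propagation of fixed
points through octads), orbit-stabilizer along the base `∞,0,1,2,3,4,5`, and `M24 = ⟨x ↦ x+1, projInv, cubeTwist⟩`.
-/
import Mathlib
import Cfsg.Prelude.Def_Sporadic_a
import Cfsg.Agent.Lib.H28.M24Trans

set_option autoImplicit false

namespace Cfsg.Agent.Lib.H28

open Cfsg
open scoped Pointwise

/-! ### Rigidity: propagation of fixed points through octads -/

theorem hammingNorm_comp_symm (g : Equiv.Perm GolayPt) (c : GolayPt → ZMod 2) :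
    hammingNorm (c ∘ g.symm) = hammingNorm c := by
  rw [hammingNorm_eq_card_supp, hammingNorm_eq_card_supp, supp_eq_support₂, supp_eq_support₂,
    ← smul_support₂, Finset.card_smul_finset]

/-- An element of `M24` fixing at least 5 points of an octad (given by a mask) fixes the octad. -/
theorem octad_invariant {g : Equiv.Perm GolayPt} (hg : g ∈ M24) {o F : ℕ} (hoC : inC o = true)
    (ho8 : popc o = 8) (h5 : 5 ≤ popc (o &&& F)) (hF : ∀ p, F.testBit (gIdx p) = true → g p = p) :
    ∀ q, W o (g q) = W o q := by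
  have hc : W o ∈ golayCode := W_mem_of_inC hoC
  have hc' : W o ∘ g.symm ∈ golayCode := comp_symm_mem_of_mem_M24 hg hc
  have h8 : hammingNorm (W o) = 8 := by rw [hammingNorm_W, ho8]
  have h8' : hammingNorm (W o ∘ g.symm) = 8 := by rw [hammingNorm_comp_symm, h8]
  -- the common points
  have hA : 5 ≤ (supp (W (o &&& F))).card := by
    rw [← hammingNorm_eq_card_supp, hammingNorm_W]; exact h5
  obtain ⟨S, hSA, hS⟩ := Finset.exists_subset_card_eq hA
  have hmem : ∀ p ∈ S, o.testBit (gIdx p) = true ∧ F.testBit (gIdx p) = true := by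
    intro p hp
    have := hSA hp
    rw [mem_supp, W_apply_ne_zero, Nat.testBit_and, Bool.and_eq_true] at this
    exact this
  have hS1 : S ⊆ supp (W o) := by
    intro p hp
    rw [mem_supp, W_apply_ne_zero]
    exact (hmem p hp).1
  have hS2 : S ⊆ supp (W o ∘ g.symm) := by
    intro p hp
    rw [mem_supp, Function.comp_apply]
    have hgp : g p = p := hF p (hmem p hp).2
    have : g.symm p = p := by rw [Equiv.symm_apply_eq, hgp]
    rw [this, W_apply_ne_zero]
    exact (hmem p hp).1
  have heq := octad_unique golayCode_isAbsGolay S hS hc' hc h8' h8 hS2 hS1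
  intro q
  have := congrFun heq (g q)
  rw [Function.comp_apply, Equiv.symm_apply_apply] at this
  exact this.symm

/-- One propagation step: two octads (masks) with at least 5 known fixed points each, whose intersection
contains exactly one point `x` not yet known to be fixed. -/
def stepOK (F : ℕ) (s : ℕ × ℕ × ℕ) : Bool :=
  inC s.1 && inC s.2.1 && popc s.1 == 8 && popc s.2.1 == 8 && decide (5 ≤ popc (s.1 &&& F)) &&
    decide (5 ≤ popc (s.2.1 &&& F)) && (s.1 &&& s.2.1 &&& (16777215 ^^^ F)) == 2 ^ s.2.2 &&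
    decide (s.2.2 < 24)

/-- Run a list of propagation steps from the mask `F` of known fixed points. -/
def runSteps : ℕ → List (ℕ × ℕ × ℕ) → Option ℕ
  | F, [] => some F
  | F, s :: ss => if stepOK F s then runSteps (F ||| 2 ^ s.2.2) ss else none

theorem testBit_full {k : ℕ} (hk : k < 24) : (16777215 : ℕ).testBit k = true := by
  have : ∀ k < 24, (16777215 : ℕ).testBit k = true := by decide
  exact this k hk

theorem step_sound {g : Equiv.Perm GolayPt} (hg : g ∈ M24) {F : ℕ} {s : ℕ × ℕ × ℕ}
    (hs : stepOK F s = true) (hF : ∀ p, F.testBit (gIdx p) = true → g p = p) :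
    ∀ p, (F ||| 2 ^ s.2.2).testBit (gIdx p) = true → g p = p := by
  unfold stepOK at hs
  simp only [Bool.and_eq_true, beq_iff_eq, decide_eq_true_eq] at hs
  obtain ⟨⟨⟨⟨⟨⟨⟨h1, h2⟩, h3⟩, h4⟩, h5⟩, h6⟩, h7⟩, h8⟩ := hs
  have inv1 := octad_invariant hg h1 h3 h5 hF
  have inv2 := octad_invariant hg h2 h4 h6 hF
  -- characterization of the new point
  have hchar : ∀ p : GolayPt, (s.1.testBit (gIdx p) = true ∧ s.2.1.testBit (gIdx p) = true ∧
      F.testBit (gIdx p) = false) ↔ gIdx p = s.2.2 := by
    intro p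
    have := congrArg (fun m => m.testBit (gIdx p)) h7
    simp only [Nat.testBit_and, Nat.testBit_xor, testBit_full (gIdx_lt p), Nat.testBit_two_pow] at this
    constructor
    · rintro ⟨a, b, c⟩
      rw [a, b, c] at this
      have h' : s.2.2 = gIdx p := by simpa using this
      exact h'.symm
    · intro h
      rw [h] at this ⊢
      simp only [decide_true, Bool.and_eq_true, Bool.true_xor, Bool.not_eq_true'] at this
      exact ⟨this.1.1, this.1.2, this.2⟩
  have hx : g (gPt s.2.2) = gPt s.2.2 := by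
    obtain ⟨a, b, c⟩ := (hchar (gPt s.2.2)).2 (gIdx_gPt h8)
    have key : gIdx (g (gPt s.2.2)) = s.2.2 := by
      rw [← hchar]
      refine ⟨?_, ?_, ?_⟩
      · rw [← W_apply_ne_zero, inv1, W_apply_ne_zero]; exact a
      · rw [← W_apply_ne_zero, inv2, W_apply_ne_zero]; exact b
      · by_contra hcon
        rw [Bool.not_eq_false] at hcon
        have h9 := hF _ hcon
        have h10 : g (gPt s.2.2) = gPt s.2.2 := g.injective h9
        rw [h10, c] at hcon
        exact Bool.false_ne_true hcon
    apply gIdx_injective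
    rw [key, gIdx_gPt h8]
  intro p hp
  rw [Nat.testBit_or, Bool.or_eq_true, Nat.testBit_two_pow, decide_eq_true_eq] at hp
  rcases hp with hp | hp
  · exact hF p hp
  · have : p = gPt s.2.2 := by rw [hp, gPt_gIdx]
    rw [this]; exact hx

theorem runSteps_sound {g : Equiv.Perm GolayPt} (hg : g ∈ M24) :
    ∀ (ss : List (ℕ × ℕ × ℕ)) (F F' : ℕ), runSteps F ss = some F' →
      (∀ p, F.testBit (gIdx p) = true → g p = p) → ∀ p, F'.testBit (gIdx p) = true → g p = p := by
  intro ss
  induction ss with
  | nil =>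
    intro F F' h hF
    simp only [runSteps, Option.some.injEq] at h
    rw [← h]; exact hF
  | cons s ss ih =>
    intro F F' h hF
    unfold runSteps at h
    split_ifs at h with hs
    exact ih _ _ h (step_sound hg hs hF)

/-- If the propagation reaches all 24 points, the only element of `M24` fixing the points of `F` is the identity. -/
theorem eq_one_of_runSteps {g : Equiv.Perm GolayPt} (hg : g ∈ M24) {ss : List (ℕ × ℕ × ℕ)} {F : ℕ}
    (h : runSteps F ss = some 16777215) (hF : ∀ p, F.testBit (gIdx p) = true → g p = p) : g = 1 := by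
  apply Equiv.ext
  intro p
  rw [Equiv.Perm.one_apply]
  exact runSteps_sound hg ss F _ h hF p (testBit_full (gIdx_lt p))

/-- Orbit-stabilizer for a subgroup `H` of a finite group acting on `X`, with the stabilizer taken inside the
ambient group. -/
theorem card_eq_orbit_mul_stab {G X : Type*} [Group G] [MulAction G X] [Finite G] (H : Subgroup G) (x : X) :
    Nat.card H = {y | ∃ h ∈ H, h • x = y}.ncard *
      Nat.card (H ⊓ MulAction.stabilizer G x : Subgroup G) := by
  have h1 := Subgroup.card_eq_card_quotient_mul_card_subgroup (MulAction.stabilizer H x)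
  have h2 : Nat.card (H ⧸ MulAction.stabilizer H x) = Nat.card (MulAction.orbit H x) :=
    Nat.card_congr (MulAction.orbitEquivQuotientStabilizer H x).symm
  have h3 : Nat.card (MulAction.stabilizer H x) = Nat.card (H ⊓ MulAction.stabilizer G x : Subgroup G) := by
    apply Nat.card_congr
    refine ⟨fun g => ⟨g.1.1, ?_⟩, fun g => ⟨⟨g.1, ?_⟩, ?_⟩, ?_, ?_⟩
    · rw [Subgroup.mem_inf, MulAction.mem_stabilizer_iff]
      exact ⟨g.1.2, MulAction.mem_stabilizer_iff.1 g.2⟩
    · exact (Subgroup.mem_inf.1 g.2).1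
    · rw [MulAction.mem_stabilizer_iff]
      exact MulAction.mem_stabilizer_iff.1 (Subgroup.mem_inf.1 g.2).2
    · intro g; rfl
    · intro g; rfl
  have h4 : Nat.card (MulAction.orbit H x) = {y | ∃ h ∈ H, h • x = y}.ncard := by
    rw [Nat.card_coe_set_eq]
    congr 1
    ext y
    rw [MulAction.mem_orbit_iff]
    constructor
    · rintro ⟨h, rfl⟩; exact ⟨h.1, h.2, rfl⟩
    · rintro ⟨h, hh, rfl⟩; exact ⟨⟨h, hh⟩, rfl⟩
  rw [h1, h2, h3, h4]


/-! ### The stabilizer chain -/

/-- The elements of `K` fixing the points with indices in `L`. -/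
def fixSub (K : Subgroup (Equiv.Perm GolayPt)) : List ℕ → Subgroup (Equiv.Perm GolayPt)
  | [] => K
  | k :: L => fixSub K L ⊓ MulAction.stabilizer (Equiv.Perm GolayPt) (gPt k)

theorem fixSub_nil (K : Subgroup (Equiv.Perm GolayPt)) : fixSub K [] = K := rfl

theorem fixSub_cons (K : Subgroup (Equiv.Perm GolayPt)) (k : ℕ) (L : List ℕ) :
    fixSub K (k :: L) = fixSub K L ⊓ MulAction.stabilizer (Equiv.Perm GolayPt) (gPt k) := rfl

theorem mem_fixSub {K : Subgroup (Equiv.Perm GolayPt)} {L : List ℕ} {g : Equiv.Perm GolayPt} :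
    g ∈ fixSub K L ↔ g ∈ K ∧ ∀ k ∈ L, g (gPt k) = gPt k := by
  induction L with
  | nil => simp [fixSub_nil]
  | cons k L ih =>
    rw [fixSub_cons, Subgroup.mem_inf, ih, MulAction.mem_stabilizer_iff, Equiv.Perm.smul_def]
    constructor
    · rintro ⟨⟨h1, h2⟩, h3⟩
      refine ⟨h1, ?_⟩
      intro j hj
      rcases List.mem_cons.1 hj with rfl | hj
      · exact h3
      · exact h2 j hj
    · rintro ⟨h1, h2⟩
      exact ⟨⟨h1, fun j hj => h2 j (List.mem_cons_of_mem _ hj)⟩, h2 k (by simp)⟩

theorem card_fixSub_eq (K : Subgroup (Equiv.Perm GolayPt)) (L : List ℕ) (k : ℕ) :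
    Nat.card (fixSub K L) = {y | ∃ h ∈ fixSub K L, h (gPt k) = y}.ncard * Nat.card (fixSub K (k :: L)) := by
  rw [fixSub_cons]
  exact card_eq_orbit_mul_stab (fixSub K L) (gPt k)

theorem card_fixSub_le (K : Subgroup (Equiv.Perm GolayPt)) (L : List ℕ) (k : ℕ) (X : Finset GolayPt)
    (h : ∀ g ∈ fixSub K L, g (gPt k) ∈ X) :
    Nat.card (fixSub K L) ≤ X.card * Nat.card (fixSub K (k :: L)) := by
  rw [card_fixSub_eq K L k]
  apply Nat.mul_le_mul_right
  rw [← Set.ncard_coe_finset]
  apply Set.ncard_le_ncard _ (Finset.finite_toSet X)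
  rintro y ⟨g, hg, rfl⟩
  exact h g hg

theorem card_fixSub_ge (K : Subgroup (Equiv.Perm GolayPt)) (L : List ℕ) (k : ℕ) (X : Finset GolayPt)
    (h : ∀ x ∈ X, ∃ g ∈ fixSub K L, g (gPt k) = x) :
    X.card * Nat.card (fixSub K (k :: L)) ≤ Nat.card (fixSub K L) := by
  rw [card_fixSub_eq K L k]
  apply Nat.mul_le_mul_right
  rw [← Set.ncard_coe_finset]
  apply Set.ncard_le_ncard _ (Set.toFinite _)
  intro x hx
  exact h x hx

/-- The points whose index satisfies a Boolean predicate. -/
def ptsOf (P : ℕ → Bool) : Finset GolayPt := Finset.univ.filter (fun p => P (gIdx p) = true)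

theorem mem_ptsOf {P : ℕ → Bool} {p : GolayPt} : p ∈ ptsOf P ↔ P (gIdx p) = true := by
  unfold ptsOf; simp

/-- Mask of the base octad `{0,1,2,3,5,14,17,∞}`. -/
def baseOctad : ℕ := 8536111

/-- The orbit bounds along the chain. -/
def levelSet : ℕ → ℕ → Bool
  | 0 => fun _ => true
  | 1 => fun z => !([23].contains z)
  | 2 => fun z => !([0, 23].contains z)
  | 3 => fun z => !([1, 0, 23].contains z)
  | 4 => fun z => !([2, 1, 0, 23].contains z)
  | 5 => fun z => !(baseOctad.testBit z)
  | _ => fun z => baseOctad.testBit z && !([3, 2, 1, 0, 23].contains z)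

/-- The lists of fixed indices along the chain. -/
def levelFix : ℕ → List ℕ
  | 0 => []
  | 1 => [23]
  | 2 => [0, 23]
  | 3 => [1, 0, 23]
  | 4 => [2, 1, 0, 23]
  | 5 => [3, 2, 1, 0, 23]
  | 6 => [4, 3, 2, 1, 0, 23]
  | _ => [5, 4, 3, 2, 1, 0, 23]

theorem levelFix_succ : ∀ k < 7, levelFix (k + 1) = basePts.getD k 0 :: levelFix k := by decide

theorem levelFix_sub : ∀ k ≤ 7, ∀ j ∈ levelFix k, ∃ i < k, basePts.getD i 0 = j := by
  decide +kernel

theorem levelSet_card : ∀ k < 7, (ptsOf (levelSet k)).card = [24, 23, 22, 21, 20, 16, 3].getD k 0 := by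
  unfold ptsOf
  decide +kernel

/-- Witnesses for all levels of the chain. -/
theorem witTab_ok_all : (List.range 7).all (fun k => (List.range 24).all (fun z =>
    !(levelSet k z) || levelOK k z ((witTab.getD k []).getD z []))) = true := by
  decide +kernel

theorem level_ge (k : ℕ) (hk : k < 7) : ∀ x ∈ ptsOf (levelSet k),
    ∃ g ∈ fixSub genSubgroup (levelFix k), g (gPt (basePts.getD k 0)) = x := by
  intro x hx
  rw [mem_ptsOf] at hx
  have h1 := List.all_eq_true.1 (List.all_eq_true.1 witTab_ok_all k (List.mem_range.2 hk)) (gIdx x)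
    (List.mem_range.2 (gIdx_lt x))
  rw [Bool.or_eq_true, hx] at h1
  have h2 : levelOK k (gIdx x) ((witTab.getD k []).getD (gIdx x) []) = true := by
    rcases h1 with h1 | h1
    · simp at h1
    · exact h1
  obtain ⟨h3, h4⟩ := levelOK_spec hk h2
  refine ⟨wordPerm ((witTab.getD k []).getD (gIdx x) []), ?_, ?_⟩
  · rw [mem_fixSub]
    refine ⟨wordPerm_mem _, ?_⟩
    intro j hj
    obtain ⟨i, hi, rfl⟩ := levelFix_sub k (by omega) j hj
    exact h3 i hi
  · rw [h4, gPt_gIdx]

theorem baseOctad_inC : inC baseOctad = true := by decide +kernel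
theorem baseOctad_popc : popc baseOctad = 8 := by decide +kernel

theorem level_le (k : ℕ) (hk : k < 7) : ∀ g ∈ fixSub M24 (levelFix k),
    g (gPt (basePts.getD k 0)) ∈ ptsOf (levelSet k) := by
  intro g hg
  rw [mem_fixSub] at hg
  obtain ⟨hgM, hfix⟩ := hg
  rw [mem_ptsOf]
  -- injectivity: the image avoids the fixed points
  have havoid : ∀ j ∈ levelFix k, gIdx (g (gPt (basePts.getD k 0))) ≠ j := by
    intro j hj h
    have hj24 : j < 24 := by
      rw [← h]; exact gIdx_lt _
    have h1 : g (gPt (basePts.getD k 0)) = gPt j := by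
      apply gIdx_injective; rw [h, gIdx_gPt hj24]
    rw [← hfix j hj] at h1
    have h2 := g.injective h1
    have h3 := congrArg gIdx h2
    have hb : ∀ i < 7, basePts.getD i 0 < 24 := by decide
    rw [gIdx_gPt (hb k hk), gIdx_gPt hj24] at h3
    have : ∀ k < 7, ∀ j ∈ levelFix k, basePts.getD k 0 ≠ j := by decide +kernel
    exact this k hk j hj h3
  -- invariance of the base octad at levels 5 and 6
  have hinv : 5 ≤ k → ∀ q, W baseOctad (g q) = W baseOctad q := by
    intro h5
    apply octad_invariant hgM baseOctad_inC baseOctad_popc (F := 8388623) (by decide +kernel)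
    intro p hp
    have hmem : gIdx p ∈ levelFix k := by
      have : ∀ k, 5 ≤ k → k < 7 → ∀ z < 24, (8388623 : ℕ).testBit z = true → z ∈ levelFix k := by
        decide +kernel
      exact this k h5 hk (gIdx p) (gIdx_lt p) hp
    have := hfix (gIdx p) hmem
    rwa [gPt_gIdx] at this
  have hlt := gIdx_lt (g (gPt (basePts.getD k 0)))
  -- case analysis on the level
  have key : ∀ k < 7, ∀ z < 24, (∀ j ∈ levelFix k, z ≠ j) →
      (5 ≤ k → (baseOctad.testBit z = baseOctad.testBit (basePts.getD k 0))) → levelSet k z = true := by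
    decide +kernel
  apply key k hk _ hlt havoid
  intro h5
  have h1 := hinv h5 (gPt (basePts.getD k 0))
  have hb : ∀ i < 7, basePts.getD i 0 < 24 := by decide
  rw [W_apply, W_apply, gIdx_gPt (hb k hk)] at h1
  by_cases hA : baseOctad.testBit (gIdx (g (gPt (basePts.getD k 0)))) = true
  · by_cases hB : baseOctad.testBit (basePts.getD k 0) = true
    · rw [hA, hB]
    · rw [if_pos hA, if_neg hB] at h1
      exact absurd h1 (by decide)
  · by_cases hB : baseOctad.testBit (basePts.getD k 0) = true
    · rw [if_neg hA, if_pos hB] at h1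
      exact absurd h1 (by decide)
    · rw [Bool.not_eq_true] at hA hB
      rw [hA, hB]

/-- The rigidity certificate for the seven base points. -/
def rigidSteps : List (ℕ × ℕ × ℕ) := [(12656663, 8663097, 13), (3416079, 9543722, 20), (3416079, 11538486, 21),
  (3416079, 3416079, 18), (11538486, 11538486, 12), (9347075, 13938692, 15), (13938692, 13938692, 22),
  (1413139, 1413139, 16), (10825794, 10825794, 6), (13062145, 4845570, 14), (13062145, 13062145, 17),
  (4845570, 4845570, 19), (2019456, 2019456, 7), (4038912, 4038912, 8), (8077824, 8077824, 9),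
  (11654144, 11654144, 10), (14919680, 14919680, 11)]

theorem rigidSteps_ok : runSteps 8388671 rigidSteps = some 16777215 := by decide +kernel

/-- An element of `M24` fixing the seven base points is the identity. -/
theorem fixSub_M24_top : fixSub M24 (levelFix 7) = ⊥ := by
  rw [Subgroup.eq_bot_iff_forall]
  intro g hg
  rw [mem_fixSub] at hg
  apply eq_one_of_runSteps hg.1 rigidSteps_ok
  intro p hp
  have hmem : gIdx p ∈ levelFix 7 := by
    have : ∀ z < 24, (8388671 : ℕ).testBit z = true → z ∈ levelFix 7 := by decide +kernel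
    exact this (gIdx p) (gIdx_lt p) hp
  have := hg.2 (gIdx p) hmem
  rwa [gPt_gIdx] at this

theorem card_M24_le : Nat.card M24 ≤ 244823040 := by
  have h0 := card_fixSub_le M24 (levelFix 0) 23 _ (level_le 0 (by norm_num))
  have h1 := card_fixSub_le M24 (levelFix 1) 0 _ (level_le 1 (by norm_num))
  have h2 := card_fixSub_le M24 (levelFix 2) 1 _ (level_le 2 (by norm_num))
  have h3 := card_fixSub_le M24 (levelFix 3) 2 _ (level_le 3 (by norm_num))
  have h4 := card_fixSub_le M24 (levelFix 4) 3 _ (level_le 4 (by norm_num))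
  have h5 := card_fixSub_le M24 (levelFix 5) 4 _ (level_le 5 (by norm_num))
  have h6 := card_fixSub_le M24 (levelFix 6) 5 _ (level_le 6 (by norm_num))
  have h7 : Nat.card (fixSub M24 (levelFix 7)) = 1 := by
    rw [fixSub_M24_top]; exact Subgroup.card_bot
  rw [levelSet_card 0 (by norm_num)] at h0
  rw [levelSet_card 1 (by norm_num)] at h1
  rw [levelSet_card 2 (by norm_num)] at h2
  rw [levelSet_card 3 (by norm_num)] at h3
  rw [levelSet_card 4 (by norm_num)] at h4
  rw [levelSet_card 5 (by norm_num)] at h5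
  rw [levelSet_card 6 (by norm_num)] at h6
  change Nat.card (fixSub M24 []) ≤ 24 * Nat.card (fixSub M24 [23]) at h0
  change Nat.card (fixSub M24 [23]) ≤ 23 * Nat.card (fixSub M24 [0, 23]) at h1
  change Nat.card (fixSub M24 [0, 23]) ≤ 22 * Nat.card (fixSub M24 [1, 0, 23]) at h2
  change Nat.card (fixSub M24 [1, 0, 23]) ≤ 21 * Nat.card (fixSub M24 [2, 1, 0, 23]) at h3
  change Nat.card (fixSub M24 [2, 1, 0, 23]) ≤ 20 * Nat.card (fixSub M24 [3, 2, 1, 0, 23]) at h4
  change Nat.card (fixSub M24 [3, 2, 1, 0, 23]) ≤ 16 * Nat.card (fixSub M24 [4, 3, 2, 1, 0, 23]) at h5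
  change Nat.card (fixSub M24 [4, 3, 2, 1, 0, 23]) ≤ 3 * Nat.card (fixSub M24 [5, 4, 3, 2, 1, 0, 23]) at h6
  change Nat.card (fixSub M24 [5, 4, 3, 2, 1, 0, 23]) = 1 at h7
  rw [fixSub_nil] at h0
  omega

theorem card_genSubgroup_ge : 244823040 ≤ Nat.card genSubgroup := by
  have h0 := card_fixSub_ge genSubgroup (levelFix 0) 23 _ (level_ge 0 (by norm_num))
  have h1 := card_fixSub_ge genSubgroup (levelFix 1) 0 _ (level_ge 1 (by norm_num))
  have h2 := card_fixSub_ge genSubgroup (levelFix 2) 1 _ (level_ge 2 (by norm_num))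
  have h3 := card_fixSub_ge genSubgroup (levelFix 3) 2 _ (level_ge 3 (by norm_num))
  have h4 := card_fixSub_ge genSubgroup (levelFix 4) 3 _ (level_ge 4 (by norm_num))
  have h5 := card_fixSub_ge genSubgroup (levelFix 5) 4 _ (level_ge 5 (by norm_num))
  have h6 := card_fixSub_ge genSubgroup (levelFix 6) 5 _ (level_ge 6 (by norm_num))
  have h7 : 1 ≤ Nat.card (fixSub genSubgroup (levelFix 7)) := Nat.card_pos
  rw [levelSet_card 0 (by norm_num)] at h0
  rw [levelSet_card 1 (by norm_num)] at h1
  rw [levelSet_card 2 (by norm_num)] at h2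
  rw [levelSet_card 3 (by norm_num)] at h3
  rw [levelSet_card 4 (by norm_num)] at h4
  rw [levelSet_card 5 (by norm_num)] at h5
  rw [levelSet_card 6 (by norm_num)] at h6
  change 24 * Nat.card (fixSub genSubgroup [23]) ≤ Nat.card (fixSub genSubgroup []) at h0
  change 23 * Nat.card (fixSub genSubgroup [0, 23]) ≤ Nat.card (fixSub genSubgroup [23]) at h1
  change 22 * Nat.card (fixSub genSubgroup [1, 0, 23]) ≤ Nat.card (fixSub genSubgroup [0, 23]) at h2
  change 21 * Nat.card (fixSub genSubgroup [2, 1, 0, 23]) ≤ Nat.card (fixSub genSubgroup [1, 0, 23]) at h3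
  change 20 * Nat.card (fixSub genSubgroup [3, 2, 1, 0, 23]) ≤ Nat.card (fixSub genSubgroup [2, 1, 0, 23]) at h4
  change 16 * Nat.card (fixSub genSubgroup [4, 3, 2, 1, 0, 23]) ≤ Nat.card (fixSub genSubgroup [3, 2, 1, 0, 23]) at h5
  change 3 * Nat.card (fixSub genSubgroup [5, 4, 3, 2, 1, 0, 23]) ≤ Nat.card (fixSub genSubgroup [4, 3, 2, 1, 0, 23]) at h6
  change 1 ≤ Nat.card (fixSub genSubgroup [5, 4, 3, 2, 1, 0, 23]) at h7
  rw [fixSub_nil] at h0
  omega

/-- The order of `M24`. -/
theorem card_M24 : Nat.card M24 = 244823040 := by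
  have h1 := card_M24_le
  have h2 := card_genSubgroup_ge
  have h3 : Nat.card genSubgroup ≤ Nat.card M24 := Subgroup.card_le_of_le genSubgroup_le_M24
  omega

/-- `M24` is generated by `x ↦ x + 1`, `projInv` and `cubeTwist`. -/
theorem genSubgroup_eq_M24 : genSubgroup = M24 := by
  apply Subgroup.eq_of_le_of_card_ge genSubgroup_le_M24
  have h1 := card_M24_le
  have h2 := card_genSubgroup_ge
  omega

end Cfsg.Agent.Lib.H28
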