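/-
helper28 library: point stabilizers of M24 (orders), M24 = Aut(octads).
-/
import Mathlib
import Cfsg.Prelude.Def_Sporadic_a
import Cfsg.Agent.Lib.H28.M24Order

set_option autoImplicit false

namespace Cfsg.Agent.Lib.H28

open Cfsg
open scoped Pointwise

theorem injective_pair {α : Type*} {a b : α} (h : a ≠ b) : Function.Injective ![a, b] := by
  intro i j hij
  match i, j with
  | 0, 0 => rfl
  | 1, 1 => rfl
  | 0, 1 => exact absurd hij h
  | 1, 0 => exact absurd hij.symm h

theorem card_GolayPt : Fintype.card GolayPt = 24 := by decide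

theorem M24_isPretransitive : MulAction.IsPretransitive M24 GolayPt := by
  refine ⟨fun x y => ?_⟩
  obtain ⟨g, hg, h⟩ := exists_M24_map (n := 1) (by norm_num) (fun _ => x) (fun _ => y)
    (Function.injective_of_subsingleton _) (Function.injective_of_subsingleton _)
  exact ⟨⟨g, hg⟩, h 0⟩

/-- The stabilizer of a point in `M24` has order `10200960`. -/
theorem card_stabilizer_M24 (p : GolayPt) : Nat.card (MulAction.stabilizer M24 p) = 10200960 := by
  have h1 := Subgroup.card_eq_card_quotient_mul_card_subgroup (MulAction.stabilizer M24 p)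
  have h2 : Nat.card (M24 ⧸ MulAction.stabilizer M24 p) = Nat.card (MulAction.orbit M24 p) :=
    Nat.card_congr (MulAction.orbitEquivQuotientStabilizer M24 p).symm
  have h3 : MulAction.orbit M24 p = Set.univ := by
    have := M24_isPretransitive
    exact MulAction.orbit_eq_univ M24 p
  have h4 : Nat.card (MulAction.orbit M24 p) = 24 := by
    rw [h3, Nat.card_coe_set_eq, Set.ncard_univ, Nat.card_eq_fintype_card, card_GolayPt]
  rw [h2, h4, card_M24] at h1
  omega

/-- The stabilizer of two distinct points in `M24` has order `443520`. -/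
theorem card_stabilizer_two_M24 (p q : GolayPt) (hpq : p ≠ q) :
    Nat.card ↥(MulAction.stabilizer M24 p ⊓ MulAction.stabilizer M24 q) = 443520 := by
  have h1 := card_eq_orbit_mul_stab (G := M24) (MulAction.stabilizer M24 p) q
  have h2 : {y | ∃ h ∈ MulAction.stabilizer M24 p, h • q = y} = {y | y ≠ p} := by
    ext y
    simp only [Set.mem_ofPred_eq]
    constructor
    · rintro ⟨h, hh, rfl⟩ hcon
      rw [MulAction.mem_stabilizer_iff] at hh
      have : h • q = h • p := by rw [hcon, hh]
      exact hpq (MulAction.injective h this).symm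
    · intro hy
      obtain ⟨g, hg, hmap⟩ := exists_M24_map (n := 2) (by norm_num) ![p, q] ![p, y]
        (injective_pair hpq) (injective_pair (Ne.symm hy))
      refine ⟨⟨g, hg⟩, ?_, ?_⟩
      · rw [MulAction.mem_stabilizer_iff]
        exact hmap 0
      · exact hmap 1
  have h3 : {y : GolayPt | y ≠ p}.ncard = 23 := by
    have : {y : GolayPt | y ≠ p} = ((Finset.univ.erase p : Finset GolayPt) : Set GolayPt) := by
      ext y; simp
    rw [this, Set.ncard_coe_finset, Finset.card_erase_of_mem (Finset.mem_univ p), Finset.card_univ,
      card_GolayPt]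
  rw [h2, h3, card_stabilizer_M24] at h1
  omega

/-- `M24` is the full automorphism group of its octad system. -/
theorem M24_eq_setSystemAut_octads : M24 = setSystemAut octads := by
  ext g
  unfold setSystemAut
  have hfin : (octads : Set (Finset GolayPt)).Finite := Set.toFinite _
  rw [MulAction.mem_stabilizer_set_iff_smul_set_subset hfin]
  constructor
  · intro hg
    rintro b ⟨o, ho, rfl⟩
    exact smul_mem_octads hg ho
  · intro h
    apply mem_M24_of_forall
    intro c hc
    have key : golayCode ≤ Submodule.comap (permLin g) golayCode := by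
      conv_lhs => rw [← span_octads golayCode_isAbsGolay]
      rw [Submodule.span_le]
      rintro w ⟨hw, hw8⟩
      have ho : Cfsg.support₂ w ∈ octads := by
        refine ⟨⟨w, hw, rfl⟩, ?_⟩
        rw [← supp_eq_support₂, ← hammingNorm_eq_card_supp]
        exact hw8
      have h2 : g • Cfsg.support₂ w ∈ octads := h ⟨_, ho, rfl⟩
      rw [smul_support₂] at h2
      obtain ⟨⟨c', hc', hcc⟩, _⟩ := h2
      have : c' = w ∘ g.symm := support₂_injective hcc
      show w ∘ g.symm ∈ golayCode
      rw [← this]
      exact hc'
    exact key hc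

end Cfsg.Agent.Lib.H28
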