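/-
helper28 library: verified orbit computation on codeword masks (BFS certificates), transitivity of M24 on
dodecads, order of a dodecad stabilizer.
-/
import Mathlib
import Cfsg.Prelude.Def_Sporadic_a
import Cfsg.Agent.Lib.H28.M24Stab
import Cfsg.Agent.Lib.H28.GolayCount

set_option autoImplicit false

namespace Cfsg.Agent.Lib.H28

open Cfsg
open scoped Pointwise

/-! ### Verified orbit computation on codeword masks -/

/-- The codeword mask with systematic index `s`. -/
def comb (s : ℕ) : ℕ := xorL (sel basisMasks s)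

/-- One step of an orbit certificate: `e = (index of an already reached codeword, generator number)`. -/
def orbStep (tis : List (List ℕ)) (vis : ℕ) (e : ℕ × ℕ) : Option ℕ :=
  if vis.testBit e.1 then
    if comb (pullMask (tis.getD e.2 []) (comb e.1) % 4096) == pullMask (tis.getD e.2 []) (comb e.1) then
      some (vis ||| 2 ^ (pullMask (tis.getD e.2 []) (comb e.1) % 4096))
    else none
  else none

/-- Run an orbit certificate. -/
def orbRun (tis : List (List ℕ)) : ℕ → List (ℕ × ℕ) → Option ℕ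
  | vis, [] => some vis
  | vis, e :: es => match orbStep tis vis e with
    | some vis' => orbRun tis vis' es
    | none => none

/-- `m` is reachable from `m0` under the subgroup `K`: some element of `K` maps the word of `m0` to that of `m`. -/
def Reach (K : Subgroup (Equiv.Perm GolayPt)) (m0 m : ℕ) : Prop :=
  ∃ g ∈ K, W m0 ∘ g.symm = W m

theorem orbStep_sound (K : Subgroup (Equiv.Perm GolayPt)) (gs : List (Equiv.Perm GolayPt))
    (tis : List (List ℕ))
    (hK : ∀ g ∈ gs, g ∈ K)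
    (hti : ∀ i (hi : i < gs.length), ∀ p, gIdx ((gs[i]).symm p) = (tis.getD i []).getD (gIdx p) 0)
    (m0 : ℕ) {vis vis' : ℕ} {e : ℕ × ℕ} (he2 : e.2 < gs.length) (h : orbStep tis vis e = some vis')
    (hinv : ∀ s, vis.testBit s = true → Reach K m0 (comb s)) :
    ∀ s, vis'.testBit s = true → Reach K m0 (comb s) := by
  unfold orbStep at h
  split_ifs at h with h1 h2
  rw [Option.some.injEq] at h
  rw [beq_iff_eq] at h2
  intro s hs
  rw [← h, Nat.testBit_or, Bool.or_eq_true, Nat.testBit_two_pow, decide_eq_true_eq] at hs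
  rcases hs with hs | hs
  · exact hinv s hs
  · obtain ⟨g, hg, hgm⟩ := hinv e.1 h1
    rw [← hs, h2]
    refine ⟨gs[e.2] * g, K.mul_mem (hK _ (List.getElem_mem he2)) hg, ?_⟩
    rw [← W_comp_symm (gs[e.2]) (tis.getD e.2 []) (hti e.2 he2), ← hgm]
    rfl

theorem orbRun_sound (K : Subgroup (Equiv.Perm GolayPt)) (gs : List (Equiv.Perm GolayPt))
    (tis : List (List ℕ))
    (hK : ∀ g ∈ gs, g ∈ K)
    (hti : ∀ i (hi : i < gs.length), ∀ p, gIdx ((gs[i]).symm p) = (tis.getD i []).getD (gIdx p) 0)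
    (m0 : ℕ) : ∀ (es : List (ℕ × ℕ)) (vis vis' : ℕ), (∀ e ∈ es, e.2 < gs.length) →
      orbRun tis vis es = some vis' →
      (∀ s, vis.testBit s = true → Reach K m0 (comb s)) →
      ∀ s, vis'.testBit s = true → Reach K m0 (comb s) := by
  intro es
  induction es with
  | nil =>
    intro vis vis' _ h hinv
    simp only [orbRun, Option.some.injEq] at h
    rw [← h]; exact hinv
  | cons e es ih =>
    intro vis vis' hes h hinv
    unfold orbRun at h
    split at h
    · rename_i vis'' hstep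
      exact ih vis'' vis' (fun e' he' => hes e' (List.mem_cons_of_mem _ he')) h
        (orbStep_sound K gs tis hK hti m0 (hes e (by simp)) hstep hinv)
    · exact absurd h (by simp)

/-- Checker: run the certificate from `start` and test that all `targets` are reached. -/
def orbCheck (tis : List (List ℕ)) (start : ℕ) (cert : List (ℕ × ℕ)) (targets : List ℕ) : Bool :=
  comb (start % 4096) == start && cert.all (fun e => decide (e.2 < tis.length)) &&
  match orbRun tis (2 ^ (start % 4096)) cert with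
  | some V => targets.all (fun d => V.testBit (d % 4096) && comb (d % 4096) == d)
  | none => false

theorem orbCheck_sound (K : Subgroup (Equiv.Perm GolayPt)) (gs : List (Equiv.Perm GolayPt))
    (tis : List (List ℕ)) (hlen : gs.length = tis.length) (hK : ∀ g ∈ gs, g ∈ K)
    (hti : ∀ i (hi : i < gs.length), ∀ p, gIdx ((gs[i]).symm p) = (tis.getD i []).getD (gIdx p) 0)
    {start : ℕ} {cert : List (ℕ × ℕ)} {targets : List ℕ} (h : orbCheck tis start cert targets = true) :
    ∀ d ∈ targets, Reach K start d := by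
  unfold orbCheck at h
  rw [Bool.and_eq_true, Bool.and_eq_true, beq_iff_eq, List.all_eq_true] at h
  obtain ⟨⟨h1, h2⟩, h3⟩ := h
  split at h3
  · rename_i V hV
    rw [List.all_eq_true] at h3
    intro d hd
    have h4 := h3 d hd
    rw [Bool.and_eq_true, beq_iff_eq] at h4
    have := orbRun_sound K gs tis hK hti start cert _ V
      (fun e he => by
        have := h2 e he
        rw [decide_eq_true_eq] at this
        rw [hlen]; exact this) hV
      (fun s hs => by
        rw [Nat.testBit_two_pow, decide_eq_true_eq] at hs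
        rw [← hs, h1]
        exact ⟨1, K.one_mem, rfl⟩)
      (d % 4096) h4.1
    rw [h4.2] at this
    exact this
  · exact absurd h3 (by simp)

/-! ### Transitivity on dodecads -/

/-- The three generators and the index tables of their inverses. -/
noncomputable def m24Gens : List (Equiv.Perm GolayPt) := [permS, projInv, cubeTwist]

def m24Tis : List (List ℕ) := [tabSi, tabT, tabUi]

theorem m24Gens_mem : ∀ g ∈ m24Gens, g ∈ M24 := by
  intro g hg
  unfold m24Gens at hg
  simp only [List.mem_cons, List.not_mem_nil, or_false] at hg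
  rcases hg with rfl | rfl | rfl
  · exact permS_mem_M24
  · exact projInv_mem_M24
  · exact cubeTwist_mem_M24

theorem m24Tis_spec : ∀ i (hi : i < m24Gens.length), ∀ p,
    gIdx ((m24Gens[i]).symm p) = (m24Tis.getD i []).getD (gIdx p) 0 := by
  intro i hi p
  have hlen : m24Gens.length = 3 := rfl
  match i, hi with
  | 0, _ => exact tabSi_spec p
  | 1, _ => exact tabT_symm_spec p
  | 2, _ => exact tabUi_spec p
  | (n + 3), h => omega

/-- Mask of the dodecad of squares `{0,1,2,3,4,6,8,9,12,13,16,18}`. -/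
def dod0 : ℕ := 340831

set_option maxRecDepth 1000000 in
/-- BFS certificate for the orbit of `dod0` under the three generators. -/
def dodCert : List (ℕ × ℕ) := [(863, 0), (863, 1), (1726, 0), (1726, 1), (1726, 2), (3232, 0), (3452, 0), (3452, 1), (3452, 2), (2800, 0),
  (2800, 2), (2796, 0), (2796, 2), (2369, 0), (2369, 1), (2369, 2), (2808, 0), (2808, 1), (2808, 2), (2828, 0),
  (2828, 2), (1246, 0), (1246, 2), (1505, 0), (1505, 1), (1505, 2), (2614, 0), (2614, 2), (1497, 0), (1497, 1),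
  (1497, 2), (2426, 0), (2426, 2), (643, 0), (643, 1), (643, 2), (1295, 0), (1295, 2), (1299, 0), (1299, 2),
  (1520, 0), (1520, 1), (1520, 2), (1644, 0), (1644, 2), (302, 0), (302, 2), (1560, 0), (1560, 1), (1560, 2),
  (3160, 0), (3160, 2), (2492, 0), (2492, 1), (2492, 2), (2286, 0), (2286, 2), (3010, 0), (3010, 1), (3010, 2),
  (1616, 2), (2483, 0), (2483, 2), (1132, 0), (1132, 1), (1132, 2), (836, 0), (836, 2), (2995, 0), (2995, 1),
  (2995, 2), (194, 0), (194, 2), (959, 0), (959, 2), (756, 0), (756, 1), (1294, 0), (1287, 0), (1287, 1), (1287,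
  2), (1267, 0), (1267, 2), (2849, 0), (2849, 2), (2590, 0), (2590, 1), (2590, 2), (1481, 0), (1481, 2), (2598,
  0), (2598, 1), (2598, 2), (1669, 0), (1669, 2), (3041, 0), (3041, 1), (3041, 2), (1938, 0), (1938, 2), (4006,
  0), (4006, 2), (3288, 0), (3288, 1), (3018, 0), (3018, 2), (605, 0), (605, 1), (605, 2), (1864, 0), (1864, 2),
  (3120, 0), (3120, 1), (3120, 2), (1400, 2), (3484, 0), (3484, 2), (2225, 0), (2225, 1), (2225, 2), (2958, 0),
  (2958, 2), (889, 0), (889, 1), (889, 2), (3862, 0), (3862, 2), (3196, 0), (3196, 2), (477, 0), (477, 2),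
  (1658, 0), (1658, 2), (1924, 0), (1924, 1), (508, 0), (508, 2), (3634, 0), (3634, 2), (1686, 0), (1686, 2),
  (871, 0), (871, 1), (871, 2), (2597, 0), (2597, 2), (2265, 0), (2265, 1), (2265, 2), (3978, 0), (3978, 2),
  (1994, 0), (1994, 2), (1673, 0), (1673, 1), (1673, 2), (3410, 0), (1894, 0), (1894, 1), (1894, 2), (996, 0),
  (996, 2), (1573, 0), (1573, 2), (388, 0), (388, 1), (388, 2), (3618, 0), (3618, 2), (1919, 0), (1919, 1),
  (1919, 2), (109, 0), (109, 2), (1513, 0), (1513, 1), (1513, 2), (2986, 0), (2589, 0), (2589, 1), (2589, 2),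
  (2575, 0), (2575, 1), (2575, 2), (2451, 0), (2451, 2), (3793, 2), (2535, 0), (2535, 1), (2535, 2), (935, 0),
  (935, 2), (1603, 0), (1603, 1), (1603, 2), (1809, 2), (1085, 0), (1085, 1), (1085, 2), (2479, 2), (1612, 0),
  (1612, 2), (2963, 0), (2963, 1), (2963, 2), (3259, 2), (1100, 0), (1100, 1), (1100, 2), (3901, 0), (3136, 0),
  (3136, 2), (3339, 0), (3339, 1), (1986, 0), (1986, 1), (692, 0), (692, 2), (2611, 0), (2611, 2), (3876, 0),
  (3876, 1), (3876, 2), (3748, 0), (3748, 2), (3916, 0), (3916, 1), (3916, 2), (736, 0), (736, 2), (2481, 0),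
  (2481, 1), (2481, 2), (1941, 0), (1941, 1), (1941, 2), (1322, 0), (1322, 2), (1211, 0), (1211, 1), (1211, 2),
  (3490, 0), (3490, 2), (1615, 0), (1615, 2), (3729, 0), (3729, 1), (3729, 2), (1178, 0), (1178, 2), (2145, 0),
  (2145, 1), (2006, 2), (3732, 0), (3732, 2), (2446, 0), (2446, 2), (2873, 0), (2873, 1), (2873, 2), (2028, 0),
  (2028, 2), (354, 0), (354, 1), (354, 2), (1940, 0), (1940, 2), (3893, 0), (3893, 2), (1821, 0), (1821, 1),
  (1821, 2), (616, 0), (616, 2), (1778, 0), (1778, 1), (1778, 2), (624, 0), (624, 2), (2335, 0), (2335, 2),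
  (3628, 2), (3780, 0), (3780, 2), (2296, 0), (2296, 1), (2296, 2), (718, 0), (954, 0), (367, 0), (367, 2),
  (3316, 0), (3316, 1), (3316, 2), (158, 0), (3848, 0), (3848, 1), (3848, 2), (3424, 0), (1017, 0), (1017, 1),
  (1017, 2), (1646, 0), (1646, 2), (3173, 1), (3173, 2), (404, 0), (404, 2), (3373, 0), (3373, 1), (3373, 2),
  (4068, 0), (4068, 2), (1743, 0), (1743, 1), (1743, 2), (2610, 0), (2610, 2), (2387, 0), (2387, 2), (1098, 0),
  (1098, 1), (1098, 2), (1617, 0), (1617, 2), (434, 0), (434, 1), (1180, 0), (1180, 2), (2607, 0), (3860, 0),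
  (3860, 1), (3860, 2), (184, 0), (184, 2), (3988, 0), (3988, 1), (3988, 2), (2730, 0), (2730, 2), (3347, 0),
  (3347, 1), (3347, 2), (1506, 0), (1506, 2), (1721, 0), (1721, 2), (2725, 0), (2725, 1), (2725, 2), (3788, 0),
  (3788, 1), (3788, 2), (2856, 2), (1474, 0), (1474, 2), (1993, 1), (1993, 2), (3698, 0), (3698, 2), (3147, 0),
  (3147, 1), (3147, 2), (2513, 0), (2513, 2), (777, 0), (777, 1), (777, 2), (3355, 2), (3184, 0), (3184, 2),
  (3141, 0), (3141, 2), (3728, 0), (3728, 2), (3838, 0), (3838, 1), (3838, 2), (2616, 2), (2255, 0), (2255, 2),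
  (218, 0), (218, 2), (2907, 2), (3027, 0), (3027, 1), (3027, 2), (1666, 0), (1666, 2), (683, 0), (1876, 0),
  (1876, 1), (1083, 0), (1083, 1), (2422, 0), (2422, 2), (3165, 0), (3165, 2), (1054, 0), (1054, 1), (1054, 2),
  (2157, 0), (2157, 2), (89, 0), (89, 2), (807, 0), (807, 1), (1077, 0), (1077, 2), (2231, 0), (2231, 2), (975,
  0), (975, 1), (975, 2), (2695, 2), (611, 0), (611, 2), (1870, 0), (1870, 1), (1870, 2), (1137, 0), (1137, 2),
  (3206, 0), (3206, 1), (3206, 2), (233, 2), (899, 0), (899, 2), (2437, 0), (2437, 2), (2171, 0), (2171, 1),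
  (3587, 0), (3587, 2), (461, 0), (461, 2), (2409, 0), (2409, 2), (3224, 0), (3224, 2), (1498, 0), (1498, 2),
  (1830, 0), (1830, 1), (1830, 2), (117, 0), (117, 2), (2101, 0), (2101, 2), (685, 0), (2201, 0), (2201, 1),
  (2201, 2), (3099, 0), (3099, 2), (2522, 0), (2522, 2), (3707, 0), (3707, 1), (3707, 2), (2176, 0), (2176, 1),
  (2176, 2), (3986, 0), (3986, 2), (2582, 0), (2582, 1), (2582, 2), (1109, 0), (3973, 0), (3973, 1), (3973, 2),
  (106, 0), (1384, 0), (1384, 1), (1384, 2), (1908, 0), (1908, 2), (1126, 0), (1126, 1), (1126, 2), (3333, 0),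
  (3333, 2), (3657, 0), (3657, 1), (3657, 2), (3280, 0), (3280, 2), (3401, 0), (3401, 1), (3401, 2), (2032, 0),
  (2032, 2), (3737, 0), (3737, 1), (3737, 2), (2110, 0), (2110, 2), (2506, 0), (2506, 2), (1472, 0), (1472, 1),
  (1472, 2), (3890, 0), (866, 0), (866, 1), (866, 2), (604, 0), (604, 2), (2341, 0), (2341, 2), (3883, 0),
  (3883, 1), (3883, 2), (3234, 0), (3234, 2), (997, 2), (2644, 0), (2644, 2), (1432, 0), (1432, 2), (2423, 0),
  (2423, 1), (2423, 2), (538, 2), (2221, 2), (2884, 0), (2884, 2), (2480, 0), (2480, 2), (3230, 0), (3230, 1),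
  (3230, 2), (4043, 0), (4043, 2), (3363, 0), (3363, 1), (3363, 2), (1150, 0), (1150, 2), (2213, 0), (2213, 2),
  (2356, 1), (4012, 0), (195, 0), (195, 1), (195, 2), (2534, 0), (2534, 2), (3369, 0), (3369, 1), (3369, 2),
  (1764, 0), (1764, 2), (796, 0), (796, 1), (796, 2), (3688, 2), (1650, 0), (1650, 1), (1650, 2), (1700, 0),
  (1700, 2), (781, 2), (4056, 0), (4056, 1), (234, 0), (234, 2), (708, 1), (728, 0), (728, 2), (2834, 2), (3880,
  0), (3880, 1), (3880, 2), (2804, 0), (2804, 2), (3690, 0), (3690, 1), (3690, 2), (2757, 0), (2757, 2), (3642,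
  0), (3642, 1), (3642, 2), (3368, 0), (1485, 0), (1485, 2), (1233, 1), (1233, 2), (2330, 0), (3557, 2), (994,
  0), (994, 2), (1718, 0), (1718, 2), (1248, 0), (1248, 1), (1248, 2), (3334, 0), (3334, 2), (575, 0), (575, 1),
  (575, 2), (1357, 0), (1357, 2), (472, 0), (472, 2), (3464, 0), (3464, 1), (3464, 2), (497, 2), (798, 0), (798,
  2), (3374, 2), (1437, 0), (1437, 1), (1437, 2), (1909, 0), (1909, 1), (1909, 2), (735, 0), (735, 1), (735, 2),
  (3659, 0), (3659, 2), (2537, 0), (2537, 1), (2537, 2), (3918, 2), (1254, 0), (1254, 2), (317, 0), (317, 1),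
  (3601, 0), (3601, 1), (3601, 2), (510, 0), (510, 2), (3720, 0), (3720, 2), (2752, 0), (2752, 2), (2034, 0),
  (2034, 1), (2034, 2), (808, 2), (1071, 0), (3293, 1), (3293, 2), (2250, 2), (4052, 0), (4052, 2), (4035, 2),
  (809, 0), (809, 1), (809, 2), (884, 0), (884, 2), (2650, 0), (2650, 1), (2650, 2), (2693, 0), (2693, 2), (729,
  0), (729, 2), (4040, 0), (4040, 1), (4040, 2), (498, 2), (3486, 0), (3486, 1), (3486, 2), (2280, 0), (2280,
  2), (763, 0), (763, 2), (1125, 0), (1125, 1), (1125, 2), (1044, 2), (678, 1), (678, 2), (2327, 0), (2327, 2),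
  (2197, 0), (2197, 1), (2197, 2), (346, 0), (346, 2), (3466, 0), (3466, 2), (3235, 0), (3235, 1), (3235, 2),
  (3975, 0), (869, 0), (869, 1), (1562, 0), (2360, 2), (3068, 0), (1118, 0), (1118, 1), (1118, 2), (3625, 0),
  (3625, 2), (3446, 2), (3524, 0), (369, 1), (369, 2), (1852, 0), (1852, 2), (3881, 0), (3881, 1), (3881, 2),
  (3118, 0), (3118, 2), (244, 0), (244, 2), (1364, 0), (1364, 2), (3384, 0), (3384, 2), (2599, 0), (2599, 1),
  (2599, 2), (342, 2), (3205, 0), (3205, 2), (3012, 0), (3012, 1), (3012, 2), (930, 0), (930, 2), (3443, 0),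
  (3443, 1), (3443, 2), (1965, 0), (1354, 0), (1354, 1), (3772, 0), (3772, 2), (2913, 0), (2913, 2), (3481, 0),
  (3481, 1), (3481, 2), (3246, 2), (746, 2), (1304, 0), (1304, 2), (2948, 0), (3506, 0), (3506, 2), (97, 2),
  (187, 0), (3300, 0), (3300, 1), (3300, 2), (390, 0), (390, 2), (2199, 2), (470, 0), (470, 2), (3739, 0),
  (3739, 2), (931, 0), (931, 1), (931, 2), (1831, 0), (1831, 2), (1555, 0), (1555, 1), (1555, 2), (1147, 0),
  (1147, 2), (2073, 0), (2073, 2), (1949, 2), (2272, 0), (2272, 1), (2272, 2), (3718, 0), (3718, 2), (2186, 0),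
  (2186, 1), (467, 2), (3360, 0), (3360, 1), (3360, 2), (436, 0), (436, 2), (3580, 0), (3580, 2), (3620, 0),
  (254, 2), (3084, 2), (414, 0), (414, 1), (414, 2), (379, 0), (379, 2), (437, 0), (437, 1), (437, 2), (2622,
  0), (3599, 0), (1959, 1), (62, 0), (62, 2), (2087, 0), (2087, 2), (3332, 0), (3332, 1), (3332, 2), (1366, 0),
  (1366, 1), (1366, 2), (3753, 2), (2167, 0), (2167, 1), (2167, 2), (748, 2), (2374, 2), (2235, 0), (2235, 1),
  (2235, 2), (1487, 0), (1487, 2), (2109, 0), (2109, 1), (3403, 0), (3403, 2), (1484, 0), (1484, 2), (219, 0),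
  (219, 1), (219, 2), (347, 2), (179, 0), (179, 1), (179, 2), (3359, 0), (3359, 2), (1614, 0), (1614, 1), (1614,
  2), (2154, 1), (2154, 2), (2773, 0), (2773, 2), (366, 0), (366, 2), (2917, 0), (2917, 2), (1950, 0), (1950,
  1), (2089, 2), (363, 0), (363, 2), (1649, 0), (1649, 2), (1222, 0), (1222, 1), (1222, 2), (2067, 0), (2067,
  2), (3741, 0), (3741, 1), (3741, 2), (2155, 2), (202, 0), (202, 2), (2274, 0), (2274, 1), (3479, 2), (2317,
  1), (2317, 2), (3471, 0), (3471, 2), (315, 0), (315, 2), (1799, 1), (1799, 2), (779, 0), (779, 1), (779, 2),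
  (247, 0), (247, 1), (671, 0), (3078, 0), (3078, 1), (3078, 2), (2449, 0), (2449, 2), (922, 1), (922, 2),
  (3691, 0), (3691, 2), (722, 0), (722, 1), (722, 2), (27, 0), (27, 2), (2352, 0), (2352, 1), (1708, 0), (1708,
  2), (2997, 0), (2997, 1), (2997, 2), (2478, 0), (2478, 2), (3661, 0), (3661, 1), (2915, 0), (2915, 2), (1488,
  0), (235, 1), (235, 2), (3911, 0), (3911, 2), (107, 0), (107, 1), (107, 2), (1365, 0), (1365, 2), (1370, 0),
  (1370, 1), (1370, 2), (307, 0), (307, 1), (307, 2), (1239, 2), (2621, 2), (2102, 1), (2102, 2), (397, 0),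
  (948, 0), (948, 2), (1582, 0), (1582, 2), (3318, 0), (3318, 2), (740, 2), (911, 0), (911, 2), (257, 0), (257,
  1), (257, 2), (1479, 2), (1840, 0), (1840, 2), (3877, 0), (3877, 2), (1188, 2), (1068, 0), (1068, 1), (1068,
  2), (2429, 2), (3412, 0), (2219, 1), (3850, 0), (3850, 1), (3564, 0), (3564, 2), (1761, 0), (213, 0), (213,
  1), (213, 2), (2768, 0), (2768, 1), (2768, 2), (969, 2), (1674, 2), (3817, 0), (3817, 1), (3817, 2), (2502,
  2), (2253, 1), (2962, 0), (2962, 2), (4050, 0), (4050, 2), (2571, 0), (2571, 1), (2001, 0), (2001, 2), (3219,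
  0), (3219, 1), (3219, 2), (110, 0), (110, 2), (411, 2), (2464, 0), (2464, 1), (2464, 2), (3494, 2), (2706, 0),
  (2706, 1), (2706, 2), (212, 0), (212, 2), (2955, 2), (4064, 1), (4064, 2), (934, 0), (3378, 0), (3378, 1),
  (1196, 0), (1196, 2), (957, 0), (957, 2), (124, 0), (124, 1), (124, 2), (1116, 0), (1116, 2), (916, 0), (916,
  1), (916, 2), (2346, 0), (2346, 2), (2945, 2), (466, 0), (466, 2), (3762, 0), (3762, 2), (3685, 0), (3685, 1),
  (3685, 2), (1733, 1), (1733, 2), (1962, 0), (1208, 0), (1208, 1), (1208, 2), (3934, 2), (587, 0), (587, 1),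
  (3137, 0), (3137, 2), (3671, 1), (3671, 2), (694, 0), (694, 2), (2697, 0), (2697, 2), (2372, 2), (4000, 0),
  (4000, 2), (1891, 0), (1891, 2), (3654, 0), (2865, 0), (2865, 1), (2865, 2), (751, 1), (751, 2), (3598, 2),
  (87, 0), (87, 2), (2844, 0), (3193, 0), (3193, 2), (1672, 0), (865, 0), (865, 1), (865, 2), (52, 0), (52, 2),
  (2364, 0), (2364, 2), (2188, 0), (2188, 2), (764, 0), (764, 2), (3990, 0), (3990, 1), (3990, 2), (2491, 0),
  (2631, 0), (2631, 1), (2631, 2), (1814, 0), (1814, 2), (2300, 0), (2300, 2), (3022, 0), (3022, 2), (331, 0),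
  (331, 1), (331, 2), (1889, 0), (3928, 0), (3928, 1), (391, 0), (391, 1), (391, 2), (458, 0), (458, 2), (1843,
  0), (1843, 2), (972, 0), (972, 1), (972, 2), (2930, 2), (2643, 1), (2643, 2), (782, 2), (3529, 1), (3529, 2),
  (3554, 0), (1593, 0), (1593, 2), (3122, 0), (3122, 2), (2396, 0), (1690, 0), (1690, 2), (3301, 1), (3301, 2),
  (698, 2), (2950, 0), (2950, 2), (3400, 0), (3400, 1), (3400, 2), (3568, 0), (3568, 2), (3913, 0), (4016, 0),
  (4016, 1), (4016, 2), (1340, 0), (469, 0), (469, 1), (469, 2), (2858, 0), (3562, 0), (1457, 1), (1457, 2),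
  (1342, 0), (1342, 2), (3092, 0), (3092, 2), (3665, 2), (623, 2), (152, 0), (152, 2), (1512, 1), (1512, 2),
  (3430, 0), (3430, 2), (3285, 0), (3285, 1), (3285, 2), (806, 0), (806, 2), (1434, 0), (1419, 0), (1419, 1),
  (1419, 2), (1379, 0), (1379, 2), (3188, 0), (3188, 1), (3188, 2), (1724, 0), (2700, 2), (2640, 0), (2640, 1),
  (2640, 2), (2970, 1), (2970, 2), (3051, 2), (1496, 0), (1496, 2), (3767, 0), (3767, 2), (565, 0), (565, 1),
  (565, 2), (1251, 0), (1989, 2), (2594, 0), (3437, 0), (3437, 1), (3437, 2), (2497, 1), (2497, 2), (1931, 2),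
  (2573, 0), (2573, 1), (2573, 2), (3520, 0), (3520, 2), (1151, 1), (2738, 0), (2738, 2), (2893, 2), (2714, 1),
  (2714, 2), (1755, 0), (1755, 2), (944, 1), (3886, 0), (3886, 2), (2832, 0), (1492, 0), (1492, 2), (4024, 0),
  (4024, 2), (823, 2), (1596, 1), (1596, 2), (2652, 0), (2652, 2), (2248, 0), (2248, 2), (2875, 0), (2875, 1),
  (2875, 2), (2306, 0), (2306, 2), (1277, 0), (1277, 2), (3818, 1), (3818, 2), (3616, 2), (215, 2), (1470, 0),
  (1470, 1), (1470, 2), (2096, 2), (2175, 2), (3222, 0), (3222, 2), (667, 0), (978, 1), (1812, 2), (3371, 0),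
  (2762, 2), (2509, 0), (2509, 1), (738, 0), (635, 0), (635, 1), (635, 2), (3778, 0), (3107, 0), (3107, 1),
  (1318, 0), (1318, 2), (1020, 0), (1020, 2), (1390, 0), (1390, 2), (3345, 1), (1448, 0), (1409, 0), (1409, 1),
  (1409, 2), (4069, 1), (4069, 2), (1578, 0), (1578, 2), (166, 2), (3864, 0), (2142, 2), (3898, 0), (3898, 2),
  (4008, 0), (4008, 2), (230, 2), (675, 0), (675, 2), (1619, 0), (1619, 1), (1619, 2), (2026, 2), (1545, 0),
  (1769, 0), (1205, 0), (1205, 1), (1205, 2), (111, 0), (111, 2), (270, 0), (1290, 0), (1290, 1), (1290, 2),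
  (1393, 0), (1393, 2), (1458, 1), (1458, 2), (3119, 0), (3984, 0), (3984, 2), (237, 0), (237, 2), (938, 0),
  (938, 2), (2876, 0), (2876, 2), (3396, 2), (1260, 0), (465, 1), (1527, 0), (1527, 2), (319, 2), (2251, 2),
  (2891, 2), (1475, 2), (3540, 0), (3540, 2), (2810, 0), (2928, 2), (558, 2), (3669, 0), (299, 1), (299, 2),
  (3470, 2), (1653, 0), (693, 0), (693, 1), (286, 0), (286, 2), (2837, 1), (2837, 2), (2375, 0), (2375, 1),
  (902, 2), (1713, 0), (1713, 2), (3855, 0), (3855, 1), (1738, 1), (1738, 2), (3125, 1), (1564, 0), (2041, 1),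
  (2041, 2), (2236, 1), (2236, 2), (3328, 0), (3328, 2), (1502, 0), (3154, 1), (3154, 2), (3993, 2), (3270, 0),
  (2953, 1), (2000, 2), (3591, 2), (3705, 2), (716, 2), (3666, 1), (1660, 0), (1660, 2), (2140, 2), (3800, 0),
  (3800, 2), (488, 0), (2918, 0), (2918, 2), (2728, 1), (2728, 2), (3030, 2), (2672, 0), (2672, 2), (924, 0),
  (1103, 0), (1103, 1), (1103, 2), (2862, 2), (1361, 0), (1361, 2), (3414, 0), (2315, 1), (2315, 2), (3313, 0),
  (3313, 2), (1928, 1), (1928, 2), (3261, 2), (2658, 2), (1860, 0), (1860, 2), (2608, 0), (2790, 1), (647, 2),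
  (3930, 0), (3930, 2), (2709, 2), (3448, 2), (1004, 2), (1730, 0), (1730, 1), (1046, 2), (2477, 0), (2477, 2),
  (1000, 2), (1834, 2), (2609, 0), (2609, 1), (2609, 2), (1932, 0), (1932, 2), (1801, 0), (1801, 1), (2916, 0),
  (2916, 2), (1716, 0), (375, 0), (375, 2), (2505, 0), (2505, 1), (2505, 2), (2719, 2), (3042, 2), (780, 2),
  (3952, 0), (3952, 2), (1397, 0), (941, 1), (941, 2), (102, 2), (3383, 1), (1863, 0), (1863, 1), (682, 2),
  (801, 0), (3662, 2), (3265, 0), (3111, 1), (3111, 2), (1395, 2), (3221, 0), (3221, 2), (2294, 0), (2294, 1),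
  (1423, 0), (1423, 2), (51, 1), (51, 2), (1805, 0), (1805, 2), (2301, 0), (2301, 2), (448, 0), (448, 1), (448,
  2), (1565, 2), (2354, 0), (2354, 2), (3340, 0), (3340, 1), (277, 1), (3623, 0), (3623, 2), (2625, 0), (2625,
  1), (2625, 2), (1999, 2), (1920, 2), (873, 0), (873, 1), (873, 2), (3064, 2), (3145, 0), (3145, 1), (3145, 2),
  (968, 0), (968, 2), (3282, 0), (3282, 2), (2924, 0), (2924, 2), (758, 0), (1567, 0), (1567, 2), (874, 2),
  (3912, 2), (1149, 0), (1149, 1), (3102, 1), (3102, 2), (3624, 0), (125, 0), (125, 1), (125, 2), (3676, 0),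
  (3676, 2), (78, 0), (78, 1), (2385, 2), (2568, 0), (2568, 2), (3776, 2), (2733, 1), (2733, 2), (2074, 0),
  (2074, 2), (2262, 0), (2262, 2), (681, 0), (3014, 0), (3014, 2), (1607, 2), (890, 0), (2130, 0), (374, 0),
  (374, 1), (374, 2), (908, 0), (908, 2), (1837, 0), (2283, 2), (122, 0), (122, 1), (122, 2), (3989, 0), (2711,
  1), (2711, 2), (2969, 0), (2969, 1), (2969, 2), (762, 0), (762, 2), (438, 0), (438, 1), (438, 2), (815, 0),
  (815, 2), (2063, 0), (2063, 2), (358, 0), (358, 2), (1985, 0), (1985, 2), (1589, 0), (1589, 2), (2623, 2),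
  (205, 0), (3229, 0), (3229, 1), (3229, 2), (3491, 0), (3491, 2), (1754, 0), (861, 2), (3098, 2), (1451, 0),
  (1451, 2), (2663, 2), (732, 0), (1882, 0), (1882, 2), (1739, 1), (83, 0), (3900, 0), (3900, 1), (1561, 0),
  (1561, 2), (726, 0), (726, 2), (2331, 0), (3299, 1), (3299, 2), (407, 2), (2445, 0), (2445, 1), (2445, 2),
  (2395, 0), (2395, 2), (3314, 2), (39, 0), (39, 1), (3861, 0), (3861, 2), (3387, 1), (3367, 2), (1261, 2),
  (1291, 2), (405, 1), (405, 2), (1338, 0), (1338, 2), (453, 0), (453, 1), (727, 0), (1765, 0), (3101, 0),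
  (3101, 2), (2377, 0), (2377, 2), (2847, 0), (2847, 1), (2847, 2), (761, 0), (631, 0), (631, 1), (631, 2),
  (3297, 0), (3297, 2), (721, 2), (1558, 0), (1558, 2), (177, 2), (2841, 0), (2841, 2), (494, 0), (494, 1),
  (494, 2), (3585, 0), (1343, 2), (2061, 0), (2061, 1), (2061, 2), (3287, 2), (802, 1), (802, 2), (1845, 2),
  (60, 2), (3286, 0), (3286, 2), (3211, 2), (1445, 0), (1445, 2), (1402, 0), (1402, 2), (3366, 0), (55, 1),
  (609, 0), (609, 2), (3417, 1), (3417, 2), (1768, 0), (1768, 2), (1898, 1), (1898, 2), (3749, 0), (629, 0),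
  (629, 2), (860, 0), (860, 2), (120, 0), (3226, 0), (3226, 1), (1027, 0), (2977, 0), (2977, 1), (2977, 2),
  (649, 2), (571, 0), (3726, 1), (2243, 2), (214, 0), (977, 0), (977, 2), (3851, 0), (3851, 2), (2731, 0),
  (2731, 2), (711, 2), (2741, 1), (1182, 0), (614, 0), (614, 1), (849, 2), (3349, 2), (2791, 2), (589, 0), (589,
  2), (3998, 2), (795, 0), (795, 1), (795, 2), (1896, 2), (356, 0), (356, 2), (3164, 0), (3164, 1), (3164, 2),
  (2264, 0), (2264, 2), (2540, 0), (2146, 2), (1823, 0), (1823, 1), (377, 2), (515, 0), (515, 2), (475, 0),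
  (3841, 2), (1011, 2), (3681, 1), (3681, 2), (3716, 0), (3716, 2), (3658, 1), (3658, 2), (1473, 0), (496, 0),
  (4033, 0), (4033, 2), (2008, 0), (2008, 2), (2729, 0), (2729, 2), (3604, 1), (3032, 2), (3523, 1), (3523, 2),
  (427, 0), (427, 1), (3175, 2), (1441, 0), (1441, 2), (1327, 2), (1062, 0), (1062, 2), (1339, 2), (3240, 0),
  (3240, 2), (3539, 0), (3539, 1), (3539, 2), (679, 0), (699, 2), (1378, 0), (1378, 2), (292, 0), (292, 2),
  (4004, 2), (1206, 0), (1206, 2), (4003, 0), (4003, 1), (4003, 2), (1191, 0), (2343, 0), (2343, 1), (2343, 2),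
  (1478, 0), (1957, 0), (1957, 2), (330, 0), (1325, 0), (833, 1), (926, 2), (3888, 0), (3888, 2), (3808, 0),
  (1317, 1), (1317, 2), (424, 1), (1398, 0), (1398, 2), (3113, 0), (3113, 2), (942, 0), (1869, 1), (1748, 0),
  (2392, 0), (2392, 1), (1914, 0), (1914, 1), (1914, 2), (249, 0), (3922, 2), (2233, 0), (2233, 1), (2233, 2),
  (1758, 0), (1758, 2), (1832, 0), (1832, 1), (1832, 2), (3512, 2), (3956, 2), (597, 0), (597, 1), (597, 2),
  (2584, 2), (1073, 0), (1846, 0), (1846, 2), (3429, 1), (3429, 2), (3236, 0), (3236, 2), (3275, 0), (3275, 1),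
  (2726, 0), (2726, 2), (963, 0), (2787, 2), (3925, 0), (2417, 0), (2417, 1), (700, 0), (1486, 0), (1486, 2),
  (1175, 0), (2179, 1), (2179, 2), (1667, 2), (1389, 0), (1140, 2), (2361, 0), (2361, 2), (3904, 0), (3904, 1),
  (3904, 2), (1712, 0), (1712, 2), (3782, 0), (3782, 1), (3782, 2), (2947, 2), (3213, 2), (1635, 1), (1635, 2),
  (1654, 0), (2069, 2), (3696, 2), (3272, 2), (174, 2), (599, 0), (2290, 0), (3215, 2), (3344, 1), (3344, 2),
  (1731, 0), (1731, 2), (1907, 0), (1907, 2), (3331, 0), (105, 0), (105, 1), (105, 2), (1604, 0), (633, 0),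
  (281, 0), (281, 1), (281, 2), (2936, 2), (1528, 1), (1528, 2), (3198, 2), (3884, 0), (3884, 1), (3884, 2),
  (2276, 0), (2276, 2), (886, 0), (1166, 0), (1166, 1), (2292, 0), (2899, 0), (2899, 2), (3629, 0), (3629, 2),
  (1220, 0), (504, 0), (504, 2), (2686, 0), (634, 0), (1416, 0), (3779, 0), (3779, 1), (3779, 2), (3522, 0),
  (3522, 2), (917, 0), (917, 1), (917, 2), (810, 0), (810, 2), (3687, 0), (3687, 1), (1173, 2), (2938, 0),
  (2938, 2), (1198, 0), (1198, 2), (775, 0), (775, 2), (1368, 0), (396, 0), (1723, 2), (3013, 1), (3013, 2),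
  (3187, 0), (2717, 2), (2148, 0), (2148, 1), (2148, 2), (3381, 0), (3381, 1), (940, 0), (3724, 2), (755, 0),
  (1804, 0), (2416, 2), (2705, 0), (2705, 2), (1223, 2), (666, 2), (3731, 1), (3731, 2), (1588, 2), (2484, 0),
  (2484, 2), (2680, 0), (939, 0), (939, 1), (939, 2), (1620, 1), (1620, 2), (3028, 0), (3028, 2), (2685, 0),
  (2685, 2), (3532, 0), (2088, 1), (1415, 0), (305, 1), (305, 2), (657, 0), (2764, 0), (2764, 1), (962, 0),
  (962, 2), (2252, 0), (2252, 2), (1613, 0), (1613, 1), (2868, 0), (2839, 0), (2839, 1), (402, 0), (402, 2),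
  (2759, 0), (1923, 0), (3606, 2), (2518, 2), (1185, 1), (2326, 0), (2620, 0), (2620, 2), (555, 0), (555, 2),
  (2992, 0), (2992, 2), (2734, 0), (2734, 2), (3439, 2), (741, 0), (1131, 1), (1131, 2), (853, 0), (1093, 1),
  (2779, 0), (2779, 1), (2766, 2), (1111, 2), (937, 0), (1051, 0), (3239, 2), (857, 2), (2944, 1), (1202, 2),
  (1381, 0), (1381, 1), (2340, 0), (2340, 2), (1371, 0), (380, 2), (3116, 0), (3511, 0), (3511, 2), (3677, 2),
  (1568, 1), (1568, 2), (1766, 2), (3953, 1), (684, 0), (1605, 0), (1244, 0), (1209, 0), (1209, 1), (1209, 2),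
  (1374, 2), (401, 0), (3130, 0), (3130, 2), (1655, 1), (516, 0), (516, 1), (516, 2), (3856, 2), (3311, 0),
  (2218, 2), (3472, 2), (3943, 2), (2941, 0), (2941, 1), (2634, 2), (252, 0), (252, 2), (2836, 0), (2836, 2),
  (2349, 1), (2532, 2), (1334, 1), (178, 0), (2646, 1), (2646, 2), (923, 1), (1477, 1), (1477, 2), (1271, 1),
  (882, 2), (3087, 0), (734, 0), (2512, 0), (2040, 0), (2670, 2), (2780, 0), (2780, 2), (1436, 0), (2897, 2),
  (2819, 0), (3638, 2), (3157, 1), (3157, 2), (3976, 0), (3976, 2), (1904, 2), (3633, 1), (2654, 0), (2654, 2),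
  (3700, 0), (3700, 2), (3921, 2), (1890, 0), (1351, 1), (1329, 0), (1329, 2), (1336, 0), (1336, 2), (1210, 0),
  (2410, 1), (2410, 2), (2021, 0), (223, 0), (223, 1), (541, 0), (541, 1), (2580, 2), (2786, 0), (787, 0), (787,
  2), (3252, 0), (2143, 0), (2143, 1), (3872, 0), (3872, 1), (474, 0), (1643, 2), (1877, 1), (1877, 2), (296,
  0), (3794, 0), (2521, 0), (2521, 1), (349, 2), (1579, 0), (267, 0), (1187, 2), (2985, 2), (3302, 0), (1525,
  2), (278, 0), (3416, 0), (3243, 0), (3243, 1), (1618, 0), (1618, 2), (1387, 0), (1387, 1), (573, 0), (573, 2),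
  (655, 1), (655, 2), (2126, 0), (880, 2), (3426, 1), (3614, 0), (2220, 0), (1392, 0), (3129, 1), (431, 0),
  (2782, 0), (2561, 1), (3510, 2), (3777, 0), (3777, 2), (143, 2), (3320, 0), (2398, 2), (2750, 2), (1741, 1),
  (1014, 2), (1638, 0), (1249, 1), (1849, 0), (2207, 1), (3266, 2), (971, 0), (971, 2), (328, 0), (328, 2),
  (2722, 0), (2722, 1), (1431, 0), (348, 0), (3353, 2), (2531, 2), (2727, 0), (1081, 2), (2488, 2), (1789, 0),
  (2818, 0), (3721, 0), (3721, 1), (2258, 0), (2258, 2), (1120, 0), (910, 0), (910, 2), (3461, 0), (3796, 2),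
  (858, 2), (570, 2), (2456, 0), (1123, 0), (1123, 1), (1123, 2), (958, 0), (958, 2), (3865, 2), (3816, 0),
  (3603, 0), (1736, 1), (1736, 2), (2370, 0), (2370, 2), (3432, 0), (914, 2), (1157, 0), (1157, 2), (621, 2),
  (3809, 2), (2795, 1), (3897, 2), (3727, 1), (3242, 0), (2901, 0), (2901, 2), (3281, 2), (2347, 0), (1013, 2),
  (492, 0), (2846, 0), (2846, 2), (2297, 2), (1689, 2), (2761, 0), (897, 1), (1243, 0), (1243, 2), (989, 0),
  (3588, 0), (3588, 2), (2585, 1), (2585, 2), (3151, 1), (3151, 2), (209, 2), (1154, 0), (1154, 1), (1461, 2),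
  (3843, 0), (3843, 2), (672, 0), (1746, 0), (1746, 1), (1854, 0), (1854, 2), (1937, 1), (2469, 0), (602, 2),
  (1516, 1), (3135, 1), (3738, 0), (3656, 0), (2516, 2), (3153, 0), (3153, 2), (250, 2), (2881, 2), (1119, 0),
  (1119, 2), (3257, 0), (3257, 1), (222, 2), (3544, 0), (1041, 1), (3352, 2), (3694, 0), (3694, 2), (3356, 0),
  (428, 0), (428, 2), (1363, 2), (1933, 0), (2402, 0), (2402, 2), (1780, 2), (749, 0), (749, 1), (1817, 0),
  (1817, 2), (2107, 0), (245, 0), (531, 0), (531, 2), (2334, 0), (1133, 2), (45, 0), (45, 2), (2094, 2), (876,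
  2), (3684, 2), (1631, 0), (1631, 1), (1631, 2), (601, 2), (717, 0), (3971, 0), (3971, 1), (2979, 2), (3179,
  0), (3179, 1), (3179, 2), (1749, 2), (333, 2), (2133, 0), (2887, 1), (2887, 2), (3508, 1), (95, 0), (2204, 2),
  (1464, 0), (3764, 0), (2206, 0), (167, 0), (167, 1), (3704, 2), (973, 2), (1699, 0), (2405, 2), (3397, 2),
  (1145, 0), (1145, 2), (527, 2), (182, 0), (79, 0), (79, 2), (3626, 0), (533, 0), (2753, 2), (1003, 2), (3289,
  0), (3289, 2), (2676, 0), (2676, 2), (2716, 2), (1263, 0), (2603, 2), (71, 2), (2499, 2), (1443, 0), (1443,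
  2), (1847, 2), (3117, 1), (724, 0), (1333, 2), (1586, 0), (3357, 0), (2777, 0), (3075, 0), (3075, 2), (2517,
  2), (3929, 2), (197, 0), (197, 2), (3420, 0), (2805, 0), (2702, 0), (3858, 0), (1219, 2), (2835, 0), (2442,
  0), (1258, 1), (2382, 2), (2357, 1), (2357, 2), (1859, 1), (767, 2), (2593, 0), (825, 0), (1142, 1), (429, 1),
  (1955, 2), (1367, 2), (1065, 2), (2365, 1), (3095, 2), (2261, 2), (2163, 2), (1179, 0), (1179, 2), (2379, 0),
  (1590, 0), (1590, 2), (1376, 2), (1053, 2), (2698, 0), (984, 2), (3647, 2), (950, 0), (3127, 2), (813, 0),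
  (3337, 0), (2528, 0), (2946, 0), (2946, 1), (3970, 2), (419, 2), (4017, 0), (4017, 1), (1833, 0), (1833, 2),
  (1428, 0), (855, 1), (3267, 2), (2883, 0), (3033, 2), (909, 0), (2384, 2), (2982, 0), (423, 2), (1358, 2),
  (301, 0), (585, 2), (3920, 2), (828, 0), (2964, 2), (2957, 2), (3915, 2), (661, 0), (1250, 0), (1900, 2),
  (3521, 1), (3784, 2), (961, 2), (1734, 2), (2131, 1), (921, 2), (1884, 0), (3828, 0), (1952, 2), (499, 1),
  (1862, 2), (1069, 2), (3517, 1), (1262, 0), (3664, 1), (1776, 0), (1194, 0), (3440, 2), (3415, 2), (3693, 2),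
  (2455, 1), (142, 0), (1356, 0), (368, 0), (3755, 2), (847, 0), (1401, 0), (1401, 1), (506, 2), (2351, 2),
  (2778, 1), (2778, 2), (982, 0), (982, 2), (1410, 2), (1444, 2), (2230, 2), (2802, 0), (888, 2), (3475, 0),
  (646, 0), (2490, 0), (3176, 0), (3814, 0), (1159, 0), (2567, 0), (1819, 2), (3209, 2), (1266, 1), (1856, 0),
  (3672, 2), (3044, 2), (457, 2), (2498, 0), (3163, 2), (318, 0), (1276, 0), (1268, 1), (2833, 0), (3463, 2),
  (2949, 1), (1835, 2), (2475, 2), (3278, 0), (1781, 2), (1550, 0), (2736, 2), (792, 0), (2222, 2), (201, 1),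
  (3790, 2), (2667, 0), (3974, 0), (1510, 0), (1315, 0), (1507, 2), (180, 0), (180, 2), (2981, 2), (4036, 2),
  (872, 0), (632, 0), (632, 2), (3178, 2), (2831, 2), (1947, 0), (1947, 2), (1314, 0), (1314, 1), (1074, 0),
  (408, 0), (3847, 1), (2260, 2), (979, 0), (557, 0), (557, 2), (793, 0), (1373, 1), (459, 2), (1316, 0), (1807,
  0), (2724, 0), (584, 0), (2742, 1), (2926, 0), (2511, 2), (1002, 2), (2489, 1), (974, 2), (803, 1), (3874, 0),
  (1032, 2), (1786, 2), (2162, 0), (3008, 0), (3146, 0), (3146, 2), (2079, 1), (1469, 0), (1469, 1), (928, 0),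
  (4081, 1), (1542, 0), (1542, 1), (1732, 0), (3799, 2), (3857, 1), (952, 2), (1212, 1), (919, 0), (3781, 0),
  (3781, 1), (3781, 2), (2520, 0), (2420, 0), (2570, 2), (3505, 0), (3783, 2), (593, 1), (3492, 1), (340, 0),
  (313, 0), (2737, 2), (852, 0), (3458, 0), (656, 2), (3354, 0), (1693, 2), (1541, 1), (2241, 0), (1546, 0),
  (3536, 2), (868, 0), (1207, 0), (1207, 2), (1597, 0), (2507, 2), (501, 2), (2239, 0), (3438, 0), (274, 0),
  (3803, 2), (2889, 0), (3169, 2), (2263, 2), (583, 2), (2929, 0), (1611, 0), (1611, 2), (3156, 0), (3156, 2),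
  (1067, 0), (2172, 0), (2851, 0), (2886, 2), (2721, 2), (1425, 2), (119, 2), (395, 2), (1574, 0), (1313, 0),
  (2457, 0), (279, 0), (3474, 2), (551, 0), (603, 2), (2500, 2), (3248, 0), (3026, 2), (1508, 0), (14, 0),
  (1293, 0), (2596, 0), (361, 0), (1353, 1), (1169, 0), (2587, 0)]

/-- The masks of the weight-12 codewords. -/
def dodMasks : List ℕ := (combos basisMasks).filter (fun m => popc m == 12)

theorem dodCert_ok : orbCheck m24Tis dod0 dodCert dodMasks = true := by decide +kernel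

theorem mem_dodMasks_of_dodecad {d : Finset GolayPt} (hd : d ∈ dodecads) :
    ∃ m ∈ dodMasks, Cfsg.support₂ (W m) = d := by
  obtain ⟨⟨c, hc, rfl⟩, h12⟩ := hd
  obtain ⟨m, hm, rfl⟩ := exists_mask_of_mem_golayCode hc
  refine ⟨m, ?_, rfl⟩
  unfold dodMasks
  rw [List.mem_filter, beq_iff_eq, ← hammingNorm_W, hammingNorm_eq_card_supp, supp_eq_support₂]
  exact ⟨hm, h12⟩

theorem dod0_mem_dodecads : Cfsg.support₂ (W dod0) ∈ dodecads := by
  refine ⟨⟨W dod0, W_mem_of_inC (by decide +kernel), rfl⟩, ?_⟩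
  rw [← supp_eq_support₂, ← hammingNorm_eq_card_supp, hammingNorm_W]
  decide +kernel

/-- Every dodecad is the image of the dodecad of squares under an element of `M24`. -/
theorem exists_M24_smul_dod0 {d : Finset GolayPt} (hd : d ∈ dodecads) :
    ∃ g ∈ M24, g • Cfsg.support₂ (W dod0) = d := by
  obtain ⟨m, hm, rfl⟩ := mem_dodMasks_of_dodecad hd
  obtain ⟨g, hg, h⟩ := orbCheck_sound M24 m24Gens m24Tis rfl m24Gens_mem m24Tis_spec dodCert_ok m hm
  exact ⟨g, hg, by rw [smul_support₂, h]⟩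

/-- `M24` is transitive on dodecads. -/
theorem exists_M24_smul_dodecad {d d' : Finset GolayPt} (hd : d ∈ dodecads) (hd' : d' ∈ dodecads) :
    ∃ g ∈ M24, g • d = d' := by
  obtain ⟨g, hg, h⟩ := exists_M24_smul_dod0 hd
  obtain ⟨g', hg', h'⟩ := exists_M24_smul_dod0 hd'
  refine ⟨g' * g⁻¹, M24.mul_mem hg' (M24.inv_mem hg), ?_⟩
  rw [← h, mul_smul, inv_smul_smul, h']

/-- Orbit-stabilizer for the action of `M24` on finsets of points: if the orbit of `d` is the set `X`. -/
theorem card_stabilizer_M24_finset (d : Finset GolayPt) (X : Set (Finset GolayPt))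
    (hX : ∀ d', d' ∈ X ↔ ∃ g ∈ M24, g • d = d') :
    Nat.card M24 = X.ncard * Nat.card (MulAction.stabilizer M24 d) := by
  have h1 := Subgroup.card_eq_card_quotient_mul_card_subgroup (MulAction.stabilizer M24 d)
  have h2 : Nat.card (M24 ⧸ MulAction.stabilizer M24 d) = Nat.card (MulAction.orbit M24 d) :=
    Nat.card_congr (MulAction.orbitEquivQuotientStabilizer M24 d).symm
  have h3 : MulAction.orbit M24 d = X := by
    ext d'
    rw [MulAction.mem_orbit_iff, hX]
    constructor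
    · rintro ⟨g, rfl⟩; exact ⟨g.1, g.2, rfl⟩
    · rintro ⟨g, hg, rfl⟩; exact ⟨⟨g, hg⟩, rfl⟩
  rw [h2, h3, Nat.card_coe_set_eq] at h1
  exact h1

/-- A dodecad stabilizer has order `95040`. -/
theorem card_stabilizer_dodecad {d : Finset GolayPt} (hd : d ∈ dodecads) :
    Nat.card (MulAction.stabilizer M24 d) = 95040 := by
  have h := card_stabilizer_M24_finset d dodecads (by
    intro d'
    constructor
    · intro hd'
      exact exists_M24_smul_dodecad hd hd'
    · rintro ⟨g, hg, rfl⟩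
      exact smul_mem_dodecads hg hd)
  have h2 : dodecads.ncard = 2576 := card_dodecads golayCode_isAbsGolay
  rw [card_M24, h2] at h
  omega

end Cfsg.Agent.Lib.H28
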