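/-
helper28 library: the stabilizer of a dodecad in `M24` (a Mathieu group of degree 12): transitive on the
dodecad, sharply 5-transitive on it; point stabilizer (degree 11) 3-transitive on the complementary dodecad.
-/
import Mathlib
import Cfsg.Prelude.Def_Sporadic_a
import Cfsg.Agent.Lib.H28.M24Orbit

set_option autoImplicit false

namespace Cfsg.Agent.Lib.H28

open Cfsg
open scoped Pointwise

/-! ### A generic transitivity-by-levels lemma -/

/-- If at each level `k < N` the elements of `K` fixing `b 0, …, b (k-1)` can move `b k` to any point of `D`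
other than these, and `K` preserves `D`, then `K` maps the base tuple to every injective tuple in `D`. -/
theorem exists_map_levels {X : Type*} (K : Subgroup (Equiv.Perm X)) (D : Set X) (b : ℕ → X) (N : ℕ)
    (hD : ∀ g ∈ K, ∀ z, g z ∈ D ↔ z ∈ D)
    (hlevel : ∀ k < N, ∀ z ∈ D, (∀ i < k, z ≠ b i) →
      ∃ h ∈ K, (∀ i < k, h (b i) = b i) ∧ h (b k) = z) :
    ∀ n ≤ N, ∀ y : Fin n → X, Function.Injective y → (∀ i, y i ∈ D) →
      ∃ g ∈ K, ∀ i : Fin n, g (b i.val) = y i := by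
  intro n
  induction n with
  | zero =>
    intro _ y _ _
    exact ⟨1, K.one_mem, fun i => i.elim0⟩
  | succ n ih =>
    intro hn y hy hyD
    obtain ⟨g, hg, hgy⟩ := ih (by omega) (y ∘ Fin.castSucc)
      (hy.comp (Fin.castSucc_injective n)) (fun i => hyD _)
    have hzD : g⁻¹ (y (Fin.last n)) ∈ D := by
      rw [← hD g hg, Equiv.Perm.inv_def, Equiv.apply_symm_apply]
      exact hyD _
    have hz : ∀ i < n, g⁻¹ (y (Fin.last n)) ≠ b i := by
      intro i hi h
      have h1 := hgy ⟨i, hi⟩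
      rw [← h, Equiv.Perm.inv_def, Equiv.apply_symm_apply] at h1
      have := hy h1
      rw [Fin.ext_iff] at this
      simp at this
      omega
    obtain ⟨h, hh, hfix, hmap⟩ := hlevel n (by omega) _ hzD hz
    refine ⟨g * h, K.mul_mem hg hh, ?_⟩
    intro i
    rw [Equiv.Perm.mul_apply]
    rcases Fin.eq_castSucc_or_eq_last i with ⟨j, rfl⟩ | rfl
    · rw [Fin.val_castSucc, hfix j.val j.isLt]
      exact hgy j
    · rw [Fin.val_last, hmap, Equiv.Perm.inv_def, Equiv.apply_symm_apply]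

/-! ### Permutations preserving a mask -/

/-- The set of points of a mask. -/
def ptsMask (m : ℕ) : Finset GolayPt := Finset.univ.filter (fun p => m.testBit (gIdx p) = true)

theorem mem_ptsMask {m : ℕ} {p : GolayPt} : p ∈ ptsMask m ↔ m.testBit (gIdx p) = true := by
  unfold ptsMask; simp

theorem ptsMask_eq_support₂ (m : ℕ) : ptsMask m = Cfsg.support₂ (W m) := by
  ext p
  rw [mem_ptsMask, ← supp_eq_support₂, mem_supp, W_apply_ne_zero]

/-- `g` preserves the set of points of the mask `m`. -/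
theorem smul_ptsMask_eq {g : Equiv.Perm GolayPt} {m : ℕ}
    (h : ∀ p, m.testBit (gIdx (g p)) = m.testBit (gIdx p)) : g • ptsMask m = ptsMask m := by
  apply Finset.eq_of_subset_of_card_le
  · intro p hp
    rw [Finset.mem_smul_finset] at hp
    obtain ⟨q, hq, rfl⟩ := hp
    rw [mem_ptsMask] at hq ⊢
    rw [Equiv.Perm.smul_def, h]; exact hq
  · rw [Finset.card_smul_finset]

theorem testBit_of_smul_ptsMask_eq {g : Equiv.Perm GolayPt} {m : ℕ} (h : g • ptsMask m = ptsMask m)
    (p : GolayPt) : m.testBit (gIdx (g p)) = m.testBit (gIdx p) := by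
  have key : ∀ q, q ∈ ptsMask m ↔ g q ∈ ptsMask m := by
    intro q
    constructor
    · intro hq
      rw [← h]
      exact Finset.smul_mem_smul_finset hq
    · intro hq
      rw [← h, Finset.mem_smul_finset] at hq
      obtain ⟨q', hq', hqq⟩ := hq
      rw [Equiv.Perm.smul_def] at hqq
      rw [← g.injective hqq]; exact hq'
  have := key p
  rw [mem_ptsMask, mem_ptsMask] at this
  by_cases hb : m.testBit (gIdx p) = true
  · rw [hb, this.1 hb]
  · rw [Bool.not_eq_true] at hb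
    rw [hb]
    by_contra hcon
    rw [Bool.not_eq_false] at hcon
    rw [this.2 hcon] at hb
    exact Bool.false_ne_true hb.symm

/-- The elements of `M24` preserving the set of points of a mask. -/
def stabMask (m : ℕ) : Subgroup (Equiv.Perm GolayPt) :=
  M24 ⊓ MulAction.stabilizer (Equiv.Perm GolayPt) (ptsMask m)

theorem mem_stabMask {m : ℕ} {g : Equiv.Perm GolayPt} :
    g ∈ stabMask m ↔ g ∈ M24 ∧ ∀ p, m.testBit (gIdx (g p)) = m.testBit (gIdx p) := by
  unfold stabMask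
  rw [Subgroup.mem_inf, MulAction.mem_stabilizer_iff]
  constructor
  · rintro ⟨h1, h2⟩; exact ⟨h1, testBit_of_smul_ptsMask_eq h2⟩
  · rintro ⟨h1, h2⟩; exact ⟨h1, smul_ptsMask_eq h2⟩

/-- Check that a word preserves a mask. -/
def presCheck (w : List ℕ) (m : ℕ) : Bool :=
  (List.range 24).all (fun k => m.testBit (evalPt w k) == m.testBit k)

theorem wordPerm_mem_stabMask {w : List ℕ} {m : ℕ} (h : presCheck w m = true) : wordPerm w ∈ stabMask m := by
  rw [mem_stabMask]
  refine ⟨wordPerm_mem_M24 w, ?_⟩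
  intro p
  unfold presCheck at h
  rw [List.all_eq_true] at h
  have := h (gIdx p) (List.mem_range.2 (gIdx_lt p))
  rw [beq_iff_eq] at this
  rw [gIdx_wordPerm]; exact this

/-- Check that a word fixes the indices in `L` and maps `src` to `z`. -/
def moveCheck (L : List ℕ) (src z : ℕ) (w : List ℕ) : Bool :=
  L.all (fun i => evalPt w i == i) && evalPt w src == z

theorem moveCheck_spec {L : List ℕ} {src z : ℕ} {w : List ℕ} (hL : ∀ i ∈ L, i < 24) (hsrc : src < 24)
    (h : moveCheck L src z w = true) :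
    (∀ i ∈ L, wordPerm w (gPt i) = gPt i) ∧ wordPerm w (gPt src) = gPt z := by
  unfold moveCheck at h
  rw [Bool.and_eq_true, List.all_eq_true, beq_iff_eq] at h
  constructor
  · intro i hi
    have := h.1 i hi
    rw [beq_iff_eq] at this
    exact wordPerm_gPt (hL i hi) this
  · exact wordPerm_gPt hsrc h.2


theorem card_stabilizer_subgroup {G X : Type*} [Group G] [MulAction G X] (H : Subgroup G) (x : X) :
    Nat.card (MulAction.stabilizer H x) = Nat.card (H ⊓ MulAction.stabilizer G x : Subgroup G) := by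
  apply Nat.card_congr
  refine ⟨fun g => ⟨g.1.1, ?_⟩, fun g => ⟨⟨g.1, ?_⟩, ?_⟩, ?_, ?_⟩
  · rw [Subgroup.mem_inf, MulAction.mem_stabilizer_iff]
    exact ⟨g.1.2, MulAction.mem_stabilizer_iff.1 g.2⟩
  · exact (Subgroup.mem_inf.1 g.2).1
  · rw [MulAction.mem_stabilizer_iff]
    exact MulAction.mem_stabilizer_iff.1 (Subgroup.mem_inf.1 g.2).2
  · intro g; rfl
  · intro g; rfl

/-! ### The stabilizer of the dodecad of squares -/

/-- Base points inside the dodecad of squares. -/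
def m12Base : List ℕ := [0, 1, 2, 3, 4]

def m12Tab : List (List (List ℕ)) := [
  [[], [3,1,1,1,2,1,4,0], [4,1,1,1,2,1,4,0], [0,4,0,0,3,1,4,1], [1,2,0,0,4,1,4,0], [], [1,1,1,2,1,4,0], [], [0,3,0,4,1,1,3,1], [4,1,2,3,1,2,0,0], [], [], [1,2,3,1,2,0,0], [0,3,1,4,4,0,3,3,0], [], [], [3,0,3,0,4,1,1,3,1], [], [1,3,0,3,1,1,2,0], [], [], [], [], []],
  [[], [], [4,4], [0,3,2,0,3,0,3,0,2,1,4], [3,3], [], [4], [], [3,1,4,4,1,4,0,0,0,3,0], [4,1,4,4,1,4,0,0,0,3,0], [], [], [1,4,4,1,4,0,0,0,3,0], [2,0,3,0,4,1,1,3,1,2], [], [], [1,4,1,1,1,3,0,3,3,0,4], [], [3], [], [], [], [], []],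
  [[], [], [0,1], [1,1,2,1,1,3,1,2,3,3,0,4,4], [4,2,1,4,1,1,1,3,0,3,3,0,2], [], [2,1,4,4,1,3,3,0,4,1,2,4], [], [3,2,0,3,1,4,4,0,3,3,0,2], [2,0,3,0,4,1,1,3,1,2,4], [], [], [4,1,4,1,1,1,3,0,3,3,0,4,4], [0,2,1,3,3,1,3,3,1,2,3,1], [], [], [0,4,2,0,4,4,0,4,4,0,2,1], [], [3,3,1,4,4,2,0,4,0,0,2,0,0], [], [], [], [], []],
  [[], [], [], [0,1], [4,0,4,2,0,2,1,1,3,3,1,1,4,0], [], [0,2,1,4,1,4,1,2,4,1], [], [1,4,2,1,1,4,1,3,0,0,0,0,0,3,3,1], [2,0,0,3,3,1,3,0,0,0,2], [], [], [0,3,2,0,0,4,1,4,4,1,2,3,3,1], [0,4,4,2,0,3,3,0,3,1,1,2,4,1], [], [], [2,1,1,1,4,0,4,4,1,1,2], [], [0,3,0,4,0,4,0,4,1,3,1,2,0,0], [], [], [], [], []],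
  [[], [], [], [], [3,3,1,0,4,4], [], [4,1,1,3,3,2,1,1,1,2,3,3,0,4], [], [1,4,4,1,2,0,3,0,2,1,1,2,3,3,1,4], [3,1,4,4,2,0,0,0,2,4,4,0,0,3], [], [], [3,3,1,4,1,1,1,3,0,3,3,0], [0,4,0,3,1,1,4,1,3,3,1,2,0,0,3], [], [], [3,0,4,4,2,0,0,2,1,4,1,2,0,3,3,0], [], [4,1,1,2,0,4,4,0,3,0,0,4,1,3,1], [], [], [], [], []]]

theorem m12Tab_ok : (List.range 5).all (fun k => (List.range 24).all (fun z =>
    !(dod0.testBit z) || (m12Base.take k).contains z ||
      (presCheck ((m12Tab.getD k []).getD z []) dod0 &&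
        moveCheck (m12Base.take k) (m12Base.getD k 0) z ((m12Tab.getD k []).getD z [])))) = true := by
  decide +kernel

theorem m12_level {k : ℕ} (hk : k < 5) (z : GolayPt) (hzd : z ∈ ptsMask dod0)
    (hz : ∀ i < k, z ≠ gPt (m12Base.getD i 0)) :
    ∃ h ∈ stabMask dod0, (∀ i < k, h (gPt (m12Base.getD i 0)) = gPt (m12Base.getD i 0)) ∧
      h (gPt (m12Base.getD k 0)) = z := by
  have h1 := List.all_eq_true.1 (List.all_eq_true.1 m12Tab_ok k (List.mem_range.2 hk)) (gIdx z)
    (List.mem_range.2 (gIdx_lt z))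
  rw [mem_ptsMask] at hzd
  rw [Bool.or_eq_true, Bool.or_eq_true, hzd] at h1
  have hlen : m12Base.length = 5 := rfl
  rcases h1 with (h1 | h1) | h1
  · simp at h1
  · exfalso
    rw [List.contains_iff_mem] at h1
    obtain ⟨i, hi, hiz⟩ := List.getElem_of_mem h1
    rw [List.length_take] at hi
    have hik : i < k := by omega
    apply hz i hik
    rw [List.getElem_take] at hiz
    rw [List.getD_eq_getElem _ _ (by omega), hiz, gPt_gIdx]
  · rw [Bool.and_eq_true] at h1
    have hb : ∀ i ∈ m12Base.take k, i < 24 := by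
      intro i hi
      have : ∀ i ∈ m12Base, i < 24 := by decide
      exact this i (List.mem_of_mem_take hi)
    have hsrc : m12Base.getD k 0 < 24 := by
      have : ∀ k < 5, m12Base.getD k 0 < 24 := by decide
      exact this k hk
    obtain ⟨h2, h3⟩ := moveCheck_spec hb hsrc h1.2
    refine ⟨wordPerm ((m12Tab.getD k []).getD (gIdx z) []), wordPerm_mem_stabMask h1.1, ?_, ?_⟩
    · intro i hi
      apply h2
      rw [List.getD_eq_getElem _ _ (by omega)]
      have : m12Base[i] = (m12Base.take k)[i]'(by rw [List.length_take]; omega) := by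
        rw [List.getElem_take]
      rw [this]
      exact List.getElem_mem _
    · rw [h3, gPt_gIdx]

theorem stabMask_preserves (m : ℕ) : ∀ g ∈ stabMask m, ∀ z, g z ∈ (ptsMask m : Set GolayPt) ↔ z ∈ (ptsMask m : Set GolayPt) := by
  intro g hg z
  rw [mem_stabMask] at hg
  rw [Finset.mem_coe, Finset.mem_coe, mem_ptsMask, mem_ptsMask, hg.2]

/-- The stabilizer of the dodecad of squares is 5-transitive on it (relative to the base tuple). -/
theorem m12_exists_map {n : ℕ} (hn : n ≤ 5) (y : Fin n → GolayPt) (hy : Function.Injective y)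
    (hyd : ∀ i, y i ∈ ptsMask dod0) :
    ∃ g ∈ stabMask dod0, ∀ i : Fin n, g (gPt (m12Base.getD i.val 0)) = y i :=
  exists_map_levels (stabMask dod0) (ptsMask dod0 : Set GolayPt) (fun i => gPt (m12Base.getD i 0)) 5
    (stabMask_preserves dod0)
    (fun _ hk z hz hzne => m12_level hk z hz hzne) n hn y hy hyd

theorem ptsMask_dod0_mem : ptsMask dod0 ∈ dodecads := by
  rw [ptsMask_eq_support₂]; exact dod0_mem_dodecads

theorem card_stabMask_dod0 : Nat.card (stabMask dod0) = 95040 := by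
  unfold stabMask
  rw [← card_stabilizer_subgroup M24 (ptsMask dod0)]
  exact card_stabilizer_dodecad ptsMask_dod0_mem

theorem m12_level_ge (k : ℕ) (hk : k < 5) :
    ∀ x ∈ ptsOf (fun z => dod0.testBit z && !(m12Base.take k).contains z),
      ∃ g ∈ fixSub (stabMask dod0) ((m12Base.take k).reverse), g (gPt (m12Base.getD k 0)) = x := by
  intro x hx
  rw [mem_ptsOf, Bool.and_eq_true, Bool.not_eq_true'] at hx
  have hlen : m12Base.length = 5 := rfl
  obtain ⟨h, hh, hfix, hmap⟩ := m12_level hk x (mem_ptsMask.2 hx.1) (by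
    intro i hi hcon
    have h2 := hx.2
    rw [← Bool.not_eq_true, List.contains_iff_mem] at h2
    apply h2
    rw [hcon, gIdx_gPt (by
      have : ∀ i < 5, m12Base.getD i 0 < 24 := by decide
      exact this i (by omega)), List.getD_eq_getElem _ _ (by omega)]
    have : m12Base[i] = (m12Base.take k)[i]'(by rw [List.length_take]; omega) := by
      rw [List.getElem_take]
    rw [this]
    exact List.getElem_mem _)
  refine ⟨h, ?_, hmap⟩
  rw [mem_fixSub]
  refine ⟨hh, ?_⟩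
  intro j hj
  rw [List.mem_reverse] at hj
  obtain ⟨i, hi, rfl⟩ := List.getElem_of_mem hj
  rw [List.length_take] at hi
  rw [List.getElem_take]
  have := hfix i (by omega)
  rw [List.getD_eq_getElem _ _ (by omega)] at this
  exact this

theorem m12_levelSet_card : ∀ k < 5,
    (ptsOf (fun z => dod0.testBit z && !(m12Base.take k).contains z)).card = 12 - k := by
  unfold ptsOf
  decide +kernel

/-- The pointwise stabilizer of the five base points in the stabilizer of the dodecad of squares is trivial. -/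
theorem m12_fix_base : fixSub (stabMask dod0) [4, 3, 2, 1, 0] = ⊥ := by
  have h0 := card_fixSub_ge (stabMask dod0) ((m12Base.take 0).reverse) (m12Base.getD 0 0) _
    (m12_level_ge 0 (by norm_num))
  have h1 := card_fixSub_ge (stabMask dod0) ((m12Base.take 1).reverse) (m12Base.getD 1 0) _
    (m12_level_ge 1 (by norm_num))
  have h2 := card_fixSub_ge (stabMask dod0) ((m12Base.take 2).reverse) (m12Base.getD 2 0) _
    (m12_level_ge 2 (by norm_num))
  have h3 := card_fixSub_ge (stabMask dod0) ((m12Base.take 3).reverse) (m12Base.getD 3 0) _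
    (m12_level_ge 3 (by norm_num))
  have h4 := card_fixSub_ge (stabMask dod0) ((m12Base.take 4).reverse) (m12Base.getD 4 0) _
    (m12_level_ge 4 (by norm_num))
  rw [m12_levelSet_card 0 (by norm_num)] at h0
  rw [m12_levelSet_card 1 (by norm_num)] at h1
  rw [m12_levelSet_card 2 (by norm_num)] at h2
  rw [m12_levelSet_card 3 (by norm_num)] at h3
  rw [m12_levelSet_card 4 (by norm_num)] at h4
  change 12 * Nat.card (fixSub (stabMask dod0) [0]) ≤ Nat.card (fixSub (stabMask dod0) []) at h0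
  change 11 * Nat.card (fixSub (stabMask dod0) [1, 0]) ≤ Nat.card (fixSub (stabMask dod0) [0]) at h1
  change 10 * Nat.card (fixSub (stabMask dod0) [2, 1, 0]) ≤ Nat.card (fixSub (stabMask dod0) [1, 0]) at h2
  change 9 * Nat.card (fixSub (stabMask dod0) [3, 2, 1, 0]) ≤ Nat.card (fixSub (stabMask dod0) [2, 1, 0]) at h3
  change 8 * Nat.card (fixSub (stabMask dod0) [4, 3, 2, 1, 0]) ≤ Nat.card (fixSub (stabMask dod0) [3, 2, 1, 0]) at h4
  rw [fixSub_nil, card_stabMask_dod0] at h0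
  have hpos : 0 < Nat.card (fixSub (stabMask dod0) [4, 3, 2, 1, 0]) := Nat.card_pos
  have h1' : Nat.card (fixSub (stabMask dod0) [4, 3, 2, 1, 0]) = 1 := by omega
  exact Subgroup.eq_bot_of_card_eq _ h1'


/-! ### General dodecads: transport by conjugation -/

/-- Existence: the stabilizer of `d` in `M24` maps any injective `n`-tuple (`n ≤ 5`) in `d` to any other. -/
def DodTrans (d : Finset GolayPt) : Prop :=
  ∀ n ≤ 5, ∀ x y : Fin n → GolayPt, Function.Injective x → Function.Injective y →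
    (∀ i, x i ∈ d) → (∀ i, y i ∈ d) → ∃ g ∈ M24, g • d = d ∧ ∀ i, g (x i) = y i

/-- Uniqueness: an element of the stabilizer of `d` fixing five points of `d` is trivial. -/
def DodSharp (d : Finset GolayPt) : Prop :=
  ∀ g ∈ M24, g • d = d → ∀ x : Fin 5 → GolayPt, Function.Injective x → (∀ i, x i ∈ d) →
    (∀ i, g (x i) = x i) → g = 1

theorem mem_stabMask_iff_smul {m : ℕ} {g : Equiv.Perm GolayPt} :
    g ∈ stabMask m ↔ g ∈ M24 ∧ g • ptsMask m = ptsMask m := by
  unfold stabMask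
  rw [Subgroup.mem_inf]
  exact Iff.rfl

theorem dodTrans_dod0 : DodTrans (ptsMask dod0) := by
  intro n hn x y hx hy hxd hyd
  obtain ⟨gx, hgx, hx'⟩ := m12_exists_map hn x hx hxd
  obtain ⟨gy, hgy, hy'⟩ := m12_exists_map hn y hy hyd
  have hmem := (stabMask dod0).mul_mem hgy ((stabMask dod0).inv_mem hgx)
  rw [mem_stabMask_iff_smul] at hmem
  refine ⟨gy * gx⁻¹, hmem.1, hmem.2, ?_⟩
  intro i
  rw [Equiv.Perm.mul_apply, ← hx' i, Equiv.Perm.inv_def, Equiv.symm_apply_apply, hy' i]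

theorem dodSharp_dod0 : DodSharp (ptsMask dod0) := by
  intro g hg hgd x hx hxd hfix
  obtain ⟨gx, hgx, hx'⟩ := m12_exists_map (le_refl 5) x hx hxd
  have hgK : g ∈ stabMask dod0 := mem_stabMask_iff_smul.2 ⟨hg, hgd⟩
  have hmem : gx⁻¹ * g * gx ∈ fixSub (stabMask dod0) [4, 3, 2, 1, 0] := by
    rw [mem_fixSub]
    refine ⟨(stabMask dod0).mul_mem ((stabMask dod0).mul_mem ((stabMask dod0).inv_mem hgx) hgK) hgx, ?_⟩
    intro k hk
    have key : ∀ i : Fin 5, (gx⁻¹ * g * gx) (gPt (m12Base.getD i.val 0)) = gPt (m12Base.getD i.val 0) := by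
      intro i
      rw [Equiv.Perm.mul_apply, Equiv.Perm.mul_apply, hx' i, hfix i, ← hx' i, Equiv.Perm.inv_def,
        Equiv.symm_apply_apply]
    simp only [List.mem_cons, List.not_mem_nil, or_false] at hk
    rcases hk with rfl | rfl | rfl | rfl | rfl
    · exact key 4
    · exact key 3
    · exact key 2
    · exact key 1
    · exact key 0
  rw [m12_fix_base, Subgroup.mem_bot] at hmem
  have : g = gx * (gx⁻¹ * g * gx) * gx⁻¹ := by group
  rw [this, hmem]; group

theorem dodTrans_smul {d : Finset GolayPt} (h : DodTrans d) {g0 : Equiv.Perm GolayPt} (hg0 : g0 ∈ M24) :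
    DodTrans (g0 • d) := by
  intro n hn x y hx hy hxd hyd
  have hmem : ∀ (z : GolayPt), z ∈ g0 • d → g0⁻¹ z ∈ d := by
    intro z hz
    rw [Finset.mem_smul_finset] at hz
    obtain ⟨q, hq, rfl⟩ := hz
    rw [Equiv.Perm.smul_def, Equiv.Perm.inv_def, Equiv.symm_apply_apply]; exact hq
  obtain ⟨g, hg, hgd, hmap⟩ := h n hn (fun i => g0⁻¹ (x i)) (fun i => g0⁻¹ (y i))
    (fun i j hij => hx (g0⁻¹.injective hij)) (fun i j hij => hy (g0⁻¹.injective hij))
    (fun i => hmem _ (hxd i)) (fun i => hmem _ (hyd i))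
  refine ⟨g0 * g * g0⁻¹, M24.mul_mem (M24.mul_mem hg0 hg) (M24.inv_mem hg0), ?_, ?_⟩
  · rw [mul_smul, mul_smul, inv_smul_smul, hgd]
  · intro i
    rw [Equiv.Perm.mul_apply, Equiv.Perm.mul_apply, hmap i, Equiv.Perm.inv_def, Equiv.apply_symm_apply]

theorem dodSharp_smul {d : Finset GolayPt} (h : DodSharp d) {g0 : Equiv.Perm GolayPt} (hg0 : g0 ∈ M24) :
    DodSharp (g0 • d) := by
  intro g hg hgd x hx hxd hfix
  have hmem : ∀ (z : GolayPt), z ∈ g0 • d → g0⁻¹ z ∈ d := by
    intro z hz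
    rw [Finset.mem_smul_finset] at hz
    obtain ⟨q, hq, rfl⟩ := hz
    rw [Equiv.Perm.smul_def, Equiv.Perm.inv_def, Equiv.symm_apply_apply]; exact hq
  have h1 := h (g0⁻¹ * g * g0) (M24.mul_mem (M24.mul_mem (M24.inv_mem hg0) hg) hg0)
    (by rw [mul_smul, mul_smul, hgd, inv_smul_smul])
    (fun i => g0⁻¹ (x i)) (fun i j hij => hx (g0⁻¹.injective hij)) (fun i => hmem _ (hxd i))
    (by
      intro i
      rw [Equiv.Perm.mul_apply, Equiv.Perm.mul_apply, Equiv.Perm.inv_def, Equiv.apply_symm_apply, hfix i])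
  have : g = g0 * (g0⁻¹ * g * g0) * g0⁻¹ := by group
  rw [this, h1]; group

theorem dodTrans_of_mem {d : Finset GolayPt} (hd : d ∈ dodecads) : DodTrans d := by
  obtain ⟨g0, hg0, rfl⟩ := exists_M24_smul_dod0 hd
  rw [← ptsMask_eq_support₂]
  exact dodTrans_smul dodTrans_dod0 hg0

theorem dodSharp_of_mem {d : Finset GolayPt} (hd : d ∈ dodecads) : DodSharp d := by
  obtain ⟨g0, hg0, rfl⟩ := exists_M24_smul_dod0 hd
  rw [← ptsMask_eq_support₂]
  exact dodSharp_smul dodSharp_dod0 hg0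

/-- A dodecad stabilizer is sharply 5-transitive on the dodecad. -/
theorem dodecad_sharply_five {d : Finset GolayPt} (hd : d ∈ dodecads) (x y : Fin 5 ↪ GolayPt)
    (hx : ∀ i, x i ∈ d) (hy : ∀ i, y i ∈ d) :
    ∃! g : MulAction.stabilizer M24 d, ∀ i, ((g : M24) : Equiv.Perm GolayPt) (x i) = y i := by
  obtain ⟨g, hg, hgd, hmap⟩ := dodTrans_of_mem hd 5 (le_refl 5) x y x.injective y.injective hx hy
  refine ⟨⟨⟨g, hg⟩, hgd⟩, hmap, ?_⟩
  rintro ⟨⟨g', hg'⟩, hgd'⟩ hmap'
  have hgd'' : g' • d = d := hgd'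
  have h1 := dodSharp_of_mem hd (g⁻¹ * g') (M24.mul_mem (M24.inv_mem hg) hg')
    (by rw [mul_smul, hgd'', ← hgd, inv_smul_smul, hgd]) x x.injective hx
    (by
      intro i
      have := hmap' i
      simp only at this
      rw [Equiv.Perm.mul_apply, this, ← hmap i, Equiv.Perm.inv_def, Equiv.symm_apply_apply])
  have : g' = g := by
    have h2 : g' = g * (g⁻¹ * g') := by group
    rw [h2, h1, mul_one]
  subst this
  rfl

/-- The stabilizer of a dodecad and a point on it has order `7920`. -/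
theorem card_stabilizer_dodecad_point {d : Finset GolayPt} (hd : d ∈ dodecads) {p : GolayPt} (hp : p ∈ d) :
    Nat.card ↥(MulAction.stabilizer M24 d ⊓ MulAction.stabilizer M24 p) = 7920 := by
  have h1 := card_eq_orbit_mul_stab (G := M24) (MulAction.stabilizer M24 d) p
  have h2 : {y | ∃ h ∈ MulAction.stabilizer M24 d, h • p = y} = (d : Set GolayPt) := by
    ext y
    simp only [Set.mem_ofPred_eq, Finset.mem_coe]
    constructor
    · rintro ⟨h, hh, rfl⟩
      rw [MulAction.mem_stabilizer_iff] at hh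
      rw [← hh]
      exact Finset.smul_mem_smul_finset hp
    · intro hy
      obtain ⟨g, hg, hgd, hmap⟩ := dodTrans_of_mem hd 1 (by norm_num) (fun _ => p) (fun _ => y)
        (Function.injective_of_subsingleton _) (Function.injective_of_subsingleton _)
        (fun _ => hp) (fun _ => hy)
      exact ⟨⟨g, hg⟩, hgd, hmap 0⟩
  rw [h2, Set.ncard_coe_finset, card_stabilizer_dodecad hd, hd.2] at h1
  omega


/-! ### The point stabilizer (degree 11) on the complementary dodecad -/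

/-- Mask of the complement of the dodecad of squares. -/
def dod0c : ℕ := 16436384

/-- Base points in the complementary dodecad. -/
def m11Base : List ℕ := [5, 7, 10]

def m11Tab : List (List (List ℕ)) := [
  [[], [], [], [], [], [], [], [4], [], [], [4,4], [4,0,2,1,4,1,4,1,2,4,1], [], [], [0,3,2,0,3,0,3,0,2,1,3], [1,4,0,4,4,1,1,3,1,4,0], [], [0,3,2,0,3,0,3,0,2,1,4], [], [0,2,1,4,1,4,1,2,4,1], [3,3], [3], [2,0,3,0,4,1,1,3,1,2], [2,0,0,3,3,1,3,0,0,0,2]],
  [[], [], [], [], [], [], [], [4,1,0,3], [], [], [1,4,1,1,1,3,0,3,3,0,3], [3,2,0,0,3,3,0,3,1,4,0,0,2], [], [], [3,3,2,0,4,0,0,3,1,4,1,2,3], [2,0,3,1,4,4,0,3,3,0,2,4], [], [1,3,0,4,1,4,1,3,0,2,3,0], [], [1,4,2,1,4,0,3,0,3,1,4,0], [1,2,1,1,4,1,4,1,2,4,1,2], [4,1,4,4,1,4,0,0,0,3,0], [0,4,1,2,3,1,3,1,2,3,0,0], [3,2,1,4,4,1,3,3,0,4,1,2]],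
  [[], [], [], [], [], [], [], [], [], [], [4,2,1,1,0,0,2,3], [3,3,0,2,1,4,1,4,1,2,4,1,4,4], [], [], [4,1,3,0,4,1,4,1,3,0,2,3,0,3], [3,3,0,0,2,1,1,2,1,3,0,4,0,4,0], [], [4,2,1,1,3,3,0,0,4,1,4,1,2], [], [2,0,3,3,1,2,4,1,1,1,3,0,0,0], [2,0,3,0,3,1,1,4,4,0,0,2,3], [3,2,0,3,2,0,3,0,3,0,0,2,0,3,3], [4,0,0,3,1,2,3,0,2,1,3,3,1,4], [4,0,4,1,1,3,2,0,3,0,2,0,0,3,1]]]

theorem m11Tab_ok : (List.range 3).all (fun k => (List.range 24).all (fun z =>
    !(dod0c.testBit z) || (m11Base.take k).contains z ||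
      (presCheck ((m11Tab.getD k []).getD z []) dod0 &&
        moveCheck (0 :: m11Base.take k) (m11Base.getD k 0) z ((m11Tab.getD k []).getD z [])))) = true := by
  decide +kernel

theorem dod0c_spec : ∀ z < 24, dod0c.testBit z = !(dod0.testBit z) := by decide +kernel

theorem m11_level {k : ℕ} (hk : k < 3) (z : GolayPt) (hzd : z ∈ ptsMask dod0c)
    (hz : ∀ i < k, z ≠ gPt (m11Base.getD i 0)) :
    ∃ h ∈ fixSub (stabMask dod0) [0], (∀ i < k, h (gPt (m11Base.getD i 0)) = gPt (m11Base.getD i 0)) ∧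
      h (gPt (m11Base.getD k 0)) = z := by
  have h1 := List.all_eq_true.1 (List.all_eq_true.1 m11Tab_ok k (List.mem_range.2 hk)) (gIdx z)
    (List.mem_range.2 (gIdx_lt z))
  rw [mem_ptsMask] at hzd
  rw [Bool.or_eq_true, Bool.or_eq_true, hzd] at h1
  have hlen : m11Base.length = 3 := rfl
  rcases h1 with (h1 | h1) | h1
  · simp at h1
  · exfalso
    rw [List.contains_iff_mem] at h1
    obtain ⟨i, hi, hiz⟩ := List.getElem_of_mem h1
    rw [List.length_take] at hi
    have hik : i < k := by omega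
    apply hz i hik
    rw [List.getElem_take] at hiz
    rw [List.getD_eq_getElem _ _ (by omega), hiz, gPt_gIdx]
  · rw [Bool.and_eq_true] at h1
    have hb : ∀ i ∈ 0 :: m11Base.take k, i < 24 := by
      intro i hi
      rcases List.mem_cons.1 hi with rfl | hi
      · norm_num
      · have : ∀ i ∈ m11Base, i < 24 := by decide
        exact this i (List.mem_of_mem_take hi)
    have hsrc : m11Base.getD k 0 < 24 := by
      have : ∀ k < 3, m11Base.getD k 0 < 24 := by decide
      exact this k hk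
    obtain ⟨h2, h3⟩ := moveCheck_spec hb hsrc h1.2
    refine ⟨wordPerm ((m11Tab.getD k []).getD (gIdx z) []), ?_, ?_, ?_⟩
    · rw [mem_fixSub]
      refine ⟨wordPerm_mem_stabMask h1.1, ?_⟩
      intro j hj
      rw [List.mem_singleton] at hj
      rw [hj]
      exact h2 0 (by simp)
    · intro i hi
      apply h2
      apply List.mem_cons_of_mem
      rw [List.getD_eq_getElem _ _ (by omega)]
      have : m11Base[i] = (m11Base.take k)[i]'(by rw [List.length_take]; omega) := by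
        rw [List.getElem_take]
      rw [this]
      exact List.getElem_mem _
    · rw [h3, gPt_gIdx]

theorem mem_ptsMask_dod0c {p : GolayPt} : p ∈ ptsMask dod0c ↔ p ∉ ptsMask dod0 := by
  rw [mem_ptsMask, mem_ptsMask, dod0c_spec _ (gIdx_lt p)]
  simp

theorem m11_preserves : ∀ g ∈ fixSub (stabMask dod0) [0], ∀ z,
    g z ∈ (ptsMask dod0c : Set GolayPt) ↔ z ∈ (ptsMask dod0c : Set GolayPt) := by
  intro g hg z
  rw [mem_fixSub] at hg
  have := stabMask_preserves dod0 g hg.1 z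
  rw [Finset.mem_coe, Finset.mem_coe] at this
  rw [Finset.mem_coe, Finset.mem_coe, mem_ptsMask_dod0c, mem_ptsMask_dod0c, this]

theorem m11_exists_map {n : ℕ} (hn : n ≤ 3) (y : Fin n → GolayPt) (hy : Function.Injective y)
    (hyd : ∀ i, y i ∈ ptsMask dod0c) :
    ∃ g ∈ fixSub (stabMask dod0) [0], ∀ i : Fin n, g (gPt (m11Base.getD i.val 0)) = y i :=
  exists_map_levels (fixSub (stabMask dod0) [0]) (ptsMask dod0c : Set GolayPt)
    (fun i => gPt (m11Base.getD i 0)) 3 m11_preserves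
    (fun _ hk z hz hzne => m11_level hk z hz hzne) n hn y hy hyd

/-- The stabilizer of `d` and `p` maps any injective triple outside `d` to any other. -/
def DodPtTrans (d : Finset GolayPt) (p : GolayPt) : Prop :=
  ∀ x y : Fin 3 → GolayPt, Function.Injective x → Function.Injective y →
    (∀ i, x i ∉ d) → (∀ i, y i ∉ d) → ∃ g ∈ M24, g • d = d ∧ g p = p ∧ ∀ i, g (x i) = y i

theorem dodPtTrans_dod0 : DodPtTrans (ptsMask dod0) (gPt 0) := by
  intro x y hx hy hxd hyd
  obtain ⟨gx, hgx, hx'⟩ := m11_exists_map (le_refl 3) x hx (fun i => mem_ptsMask_dod0c.2 (hxd i))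
  obtain ⟨gy, hgy, hy'⟩ := m11_exists_map (le_refl 3) y hy (fun i => mem_ptsMask_dod0c.2 (hyd i))
  have hmem := (fixSub (stabMask dod0) [0]).mul_mem hgy ((fixSub (stabMask dod0) [0]).inv_mem hgx)
  rw [mem_fixSub, mem_stabMask_iff_smul] at hmem
  refine ⟨gy * gx⁻¹, hmem.1.1, hmem.1.2, hmem.2 0 (by simp), ?_⟩
  intro i
  rw [Equiv.Perm.mul_apply, ← hx' i, Equiv.Perm.inv_def, Equiv.symm_apply_apply, hy' i]

theorem dodPtTrans_smul {d : Finset GolayPt} {p : GolayPt} (h : DodPtTrans d p) {g0 : Equiv.Perm GolayPt}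
    (hg0 : g0 ∈ M24) : DodPtTrans (g0 • d) (g0 p) := by
  intro x y hx hy hxd hyd
  have hmem : ∀ (z : GolayPt), z ∉ g0 • d → g0⁻¹ z ∉ d := by
    intro z hz hcon
    apply hz
    rw [Finset.mem_smul_finset]
    exact ⟨g0⁻¹ z, hcon, by rw [Equiv.Perm.smul_def, Equiv.Perm.inv_def, Equiv.apply_symm_apply]⟩
  obtain ⟨g, hg, hgd, hgp, hmap⟩ := h (fun i => g0⁻¹ (x i)) (fun i => g0⁻¹ (y i))
    (fun i j hij => hx (g0⁻¹.injective hij)) (fun i j hij => hy (g0⁻¹.injective hij))
    (fun i => hmem _ (hxd i)) (fun i => hmem _ (hyd i))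
  refine ⟨g0 * g * g0⁻¹, M24.mul_mem (M24.mul_mem hg0 hg) (M24.inv_mem hg0), ?_, ?_, ?_⟩
  · rw [mul_smul, mul_smul, inv_smul_smul, hgd]
  · rw [Equiv.Perm.mul_apply, Equiv.Perm.mul_apply, Equiv.Perm.inv_def, Equiv.symm_apply_apply, hgp]
  · intro i
    rw [Equiv.Perm.mul_apply, Equiv.Perm.mul_apply, hmap i, Equiv.Perm.inv_def, Equiv.apply_symm_apply]

theorem dodPtTrans_of_mem {d : Finset GolayPt} (hd : d ∈ dodecads) {p : GolayPt} (hp : p ∈ d) :
    DodPtTrans d p := by
  obtain ⟨g0, hg0, hd0⟩ := exists_M24_smul_dod0 hd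
  rw [← ptsMask_eq_support₂] at hd0
  -- move `g0 (gPt 0)` to `p` inside the stabilizer of `d`
  have h0 : g0 (gPt 0) ∈ d := by
    rw [← hd0]
    apply Finset.smul_mem_smul_finset
    rw [mem_ptsMask, gIdx_gPt (by norm_num)]
    decide
  obtain ⟨g1, hg1, hg1d, hg1p⟩ := dodTrans_of_mem hd 1 (by norm_num) (fun _ => g0 (gPt 0)) (fun _ => p)
    (Function.injective_of_subsingleton _) (Function.injective_of_subsingleton _)
    (fun _ => h0) (fun _ => hp)
  have h1 := dodPtTrans_smul dodPtTrans_dod0 (M24.mul_mem hg1 hg0)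
  rw [mul_smul, hd0, hg1d, Equiv.Perm.mul_apply, hg1p 0] at h1
  exact h1

end Cfsg.Agent.Lib.H28
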