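/-
helper28 library: the pointwise stabilizer of an octad in M24 (sixteen explicit involutions for the base octad).
-/
import Cfsg.Agent.Lib.H28.M12

set_option autoImplicit false

namespace Cfsg.Agent.Lib.H28

open Cfsg
open scoped Pointwise

theorem wordPerm_append (u v : List ℕ) : wordPerm (u ++ v) = wordPerm u * wordPerm v := by
  unfold wordPerm
  rw [List.map_append, List.prod_append]

/-- The indices of the points of the base octad. -/
def octPts : List ℕ := [0, 1, 2, 3, 5, 14, 17, 23]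

/-- The base octad as a finset of points. -/
def oct0 : Finset GolayPt := ptsMask baseOctad

theorem mem_oct0_iff {p : GolayPt} : p ∈ oct0 ↔ gIdx p ∈ octPts := by
  unfold oct0
  rw [mem_ptsMask]
  have : ∀ z < 24, baseOctad.testBit z = true ↔ z ∈ octPts := by decide +kernel
  exact this _ (gIdx_lt p)

theorem oct0_mem_octads : oct0 ∈ octads := by
  unfold oct0
  rw [ptsMask_eq_support₂]
  refine ⟨⟨W baseOctad, W_mem_of_inC baseOctad_inC, rfl⟩, ?_⟩
  rw [← supp_eq_support₂, ← hammingNorm_eq_card_supp, hammingNorm_W]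
  exact baseOctad_popc

/-- Words for the sixteen elements of the pointwise stabilizer of the base octad, indexed by the image of `4`. -/
def k0Tab : List (List ℕ) := [
  [],
  [],
  [],
  [],
  [],
  [],
  [4, 4, 0, 4, 0, 4, 0, 0, 0, 4, 0, 4, 4],
  [4, 2, 1, 4, 1, 1, 3, 0, 0, 0, 0, 3, 3, 1, 2],
  [4, 4, 1, 3, 3, 1, 4, 1, 4, 1, 1, 4, 0, 0, 4],
  [4, 4, 0, 4, 4, 1, 4, 4, 1, 4, 0, 0, 0, 4, 4],
  [3, 3, 1, 4, 0, 3, 0, 4, 1, 4, 4, 1, 4, 0, 3, 3],
  [3, 3, 1, 4, 1, 3, 1, 1, 1, 3, 1, 4],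
  [3, 3, 1, 4, 1, 1, 1, 3, 0, 3, 3, 0],
  [3, 1, 1, 3, 1, 1, 3, 3, 0, 3, 1, 1, 1, 4, 0],
  [],
  [4, 0, 4, 1, 1, 4, 4, 0, 0, 3, 1, 3, 1, 3, 0],
  [1, 4, 0, 3, 1, 1, 3, 1, 1, 3, 3, 0, 3, 1, 1],
  [],
  [1, 4, 0, 3, 3, 1, 4, 1, 1, 1, 3, 0, 4, 4, 0],
  [3, 2, 0, 3, 3, 2, 0, 3, 0, 3, 0, 2, 4, 1, 2, 4],
  [1, 1, 4, 0, 0, 0, 3, 0, 4, 4, 1, 4, 4, 0],
  [4, 1, 1, 1, 3, 1, 3, 1, 4, 1, 3, 3],
  [1, 4, 4, 1, 4, 0, 0, 3, 1, 1, 1, 3, 1, 4],
  []]

/-- The word `w` fixes the base octad pointwise, maps `4` to `z`, and is an involution. -/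
def k0OK (z : ℕ) (w : List ℕ) : Bool :=
  octPts.all (fun i => evalPt w i == i) && evalPt w 4 == z &&
    (List.range 24).all (fun k => evalPt w (evalPt w k) == k)

theorem k0Tab_ok : (List.range 24).all (fun z => baseOctad.testBit z || k0OK z (k0Tab.getD z [])) = true := by
  decide +kernel

theorem k0OK_spec {z : ℕ} {w : List ℕ} (h : k0OK z w = true) :
    (∀ i ∈ octPts, wordPerm w (gPt i) = gPt i) ∧ wordPerm w (gPt 4) = gPt z ∧
      wordPerm w * wordPerm w = 1 := by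
  unfold k0OK at h
  rw [Bool.and_eq_true, Bool.and_eq_true, List.all_eq_true, List.all_eq_true, beq_iff_eq] at h
  obtain ⟨⟨h1, h2⟩, h3⟩ := h
  refine ⟨?_, ?_, ?_⟩
  · intro i hi
    have := h1 i hi
    rw [beq_iff_eq] at this
    have hi24 : i < 24 := by
      have : ∀ i ∈ octPts, i < 24 := by decide
      exact this i hi
    exact wordPerm_gPt hi24 this
  · exact wordPerm_gPt (by norm_num) h2
  · apply Equiv.ext
    intro p
    apply gIdx_injective
    rw [Equiv.Perm.mul_apply, gIdx_wordPerm, gIdx_wordPerm, Equiv.Perm.one_apply]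
    have := h3 (gIdx p) (List.mem_range.2 (gIdx_lt p))
    rw [beq_iff_eq] at this
    exact this

/-- The pointwise stabilizer of six points `5, 3, 2, 1, 0, ∞` of the base octad. -/
noncomputable def K0 : Subgroup (Equiv.Perm GolayPt) := fixSub M24 [5, 3, 2, 1, 0, 23]

theorem K0_outside {g : Equiv.Perm GolayPt} (hg : g ∈ K0) :
    baseOctad.testBit (gIdx (g (gPt 4))) = false := by
  unfold K0 at hg
  rw [mem_fixSub] at hg
  have h5 : g ∈ fixSub M24 (levelFix 5) := by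
    rw [mem_fixSub]
    refine ⟨hg.1, ?_⟩
    intro k hk
    apply hg.2 k
    have : ∀ k ∈ levelFix 5, k ∈ [5, 3, 2, 1, 0, 23] := by decide
    exact this k hk
  have := level_le 5 (by norm_num) g h5
  rw [mem_ptsOf] at this
  have h4 : basePts.getD 5 0 = 4 := rfl
  rw [h4] at this
  have key : ∀ z, levelSet 5 z = true → baseOctad.testBit z = false := by
    intro z hz
    have : levelSet 5 z = !(baseOctad.testBit z) := rfl
    rw [this] at hz
    simpa using hz
  exact key _ this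

theorem k0Tab_ok' {z : ℕ} (hz : z < 24) (h : baseOctad.testBit z = false) : k0OK z (k0Tab.getD z []) = true := by
  have := List.all_eq_true.1 k0Tab_ok z (List.mem_range.2 hz)
  rw [h, Bool.false_or] at this
  exact this

/-- Every element of `K0` is one of the sixteen words. -/
theorem K0_eq_word {g : Equiv.Perm GolayPt} (hg : g ∈ K0) :
    g = wordPerm (k0Tab.getD (gIdx (g (gPt 4))) []) := by
  have hout := K0_outside hg
  set z := gIdx (g (gPt 4)) with hz
  have hz24 : z < 24 := gIdx_lt _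
  obtain ⟨h1, h2, -⟩ := k0OK_spec (k0Tab_ok' hz24 hout)
  set w := k0Tab.getD z [] with hw
  unfold K0 at hg
  rw [mem_fixSub] at hg
  have hmem : (wordPerm w)⁻¹ * g ∈ fixSub M24 (levelFix 7) := by
    rw [mem_fixSub]
    refine ⟨M24.mul_mem (M24.inv_mem (wordPerm_mem_M24 w)) hg.1, ?_⟩
    intro k hk
    have hk' : k = 4 ∨ k ∈ [5, 3, 2, 1, 0, 23] := by
      have : ∀ k ∈ levelFix 7, k = 4 ∨ k ∈ [5, 3, 2, 1, 0, 23] := by decide
      exact this k hk
    rw [Equiv.Perm.mul_apply, Equiv.Perm.inv_def, Equiv.symm_apply_eq]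
    rcases hk' with rfl | hk'
    · rw [h2, hz, gPt_gIdx]
    · rw [hg.2 k hk']
      have : k ∈ octPts := by
        have : ∀ k ∈ [5, 3, 2, 1, 0, 23], k ∈ octPts := by decide
        exact this k hk'
      exact (h1 k this).symm
  rw [fixSub_M24_top, Subgroup.mem_bot] at hmem
  exact (inv_mul_eq_one.1 hmem).symm

theorem K0_fix {g : Equiv.Perm GolayPt} (hg : g ∈ K0) : ∀ i ∈ octPts, g (gPt i) = gPt i := by
  have hout := K0_outside hg
  rw [K0_eq_word hg]
  exact (k0OK_spec (k0Tab_ok' (gIdx_lt _) hout)).1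

theorem K0_sq {g : Equiv.Perm GolayPt} (hg : g ∈ K0) : g * g = 1 := by
  have hout := K0_outside hg
  rw [K0_eq_word hg]
  exact (k0OK_spec (k0Tab_ok' (gIdx_lt _) hout)).2.2

theorem word_mem_K0 {z : ℕ} (hz : z < 24) (h : baseOctad.testBit z = false) :
    wordPerm (k0Tab.getD z []) ∈ K0 ∧ wordPerm (k0Tab.getD z []) (gPt 4) = gPt z := by
  obtain ⟨h1, h2, -⟩ := k0OK_spec (k0Tab_ok' hz h)
  refine ⟨?_, h2⟩
  unfold K0
  rw [mem_fixSub]
  refine ⟨wordPerm_mem_M24 _, ?_⟩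
  intro k hk
  apply h1
  have : ∀ k ∈ [5, 3, 2, 1, 0, 23], k ∈ octPts := by decide
  exact this k hk

/-- `K0` has order 16. -/
theorem card_K0 : Nat.card K0 = 16 := by
  have hbij : Function.Bijective (fun g : K0 => (⟨g.1 (gPt 4), by
      rw [mem_ptsOf]
      have := K0_outside g.2
      show (!(baseOctad.testBit (gIdx (g.1 (gPt 4))))) = true
      rw [this]; rfl⟩ : ptsOf (levelSet 5))) := by
    constructor
    · intro g g' h
      have h' : g.1 (gPt 4) = g'.1 (gPt 4) := congrArg Subtype.val h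
      apply Subtype.ext
      rw [K0_eq_word g.2, K0_eq_word g'.2, h']
    · rintro ⟨x, hx⟩
      rw [mem_ptsOf] at hx
      have hx' : baseOctad.testBit (gIdx x) = false := by
        have : levelSet 5 (gIdx x) = !(baseOctad.testBit (gIdx x)) := rfl
        rw [this] at hx
        simpa using hx
      obtain ⟨h1, h2⟩ := word_mem_K0 (gIdx_lt x) hx'
      refine ⟨⟨_, h1⟩, ?_⟩
      apply Subtype.ext
      show wordPerm (k0Tab.getD (gIdx x) []) (gPt 4) = x
      rw [h2, gPt_gIdx]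
  rw [Nat.card_eq_of_bijective _ hbij, Nat.card_eq_fintype_card, Fintype.card_coe]
  exact levelSet_card 5 (by norm_num)

/-- `K0` is the pointwise stabilizer of the base octad in `M24`. -/
theorem K0_eq : K0 = M24 ⊓ fixingSubgroup (Equiv.Perm GolayPt) (oct0 : Set GolayPt) := by
  ext g
  rw [Subgroup.mem_inf, mem_fixingSubgroup_iff]
  constructor
  · intro hg
    refine ⟨(mem_fixSub.1 hg).1, ?_⟩
    intro p hp
    rw [Finset.mem_coe, mem_oct0_iff] at hp
    have := K0_fix hg _ hp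
    rw [gPt_gIdx] at this
    exact this
  · rintro ⟨h1, h2⟩
    unfold K0
    rw [mem_fixSub]
    refine ⟨h1, ?_⟩
    intro k hk
    apply h2
    rw [Finset.mem_coe, mem_oct0_iff]
    have : ∀ k ∈ [5, 3, 2, 1, 0, 23], gIdx (gPt k) ∈ octPts := by decide
    exact this k hk

/-- Conjugation transport of pointwise stabilizers. -/
theorem mem_fixing_smul_iff (g0 x : Equiv.Perm GolayPt) (s : Finset GolayPt) :
    x ∈ fixingSubgroup (Equiv.Perm GolayPt) ((g0 • s : Finset GolayPt) : Set GolayPt) ↔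
      g0⁻¹ * x * g0 ∈ fixingSubgroup (Equiv.Perm GolayPt) (s : Set GolayPt) := by
  rw [mem_fixingSubgroup_iff, mem_fixingSubgroup_iff]
  constructor
  · intro h p hp
    have := h (g0 p) (by
      rw [Finset.mem_coe]
      exact Finset.smul_mem_smul_finset (Finset.mem_coe.1 hp))
    rw [Equiv.Perm.smul_def] at this ⊢
    rw [Equiv.Perm.mul_apply, Equiv.Perm.mul_apply, this, Equiv.Perm.inv_def, Equiv.symm_apply_apply]
  · intro h q hq
    rw [Finset.mem_coe, Finset.mem_smul_finset] at hq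
    obtain ⟨p, hp, rfl⟩ := hq
    have := h p (Finset.mem_coe.2 hp)
    rw [Equiv.Perm.smul_def] at this ⊢
    rw [Equiv.Perm.mul_apply, Equiv.Perm.mul_apply, Equiv.Perm.inv_def, Equiv.symm_apply_eq] at this
    rw [Equiv.Perm.smul_def]
    exact this

/-- The pointwise stabiliser of an octad has order 16 and exponent 2. -/
theorem octad_pointwise_stabilizer {o : Finset GolayPt} (ho : o ∈ octads) :
    Nat.card ↥(M24 ⊓ fixingSubgroup (Equiv.Perm GolayPt) (o : Set GolayPt)) = 16 ∧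
      ∀ g ∈ M24 ⊓ fixingSubgroup (Equiv.Perm GolayPt) (o : Set GolayPt), g * g = 1 := by
  obtain ⟨g0, hg0, rfl⟩ := exists_M24_smul_octad oct0_mem_octads ho
  have hmem : ∀ x, x ∈ M24 ⊓ fixingSubgroup (Equiv.Perm GolayPt) ((g0 • oct0 : Finset GolayPt) : Set GolayPt) ↔
      g0⁻¹ * x * g0 ∈ K0 := by
    intro x
    rw [K0_eq, Subgroup.mem_inf, Subgroup.mem_inf, mem_fixing_smul_iff]
    constructor
    · rintro ⟨h1, h2⟩
      exact ⟨M24.mul_mem (M24.mul_mem (M24.inv_mem hg0) h1) hg0, h2⟩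
    · rintro ⟨h1, h2⟩
      refine ⟨?_, h2⟩
      have := M24.mul_mem (M24.mul_mem hg0 h1) (M24.inv_mem hg0)
      simpa [mul_assoc] using this
  constructor
  · rw [← card_K0]
    apply Nat.card_congr
    refine ⟨fun x => ⟨g0⁻¹ * x.1 * g0, (hmem x.1).1 x.2⟩, fun y => ⟨g0 * y.1 * g0⁻¹, ?_⟩, ?_, ?_⟩
    · rw [hmem]
      have : g0⁻¹ * (g0 * y.1 * g0⁻¹) * g0 = y.1 := by group
      rw [this]; exact y.2
    · intro x; apply Subtype.ext; show g0 * (g0⁻¹ * x.1 * g0) * g0⁻¹ = x.1; group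
    · intro y; apply Subtype.ext; show g0⁻¹ * (g0 * y.1 * g0⁻¹) * g0 = y.1; group
  · intro x hx
    have := K0_sq ((hmem x).1 hx)
    have h2 : g0⁻¹ * x * g0 * (g0⁻¹ * x * g0) = g0⁻¹ * (x * x) * g0 := by group
    rw [h2] at this
    have h3 : x * x = g0 * (g0⁻¹ * (x * x) * g0) * g0⁻¹ := by group
    rw [h3, this]; group

end Cfsg.Agent.Lib.H28
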