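/-
helper28 library: a "point version" of the Iwasawa criterion: a perfect group with a core-free maximal subgroup `H`
normalizing an abelian subgroup `A` whose conjugates generate the group is simple.
-/
import Mathlib.GroupTheory.GroupAction.Iwasawa
import Mathlib.Tactic.Group

set_option autoImplicit false

namespace Cfsg.Agent.Lib.H28

open scoped Pointwise

/-- Iwasawa's criterion, stated with a maximal subgroup. -/
theorem isSimpleGroup_of_iwasawa {G : Type*} [Group G] [Nontrivial G] (H A : Subgroup G)
    (hH : IsCoatom H)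
    (hA : ∀ a ∈ A, ∀ b ∈ A, a * b = b * a)
    (hnorm : ∀ h ∈ H, ∀ a ∈ A, h * a * h⁻¹ ∈ A)
    (hgen : Subgroup.normalClosure (A : Set G) = ⊤)
    (hperf : commutator G = ⊤)
    (hcore : ∀ N : Subgroup G, N.Normal → N ≤ H → N = ⊥) :
    IsSimpleGroup G := by
  refine ⟨fun N hN => ?_⟩
  by_cases hNH : N ≤ H
  · exact Or.inl (hcore N hN hNH)
  · right
    have hlt : H < N ⊔ H := by
      apply lt_of_le_of_ne le_sup_right
      intro h
      apply hNH
      rw [h]
      exact le_sup_left
    have hsup : N ⊔ H = ⊤ := hH.2 _ hlt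
    -- conjugates of `A` lie in `N ⊔ A`
    have hconj : ∀ g : G, ∀ a ∈ A, g * a * g⁻¹ ∈ N ⊔ A := by
      intro g a ha
      have hg : g ∈ ((N ⊔ H : Subgroup G) : Set G) := by rw [hsup]; trivial
      rw [Subgroup.normal_mul, Set.mem_mul] at hg
      obtain ⟨n, hn, h, hh, rfl⟩ := hg
      have ha' := hnorm h hh a ha
      set a' := h * a * h⁻¹ with ha'def
      have h1 : n * h * a * (n * h)⁻¹ = (n * (a' * n⁻¹ * a'⁻¹)) * a' := by
        rw [ha'def]; group
      rw [h1]
      apply Subgroup.mul_mem
      · apply Subgroup.mem_sup_left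
        exact N.mul_mem hn (hN.conj_mem _ (N.inv_mem hn) a')
      · exact Subgroup.mem_sup_right ha'
    have hNA : N ⊔ A = ⊤ := by
      rw [eq_top_iff, ← hgen]
      -- the normal closure is generated by the conjugates
      unfold Subgroup.normalClosure
      rw [Subgroup.closure_le]
      intro x hx
      rw [Group.mem_conjugatesOfSet_iff] at hx
      obtain ⟨a, ha, hax⟩ := hx
      rw [isConj_iff] at hax
      obtain ⟨c, rfl⟩ := hax
      exact hconj c a ha
    have hcomm : IsMulCommutative A := ⟨⟨fun a b => Subtype.ext (hA a.1 a.2 b.1 b.2)⟩⟩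
    have := hN.commutator_le_of_self_sup_commutative_eq_top hNA hcomm
    rw [hperf] at this
    exact top_le_iff.1 this

/-- A normal subgroup contained in a point stabilizer is trivial, if the group acts faithfully on the orbit. -/
theorem eq_bot_of_normal_le_stabilizer {G X : Type*} [Group G] [MulAction G X] (S : Set X)
    (hfaith : ∀ g : G, (∀ y ∈ S, g • y = y) → g = 1)
    (x : X) (htrans : ∀ y ∈ S, ∃ g : G, g • x = y) (N : Subgroup G) (hN : N.Normal)
    (h : N ≤ MulAction.stabilizer G x) : N = ⊥ := by
  rw [Subgroup.eq_bot_iff_forall]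
  intro n hn
  apply hfaith
  intro y hy
  obtain ⟨g, rfl⟩ := htrans y hy
  have h1 : g⁻¹ * n * g ∈ N := by
    have := hN.conj_mem n hn g⁻¹
    rwa [inv_inv] at this
  have h2 := h h1
  rw [MulAction.mem_stabilizer_iff, mul_smul, mul_smul] at h2
  rw [inv_smul_eq_iff] at h2
  exact h2

end Cfsg.Agent.Lib.H28
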