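/-
helper28 library: intersections of octads of an abstract Golay code and the octad graph (adjacent = disjoint):
distances 1, 2, 3 correspond to intersections 0, 4, 2.
-/
import Cfsg.Agent.Lib.H28.GolayAbstract
import Cfsg.Agent.Lib.H28.GolaySextet

set_option autoImplicit false

namespace Cfsg.Agent.Lib.H28

open Finset

section OctadGraph

variable {ι : Type*} [Fintype ι] [DecidableEq ι] {C : Submodule (ZMod 2) (ι → ZMod 2)}

local notation "Oct" C => Cfsg.wordsOfWeight (C : Set (ι → ZMod 2)) 8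

theorem octad_inter_card (hC : IsAbsGolay C) {o o' : Finset ι} (ho : o ∈ Oct C) (ho' : o' ∈ Oct C)
    (hne : o ≠ o') : (o ∩ o').card = 0 ∨ (o ∩ o').card = 2 ∨ (o ∩ o').card = 4 := by
  rw [mem_wordsOfWeight_iff] at ho ho'
  have h1 := wt_add (ind o) (ind o')
  rw [supp_ind, supp_ind, hammingNorm_ind, hammingNorm_ind, ho.2, ho'.2] at h1
  have h2 : ind o + ind o' ≠ 0 := by
    intro h
    apply hne
    have : ind o = ind o' := by
      have h3 : ind o = (ind o + ind o') + ind o' := by rw [add_assoc, add_self', add_zero]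
      rw [h3, h, zero_add]
    have := congrArg supp this
    rwa [supp_ind, supp_ind] at this
  have h3 := hC.hmin _ (C.add_mem ho.1 ho'.1) h2
  have h4 := even_inter_of_ind_orth (hC.horth _ ho.1 _ ho'.1)
  obtain ⟨k, hk⟩ := h4
  omega

theorem disjoint_union_tetrads (hC : IsAbsGolay C) {T a b x y : Finset ι} (ha : a ∈ tetrads C T)
    (hb : b ∈ tetrads C T) (hx : x ∈ tetrads C T) (hy : y ∈ tetrads C T)
    (hax : a ≠ x) (hay : a ≠ y) (hbx : b ≠ x) (hby : b ≠ y) : Disjoint (a ∪ b) (x ∪ y) := by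
  rw [disjoint_union_left, disjoint_union_right, disjoint_union_right]
  exact ⟨⟨tetrads_disjoint hC ha hx hax, tetrads_disjoint hC ha hy hay⟩,
    ⟨tetrads_disjoint hC hb hx hbx, tetrads_disjoint hC hb hy hby⟩⟩

theorem exists_disjoint_octad_of_inter_four (hC : IsAbsGolay C) {o o' : Finset ι} (ho : o ∈ Oct C)
    (ho' : o' ∈ Oct C) (h4 : (o ∩ o').card = 4) :
    ∃ a ∈ Oct C, Disjoint a o ∧ Disjoint a o' := by
  have hne : o ≠ o' := by
    rintro rfl
    rw [inter_self, (mem_wordsOfWeight_iff.1 ho).2] at h4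
    omega
  set T := o ∩ o' with hT
  obtain ⟨h1, h1n, h1e⟩ := exists_tetrad_of_subset_octad h4 ho (inter_subset_left : T ⊆ o)
  obtain ⟨h2, h2n, h2e⟩ := exists_tetrad_of_subset_octad h4 ho' (inter_subset_right : T ⊆ o')
  have hTm : T ∈ tetrads C T := self_mem_tetrads h4
  have h12 : o \ T ≠ o' \ T := by
    intro h
    apply hne
    rw [h1e, h2e, h]
  have hm1 : o \ T ∈ (tetrads C T).erase T := by
    rw [mem_erase]; exact ⟨h1n, h1⟩
  have hm2 : o' \ T ∈ ((tetrads C T).erase T).erase (o \ T) := by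
    rw [mem_erase, mem_erase]; exact ⟨h12.symm, h2n, h2⟩
  have hcard : 1 < ((((tetrads C T).erase T).erase (o \ T)).erase (o' \ T)).card := by
    rw [card_erase_of_mem hm2, card_erase_of_mem hm1, card_erase_of_mem hTm, card_tetrads hC h4]
    norm_num
  obtain ⟨a, ha, b, hb, hab⟩ := one_lt_card.1 hcard
  simp only [mem_erase] at ha hb
  refine ⟨a ∪ b, union_tetrads_mem hC ha.2.2.2 hb.2.2.2 hab, ?_, ?_⟩
  · rw [h1e]
    exact disjoint_union_tetrads hC ha.2.2.2 hb.2.2.2 hTm h1 ha.2.2.1 ha.2.1 hb.2.2.1 hb.2.1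
  · rw [h2e]
    exact disjoint_union_tetrads hC ha.2.2.2 hb.2.2.2 hTm h2 ha.2.2.1 ha.1 hb.2.2.1 hb.1

theorem not_disjoint_of_inter_two (hC : IsAbsGolay C) {o o' a : Finset ι} (ho : o ∈ Oct C)
    (ho' : o' ∈ Oct C) (ha : a ∈ Oct C) (h2 : (o ∩ o').card = 2) :
    ¬ (Disjoint a o ∧ Disjoint a o') := by
  rintro ⟨h1, h1'⟩
  rw [mem_wordsOfWeight_iff] at ho ho' ha
  have hw : ind o + ind o' ∈ C := C.add_mem ho.1 ho'.1
  have hwt : hammingNorm (ind o + ind o') = 12 := by
    have := wt_add (ind o) (ind o')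
    rw [supp_ind, supp_ind, hammingNorm_ind, hammingNorm_ind, ho.2, ho'.2, h2] at this
    omega
  have hw' : (ind o + ind o') + ind a ∈ C := C.add_mem hw ha.1
  have hwt' : hammingNorm ((ind o + ind o') + ind a) = 20 := by
    have := wt_add (ind o + ind o') (ind a)
    have hd : supp (ind o + ind o') ∩ supp (ind a) = ∅ := by
      rw [← disjoint_iff_inter_eq_empty, supp_add, supp_ind, supp_ind, supp_ind]
      apply Disjoint.mono_left (symmDiff_le_sup : symmDiff o o' ≤ o ⊔ o')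
      rw [sup_eq_union, disjoint_union_left]
      exact ⟨h1.symm, h1'.symm⟩
    rw [hd, card_empty, hwt, hammingNorm_ind, ha.2] at this
    omega
  exact wt_ne_twenty hC hw' hwt'

theorem exists_path_of_inter_two (hC : IsAbsGolay C) {o o' : Finset ι} (ho : o ∈ Oct C)
    (ho' : o' ∈ Oct C) (h2 : (o ∩ o').card = 2) :
    ∃ a ∈ Oct C, ∃ b ∈ Oct C, Disjoint o a ∧ Disjoint a b ∧ Disjoint b o' := by
  have ho8 := (mem_wordsOfWeight_iff.1 ho).2
  have ho8' := (mem_wordsOfWeight_iff.1 ho').2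
  have h6 : 4 ≤ (o \ o').card := by
    have := card_sdiff_add_card_inter o o'
    omega
  obtain ⟨T, hTsub, hT⟩ := exists_subset_card_eq h6
  have hTo : T ⊆ o := hTsub.trans sdiff_subset
  have hTo' : Disjoint T o' := by
    apply Disjoint.mono_left hTsub
    exact sdiff_disjoint
  obtain ⟨h1, h1n, h1e⟩ := exists_tetrad_of_subset_octad hT ho hTo
  have hTm : T ∈ tetrads C T := self_mem_tetrads hT
  set t2 := o \ T with ht2
  -- intersection numbers of o' with the tetrads
  have hf2 : (o' ∩ t2).card = 2 := by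
    have : o' ∩ t2 = o ∩ o' := by
      ext x
      simp only [ht2, mem_inter, mem_sdiff]
      constructor
      · rintro ⟨hx1, hx2, _⟩; exact ⟨hx2, hx1⟩
      · rintro ⟨hx1, hx2⟩
        exact ⟨hx2, hx1, fun hxT => (disjoint_left.1 hTo') hxT hx2⟩
    rw [this, h2]
  have hfT : (o' ∩ T).card = 0 := by
    rw [card_eq_zero, ← disjoint_iff_inter_eq_empty]; exact hTo'.symm
  have hsum : ∑ t ∈ tetrads C T, (o' ∩ t).card = 8 := by
    rw [← ho8', ← card_biUnion]
    · congr 1
      ext x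
      simp only [mem_biUnion, mem_inter]
      constructor
      · rintro ⟨t, _, hx, _⟩; exact hx
      · intro hx
        obtain ⟨t, ht, hxt⟩ := tetrads_cover hC hT x
        exact ⟨t, ht, hx, hxt⟩
    · intro t ht t' ht' hne
      exact Disjoint.mono inter_subset_right inter_subset_right (tetrads_disjoint hC ht ht' hne)
  have heven : ∀ t ∈ tetrads C T, t ≠ T → Even (o' ∩ t).card := by
    intro t ht hne
    have hoct := union_tetrads_mem hC hTm ht hne.symm
    rw [mem_wordsOfWeight_iff] at hoct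
    have := even_inter_of_ind_orth (hC.horth _ (mem_wordsOfWeight_iff.1 ho').1 _ hoct.1)
    have h3 : o' ∩ (T ∪ t) = o' ∩ t := by
      rw [inter_union_distrib_left, disjoint_iff_inter_eq_empty.1 hTo'.symm, empty_union]
    rwa [h3] at this
  set R := ((tetrads C T).erase T).erase t2 with hR
  have ht2R : t2 ∈ (tetrads C T).erase T := by
    rw [mem_erase]; exact ⟨h1n, h1⟩
  have hRcard : R.card = 4 := by
    rw [hR, card_erase_of_mem ht2R, card_erase_of_mem hTm, card_tetrads hC hT]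
  have hsumR : ∑ t ∈ R, (o' ∩ t).card = 6 := by
    have e1 := add_sum_erase (tetrads C T) (fun t => (o' ∩ t).card) hTm
    have e2 := add_sum_erase ((tetrads C T).erase T) (fun t => (o' ∩ t).card) ht2R
    rw [hR]
    omega
  have hex : ∃ t6 ∈ R, (o' ∩ t6).card = 0 := by
    by_contra hcon
    push Not at hcon
    have hge : ∀ t ∈ R, 2 ≤ (o' ∩ t).card := by
      intro t ht
      have h0 := hcon t ht
      have htm : t ∈ tetrads C T ∧ t ≠ T := by
        rw [hR, mem_erase, mem_erase] at ht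
        exact ⟨ht.2.2, ht.2.1⟩
      obtain ⟨k, hk⟩ := heven t htm.1 htm.2
      omega
    have := card_nsmul_le_sum R (fun t => (o' ∩ t).card) 2 hge
    rw [hRcard, hsumR] at this
    simp at this
  obtain ⟨t6, ht6R, ht6⟩ := hex
  have ht6' : t6 ≠ t2 ∧ t6 ≠ T ∧ t6 ∈ tetrads C T := by
    rw [hR, mem_erase, mem_erase] at ht6R
    exact ht6R
  have hcard : 1 < (R.erase t6).card := by
    rw [card_erase_of_mem ht6R, hRcard]
    norm_num
  obtain ⟨a, ha, b, hb, hab⟩ := one_lt_card.1 hcard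
  rw [hR] at ha hb
  simp only [mem_erase] at ha hb
  refine ⟨a ∪ b, union_tetrads_mem hC ha.2.2.2 hb.2.2.2 hab, T ∪ t6,
    union_tetrads_mem hC hTm ht6'.2.2 ht6'.2.1.symm, ?_, ?_, ?_⟩
  · rw [h1e]
    exact (disjoint_union_tetrads hC ha.2.2.2 hb.2.2.2 hTm h1 ha.2.2.1 ha.2.1 hb.2.2.1 hb.2.1).symm
  · exact disjoint_union_tetrads hC ha.2.2.2 hb.2.2.2 hTm ht6'.2.2 ha.2.2.1 ha.1 hb.2.2.1 hb.1
  · rw [disjoint_union_left]
    refine ⟨hTo', ?_⟩
    rw [card_eq_zero, ← disjoint_iff_inter_eq_empty] at ht6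
    exact ht6.symm

theorem exists_adj_adj_of_walk_length_two {V : Type*} {G : SimpleGraph V} {u v : V} (p : G.Walk u v)
    (h : p.length = 2) : ∃ w, G.Adj u w ∧ G.Adj w v := by
  cases p with
  | nil => simp at h
  | cons h1 p' =>
    cases p' with
    | nil => simp at h
    | cons h2 p'' =>
      cases p'' with
      | nil => exact ⟨_, h1, h2⟩
      | cons _ _ => simp at h

theorem blockGraph_adj_iff {α : Type*} {B : Set (Finset α)} (x y : B) :
    (Cfsg.blockGraph B).Adj x y ↔ x ≠ y ∧ Disjoint (x : Finset α) (y : Finset α) := by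
  unfold Cfsg.blockGraph
  rw [SimpleGraph.fromRel_adj]
  constructor
  · rintro ⟨h1, h2 | h2⟩
    · exact ⟨h1, h2⟩
    · exact ⟨h1, h2.symm⟩
  · rintro ⟨h1, h2⟩
    exact ⟨h1, Or.inl h2⟩

theorem octad_adj_of_disjoint {x y : Oct C} (h : Disjoint (x : Finset ι) (y : Finset ι)) :
    (Cfsg.blockGraph (Oct C)).Adj x y := by
  rw [blockGraph_adj_iff]
  refine ⟨?_, h⟩
  rintro rfl
  rw [disjoint_self, bot_eq_empty] at h
  have := (mem_wordsOfWeight_iff.1 x.2).2
  rw [h] at this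
  simp at this

theorem octad_graph (hC : IsAbsGolay C) (o o' : Finset ι) (ho : o ∈ Oct C) (ho' : o' ∈ Oct C)
    (hne : o ≠ o') :
    (Cfsg.blockGraph (Oct C)).Connected ∧
    ((Cfsg.blockGraph (Oct C)).dist ⟨o, ho⟩ ⟨o', ho'⟩ = 1 ↔ (o ∩ o').card = 0) ∧
    ((Cfsg.blockGraph (Oct C)).dist ⟨o, ho⟩ ⟨o', ho'⟩ = 2 ↔ (o ∩ o').card = 4) ∧
    ((Cfsg.blockGraph (Oct C)).dist ⟨o, ho⟩ ⟨o', ho'⟩ = 3 ↔ (o ∩ o').card = 2) := by
  set G := Cfsg.blockGraph (Oct C) with hG
  -- the three cases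
  have case0 : ∀ x y : Oct C, ((x : Finset ι) ∩ y).card = 0 → G.Adj x y := by
    intro x y h
    apply octad_adj_of_disjoint
    rw [disjoint_iff_inter_eq_empty, ← card_eq_zero]; exact h
  have notadj : ∀ x y : Oct C, ((x : Finset ι) ∩ y).card ≠ 0 → ¬ G.Adj x y := by
    intro x y h hadj
    rw [hG, blockGraph_adj_iff] at hadj
    apply h
    rw [card_eq_zero, ← disjoint_iff_inter_eq_empty]; exact hadj.2
  have case4 : ∀ x y : Oct C, ((x : Finset ι) ∩ y).card = 4 → G.Reachable x y ∧ G.dist x y = 2 := by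
    intro x y h
    obtain ⟨a, ha, h1, h2⟩ := exists_disjoint_octad_of_inter_four hC x.2 y.2 h
    have adj1 : G.Adj x ⟨a, ha⟩ := octad_adj_of_disjoint h1.symm
    have adj2 : G.Adj ⟨a, ha⟩ y := octad_adj_of_disjoint h2
    have hle : G.dist x y ≤ 2 :=
      SimpleGraph.dist_le (SimpleGraph.Walk.cons adj1 (SimpleGraph.Walk.cons adj2 SimpleGraph.Walk.nil))
    have hr : G.Reachable x y := (adj1.reachable).trans adj2.reachable
    have hxy : x ≠ y := by
      rintro rfl
      rw [inter_self, (mem_wordsOfWeight_iff.1 x.2).2] at h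
      omega
    have hlt := hr.one_lt_dist_of_ne_of_not_adj hxy (notadj x y (by omega))
    exact ⟨hr, by omega⟩
  have case2 : ∀ x y : Oct C, ((x : Finset ι) ∩ y).card = 2 → G.Reachable x y ∧ G.dist x y = 3 := by
    intro x y h
    obtain ⟨a, ha, b, hb, h1, h2, h3⟩ := exists_path_of_inter_two hC x.2 y.2 h
    have adj1 : G.Adj x ⟨a, ha⟩ := octad_adj_of_disjoint h1
    have adj2 : G.Adj ⟨a, ha⟩ ⟨b, hb⟩ := octad_adj_of_disjoint h2
    have adj3 : G.Adj ⟨b, hb⟩ y := octad_adj_of_disjoint h3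
    have hle : G.dist x y ≤ 3 :=
      SimpleGraph.dist_le (SimpleGraph.Walk.cons adj1 (SimpleGraph.Walk.cons adj2
        (SimpleGraph.Walk.cons adj3 SimpleGraph.Walk.nil)))
    have hr : G.Reachable x y := ((adj1.reachable).trans adj2.reachable).trans adj3.reachable
    have hxy : x ≠ y := by
      rintro rfl
      rw [inter_self, (mem_wordsOfWeight_iff.1 x.2).2] at h
      omega
    have hlt := hr.one_lt_dist_of_ne_of_not_adj hxy (notadj x y (by omega))
    have hne2 : G.dist x y ≠ 2 := by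
      intro h2'
      obtain ⟨p, hp⟩ := SimpleGraph.exists_walk_of_dist_ne_zero (G := G) (u := x) (v := y) (by omega)
      rw [h2'] at hp
      obtain ⟨w, hw1, hw2⟩ := exists_adj_adj_of_walk_length_two p hp
      rw [hG, blockGraph_adj_iff] at hw1 hw2
      exact not_disjoint_of_inter_two hC x.2 y.2 w.2 h ⟨hw1.2.symm, hw2.2⟩
    exact ⟨hr, by omega⟩
  have hreach : ∀ x y : Oct C, G.Reachable x y := by
    intro x y
    by_cases hxy : x = y
    · rw [hxy]
    · have hxy' : (x : Finset ι) ≠ y := fun h => hxy (Subtype.ext h)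
      rcases octad_inter_card hC x.2 y.2 hxy' with h | h | h
      · exact (case0 x y h).reachable
      · exact (case2 x y h).1
      · exact (case4 x y h).1
  have hnonempty : Nonempty (Oct C) := ⟨⟨o, ho⟩⟩
  refine ⟨⟨hreach⟩, ?_⟩
  have hc := octad_inter_card hC ho ho' hne
  have d0 : (o ∩ o').card = 0 → G.dist ⟨o, ho⟩ ⟨o', ho'⟩ = 1 := fun h =>
    SimpleGraph.dist_eq_one_iff_adj.2 (case0 ⟨o, ho⟩ ⟨o', ho'⟩ h)
  have d4 : (o ∩ o').card = 4 → G.dist ⟨o, ho⟩ ⟨o', ho'⟩ = 2 := fun h => (case4 ⟨o, ho⟩ ⟨o', ho'⟩ h).2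
  have d2 : (o ∩ o').card = 2 → G.dist ⟨o, ho⟩ ⟨o', ho'⟩ = 3 := fun h => (case2 ⟨o, ho⟩ ⟨o', ho'⟩ h).2
  refine ⟨⟨fun h => ?_, d0⟩, ⟨fun h => ?_, d4⟩, ⟨fun h => ?_, d2⟩⟩
  · rcases hc with h' | h' | h'
    · exact h'
    · rw [d2 h'] at h; omega
    · rw [d4 h'] at h; omega
  · rcases hc with h' | h' | h'
    · rw [d0 h'] at h; omega
    · rw [d2 h'] at h; omega
    · exact h'
  · rcases hc with h' | h' | h'
    · rw [d0 h'] at h; omega
    · exact h'
    · rw [d4 h'] at h; omega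

end OctadGraph

end Cfsg.Agent.Lib.H28
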