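/-
helper28 library: intersection counts for octads of an abstract Golay code (5 or 77 octads through a 4-set or 2-set;
4, 16, 30 octads meeting an octad in a prescribed 4-set, 2-set, or not at all), third octad of a trio, 3795 trios.
-/
import Cfsg.Agent.Lib.H28.GolayCount
import Cfsg.Agent.Lib.H28.GolayOctadGraph
import Cfsg.Agent.Lib.H28.GolayConcrete
import Cfsg.Prelude.Def_SporadicCombinatorics

set_option autoImplicit false
set_option linter.unusedSectionVars false

namespace Cfsg.Agent.Lib.H28

open Finset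

variable {ι : Type*} [Fintype ι] [DecidableEq ι] {C : Submodule (ZMod 2) (ι → ZMod 2)}

local notation "Oct" C => Cfsg.wordsOfWeight (C : Set (ι → ZMod 2)) 8

theorem ind_compl (s : Finset ι) : ind sᶜ = 1 + ind s := by
  funext i
  by_cases hi : i ∈ s
  · simp only [ind, mem_compl, hi, not_true_eq_false, if_false, if_true, Pi.add_apply, Pi.one_apply]
    decide
  · simp [ind, hi]

theorem card_blocksF_octads (hC : IsAbsGolay C) : (blocksF (Oct C)).card = 759 := by
  rw [← card_octads hC, ← Set.ncard_coe_finset]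
  congr 1
  ext b
  simp [mem_blocksF]

/-- Five octads through a 4-set. -/
theorem card_octads_through_four (hC : IsAbsGolay C) {J : Finset ι} (hJ : J.card = 4) :
    ((blocksF (Oct C)).filter (J ⊆ ·)).card = 5 := by
  have h := steiner_count (steiner_wordsOfWeight hC) J (by omega)
  rw [hJ, hC.hcard] at h
  have h1 : Nat.choose (8 - 4) (5 - 4) = 4 := by decide
  have h2 : Nat.choose (24 - 4) (5 - 4) = 20 := by decide
  rw [h1, h2] at h
  omega

/-- 77 octads through a 2-set. -/
theorem card_octads_through_two (hC : IsAbsGolay C) {J : Finset ι} (hJ : J.card = 2) :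
    ((blocksF (Oct C)).filter (J ⊆ ·)).card = 77 := by
  have h := steiner_count (steiner_wordsOfWeight hC) J (by omega)
  rw [hJ, hC.hcard] at h
  have h1 : Nat.choose (8 - 2) (5 - 2) = 20 := by decide
  have h2 : Nat.choose (24 - 2) (5 - 2) = 1540 := by decide
  rw [h1, h2] at h
  omega

theorem inter_eq_of_subset_octads (hC : IsAbsGolay C) {o o' s : Finset ι} (ho : o ∈ Oct C) (ho' : o' ∈ Oct C)
    (hne : o' ≠ o) (hs : s ⊆ o) (hs' : s ⊆ o') (h4 : s.card = 4) : o ∩ o' = s := by
  have hsub : s ⊆ o ∩ o' := subset_inter hs hs'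
  have hle := card_le_card hsub
  symm
  apply eq_of_subset_of_card_le hsub
  rcases octad_inter_card hC ho ho' (Ne.symm hne) with h | h | h <;> omega

/-- Four octads meet an octad in a prescribed 4-subset. -/
theorem card_octads_meet_four (hC : IsAbsGolay C) {o s : Finset ι} (ho : o ∈ Oct C) (hs : s ⊆ o)
    (h4 : s.card = 4) : ((blocksF (Oct C)).filter (fun o' => o ∩ o' = s)).card = 4 := by
  have h5 := card_octads_through_four hC h4
  have ho8 : o.card = 8 := ho.2
  have hins : (blocksF (Oct C)).filter (s ⊆ ·)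
      = insert o ((blocksF (Oct C)).filter (fun o' => o ∩ o' = s)) := by
    ext o'
    rw [mem_insert, mem_filter, mem_filter, mem_blocksF]
    constructor
    · rintro ⟨ho', hso'⟩
      by_cases hne : o' = o
      · exact Or.inl hne
      · exact Or.inr ⟨ho', inter_eq_of_subset_octads hC ho ho' hne hs hso' h4⟩
    · rintro (rfl | ⟨ho', hi⟩)
      · exact ⟨ho, hs⟩
      · refine ⟨ho', ?_⟩
        rw [← hi]; exact inter_subset_right
  have hnot : o ∉ (blocksF (Oct C)).filter (fun o' => o ∩ o' = s) := by
    rw [mem_filter, inter_self]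
    rintro ⟨-, h⟩
    rw [h] at ho8; omega
  rw [hins, card_insert_of_notMem hnot] at h5
  omega

/-- Sixteen octads meet an octad in a prescribed 2-subset. -/
theorem card_octads_meet_two (hC : IsAbsGolay C) {o s : Finset ι} (ho : o ∈ Oct C) (hs : s ⊆ o)
    (h2 : s.card = 2) : ((blocksF (Oct C)).filter (fun o' => o ∩ o' = s)).card = 16 := by
  have h77 := card_octads_through_two hC h2
  have ho8 : o.card = 8 := ho.2
  set F := (blocksF (Oct C)).filter (s ⊆ ·) with hF
  set TT := (o.powersetCard 4).filter (s ⊆ ·) with hTT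
  have hTTcard : TT.card = 15 := by
    rw [hTT, card_filter_powersetCard_subset s o 4 hs (by omega), ho8, h2]
    decide
  have hfib := card_eq_sum_card_fiberwise (s := F) (t := insert o (insert s TT)) (f := fun o' => o ∩ o') (by
    intro o' ho'
    rw [mem_coe, hF, mem_filter, mem_blocksF] at ho'
    show o ∩ o' ∈ ((insert o (insert s TT) : Finset (Finset ι)) : Set (Finset ι))
    rw [mem_coe, mem_insert, mem_insert]
    by_cases hne : o' = o
    · left; rw [hne, inter_self]
    · right
      have hsub : s ⊆ o ∩ o' := subset_inter hs ho'.2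
      have hle := card_le_card hsub
      rcases octad_inter_card hC ho ho'.1 (Ne.symm hne) with h | h | h
      · omega
      · left
        symm
        exact eq_of_subset_of_card_le hsub (by omega)
      · right
        rw [hTT, mem_filter, mem_powersetCard]
        exact ⟨⟨inter_subset_left, h⟩, hsub⟩)
  have ho_not : o ∉ insert s TT := by
    rw [mem_insert, hTT, mem_filter, mem_powersetCard]
    rintro (h | ⟨⟨-, h⟩, -⟩)
    · rw [h] at ho8; omega
    · omega
  have hs_not : s ∉ TT := by
    rw [hTT, mem_filter, mem_powersetCard]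
    rintro ⟨⟨-, h⟩, -⟩
    omega
  rw [sum_insert ho_not, sum_insert hs_not] at hfib
  have h1 : (F.filter (fun o' => o ∩ o' = o)).card = 1 := by
    rw [card_eq_one]
    refine ⟨o, ?_⟩
    ext o'
    rw [mem_filter, mem_singleton, hF, mem_filter, mem_blocksF]
    constructor
    · rintro ⟨⟨ho', -⟩, h⟩
      have hsub : o ⊆ o' := by rw [← h]; exact inter_subset_right
      have ho'8 : o'.card = 8 := ho'.2
      exact (eq_of_subset_of_card_le hsub (by omega)).symm
    · rintro rfl
      exact ⟨⟨ho, hs⟩, inter_self _⟩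
  have h3 : ∀ T ∈ TT, (F.filter (fun o' => o ∩ o' = T)).card = 4 := by
    intro T hT
    rw [hTT, mem_filter, mem_powersetCard] at hT
    rw [← card_octads_meet_four hC ho hT.1.1 hT.1.2]
    congr 1
    ext o'
    simp only [hF, mem_filter]
    constructor
    · rintro ⟨⟨h, -⟩, h'⟩; exact ⟨h, h'⟩
    · rintro ⟨h, h'⟩
      refine ⟨⟨h, ?_⟩, h'⟩
      have : T ⊆ o' := by rw [← h']; exact inter_subset_right
      exact hT.2.trans this
  have h2' : F.filter (fun o' => o ∩ o' = s) = (blocksF (Oct C)).filter (fun o' => o ∩ o' = s) := by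
    ext o'
    simp only [hF, mem_filter]
    constructor
    · rintro ⟨⟨h, -⟩, h'⟩; exact ⟨h, h'⟩
    · rintro ⟨h, h'⟩
      refine ⟨⟨h, ?_⟩, h'⟩
      rw [← h']; exact inter_subset_right
  rw [h1, sum_congr rfl h3, sum_const, smul_eq_mul, hTTcard, h2', h77] at hfib
  omega

/-- Thirty octads are disjoint from a given octad. -/
theorem card_octads_disjoint (hC : IsAbsGolay C) {o : Finset ι} (ho : o ∈ Oct C) :
    ((blocksF (Oct C)).filter (fun o' => Disjoint o o')).card = 30 := by
  have h759 := card_blocksF_octads hC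
  have ho8 : o.card = 8 := ho.2
  set F := blocksF (Oct C) with hF
  set T4 := o.powersetCard 4 with hT4
  set T2 := o.powersetCard 2 with hT2
  have hT4card : T4.card = 70 := by rw [hT4, card_powersetCard, ho8]; decide
  have hT2card : T2.card = 28 := by rw [hT2, card_powersetCard, ho8]; decide
  have hfib := card_eq_sum_card_fiberwise (s := F) (t := insert o (insert ∅ (T2 ∪ T4)))
    (f := fun o' => o ∩ o') (by
    intro o' ho'
    rw [mem_coe, hF, mem_blocksF] at ho'
    show o ∩ o' ∈ ((insert o (insert ∅ (T2 ∪ T4)) : Finset (Finset ι)) : Set (Finset ι))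
    rw [mem_coe, mem_insert, mem_insert, mem_union, hT2, hT4, mem_powersetCard, mem_powersetCard]
    by_cases hne : o' = o
    · left; rw [hne, inter_self]
    · right
      rcases octad_inter_card hC ho ho' (Ne.symm hne) with h | h | h
      · left; exact card_eq_zero.1 h
      · right; left; exact ⟨inter_subset_left, h⟩
      · right; right; exact ⟨inter_subset_left, h⟩)
  have ho_not : o ∉ insert ∅ (T2 ∪ T4) := by
    rw [mem_insert, mem_union, hT2, hT4, mem_powersetCard, mem_powersetCard]
    rintro (h | ⟨-, h⟩ | ⟨-, h⟩)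
    · rw [h] at ho8; simp at ho8
    · omega
    · omega
  have he_not : (∅ : Finset ι) ∉ T2 ∪ T4 := by
    rw [mem_union, hT2, hT4, mem_powersetCard, mem_powersetCard]
    rintro (⟨-, h⟩ | ⟨-, h⟩) <;> simp at h
  have hdisj : Disjoint T2 T4 := by
    rw [Finset.disjoint_left]
    intro x hx hx'
    rw [hT2, mem_powersetCard] at hx
    rw [hT4, mem_powersetCard] at hx'
    omega
  rw [sum_insert ho_not, sum_insert he_not, sum_union hdisj] at hfib
  have h1 : (F.filter (fun o' => o ∩ o' = o)).card = 1 := by
    rw [card_eq_one]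
    refine ⟨o, ?_⟩
    ext o'
    rw [mem_filter, mem_singleton, hF, mem_blocksF]
    constructor
    · rintro ⟨ho', h⟩
      have hsub : o ⊆ o' := by rw [← h]; exact inter_subset_right
      have ho'8 : o'.card = 8 := ho'.2
      exact (eq_of_subset_of_card_le hsub (by omega)).symm
    · rintro rfl
      exact ⟨ho, inter_self _⟩
  have h2 : ∀ T ∈ T2, (F.filter (fun o' => o ∩ o' = T)).card = 16 := by
    intro T hT
    rw [hT2, mem_powersetCard] at hT
    exact card_octads_meet_two hC ho hT.1 hT.2
  have h4 : ∀ T ∈ T4, (F.filter (fun o' => o ∩ o' = T)).card = 4 := by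
    intro T hT
    rw [hT4, mem_powersetCard] at hT
    exact card_octads_meet_four hC ho hT.1 hT.2
  have h0 : F.filter (fun o' => o ∩ o' = ∅) = F.filter (fun o' => Disjoint o o') := by
    ext o'
    rw [mem_filter, mem_filter, disjoint_iff_inter_eq_empty]
  rw [h1, sum_congr rfl h2, sum_congr rfl h4, sum_const, sum_const, smul_eq_mul, smul_eq_mul, hT2card,
    hT4card, h0, h759] at hfib
  omega

/-- The complement of the union of two disjoint octads is an octad. -/
theorem compl_union_octads (hC : IsAbsGolay C) {o o' : Finset ι} (ho : o ∈ Oct C) (ho' : o' ∈ Oct C)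
    (hd : Disjoint o o') : (o ∪ o')ᶜ ∈ Oct C := by
  rw [mem_wordsOfWeight_iff] at ho ho' ⊢
  constructor
  · rw [ind_compl, ind_union_of_disjoint hd]
    exact C.add_mem (one_mem hC) (C.add_mem ho.1 ho'.1)
  · rw [card_compl, hC.hcard, card_union_of_disjoint hd, ho.2, ho'.2]

end Cfsg.Agent.Lib.H28

namespace Cfsg.Agent.Lib.H28

open Finset

variable {ι : Type*} [Fintype ι] [DecidableEq ι] {C : Submodule (ZMod 2) (ι → ZMod 2)}

local notation "Oct" C => Cfsg.wordsOfWeight (C : Set (ι → ZMod 2)) 8

/-- Abstract trios of a code. -/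
def absTrios (C : Submodule (ZMod 2) (ι → ZMod 2)) : Set (Finset (Finset ι)) :=
  {T | T.card = 3 ∧ (∀ o ∈ T, o ∈ Cfsg.wordsOfWeight (C : Set (ι → ZMod 2)) 8) ∧
    ∀ o ∈ T, ∀ o' ∈ T, o ≠ o' → Disjoint o o'}

theorem trios_eq_absTrios : Cfsg.trios = absTrios Cfsg.golayCode := rfl

/-- The trio spanned by two disjoint octads. -/
def trioOf (x : Finset ι × Finset ι) : Finset (Finset ι) := {x.1, x.2, (x.1 ∪ x.2)ᶜ}

theorem trioOf_mem (hC : IsAbsGolay C) {x : Finset ι × Finset ι} (h1 : x.1 ∈ Oct C) (h2 : x.2 ∈ Oct C)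
    (hd : Disjoint x.1 x.2) : trioOf x ∈ absTrios C := by
  have h3 := compl_union_octads hC h1 h2 hd
  have c1 : x.1.card = 8 := h1.2
  have c2 : x.2.card = 8 := h2.2
  have d13 : Disjoint x.1 (x.1 ∪ x.2)ᶜ := by
    rw [Finset.disjoint_left]
    intro a ha ha'
    rw [mem_compl, mem_union] at ha'
    exact ha' (Or.inl ha)
  have d23 : Disjoint x.2 (x.1 ∪ x.2)ᶜ := by
    rw [Finset.disjoint_left]
    intro a ha ha'
    rw [mem_compl, mem_union] at ha'
    exact ha' (Or.inr ha)
  have hne : ∀ {a b : Finset ι}, a.card = 8 → Disjoint a b → a ≠ b := by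
    rintro a b ha hab rfl
    rw [disjoint_self_iff_empty] at hab
    rw [hab] at ha; simp at ha
  have n12 := hne c1 hd
  have n13 := hne c1 d13
  have n23 := hne c2 d23
  refine ⟨?_, ?_, ?_⟩
  · unfold trioOf
    rw [card_eq_three]
    exact ⟨_, _, _, n12, n13, n23, rfl⟩
  · intro o ho
    unfold trioOf at ho
    rw [mem_insert, mem_insert, mem_singleton] at ho
    rcases ho with rfl | rfl | rfl
    · exact h1
    · exact h2
    · exact h3
  · intro o ho o' ho' hoo'
    unfold trioOf at ho ho'
    rw [mem_insert, mem_insert, mem_singleton] at ho ho'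
    rcases ho with rfl | rfl | rfl <;> rcases ho' with rfl | rfl | rfl
    · exact absurd rfl hoo'
    · exact hd
    · exact d13
    · exact hd.symm
    · exact absurd rfl hoo'
    · exact d23
    · exact d13.symm
    · exact d23.symm
    · exact absurd rfl hoo'

theorem trioOf_eq (hC : IsAbsGolay C) {T : Finset (Finset ι)} (hT : T ∈ absTrios C) {x : Finset ι × Finset ι}
    (h1 : x.1 ∈ T) (h2 : x.2 ∈ T) (hne : x.1 ≠ x.2) : trioOf x = T := by
  obtain ⟨h3, hO, hD⟩ := hT
  symm
  apply eq_of_subset_of_card_le
  · intro c hc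
    unfold trioOf
    rw [mem_insert, mem_insert, mem_singleton]
    by_cases hc1 : c = x.1
    · exact Or.inl hc1
    by_cases hc2 : c = x.2
    · exact Or.inr (Or.inl hc2)
    right; right
    have d1 := hD c hc x.1 h1 hc1
    have d2 := hD c hc x.2 h2 hc2
    have d12 := hD x.1 h1 x.2 h2 hne
    have hsub : c ⊆ (x.1 ∪ x.2)ᶜ := by
      intro a ha
      rw [mem_compl, mem_union]
      rintro (h | h)
      · exact (Finset.disjoint_left.1 d1 ha) h
      · exact (Finset.disjoint_left.1 d2 ha) h
    apply eq_of_subset_of_card_le hsub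
    have e1 : x.1.card = 8 := (hO _ h1).2
    have e2 : x.2.card = 8 := (hO _ h2).2
    have e3 : c.card = 8 := (hO _ hc).2
    rw [card_compl, hC.hcard, card_union_of_disjoint d12, e1, e2, e3]
  · rw [h3]
    unfold trioOf
    exact card_le_three

open Classical in
/-- The number of trios. -/
theorem ncard_absTrios (hC : IsAbsGolay C) : (absTrios C).ncard = 3795 := by
  set TF : Finset (Finset (Finset ι)) := Finset.univ.filter (· ∈ absTrios C) with hTF
  have hS : (absTrios C) = (TF : Set (Finset (Finset ι))) := by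
    ext S; simp [hTF]
  rw [hS, Set.ncard_coe_finset]
  set F := blocksF (Oct C) with hF
  set P : Finset (Finset ι × Finset ι) := (F ×ˢ F).filter (fun x => Disjoint x.1 x.2) with hP
  have memP : ∀ x : Finset ι × Finset ι, x ∈ P ↔ (x.1 ∈ Oct C) ∧ (x.2 ∈ Oct C) ∧ Disjoint x.1 x.2 := by
    intro x
    simp only [hP, hF, mem_filter, mem_product, mem_blocksF, and_assoc]
  -- first count
  have hP1 : P.card = 759 * 30 := by
    have hfib := card_eq_sum_card_fiberwise (s := P) (t := F) (f := Prod.fst) (by
      intro x hx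
      rw [mem_coe, memP] at hx
      show x.1 ∈ (F : Set (Finset ι))
      rw [mem_coe, hF, mem_blocksF]
      exact hx.1)
    have h30 : ∀ o ∈ F, (P.filter (fun x => x.1 = o)).card = 30 := by
      intro o ho
      rw [hF, mem_blocksF] at ho
      rw [← card_octads_disjoint hC ho]
      apply card_nbij' (fun x => x.2) (fun o' => (o, o'))
      · intro x hx
        rw [mem_coe, mem_filter, memP] at hx
        show x.2 ∈ (((blocksF (Oct C)).filter (fun o' => Disjoint o o') : Finset (Finset ι)) : Set (Finset ι))
        rw [mem_coe, mem_filter, mem_blocksF, ← hx.2]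
        exact ⟨hx.1.2.1, hx.1.2.2⟩
      · intro o' ho'
        rw [mem_coe, mem_filter, mem_blocksF] at ho'
        show (o, o') ∈ ((P.filter (fun x => x.1 = o) : Finset (Finset ι × Finset ι)) :
          Set (Finset ι × Finset ι))
        rw [mem_coe, mem_filter, memP]
        exact ⟨⟨ho, ho'.1, ho'.2⟩, rfl⟩
      · intro x hx
        rw [mem_coe, mem_filter] at hx
        show (o, x.2) = x
        rw [← hx.2]
      · intro o' _
        rfl
    rw [hfib, sum_congr rfl h30, sum_const, smul_eq_mul, hF, card_blocksF_octads hC]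
  -- second count
  have hP2 : P.card = TF.card * 6 := by
    have hfib := card_eq_sum_card_fiberwise (s := P) (t := TF) (f := trioOf) (by
      intro x hx
      rw [mem_coe, memP] at hx
      show trioOf x ∈ (TF : Set (Finset (Finset ι)))
      rw [mem_coe, hTF, mem_filter]
      exact ⟨mem_univ _, trioOf_mem hC hx.1 hx.2.1 hx.2.2⟩)
    have h6 : ∀ T ∈ TF, (P.filter (fun x => trioOf x = T)).card = 6 := by
      intro T hT
      rw [hTF, mem_filter] at hT
      have hT' := hT.2
      obtain ⟨h3, hO, hD⟩ := hT.2
      have : P.filter (fun x => trioOf x = T) = T.offDiag := by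
        ext x
        rw [mem_filter, memP, mem_offDiag]
        constructor
        · rintro ⟨⟨h1, h2, hd⟩, rfl⟩
          refine ⟨?_, ?_, ?_⟩
          · unfold trioOf; exact mem_insert_self _ _
          · unfold trioOf; exact mem_insert_of_mem (mem_insert_self _ _)
          · rintro h
            rw [h, disjoint_self_iff_empty] at hd
            have : x.2.card = 8 := h2.2
            rw [hd] at this; simp at this
        · rintro ⟨h1, h2, hne⟩
          exact ⟨⟨hO _ h1, hO _ h2, hD _ h1 _ h2 hne⟩, trioOf_eq hC hT' h1 h2 hne⟩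
      rw [this, offDiag_card, h3]
    rw [hfib, sum_congr rfl h6, sum_const, smul_eq_mul]
  omega

end Cfsg.Agent.Lib.H28
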