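/-
helper28 library: inverse words and index tables of words (orbit certificates for subgroups generated by words);
orbits of the stabilizer of the base octad on the 759 octads (sizes 1, 30, 280, 448).
-/
import Cfsg.Agent.Lib.H28.M24Octad
import Cfsg.Agent.Lib.H28.M24Orbit

set_option autoImplicit false

namespace Cfsg.Agent.Lib.H28

open Cfsg
open scoped Pointwise

/-! ### Inverse words and tables of words -/

/-- The inverse letter. -/
def invLetter : ℕ → ℕ
  | 0 => 1
  | 1 => 0
  | 3 => 4
  | 4 => 3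
  | a => a

/-- The inverse word. -/
def invWord (w : List ℕ) : List ℕ := (w.map invLetter).reverse

theorem projInv_inv : projInv⁻¹ = projInv := by
  rw [Equiv.Perm.inv_def]
  rfl

theorem genPerm_invLetter (a : ℕ) : genPerm (invLetter a) = (genPerm a)⁻¹ := by
  match a with
  | 0 => rfl
  | 1 => exact (inv_inv permS).symm
  | 2 => exact projInv_inv.symm
  | 3 => rfl
  | 4 => exact (inv_inv cubeTwist).symm
  | (n + 5) => exact inv_one.symm

theorem wordPerm_singleton (a : ℕ) : wordPerm [a] = genPerm a := by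
  rw [wordPerm_cons, wordPerm_nil, mul_one]

theorem wordPerm_invWord (w : List ℕ) : wordPerm (invWord w) = (wordPerm w)⁻¹ := by
  induction w with
  | nil => exact inv_one.symm
  | cons a w ih =>
    unfold invWord at ih ⊢
    rw [List.map_cons, List.reverse_cons, wordPerm_append, ih, wordPerm_singleton, genPerm_invLetter,
      wordPerm_cons, mul_inv_rev]

/-- The index table of a word. -/
def wordTab (w : List ℕ) : List ℕ := (List.range 24).map (evalPt w)

theorem wordTab_spec (w : List ℕ) (p : GolayPt) : gIdx (wordPerm w p) = (wordTab w).getD (gIdx p) 0 := by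
  unfold wordTab
  rw [gIdx_wordPerm]
  have h := gIdx_lt p
  rw [List.getD_eq_getElem _ _ (by rw [List.length_map, List.length_range]; exact h), List.getElem_map,
    List.getElem_range]

/-- The index tables of the inverses of a list of words. -/
def wordTis (ws : List (List ℕ)) : List (List ℕ) := ws.map (fun w => wordTab (invWord w))

theorem wordTis_spec (ws : List (List ℕ)) : ∀ i (hi : i < (ws.map wordPerm).length), ∀ p,
    gIdx (((ws.map wordPerm)[i]).symm p) = ((wordTis ws).getD i []).getD (gIdx p) 0 := by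
  intro i hi p
  have hi' : i < ws.length := by rwa [List.length_map] at hi
  unfold wordTis
  have h1 : (ws.map (fun w => wordTab (invWord w))).getD i [] = wordTab (invWord ws[i]) := by
    rw [List.getD_eq_getElem _ _ (by rw [List.length_map]; exact hi'), List.getElem_map]
  rw [h1, List.getElem_map, ← wordTab_spec, wordPerm_invWord, Equiv.Perm.inv_def]

/-- Orbit certificates for a subgroup containing the permutations of a list of words. -/
theorem orbCheck_words_sound (K : Subgroup (Equiv.Perm GolayPt)) (ws : List (List ℕ))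
    (hK : ∀ w ∈ ws, wordPerm w ∈ K) {start : ℕ} {cert : List (ℕ × ℕ)} {targets : List ℕ}
    (h : orbCheck (wordTis ws) start cert targets = true) : ∀ d ∈ targets, Reach K start d := by
  apply orbCheck_sound K (ws.map wordPerm) (wordTis ws) _ _ (wordTis_spec ws) h
  · unfold wordTis; rw [List.length_map, List.length_map]
  · intro g hg
    rw [List.mem_map] at hg
    obtain ⟨w, hw, rfl⟩ := hg
    exact hK w hw

/-! ### Orbits of the stabilizer of the base octad on octads -/

def octGenWords : List (List ℕ) := [[1, 3, 0], [2, 1, 1, 4, 4, 0, 3]]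

theorem octGenWords_mem : ∀ w ∈ octGenWords, wordPerm w ∈ stabMask baseOctad := by
  intro w hw
  apply wordPerm_mem_stabMask
  have : ∀ w ∈ octGenWords, presCheck w baseOctad = true := by decide +kernel
  exact this w hw


def octStart0 : ℕ := 337856

set_option maxRecDepth 1000000 in
def octCert0 : List (ℕ × ℕ) := [(1984, 0), (1984, 1), (3152, 0), (3152, 1), (3408, 0), (3408, 1), (1168, 0), (1168, 1), (1552, 0), (1552, 1), (2704, 0), (2704, 1), (1344, 0), (256, 0), (256, 1), (1088, 0), (208, 1), (1728, 0), (2064, 0), (2064, 1), (2320, 0), (2320, 1), (3792, 1), (896, 0), (896, 1), (3456, 1), (3200, 1), (2880, 1), (2496, 1)]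

def octStart2 : ℕ := 15777

set_option maxRecDepth 1000000 in
def octCert2 : List (ℕ × ℕ) := [(3489, 0), (3489, 1), (2433, 0), (2433, 1), (2400, 0), (2400, 1), (3208, 0), (3208, 1), (2324, 0), (2324, 1), (2193, 0), (2193, 1), (1377, 0), (1377, 1), (394, 0), (394, 1), (2566, 0), (2566, 1), (3204, 0), (3204, 1), (273, 0), (273, 1), (1408, 0), (1408, 1), (2577, 0), (2577, 1), (3089, 0), (3089, 1), (1328, 0), (1328, 1), (2338, 1), (2378, 0), (2378, 1), (1252, 0), (1252, 1), (88, 0), (88, 1), (900, 0), (900, 1), (2049, 0), (2049, 1), (3072, 0), (3072, 1), (912, 0), (912, 1), (2056, 0), (2056, 1), (2373, 0), (2373, 1), (192, 0), (192, 1), (129, 0), (904, 0), (904, 1), (4, 0), (4, 1), (3073, 0), (3073, 1), (881, 0), (881, 1), (824, 0), (824, 1), (3250, 0), (3250, 1), (1306, 0), (1306, 1), (1301, 0), (1301, 1), (3632, 1), (1554, 0), (1554, 1), (1042, 0), (1042, 1), (2628, 0), (2628, 1), (2305, 0), (2305, 1), (384, 0), (384, 1), (576, 0), (576, 1), (392, 0), (392, 1), (196, 0), (196, 1), (3144,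 0), (3144, 1), (2453, 0), (2453, 1), (1922, 1), (19, 0), (19, 1), (3220, 0), (3220, 1), (1872, 0), (1872, 1), (280, 0), (280, 1), (3717, 1), (1536, 0), (1536, 1), (2122, 0), (2122, 1), (2822, 0), (2822, 1), (260, 0), (260, 1), (193, 0), (193, 1), (1152, 0), (1152, 1), (81, 0), (81, 1), (2129, 0), (2129, 1), (3139, 0), (306, 0), (306, 1), (673, 0), (673, 1), (2600, 1), (2082, 0), (2082, 1), (778, 0), (778, 1), (2052, 0), (2052, 1), (320, 0), (320, 1), (96, 0), (864, 0), (8, 1), (1320, 0), (1320, 1), (668, 0), (668, 1), (468, 1), (1537, 0), (3968, 0), (3968, 1), (272, 0), (272, 1), (3336, 0), (3336, 1), (2900, 0), (2900, 1), (1112, 0), (1112, 1), (1045, 0), (1045, 1), (3586, 0), (3586, 1), (2450, 0), (2450, 1), (28, 0), (28, 1), (3652, 0), (146, 0), (146, 1), (1155, 0), (1155, 1), (2692, 0), (2692, 1), (2825, 0), (2825, 1), (1312, 1), (24, 0), (24, 1), (1164, 0), (1164, 1), (2132, 0), (2132, 1), (2128, 0), (2128, 1), (1281, 0), (2562, 1), (451, 0), (451, 1), (2560, 0), (840, 0), (840, 1),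 (133, 0), (690, 1), (1610, 0), (1610, 1), (2788, 0), (2788, 1), (776, 0), (776, 1), (3844, 0), (3844, 1), (913, 0), (913, 1), (1040, 0), (1040, 1), (3600, 0), (3600, 1), (1544, 0), (1544, 1), (2581, 0), (2581, 1), (16, 0), (16, 1), (1601, 0), (1601, 1), (1176, 0), (1176, 1), (1172, 1), (432, 0), (432, 1), (3617, 0), (3617, 1), (440, 0), (440, 1), (65, 0), (65, 1), (2144, 1), (226, 1), (929, 0), (929, 1), (104, 0), (104, 1), (3170, 0), (3170, 1), (986, 0), (986, 1), (532, 0), (532, 1), (3088, 0), (3088, 1), (1489, 0), (537, 0), (2641, 0), (710, 0), (710, 1), (2051, 0), (2051, 1), (482, 0), (482, 1), (70, 0), (70, 1), (2242, 0), (3393, 0), (1600, 0), (2760, 0), (2760, 1), (2308, 0), (2308, 1), (2312, 0), (2312, 1), (773, 0), (3202, 0), (338, 1), (2268, 0), (1284, 0), (786, 1), (1539, 0), (1540, 0), (224, 1), (648, 1), (2472, 0), (2316, 1), (1286, 0), (594, 0), (800, 0), (2185, 0), (2185, 1), (1056, 0), (1056, 1), (2648, 0), (2648, 1), (204, 0), (2180, 0), (2180, 1), (2754, 1), (1026, 0), (1026,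 1), (659, 1), (2066, 0), (2066, 1), (1216, 0), (400, 1), (1025, 1), (3592, 0), (153, 0), (3376, 1), (2386, 0), (2386, 1), (1411, 0), (1796, 0), (1796, 1), (2168, 1), (1394, 0), (1050, 1), (725, 0), (2882, 0), (2882, 1), (770, 1), (2244, 1), (449, 1), (2368, 0), (2304, 1), (520, 0), (520, 1), (200, 0), (66, 1), (579, 0), (452, 1), (64, 1), (1800, 0), (85, 0), (1104, 1), (522, 0), (522, 1), (2689, 1), (2569, 0), (160, 0), (160, 1), (2307, 0), (2307, 1), (2978, 0), (1816, 1), (1556, 0), (1556, 1), (1585, 0), (3128, 1), (3649, 0), (3649, 1), (2864, 0), (2864, 1), (275, 0), (1570, 0), (1570, 1), (2674, 0), (2674, 1), (512, 0), (512, 1), (1664, 1), (145, 0), (372, 1), (3080, 0), (1696, 0), (2097, 1), (3944, 0), (3944, 1), (1688, 0), (1688, 1), (688, 0), (2192, 0), (210, 0), (3074, 0), (2956, 0), (2956, 1), (324, 1), (2434, 0), (2434, 1), (835, 0), (1372, 0), (1372, 1), (150, 0), (150, 1), (2564, 0), (2564, 1), (352, 0), (352, 1), (588, 0), (3296, 1), (2691, 0), (898, 1), (2113, 1), (1289, 0),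 (1234, 0), (1107, 0), (1107, 1), (1668, 1), (2576, 0), (2576, 1), (3612, 1), (2696, 0), (600, 1), (1048, 0), (1048, 1), (2817, 0), (1226, 1), (514, 0), (420, 0), (1929, 0), (3148, 0), (788, 1), (1186, 1), (1108, 1), (1352, 0), (3217, 1), (389, 1), (82, 1), (530, 0), (3348, 0), (3348, 1), (1665, 1), (3650, 0), (3650, 1), (276, 0), (1221, 1), (769, 1), (2208, 1), (456, 0), (456, 1), (326, 0), (1348, 1), (50, 0), (50, 1), (1092, 1), (3009, 1), (289, 1), (2848, 0), (1121, 0), (241, 0), (241, 1), (660, 0), (642, 0), (642, 1), (112, 0), (2259, 0), (1090, 0), (1090, 1), (2322, 0), (2393, 1), (2160, 0), (2160, 1), (3094, 0), (1426, 0), (548, 0), (2120, 1), (1972, 0), (1972, 1), (1072, 0), (2504, 0), (3077, 0), (3077, 1), (406, 1), (1793, 1), (3329, 0), (529, 1), (3104, 0), (2080, 0), (1861, 1), (2117, 1)]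

def octStart4 : ℕ := 5279

set_option maxRecDepth 1000000 in
def octCert4 : List (ℕ × ℕ) := [(1183, 0), (1183, 1), (294, 0), (294, 1), (2058, 0), (2058, 1), (2093, 0), (2093, 1), (300, 0), (300, 1), (162, 0), (162, 1), (203, 0), (203, 1), (903, 0), (903, 1), (546, 0), (546, 1), (3079, 0), (3079, 1), (818, 0), (818, 1), (1057, 0), (1057, 1), (2745, 1), (58, 0), (58, 1), (3086, 0), (3086, 1), (2156, 1), (2380, 0), (2380, 1), (353, 0), (353, 1), (41, 0), (41, 1), (676, 0), (676, 1), (72, 0), (72, 1), (2153, 0), (2153, 1), (812, 0), (812, 1), (1, 0), (1, 1), (225, 0), (225, 1), (2086, 0), (2086, 1), (811, 0), (811, 1), (46, 0), (46, 1), (1190, 0), (539, 0), (539, 1), (1078, 0), (1078, 1), (2710, 0), (2710, 1), (1283, 0), (1283, 1), (2321, 0), (2321, 1), (1825, 0), (1825, 1), (1547, 0), (1547, 1), (54, 1), (1101, 0), (1101, 1), (2100, 0), (2100, 1), (282, 0), (282, 1), (1095, 0), (1095, 1), (147, 0), (147, 1), (1122, 0), (1122, 1), (2639, 0), (2639, 1), (422, 0), (149, 0), (149, 1), (1049, 0),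 (1049, 1), (677, 1), (169, 1), (2403, 1), (298, 0), (1319, 0), (1319, 1), (186, 0), (186, 1), (37, 0), (37, 1), (98, 0), (74, 0), (1061, 0), (1061, 1), (56, 0), (228, 0), (228, 1), (2057, 0), (2057, 1), (2344, 0), (268, 1), (2184, 1), (325, 1), (2121, 0), (2121, 1), (293, 0), (618, 0), (618, 1), (526, 0), (526, 1), (553, 0), (553, 1), (22, 1), (1538, 0), (1538, 1), (653, 0), (653, 1), (36, 0), (3362, 1), (283, 1), (1084, 0), (1084, 1), (1052, 0), (1576, 1), (2076, 1), (57, 0), (57, 1), (1581, 1), (246, 0), (246, 1), (1162, 1), (2853, 0), (2853, 1), (12, 1), (2053, 0), (2053, 1), (23, 0), (23, 1), (2209, 1), (2098, 0), (1324, 0), (1324, 1), (2595, 1), (2085, 0), (936, 0), (35, 0), (35, 1), (2090, 0), (2090, 1), (1029, 1), (561, 0), (561, 1), (1337, 0), (1337, 1), (261, 0), (261, 1), (32, 0), (32, 1), (1035, 0), (3105, 0), (3105, 1), (650, 0), (650, 1), (134, 1), (2443, 0), (2443, 1), (2071, 0), (2071, 1), (1413, 0), (154, 0), (1543, 0), (2565, 0), (123, 0), (1134, 0), (1134, 1), (76, 0),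 (76, 1), (1128, 0), (93, 0), (93, 1), (582, 0), (582, 1), (2050, 1), (269, 0), (269, 1), (15, 1), (550, 0), (550, 1), (6, 0), (6, 1), (259, 0), (259, 1), (114, 1), (61, 0), (2059, 0), (2059, 1), (2245, 0), (288, 0), (288, 1), (519, 0), (519, 1), (1060, 0), (1060, 1), (217, 0), (217, 1), (2081, 0), (1193, 0), (2311, 0), (2311, 1), (291, 1), (617, 0), (617, 1), (141, 0), (2115, 0), (545, 0), (552, 0), (171, 0), (171, 1), (686, 0), (686, 1), (581, 0), (49, 0), (290, 0), (290, 1), (2572, 0), (1161, 0), (1161, 1), (564, 0), (362, 0), (2190, 1), (2826, 1), (172, 1), (3076, 0), (3076, 1), (1075, 1), (567, 1), (1158, 0), (1094, 0), (1036, 0), (525, 0), (450, 0), (450, 1), (101, 0), (232, 1), (25, 0), (25, 1), (3112, 0), (797, 1), (1450, 0), (1450, 1), (1037, 1), (181, 1), (3203, 0), (3203, 1), (376, 0), (841, 0), (841, 1), (547, 1), (2282, 0), (2602, 0), (521, 1), (2099, 0), (140, 0), (40, 1), (2366, 0), (2656, 1), (168, 0), (1302, 0), (1763, 0), (262, 0)]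


/-- The masks of the weight-8 codewords. -/
def octMasks : List ℕ := (combos basisMasks).filter (fun m => popc m == 8)

/-- The octad masks meeting the base octad in `k` points. -/
def octMasksMeet (k : ℕ) : List ℕ := octMasks.filter (fun m => popc (m &&& baseOctad) == k)

theorem octCert0_ok : orbCheck (wordTis octGenWords) octStart0 octCert0 (octMasksMeet 0) = true := by
  decide +kernel

theorem octCert2_ok : orbCheck (wordTis octGenWords) octStart2 octCert2 (octMasksMeet 2) = true := by
  decide +kernel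

theorem octCert4_ok : orbCheck (wordTis octGenWords) octStart4 octCert4 (octMasksMeet 4) = true := by
  decide +kernel

theorem reach_smul {K : Subgroup (Equiv.Perm GolayPt)} {m0 m : ℕ} (h : Reach K m0 m) :
    ∃ g ∈ K, g • ptsMask m0 = ptsMask m := by
  obtain ⟨g, hg, h⟩ := h
  exact ⟨g, hg, by rw [ptsMask_eq_support₂, ptsMask_eq_support₂, smul_support₂, h]⟩

theorem exists_octMask {o : Finset GolayPt} (ho : o ∈ octads) : ∃ m ∈ octMasks, ptsMask m = o := by
  obtain ⟨⟨c, hc, rfl⟩, h8⟩ := ho
  obtain ⟨m, hm, rfl⟩ := exists_mask_of_mem_golayCode hc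
  refine ⟨m, ?_, ptsMask_eq_support₂ m⟩
  unfold octMasks
  rw [List.mem_filter, beq_iff_eq, ← hammingNorm_W, hammingNorm_eq_card_supp, supp_eq_support₂]
  exact ⟨hm, h8⟩

theorem card_ptsMask_inter (a b : ℕ) : (ptsMask a ∩ ptsMask b).card = popc (a &&& b) := by
  rw [ptsMask_eq_support₂, ptsMask_eq_support₂, ← supp_eq_support₂, ← supp_eq_support₂, supp_W_inter,
    ← hammingNorm_eq_card_supp, hammingNorm_W]

theorem octMasks_cases : ∀ m ∈ octMasks, popc (m &&& baseOctad) = 0 ∨ popc (m &&& baseOctad) = 2 ∨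
    popc (m &&& baseOctad) = 4 ∨ m = baseOctad := by
  have : octMasks.all (fun m => popc (m &&& baseOctad) == 0 || popc (m &&& baseOctad) == 2 ||
      popc (m &&& baseOctad) == 4 || m == baseOctad) = true := by decide +kernel
  intro m hm
  have := List.all_eq_true.1 this m hm
  simpa [Bool.or_eq_true, beq_iff_eq, or_assoc] using this

theorem popc_baseOctad_self : popc (baseOctad &&& baseOctad) = 8 := by decide +kernel

/-- Two octads meeting the base octad in equally many points are conjugate under its stabilizer. -/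
theorem oct0_orbits {o' o'' : Finset GolayPt} (ho' : o' ∈ octads) (ho'' : o'' ∈ octads)
    (h : (oct0 ∩ o').card = (oct0 ∩ o'').card) : ∃ g ∈ stabMask baseOctad, g • o' = o'' := by
  obtain ⟨m', hm', rfl⟩ := exists_octMask ho'
  obtain ⟨m'', hm'', rfl⟩ := exists_octMask ho''
  unfold oct0 at h
  rw [card_ptsMask_inter, card_ptsMask_inter, Nat.land_comm baseOctad m', Nat.land_comm baseOctad m''] at h
  have key : ∀ (k start : ℕ) (cert : List (ℕ × ℕ)),
      orbCheck (wordTis octGenWords) start cert (octMasksMeet k) = true →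
      popc (m' &&& baseOctad) = k → ∃ g ∈ stabMask baseOctad, g • ptsMask m' = ptsMask m'' := by
    intro k start cert hcert hk
    have h1 : m' ∈ octMasksMeet k := by
      unfold octMasksMeet
      rw [List.mem_filter, beq_iff_eq]
      exact ⟨hm', hk⟩
    have h2 : m'' ∈ octMasksMeet k := by
      unfold octMasksMeet
      rw [List.mem_filter, beq_iff_eq]
      exact ⟨hm'', by rw [← h, hk]⟩
    have hs := orbCheck_words_sound (stabMask baseOctad) octGenWords octGenWords_mem hcert
    obtain ⟨g', hg', e'⟩ := reach_smul (hs m' h1)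
    obtain ⟨g'', hg'', e''⟩ := reach_smul (hs m'' h2)
    refine ⟨g'' * g'⁻¹, (stabMask baseOctad).mul_mem hg'' ((stabMask baseOctad).inv_mem hg'), ?_⟩
    rw [← e', mul_smul, inv_smul_smul, e'']
  rcases octMasks_cases m' hm' with h0 | h2 | h4 | h8
  · exact key 0 _ _ octCert0_ok h0
  · exact key 2 _ _ octCert2_ok h2
  · exact key 4 _ _ octCert4_ok h4
  · rcases octMasks_cases m'' hm'' with h0' | h2' | h4' | h8'
    · rw [h8, popc_baseOctad_self, h0'] at h; omega
    · rw [h8, popc_baseOctad_self, h2'] at h; omega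
    · rw [h8, popc_baseOctad_self, h4'] at h; omega
    · refine ⟨1, (stabMask baseOctad).one_mem, ?_⟩
      rw [one_smul, h8, h8']

/-- Two octads meeting a fixed octad in equally many points are in the same orbit of its stabiliser. -/
theorem octad_stabilizer_orbits {o o' o'' : Finset GolayPt} (ho : o ∈ octads) (ho' : o' ∈ octads)
    (ho'' : o'' ∈ octads) (h : (o ∩ o').card = (o ∩ o'').card) :
    ∃ g : Equiv.Perm GolayPt, g ∈ M24 ∧ g • o = o ∧ g • o' = o'' := by
  obtain ⟨g0, hg0, rfl⟩ := exists_M24_smul_octad oct0_mem_octads ho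
  have hc : ∀ x : Finset GolayPt, (oct0 ∩ g0⁻¹ • x).card = (g0 • oct0 ∩ x).card := by
    intro x
    have : g0 • oct0 ∩ x = g0 • (oct0 ∩ g0⁻¹ • x) := by
      rw [Finset.smul_finset_inter, smul_inv_smul]
    rw [this, Finset.card_smul_finset]
  obtain ⟨k, hk, e⟩ := oct0_orbits (smul_mem_octads (M24.inv_mem hg0) ho') (smul_mem_octads (M24.inv_mem hg0) ho'')
    (by rw [hc, hc, h])
  rw [mem_stabMask_iff_smul] at hk
  refine ⟨g0 * k * g0⁻¹, M24.mul_mem (M24.mul_mem hg0 hk.1) (M24.inv_mem hg0), ?_, ?_⟩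
  · rw [mul_smul, mul_smul, inv_smul_smul]
    show g0 • k • ptsMask baseOctad = g0 • ptsMask baseOctad
    rw [hk.2]
  · rw [mul_smul, mul_smul, e, smul_inv_smul]

end Cfsg.Agent.Lib.H28
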