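/-
helper28 library: maximality of a point stabilizer from suborbit arithmetic.
-/
import Cfsg.Agent.Lib.H28.M24Order

set_option autoImplicit false

namespace Cfsg.Agent.Lib.H28

open Finset

/-- Maximality of a point stabilizer from the suborbit structure: if the orbit `Ω` of `x` is split by an
invariant `c` into classes on each of which the stabilizer `H` of `x` is transitive, and no proper union of
classes containing the class of `x` has cardinality dividing `|Ω|`, then `H` is a maximal subgroup. -/
theorem isCoatom_stabilizer_of_suborbits {G X : Type*} [Group G] [Finite G] [MulAction G X] [DecidableEq X]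
    (x : X) (Ω : Finset X) (hΩ : ∀ y, y ∈ Ω ↔ ∃ g : G, g • x = y)
    (c : X → ℕ) (S : Finset ℕ) (hS : ∀ y ∈ Ω, c y ∈ S)
    (htrans : ∀ y ∈ Ω, ∀ y' ∈ Ω, c y = c y' → ∃ h ∈ MulAction.stabilizer G x, h • y = y')
    (hne : 1 < Ω.card) (n : ℕ → ℕ) (hn : ∀ j ∈ S, (Ω.filter (fun y => c y = j)).card = n j)
    (harith : ∀ A ∈ S.powerset, c x ∈ A → (∑ j ∈ A, n j) ∣ Ω.card →
      ∑ j ∈ A, n j = 1 ∨ ∑ j ∈ A, n j = Ω.card) :
    IsCoatom (MulAction.stabilizer G x) := by
  classical
  set H := MulAction.stabilizer G x with hH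
  have hxΩ : x ∈ Ω := (hΩ x).2 ⟨1, one_smul G x⟩
  -- orbit-stabilizer for subgroups containing H
  have horb : ∀ K : Subgroup G, H ≤ K →
      Nat.card K = (Ω.filter (fun y => ∃ k ∈ K, k • x = y)).card * Nat.card H := by
    intro K hHK
    have h1 := card_eq_orbit_mul_stab K x
    have h2 : K ⊓ MulAction.stabilizer G x = H := inf_eq_right.2 hHK
    have h3 : {y | ∃ h ∈ K, h • x = y} = ((Ω.filter (fun y => ∃ k ∈ K, k • x = y) : Finset X) : Set X) := by
      ext y
      rw [Set.mem_ofPred_eq, mem_coe, mem_filter]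
      constructor
      · rintro ⟨k, hk, rfl⟩
        exact ⟨(hΩ _).2 ⟨k, rfl⟩, k, hk, rfl⟩
      · rintro ⟨-, h⟩; exact h
    rw [h2, h3, Set.ncard_coe_finset] at h1
    exact h1
  have hG : Nat.card G = Ω.card * Nat.card H := by
    have h1 := horb ⊤ le_top
    have h2 : Ω.filter (fun y => ∃ k ∈ (⊤ : Subgroup G), k • x = y) = Ω := by
      apply filter_true_of_mem
      intro y hy
      obtain ⟨g, hg⟩ := (hΩ y).1 hy
      exact ⟨g, Subgroup.mem_top g, hg⟩
    rw [h2, Subgroup.card_top] at h1
    exact h1
  have hHpos : 0 < Nat.card H := Nat.card_pos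
  constructor
  · -- H ≠ ⊤
    intro htop
    rw [htop, Subgroup.card_top] at hG
    have hGpos : 0 < Nat.card G := Nat.card_pos
    have : Ω.card = 1 := by
      have h1 : Ω.card * Nat.card G = 1 * Nat.card G := by rw [one_mul]; exact hG.symm
      exact Nat.eq_of_mul_eq_mul_right hGpos h1
    omega
  · intro K hHK
    have hle : H ≤ K := le_of_lt hHK
    set Y := Ω.filter (fun y => ∃ k ∈ K, k • x = y) with hY
    have hK := horb K hle
    -- |Y| divides |Ω|
    have hdvd : Y.card ∣ Ω.card := by
      have h1 : Nat.card K ∣ Nat.card G := Subgroup.card_subgroup_dvd_card K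
      rw [hK, hG] at h1
      exact Nat.dvd_of_mul_dvd_mul_right hHpos h1
    -- Y is a union of classes
    set A := S.filter (fun j => (Y.filter (fun y => c y = j)).Nonempty) with hA
    have hclass : ∀ j ∈ S, (Y.filter (fun y => c y = j)).card = if j ∈ A then n j else 0 := by
      intro j hj
      by_cases hne' : (Y.filter (fun y => c y = j)).Nonempty
      · have hjA : j ∈ A := by rw [hA, mem_filter]; exact ⟨hj, hne'⟩
        rw [if_pos hjA, ← hn j hj]
        congr 1
        obtain ⟨y, hy⟩ := hne'
        rw [mem_filter, hY, mem_filter] at hy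
        obtain ⟨⟨hyΩ, k, hk, hky⟩, hcy⟩ := hy
        ext y'
        simp only [hY, mem_filter]
        constructor
        · rintro ⟨⟨h1, -⟩, h2⟩; exact ⟨h1, h2⟩
        · rintro ⟨h1, h2⟩
          refine ⟨⟨h1, ?_⟩, h2⟩
          obtain ⟨h, hh, hhy⟩ := htrans y hyΩ y' h1 (by rw [hcy, h2])
          refine ⟨h * k, K.mul_mem (hle hh) hk, ?_⟩
          rw [mul_smul, hky, hhy]
      · have hjA : j ∉ A := by
          rw [hA, mem_filter]; rintro ⟨-, h⟩; exact hne' h
        rw [if_neg hjA]
        rw [not_nonempty_iff_eq_empty] at hne'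
        rw [hne', card_empty]
    have hYcard : Y.card = ∑ j ∈ A, n j := by
      have h1 := card_eq_sum_card_fiberwise (s := Y) (t := S) (f := c) (by
        intro y hy
        rw [mem_coe, hY, mem_filter] at hy
        exact mem_coe.2 (hS y hy.1))
      rw [h1, sum_congr rfl hclass, ← sum_filter]
      congr 1
      ext j
      rw [mem_filter, hA, mem_filter]
      constructor
      · rintro ⟨-, h⟩; exact h
      · intro h; exact ⟨h.1, h⟩
    have hxY : x ∈ Y := by
      rw [hY, mem_filter]; exact ⟨hxΩ, 1, K.one_mem, one_smul G x⟩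
    have hcxA : c x ∈ A := by
      rw [hA, mem_filter]
      exact ⟨hS x hxΩ, ⟨x, by rw [mem_filter]; exact ⟨hxY, rfl⟩⟩⟩
    have hAS : A ∈ S.powerset := by
      rw [mem_powerset, hA]; exact filter_subset _ _
    rcases harith A hAS hcxA (by rw [← hYcard]; exact hdvd) with h1 | h1
    · -- K = H, contradiction
      exfalso
      rw [← hYcard] at h1
      rw [h1, one_mul] at hK
      have : H = K := Subgroup.eq_of_le_of_card_ge hle (le_of_eq hK)
      exact (ne_of_lt hHK) this
    · rw [← hYcard] at h1
      rw [h1, ← hG] at hK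
      exact (Subgroup.card_eq_iff_eq_top K).1 hK

end Cfsg.Agent.Lib.H28
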