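/-
helper28 library: the octad stabilizer in M24: order 322560, suborbit counts (1, 30, 280, 448), joint stabilizers of
two octads (orders 10752, 1152, 720), maximality.
-/
import Cfsg.Agent.Lib.H28.M24OctadOrbits
import Cfsg.Agent.Lib.H28.GolayOctadMeet
import Cfsg.Agent.Lib.H28.Primitive

set_option autoImplicit false
set_option linter.unusedSectionVars false

namespace Cfsg.Agent.Lib.H28

open Finset

section Abs

variable {ι : Type*} [Fintype ι] [DecidableEq ι] {C : Submodule (ZMod 2) (ι → ZMod 2)}

local notation "Oct" C => Cfsg.wordsOfWeight (C : Set (ι → ZMod 2)) 8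

theorem card_octads_meet_card (hC : IsAbsGolay C) {o : Finset ι} (ho : o ∈ Oct C) (k m : ℕ)
    (hm : ∀ s ⊆ o, s.card = k → ((blocksF (Oct C)).filter (fun o' => o ∩ o' = s)).card = m) :
    ((blocksF (Oct C)).filter (fun o' => (o ∩ o').card = k)).card = Nat.choose 8 k * m := by
  have ho8 : o.card = 8 := ho.2
  have hunion : (blocksF (Oct C)).filter (fun o' => (o ∩ o').card = k)
      = (o.powersetCard k).biUnion (fun s => (blocksF (Oct C)).filter (fun o' => o ∩ o' = s)) := by
    ext o'
    rw [mem_filter, mem_biUnion]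
    constructor
    · rintro ⟨h1, h2⟩
      refine ⟨o ∩ o', ?_, ?_⟩
      · rw [mem_powersetCard]; exact ⟨inter_subset_left, h2⟩
      · rw [mem_filter]; exact ⟨h1, rfl⟩
    · rintro ⟨s, hs, h⟩
      rw [mem_powersetCard] at hs
      rw [mem_filter] at h
      exact ⟨h.1, by rw [h.2]; exact hs.2⟩
  rw [hunion, card_biUnion]
  · have : ∀ s ∈ o.powersetCard k, ((blocksF (Oct C)).filter (fun o' => o ∩ o' = s)).card = m := by
      intro s hs
      rw [mem_powersetCard] at hs
      exact hm s hs.1 hs.2
    rw [sum_congr rfl this, sum_const, smul_eq_mul, card_powersetCard, ho8]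
  · intro s _ s' _ hne
    show Disjoint ((blocksF (Oct C)).filter (fun o' => o ∩ o' = s)) ((blocksF (Oct C)).filter (fun o' => o ∩ o' = s'))
    rw [Finset.disjoint_left]
    intro o' h1 h2
    rw [mem_filter] at h1 h2
    exact hne (h1.2.symm.trans h2.2)

theorem card_octads_meet_card_four (hC : IsAbsGolay C) {o : Finset ι} (ho : o ∈ Oct C) :
    ((blocksF (Oct C)).filter (fun o' => (o ∩ o').card = 4)).card = 280 := by
  rw [card_octads_meet_card hC ho 4 4 (fun s hs h4 => card_octads_meet_four hC ho hs h4)]
  decide

theorem card_octads_meet_card_two (hC : IsAbsGolay C) {o : Finset ι} (ho : o ∈ Oct C) :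
    ((blocksF (Oct C)).filter (fun o' => (o ∩ o').card = 2)).card = 448 := by
  rw [card_octads_meet_card hC ho 2 16 (fun s hs h2 => card_octads_meet_two hC ho hs h2)]
  decide

theorem card_octads_meet_card_zero (hC : IsAbsGolay C) {o : Finset ι} (ho : o ∈ Oct C) :
    ((blocksF (Oct C)).filter (fun o' => (o ∩ o').card = 0)).card = 30 := by
  rw [← card_octads_disjoint hC ho]
  congr 1
  ext o'
  rw [mem_filter, mem_filter, card_eq_zero, disjoint_iff_inter_eq_empty]

theorem card_octads_meet_card_eight (hC : IsAbsGolay C) {o : Finset ι} (ho : o ∈ Oct C) :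
    ((blocksF (Oct C)).filter (fun o' => (o ∩ o').card = 8)).card = 1 := by
  have ho8 : o.card = 8 := ho.2
  rw [card_eq_one]
  refine ⟨o, ?_⟩
  ext o'
  rw [mem_filter, mem_singleton, mem_blocksF]
  constructor
  · rintro ⟨ho', h8⟩
    have ho'8 : o'.card = 8 := ho'.2
    have h1 : o ∩ o' = o := eq_of_subset_of_card_le inter_subset_left (by omega)
    have h2 : o ∩ o' = o' := eq_of_subset_of_card_le inter_subset_right (by omega)
    exact h2.symm.trans h1
  · rintro rfl
    exact ⟨ho, by rw [inter_self]; exact ho8⟩

theorem octad_inter_cases (hC : IsAbsGolay C) {o o' : Finset ι} (ho : o ∈ Oct C) (ho' : o' ∈ Oct C) :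
    (o ∩ o').card = 0 ∨ (o ∩ o').card = 2 ∨ (o ∩ o').card = 4 ∨ (o ∩ o').card = 8 := by
  by_cases h : o = o'
  · right; right; right
    rw [h, inter_self]; exact ho'.2
  · rcases octad_inter_card hC ho ho' h with h | h | h
    · exact Or.inl h
    · exact Or.inr (Or.inl h)
    · exact Or.inr (Or.inr (Or.inl h))

end Abs

section Conc

open Cfsg
open scoped Pointwise

theorem ncard_octads : octads.ncard = 759 := card_octads golayCode_isAbsGolay

/-- An octad stabilizer has order `322560`. -/
theorem card_stabilizer_octad {o : Finset GolayPt} (ho : o ∈ octads) :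
    Nat.card (MulAction.stabilizer M24 o) = 322560 := by
  have h := card_stabilizer_M24_finset o octads (by
    intro o'
    constructor
    · intro ho'
      exact exists_M24_smul_octad ho ho'
    · rintro ⟨g, hg, rfl⟩
      exact smul_mem_octads hg ho)
  rw [card_M24, ncard_octads] at h
  omega

theorem subgroup_smul_def (g : M24) (s : Finset GolayPt) : g • s = (g : Equiv.Perm GolayPt) • s := rfl

/-- The orbit of an octad `o'` under the stabilizer of the octad `o`. -/
theorem orbit_stabilizer_octad {o o' : Finset GolayPt} (ho : o ∈ octads) (ho' : o' ∈ octads) :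
    {y | ∃ h ∈ MulAction.stabilizer M24 o, h • o' = y}
      = {y | y ∈ octads ∧ (o ∩ y).card = (o ∩ o').card} := by
  ext y
  rw [Set.mem_ofPred_eq, Set.mem_ofPred_eq]
  constructor
  · rintro ⟨h, hh, rfl⟩
    rw [MulAction.mem_stabilizer_iff] at hh
    refine ⟨smul_mem_octads h.2 ho', ?_⟩
    conv_lhs => rw [← hh]
    rw [← Finset.smul_finset_inter, Finset.card_smul_finset]
  · rintro ⟨hy, hc⟩
    obtain ⟨g, hg, h1, h2⟩ := octad_stabilizer_orbits ho ho' hy hc.symm
    exact ⟨⟨g, hg⟩, MulAction.mem_stabilizer_iff.2 h1, h2⟩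

/-- Orders of the joint stabilizers of two octads. -/
theorem card_stabilizer_two_octads {o o' : Finset GolayPt} (ho : o ∈ octads) (ho' : o' ∈ octads) :
    ((o ∩ o').card = 0 → Nat.card ↥(MulAction.stabilizer M24 o ⊓ MulAction.stabilizer M24 o') = 10752) ∧
    ((o ∩ o').card = 4 → Nat.card ↥(MulAction.stabilizer M24 o ⊓ MulAction.stabilizer M24 o') = 1152) ∧
    ((o ∩ o').card = 2 → Nat.card ↥(MulAction.stabilizer M24 o ⊓ MulAction.stabilizer M24 o') = 720) := by
  have hC := golayCode_isAbsGolay
  have h1 := card_eq_orbit_mul_stab (MulAction.stabilizer M24 o) o'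
  rw [card_stabilizer_octad ho, orbit_stabilizer_octad ho ho', ncard_eq_card_filter] at h1
  refine ⟨fun h => ?_, fun h => ?_, fun h => ?_⟩
  · rw [h] at h1
    have := card_octads_meet_card_zero hC ho
    unfold octads at h1
    rw [this] at h1
    omega
  · rw [h] at h1
    have := card_octads_meet_card_four hC ho
    unfold octads at h1
    rw [this] at h1
    omega
  · rw [h] at h1
    have := card_octads_meet_card_two hC ho
    unfold octads at h1
    rw [this] at h1
    omega

/-- An octad stabilizer is a maximal subgroup of `M24`. -/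
theorem isCoatom_stabilizer_octad {o : Finset GolayPt} (ho : o ∈ octads) :
    IsCoatom (MulAction.stabilizer M24 o) := by
  classical
  have hC := golayCode_isAbsGolay
  have h759 : (blocksF octads).card = 759 := card_blocksF_octads hC
  apply isCoatom_stabilizer_of_suborbits (G := M24) o (blocksF octads)
    (fun y => by
      rw [mem_blocksF]
      constructor
      · intro hy
        obtain ⟨g, hg, h⟩ := exists_M24_smul_octad ho hy
        exact ⟨⟨g, hg⟩, h⟩
      · rintro ⟨g, rfl⟩
        exact smul_mem_octads g.2 ho)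
    (fun y => (o ∩ y).card) {0, 2, 4, 8}
    (fun y hy => by
      rw [mem_blocksF] at hy
      simp only [mem_insert, mem_singleton]
      exact octad_inter_cases hC ho hy)
    (fun y hy y' hy' hc => by
      rw [mem_blocksF] at hy hy'
      obtain ⟨g, hg, h1, h2⟩ := octad_stabilizer_orbits ho hy hy' hc
      exact ⟨⟨g, hg⟩, MulAction.mem_stabilizer_iff.2 h1, h2⟩)
    (by rw [h759]; norm_num)
    (fun j => if j = 0 then 30 else if j = 2 then 448 else if j = 4 then 280 else 1)
    (fun j hj => by
      simp only [mem_insert, mem_singleton] at hj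
      rcases hj with rfl | rfl | rfl | rfl
      · exact card_octads_meet_card_zero hC ho
      · exact card_octads_meet_card_two hC ho
      · exact card_octads_meet_card_four hC ho
      · exact card_octads_meet_card_eight hC ho)
  rw [h759, inter_self, ho.2]
  decide

end Conc

end Cfsg.Agent.Lib.H28
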