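/-
helper28 library: restriction of a setwise stabilizer to the set (restrictHom); the octad stabilizer of M24 induces
the alternating group on the octad and is a split extension of its pointwise stabilizer (order 16) by A8.
-/
import Cfsg.Agent.Lib.H28.M24OctadStab

set_option autoImplicit false

namespace Cfsg.Agent.Lib.H28

open scoped Pointwise

section Restrict

variable {α : Type*} [DecidableEq α]

theorem mem_iff_of_smul_finset_eq {g : Equiv.Perm α} {s : Finset α} (h : g • s = s) (x : α) :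
    g x ∈ s ↔ x ∈ s := by
  constructor
  · intro hx
    rw [← h, Finset.mem_smul_finset] at hx
    obtain ⟨y, hy, hyx⟩ := hx
    rw [Equiv.Perm.smul_def] at hyx
    rw [← g.injective hyx]; exact hy
  · intro hx
    rw [← h]
    exact Finset.smul_mem_smul_finset hx

theorem smul_finset_eq_of_mem_iff {g : Equiv.Perm α} {s : Finset α} (h : ∀ x, g x ∈ s ↔ x ∈ s) :
    g • s = s := by
  apply Finset.eq_of_subset_of_card_le
  · intro p hp
    rw [Finset.mem_smul_finset] at hp
    obtain ⟨q, hq, rfl⟩ := hp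
    rw [Equiv.Perm.smul_def]
    exact (h q).2 hq
  · rw [Finset.card_smul_finset]

/-- Restriction of the setwise stabilizer of `s` in `G` to `s`. -/
def restrictHom (G : Subgroup (Equiv.Perm α)) (s : Finset α) :
    ↥(G ⊓ MulAction.stabilizer (Equiv.Perm α) s) →* Equiv.Perm ↥s where
  toFun g := g.1.subtypePerm (fun x => mem_iff_of_smul_finset_eq
    (MulAction.mem_stabilizer_iff.1 (Subgroup.mem_inf.1 g.2).2) x)
  map_one' := by
    apply Equiv.ext
    intro x
    rfl
  map_mul' a b := by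
    apply Equiv.ext
    intro x
    rfl

theorem restrictHom_apply (G : Subgroup (Equiv.Perm α)) (s : Finset α)
    (g : ↥(G ⊓ MulAction.stabilizer (Equiv.Perm α) s)) (x : ↥s) :
    ((restrictHom G s g) x : α) = g.1 x := rfl

theorem mem_range_restrictHom (G : Subgroup (Equiv.Perm α)) (s : Finset α) (e : Equiv.Perm ↥s) :
    e ∈ (restrictHom G s).range ↔
      ∃ g : Equiv.Perm α, g ∈ G ∧ ∃ h : (∀ x, g x ∈ s ↔ x ∈ s), g.subtypePerm h = e := by
  rw [MonoidHom.mem_range]
  constructor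
  · rintro ⟨g, rfl⟩
    exact ⟨g.1, (Subgroup.mem_inf.1 g.2).1, fun x => mem_iff_of_smul_finset_eq
      (MulAction.mem_stabilizer_iff.1 (Subgroup.mem_inf.1 g.2).2) x, rfl⟩
  · rintro ⟨g, hg, h, rfl⟩
    exact ⟨⟨g, Subgroup.mem_inf.2 ⟨hg, MulAction.mem_stabilizer_iff.2 (smul_finset_eq_of_mem_iff h)⟩⟩, rfl⟩

theorem mem_ker_restrictHom (G : Subgroup (Equiv.Perm α)) (s : Finset α)
    (g : ↥(G ⊓ MulAction.stabilizer (Equiv.Perm α) s)) :
    g ∈ (restrictHom G s).ker ↔ ∀ x ∈ s, g.1 x = x := by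
  rw [MonoidHom.mem_ker]
  constructor
  · intro h x hx
    have := congrArg (fun e : Equiv.Perm ↥s => (e ⟨x, hx⟩ : α)) h
    exact this
  · intro h
    apply Equiv.ext
    intro x
    apply Subtype.ext
    exact h x.1 x.2

theorem card_ker_restrictHom (G : Subgroup (Equiv.Perm α)) (s : Finset α) :
    Nat.card (restrictHom G s).ker = Nat.card ↥(G ⊓ fixingSubgroup (Equiv.Perm α) (s : Set α)) := by
  apply Nat.card_congr
  refine ⟨fun g => ⟨g.1.1, ?_⟩, fun g => ⟨⟨g.1, ?_⟩, ?_⟩, ?_, ?_⟩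
  · rw [Subgroup.mem_inf, mem_fixingSubgroup_iff]
    refine ⟨(Subgroup.mem_inf.1 g.1.2).1, ?_⟩
    intro x hx
    exact (mem_ker_restrictHom G s g.1).1 g.2 x (Finset.mem_coe.1 hx)
  · have h1 := Subgroup.mem_inf.1 g.2
    rw [Subgroup.mem_inf, MulAction.mem_stabilizer_iff]
    refine ⟨h1.1, smul_finset_eq_of_mem_iff ?_⟩
    have hfix := (mem_fixingSubgroup_iff _).1 h1.2
    intro x
    constructor
    · intro hx
      have h2 := hfix (g.1 x) (Finset.mem_coe.2 hx)
      rw [Equiv.Perm.smul_def] at h2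
      have := g.1.injective h2
      rw [← this]; exact hx
    · intro hx
      have h2 := hfix x (Finset.mem_coe.2 hx)
      rw [Equiv.Perm.smul_def] at h2
      rw [h2]; exact hx
  · rw [mem_ker_restrictHom]
    intro x hx
    exact (mem_fixingSubgroup_iff _).1 (Subgroup.mem_inf.1 g.2).2 x (Finset.mem_coe.2 hx)
  · intro g; rfl
  · intro g; rfl

/-- First isomorphism theorem, numerically. -/
theorem card_eq_card_range_mul_card_ker {A B : Type*} [Group A] [Group B] (f : A →* B) :
    Nat.card A = Nat.card f.range * Nat.card f.ker := by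
  rw [Subgroup.card_eq_card_quotient_mul_card_subgroup f.ker]
  congr 1
  exact Nat.card_congr (QuotientGroup.quotientKerEquivRange f).toEquiv

end Restrict

section A8

open Cfsg

theorem card_inf_stabilizer_octad {o : Finset GolayPt} (ho : o ∈ octads) :
    Nat.card ↥(M24 ⊓ MulAction.stabilizer (Equiv.Perm GolayPt) o) = 322560 := by
  rw [← card_stabilizer_subgroup, card_stabilizer_octad ho]

theorem card_range_restrictHom_octad {o : Finset GolayPt} (ho : o ∈ octads) :
    Nat.card (restrictHom M24 o).range = 20160 := by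
  have h1 := card_eq_card_range_mul_card_ker (restrictHom M24 o)
  rw [card_inf_stabilizer_octad ho, card_ker_restrictHom, (octad_pointwise_stabilizer ho).1] at h1
  omega

/-- The octad stabilizer induces the alternating group on the octad. -/
theorem range_restrictHom_octad {o : Finset GolayPt} (ho : o ∈ octads) :
    (restrictHom M24 o).range = alternatingGroup ↥o := by
  apply Equiv.Perm.eq_alternatingGroup_of_index_eq_two
  have h1 := Subgroup.index_mul_card (restrictHom M24 o).range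
  have h8 : Fintype.card ↥o = 8 := by rw [Fintype.card_coe]; exact ho.2
  rw [card_range_restrictHom_octad ho, Nat.card_eq_fintype_card, Fintype.card_perm, h8] at h1
  have : Nat.factorial 8 = 40320 := by decide
  omega

theorem octad_stabilizer_induces_alternating {o : Finset GolayPt} (ho : o ∈ octads) :
    {e : Equiv.Perm ↥o | ∃ g : Equiv.Perm GolayPt, g ∈ M24 ∧ ∃ h : (∀ x, g x ∈ o ↔ x ∈ o),
      g.subtypePerm h = e} = (alternatingGroup ↥o : Set (Equiv.Perm ↥o)) := by
  rw [← range_restrictHom_octad ho]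
  ext e
  rw [Set.mem_ofPred_eq, SetLike.mem_coe, mem_range_restrictHom]

end A8

end Cfsg.Agent.Lib.H28

namespace Cfsg.Agent.Lib.H28

open scoped Pointwise
open Cfsg

/-! ### The octad stabilizer as a split extension -/

theorem mem_K_smul_iff {g0 : Equiv.Perm GolayPt} (hg0 : g0 ∈ M24) (x : Equiv.Perm GolayPt) :
    x ∈ M24 ⊓ fixingSubgroup (Equiv.Perm GolayPt) ((g0 • oct0 : Finset GolayPt) : Set GolayPt) ↔
      g0⁻¹ * x * g0 ∈ K0 := by
  rw [K0_eq, Subgroup.mem_inf, Subgroup.mem_inf, mem_fixing_smul_iff]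
  constructor
  · rintro ⟨h1, h2⟩
    exact ⟨M24.mul_mem (M24.mul_mem (M24.inv_mem hg0) h1) hg0, h2⟩
  · rintro ⟨h1, h2⟩
    refine ⟨?_, h2⟩
    have := M24.mul_mem (M24.mul_mem hg0 h1) (M24.inv_mem hg0)
    simpa [mul_assoc] using this

theorem notMem_oct0_iff {p : GolayPt} : p ∉ oct0 ↔ baseOctad.testBit (gIdx p) = false := by
  unfold oct0
  rw [mem_ptsMask, Bool.not_eq_true]

/-- `K0` acts freely outside the base octad. -/
theorem K0_free {g : Equiv.Perm GolayPt} (hg : g ∈ K0) {p : GolayPt} (hp : p ∉ oct0) (hgp : g p = p) :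
    g = 1 := by
  rw [notMem_oct0_iff] at hp
  obtain ⟨hk, hk4⟩ := word_mem_K0 (gIdx_lt p) hp
  rw [gPt_gIdx] at hk4
  set k := wordPerm (k0Tab.getD (gIdx p) []) with hkdef
  have hh : k⁻¹ * g * k ∈ K0 := K0.mul_mem (K0.mul_mem (K0.inv_mem hk) hg) hk
  have h4 : (k⁻¹ * g * k) (gPt 4) = gPt 4 := by
    rw [Equiv.Perm.mul_apply, Equiv.Perm.mul_apply, hk4, hgp, Equiv.Perm.inv_def, Equiv.symm_apply_eq, hk4]
  have h1 := K0_eq_word hh
  rw [h4, gIdx_gPt (by norm_num)] at h1
  have h2 : k0Tab.getD 4 [] = [] := rfl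
  rw [h2, wordPerm_nil] at h1
  have : g = k * (k⁻¹ * g * k) * k⁻¹ := by group
  rw [this, h1]; group

/-- `K0` is transitive outside the base octad. -/
theorem K0_trans {p q : GolayPt} (hp : p ∉ oct0) (hq : q ∉ oct0) : ∃ k ∈ K0, k p = q := by
  rw [notMem_oct0_iff] at hp hq
  obtain ⟨hk, hk4⟩ := word_mem_K0 (gIdx_lt p) hp
  obtain ⟨hk', hk4'⟩ := word_mem_K0 (gIdx_lt q) hq
  rw [gPt_gIdx] at hk4 hk4'
  refine ⟨_ * _⁻¹, K0.mul_mem hk' (K0.inv_mem hk), ?_⟩
  have h1 : (wordPerm (k0Tab.getD (gIdx p) []))⁻¹ p = gPt 4 := by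
    rw [Equiv.Perm.inv_def, Equiv.symm_apply_eq, hk4]
  rw [Equiv.Perm.mul_apply, h1, hk4']

theorem inv_smul_notMem {g0 : Equiv.Perm GolayPt} {s : Finset GolayPt} {p : GolayPt} (hp : p ∉ g0 • s) :
    g0⁻¹ p ∉ s := by
  intro h
  apply hp
  have := Finset.smul_mem_smul_finset (a := g0) h
  rwa [Equiv.Perm.smul_def, Equiv.Perm.inv_def, Equiv.apply_symm_apply] at this

/-- The pointwise stabilizer of an octad acts freely outside the octad. -/
theorem octad_K_free {o : Finset GolayPt} (ho : o ∈ octads) {g : Equiv.Perm GolayPt}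
    (hg : g ∈ M24 ⊓ fixingSubgroup (Equiv.Perm GolayPt) (o : Set GolayPt)) {p : GolayPt} (hp : p ∉ o)
    (hgp : g p = p) : g = 1 := by
  obtain ⟨g0, hg0, rfl⟩ := exists_M24_smul_octad oct0_mem_octads ho
  rw [mem_K_smul_iff hg0] at hg
  have h1 := K0_free hg (inv_smul_notMem hp) (by
    rw [Equiv.Perm.mul_apply, Equiv.Perm.mul_apply, Equiv.Perm.inv_def, Equiv.apply_symm_apply, hgp])
  have : g = g0 * (g0⁻¹ * g * g0) * g0⁻¹ := by group
  rw [this, h1]; group

/-- The pointwise stabilizer of an octad acts transitively outside the octad. -/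
theorem octad_K_trans {o : Finset GolayPt} (ho : o ∈ octads) {p q : GolayPt} (hp : p ∉ o) (hq : q ∉ o) :
    ∃ k ∈ M24 ⊓ fixingSubgroup (Equiv.Perm GolayPt) (o : Set GolayPt), k p = q := by
  obtain ⟨g0, hg0, rfl⟩ := exists_M24_smul_octad oct0_mem_octads ho
  obtain ⟨k, hk, hkp⟩ := K0_trans (inv_smul_notMem hp) (inv_smul_notMem hq)
  refine ⟨g0 * k * g0⁻¹, ?_, ?_⟩
  · rw [mem_K_smul_iff hg0]
    have : g0⁻¹ * (g0 * k * g0⁻¹) * g0 = k := by group
    rw [this]; exact hk
  · rw [Equiv.Perm.mul_apply, Equiv.Perm.mul_apply, hkp, Equiv.Perm.inv_def, Equiv.apply_symm_apply]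

theorem fixing_le_stabilizer (o : Finset GolayPt) :
    fixingSubgroup (Equiv.Perm GolayPt) (o : Set GolayPt) ≤ MulAction.stabilizer (Equiv.Perm GolayPt) o := by
  intro g hg
  rw [mem_fixingSubgroup_iff] at hg
  rw [MulAction.mem_stabilizer_iff]
  apply smul_finset_eq_of_mem_iff
  intro x
  constructor
  · intro hx
    have h2 := hg (g x) (Finset.mem_coe.2 hx)
    rw [Equiv.Perm.smul_def] at h2
    rw [← g.injective h2]; exact hx
  · intro hx
    have h2 := hg x (Finset.mem_coe.2 hx)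
    rw [Equiv.Perm.smul_def] at h2
    rw [h2]; exact hx

/-- An octad stabilizer is a split extension of the pointwise stabilizer by the stabilizer of an outside point,
which is an alternating group of degree 8. -/
theorem octad_stabilizer_splits {o : Finset GolayPt} (ho : o ∈ octads) {p : GolayPt} (hp : p ∉ o) :
    (M24 ⊓ fixingSubgroup (Equiv.Perm GolayPt) (o : Set GolayPt)) ⊓
      (M24 ⊓ MulAction.stabilizer (Equiv.Perm GolayPt) o ⊓ MulAction.stabilizer (Equiv.Perm GolayPt) p) = ⊥ ∧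
    (M24 ⊓ fixingSubgroup (Equiv.Perm GolayPt) (o : Set GolayPt)) ⊔
      (M24 ⊓ MulAction.stabilizer (Equiv.Perm GolayPt) o ⊓ MulAction.stabilizer (Equiv.Perm GolayPt) p) =
      (M24 ⊓ MulAction.stabilizer (Equiv.Perm GolayPt) o) ∧
    Nonempty (↥(M24 ⊓ MulAction.stabilizer (Equiv.Perm GolayPt) o ⊓ MulAction.stabilizer (Equiv.Perm GolayPt) p)
      ≃* alternatingGroup (Fin 8)) := by
  set K := M24 ⊓ fixingSubgroup (Equiv.Perm GolayPt) (o : Set GolayPt) with hK
  set H := M24 ⊓ MulAction.stabilizer (Equiv.Perm GolayPt) o with hH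
  set L := H ⊓ MulAction.stabilizer (Equiv.Perm GolayPt) p with hL
  have hKH : K ≤ H := inf_le_inf_left _ (fixing_le_stabilizer o)
  have hLH : L ≤ H := inf_le_left
  have hbot : K ⊓ L = ⊥ := by
    rw [Subgroup.eq_bot_iff_forall]
    intro x hx
    rw [Subgroup.mem_inf] at hx
    have h2 := (Subgroup.mem_inf.1 hx.2).2
    rw [MulAction.mem_stabilizer_iff, Equiv.Perm.smul_def] at h2
    exact octad_K_free ho hx.1 hp h2
  -- decomposition of elements of H
  have hdec : ∀ h ∈ H, ∃ k ∈ K, ∃ l ∈ L, h = k * l := by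
    intro h hh
    have hho : h • o = o := MulAction.mem_stabilizer_iff.1 (Subgroup.mem_inf.1 hh).2
    have hq : h p ∉ o := by
      rw [mem_iff_of_smul_finset_eq hho]; exact hp
    obtain ⟨k, hk, hkp⟩ := octad_K_trans ho hp hq
    refine ⟨k, hk, k⁻¹ * h, ?_, by group⟩
    rw [hL, Subgroup.mem_inf]
    refine ⟨H.mul_mem (H.inv_mem (hKH hk)) hh, ?_⟩
    rw [MulAction.mem_stabilizer_iff, Equiv.Perm.smul_def, Equiv.Perm.mul_apply, ← hkp, Equiv.Perm.inv_def,
      Equiv.symm_apply_apply]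
  have hsup : K ⊔ L = H := by
    apply le_antisymm (sup_le hKH hLH)
    intro h hh
    obtain ⟨k, hk, l, hl, rfl⟩ := hdec h hh
    exact Subgroup.mul_mem_sup hk hl
  refine ⟨hbot, hsup, ?_⟩
  -- the isomorphism
  set ψ : ↥L →* Equiv.Perm ↥o := (restrictHom M24 o).comp (Subgroup.inclusion hLH) with hψ
  have hinj : Function.Injective ψ := by
    rw [injective_iff_map_eq_one]
    intro x hx
    have hker : Subgroup.inclusion hLH x ∈ (restrictHom M24 o).ker := hx
    rw [mem_ker_restrictHom] at hker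
    have hxK : (x : Equiv.Perm GolayPt) ∈ K := by
      rw [hK, Subgroup.mem_inf, mem_fixingSubgroup_iff]
      exact ⟨(Subgroup.mem_inf.1 (hLH x.2)).1, fun y hy => hker y (Finset.mem_coe.1 hy)⟩
    have : (x : Equiv.Perm GolayPt) ∈ K ⊓ L := Subgroup.mem_inf.2 ⟨hxK, x.2⟩
    rw [hbot, Subgroup.mem_bot] at this
    exact Subtype.ext this
  have hrange : ψ.range = alternatingGroup ↥o := by
    rw [← range_restrictHom_octad ho]
    apply le_antisymm
    · rintro e ⟨x, rfl⟩
      exact ⟨Subgroup.inclusion hLH x, rfl⟩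
    · rintro e ⟨h, rfl⟩
      obtain ⟨k, hk, l, hl, hkl⟩ := hdec h.1 h.2
      refine ⟨⟨l, hl⟩, ?_⟩
      apply Equiv.ext
      intro y
      apply Subtype.ext
      show l (y : GolayPt) = h.1 (y : GolayPt)
      rw [hkl, Equiv.Perm.mul_apply]
      have hl_o : l • o = o := MulAction.mem_stabilizer_iff.1 (Subgroup.mem_inf.1 (hLH hl)).2
      have hly : l (y : GolayPt) ∈ o := (mem_iff_of_smul_finset_eq hl_o _).2 y.2
      have := (mem_fixingSubgroup_iff _).1 (Subgroup.mem_inf.1 hk).2 _ (Finset.mem_coe.2 hly)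
      rw [Equiv.Perm.smul_def] at this
      exact this.symm
  have e1 : ↥L ≃* ↥ψ.range := MonoidHom.ofInjective hinj
  have e2 : ↥ψ.range ≃* ↥(alternatingGroup ↥o) := MulEquiv.subgroupCongr hrange
  have e3 : ↥(alternatingGroup ↥o) ≃* ↥(alternatingGroup (Fin 8)) :=
    Equiv.altCongrHom (Finset.equivFinOfCardEq ho.2)
  exact ⟨(e1.trans e2).trans e3⟩

end Cfsg.Agent.Lib.H28
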