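/-
helper28 library: the two orbits of M24 on ordered 6-tuples of distinct points (inside an octad or not), and
set-transitivity: moving a finset y to y' while preserving a finset s, when s ∪ y has at most 6 points.
-/
import Cfsg.Agent.Lib.H28.M24OctadA8

set_option autoImplicit false

namespace Cfsg.Agent.Lib.H28

open scoped Pointwise
open Cfsg

/-! ### The two orbits of `M24` on ordered 6-tuples of distinct points -/

theorem card_ptsMask (m : ℕ) : (ptsMask m).card = popc m := by
  have := card_ptsMask_inter m m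
  rwa [Finset.inter_self, Nat.and_self] at this

/-- The five base points `∞, 0, 1, 2, 3` as a mask. -/
def base5 : ℕ := 8388623

theorem mem_base5_iff {p : GolayPt} : p ∈ ptsMask base5 ↔ gIdx p ∈ [23, 0, 1, 2, 3] := by
  rw [mem_ptsMask]
  have : ∀ z < 24, base5.testBit z = true ↔ z ∈ [23, 0, 1, 2, 3] := by decide +kernel
  exact this _ (gIdx_lt p)

/-- An octad containing the five base points is the base octad. -/
theorem eq_oct0_of_base5_subset {o : Finset GolayPt} (ho : o ∈ octads) (h : ptsMask base5 ⊆ o) : o = oct0 := by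
  have h5 : (ptsMask base5).card = 5 := by rw [card_ptsMask]; decide +kernel
  obtain ⟨b, -, hb⟩ := octads_isSteinerSystem.2 (ptsMask base5) h5
  have h0 : ptsMask base5 ⊆ oct0 := by
    intro p hp
    rw [mem_base5_iff] at hp
    rw [mem_oct0_iff]
    have : ∀ z ∈ [23, 0, 1, 2, 3], z ∈ octPts := by decide
    exact this _ hp
  rw [hb o ⟨ho, h⟩, hb oct0 ⟨oct0_mem_octads, h0⟩]

/-- Base 6-tuple inside the base octad. -/
def base6in (i : Fin 6) : GolayPt := gPt ([23, 0, 1, 2, 3, 5].getD i.val 0)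

/-- Base 6-tuple not inside an octad. -/
def base6out (i : Fin 6) : GolayPt := gPt ([23, 0, 1, 2, 3, 4].getD i.val 0)

theorem exists_map_base6 (y : Fin 6 → GolayPt) (hy : Function.Injective y) :
    ((∃ o ∈ octads, ∀ i, y i ∈ o) → ∃ g ∈ M24, ∀ i, g (base6in i) = y i) ∧
    ((¬ ∃ o ∈ octads, ∀ i, y i ∈ o) → ∃ g ∈ M24, ∀ i, g (base6out i) = y i) := by
  obtain ⟨g1, hg1, hgy⟩ := exists_map_base 5 (le_refl 5) (y ∘ Fin.castSucc)
    (hy.comp (Fin.castSucc_injective 5))
  have hg1M : g1 ∈ M24 := genSubgroup_le_M24 hg1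
  set z := g1⁻¹ (y (Fin.last 5)) with hz
  have hg1z : g1 z = y (Fin.last 5) := by
    rw [hz, Equiv.Perm.inv_def, Equiv.apply_symm_apply]
  have hzne : ∀ i < 5, z ≠ gPt (basePts.getD i 0) := by
    intro i hi h
    have h1 := hgy ⟨i, hi⟩
    rw [← h, hg1z] at h1
    have := hy h1
    rw [Fin.ext_iff] at this
    simp at this
    omega
  have hzidx : ∀ j ∈ [23, 0, 1, 2, 3], gIdx z ≠ j := by
    intro j hj h
    have : ∀ j ∈ [23, 0, 1, 2, 3], ∃ i < 5, basePts.getD i 0 = j := by decide
    obtain ⟨i, hi, rfl⟩ := this j hj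
    apply hzne i hi
    rw [← h, gPt_gIdx]
  -- images of the five base points
  have hbase : ∀ p ∈ ptsMask base5, ∃ i : Fin 5, g1 p = y (Fin.castSucc i) := by
    intro p hp
    rw [mem_base5_iff] at hp
    have : ∀ j ∈ [23, 0, 1, 2, 3], ∃ i : Fin 5, basePts.getD i.val 0 = j := by decide
    obtain ⟨i, hi⟩ := this _ hp
    refine ⟨i, ?_⟩
    have := hgy i
    rw [hi, gPt_gIdx] at this
    exact this
  constructor
  · rintro ⟨o, ho, hyo⟩
    -- the octad g1⁻¹ • o is the base octad
    have ho' : g1⁻¹ • o ∈ octads := smul_mem_octads (M24.inv_mem hg1M) ho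
    have hsub : ptsMask base5 ⊆ g1⁻¹ • o := by
      intro p hp
      obtain ⟨i, hi⟩ := hbase p hp
      have : p = g1⁻¹ • (y (Fin.castSucc i)) := by
        rw [← hi, Equiv.Perm.smul_def, Equiv.Perm.inv_def, Equiv.symm_apply_apply]
      rw [this]
      exact Finset.smul_mem_smul_finset (hyo _)
    have heq := eq_oct0_of_base5_subset ho' hsub
    have hz0 : z ∈ oct0 := by
      rw [← heq, hz]
      exact Finset.smul_mem_smul_finset (hyo _)
    rw [mem_oct0_iff] at hz0
    have hz6 : z ∈ ptsOf (levelSet 6) := by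
      rw [mem_ptsOf]
      have : ∀ k ∈ octPts, (∀ j ∈ [23, 0, 1, 2, 3], k ≠ j) → levelSet 6 k = true := by decide +kernel
      exact this _ hz0 hzidx
    obtain ⟨h, hh, hh5⟩ := level_ge 6 (by norm_num) z hz6
    rw [mem_fixSub] at hh
    refine ⟨g1 * h, M24.mul_mem hg1M (genSubgroup_le_M24 hh.1), ?_⟩
    intro i
    rw [Equiv.Perm.mul_apply]
    rcases Fin.eq_castSucc_or_eq_last i with ⟨j, rfl⟩ | rfl
    · have hfix : h (base6in (Fin.castSucc j)) = gPt (basePts.getD j.val 0) := by
        have e : base6in (Fin.castSucc j) = gPt (basePts.getD j.val 0) := by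
          unfold base6in
          congr 1
          revert j; decide
        rw [e]
        apply hh.2
        revert j; decide
      rw [hfix]
      exact hgy j
    · have e : base6in (Fin.last 5) = gPt 5 := rfl
      have hh5' : h (gPt 5) = z := hh5
      rw [e, hh5', hg1z]
  · intro hno
    have hz0 : z ∉ oct0 := by
      intro hz0
      apply hno
      refine ⟨g1 • oct0, smul_mem_octads hg1M oct0_mem_octads, ?_⟩
      intro i
      rcases Fin.eq_castSucc_or_eq_last i with ⟨j, rfl⟩ | rfl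
      · have := hgy j
        simp only [Function.comp_apply] at this
        rw [← this]
        apply Finset.smul_mem_smul_finset
        have h24 : ∀ j : Fin 5, basePts.getD j.val 0 < 24 := by decide
        have hoct : ∀ j : Fin 5, basePts.getD j.val 0 ∈ octPts := by decide
        rw [mem_oct0_iff, gIdx_gPt (h24 j)]
        exact hoct j
      · rw [← hg1z]
        exact Finset.smul_mem_smul_finset hz0
    have hz5 : z ∈ ptsOf (levelSet 5) := by
      rw [mem_ptsOf]
      rw [notMem_oct0_iff] at hz0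
      show (!(baseOctad.testBit (gIdx z))) = true
      rw [hz0]; rfl
    obtain ⟨h, hh, hh5⟩ := level_ge 5 (by norm_num) z hz5
    rw [mem_fixSub] at hh
    refine ⟨g1 * h, M24.mul_mem hg1M (genSubgroup_le_M24 hh.1), ?_⟩
    intro i
    rw [Equiv.Perm.mul_apply]
    rcases Fin.eq_castSucc_or_eq_last i with ⟨j, rfl⟩ | rfl
    · have hfix : h (base6out (Fin.castSucc j)) = gPt (basePts.getD j.val 0) := by
        have e : base6out (Fin.castSucc j) = gPt (basePts.getD j.val 0) := by
          unfold base6out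
          congr 1
          revert j; decide
        rw [e]
        apply hh.2
        revert j; decide
      rw [hfix]
      exact hgy j
    · have e : base6out (Fin.last 5) = gPt 4 := rfl
      have hh5' : h (gPt 4) = z := hh5
      rw [e, hh5', hg1z]

/-- `M24` has two orbits on 6-tuples of distinct points: those inside an octad and the others. -/
theorem six_trans (x y : Fin 6 → GolayPt) (hx : Function.Injective x) (hy : Function.Injective y)
    (h : (∃ o ∈ octads, ∀ i, x i ∈ o) ↔ (∃ o ∈ octads, ∀ i, y i ∈ o)) :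
    ∃ g ∈ M24, ∀ i, g (x i) = y i := by
  by_cases hxo : ∃ o ∈ octads, ∀ i, x i ∈ o
  · obtain ⟨gx, hgx, hx'⟩ := (exists_map_base6 x hx).1 hxo
    obtain ⟨gy, hgy, hy'⟩ := (exists_map_base6 y hy).1 (h.1 hxo)
    refine ⟨gy * gx⁻¹, M24.mul_mem hgy (M24.inv_mem hgx), ?_⟩
    intro i
    rw [Equiv.Perm.mul_apply, ← hx' i, Equiv.Perm.inv_def, Equiv.symm_apply_apply, hy' i]
  · obtain ⟨gx, hgx, hx'⟩ := (exists_map_base6 x hx).2 hxo
    obtain ⟨gy, hgy, hy'⟩ := (exists_map_base6 y hy).2 (fun hyo => hxo (h.2 hyo))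
    refine ⟨gy * gx⁻¹, M24.mul_mem hgy (M24.inv_mem hgx), ?_⟩
    intro i
    rw [Equiv.Perm.mul_apply, ← hx' i, Equiv.Perm.inv_def, Equiv.symm_apply_apply, hy' i]

end Cfsg.Agent.Lib.H28

namespace Cfsg.Agent.Lib.H28

open scoped Pointwise
open Cfsg

section Glue

variable {α : Type*} [DecidableEq α]

/-- Glue three bijections between the parts of two Venn diagrams. -/
noncomputable def glueFun (s y y' : Finset α) (eA : ↥(s ∩ y) ≃ ↥(s ∩ y')) (eB : ↥(s \ y) ≃ ↥(s \ y'))
    (eC : ↥(y \ s) ≃ ↥(y' \ s)) (p : α) : α :=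
  if h : p ∈ s ∩ y then (eA ⟨p, h⟩ : α)
  else if h : p ∈ s \ y then (eB ⟨p, h⟩ : α)
  else if h : p ∈ y \ s then (eC ⟨p, h⟩ : α)
  else p

variable {s y y' : Finset α} {eA : ↥(s ∩ y) ≃ ↥(s ∩ y')} {eB : ↥(s \ y) ≃ ↥(s \ y')}
  {eC : ↥(y \ s) ≃ ↥(y' \ s)}

theorem glueFun_A {p : α} (h : p ∈ s ∩ y) : glueFun s y y' eA eB eC p = (eA ⟨p, h⟩ : α) := by
  unfold glueFun; rw [dif_pos h]

theorem glueFun_B {p : α} (h : p ∈ s \ y) : glueFun s y y' eA eB eC p = (eB ⟨p, h⟩ : α) := by
  have h1 : p ∉ s ∩ y := by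
    rw [Finset.mem_sdiff] at h
    rw [Finset.mem_inter]; exact fun h' => h.2 h'.2
  unfold glueFun; rw [dif_neg h1, dif_pos h]

theorem glueFun_C {p : α} (h : p ∈ y \ s) : glueFun s y y' eA eB eC p = (eC ⟨p, h⟩ : α) := by
  have h1 : p ∉ s ∩ y := by
    rw [Finset.mem_sdiff] at h
    rw [Finset.mem_inter]; exact fun h' => h.2 h'.1
  have h2 : p ∉ s \ y := by
    rw [Finset.mem_sdiff] at h ⊢
    exact fun h' => h.2 h'.1
  unfold glueFun; rw [dif_neg h1, dif_neg h2, dif_pos h]

theorem mem_parts {p : α} (h : p ∈ s ∪ y) : p ∈ s ∩ y ∨ p ∈ s \ y ∨ p ∈ y \ s := by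
  rw [Finset.mem_union] at h
  rw [Finset.mem_inter, Finset.mem_sdiff, Finset.mem_sdiff]
  by_cases h1 : p ∈ s <;> by_cases h2 : p ∈ y <;> simp_all

theorem glueFun_mem_s {p : α} (h : p ∈ s) : glueFun s y y' eA eB eC p ∈ s := by
  by_cases h2 : p ∈ y
  · have h' : p ∈ s ∩ y := Finset.mem_inter.2 ⟨h, h2⟩
    rw [glueFun_A h']
    exact (Finset.mem_inter.1 (eA ⟨p, h'⟩).2).1
  · have h' : p ∈ s \ y := Finset.mem_sdiff.2 ⟨h, h2⟩
    rw [glueFun_B h']
    exact (Finset.mem_sdiff.1 (eB ⟨p, h'⟩).2).1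

theorem glueFun_mem_y {p : α} (h : p ∈ y) : glueFun s y y' eA eB eC p ∈ y' := by
  by_cases h2 : p ∈ s
  · have h' : p ∈ s ∩ y := Finset.mem_inter.2 ⟨h2, h⟩
    rw [glueFun_A h']
    exact (Finset.mem_inter.1 (eA ⟨p, h'⟩).2).2
  · have h' : p ∈ y \ s := Finset.mem_sdiff.2 ⟨h, h2⟩
    rw [glueFun_C h']
    exact (Finset.mem_sdiff.1 (eC ⟨p, h'⟩).2).1

theorem glueFun_injOn : Set.InjOn (glueFun s y y' eA eB eC) ((s ∪ y : Finset α) : Set α) := by
  intro p hp q hq hpq
  rw [Finset.mem_coe] at hp hq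
  rcases mem_parts hp with h1 | h1 | h1 <;> rcases mem_parts hq with h2 | h2 | h2
  · rw [glueFun_A h1, glueFun_A h2] at hpq
    have := eA.injective (Subtype.ext hpq)
    exact congrArg Subtype.val this
  · rw [glueFun_A h1, glueFun_B h2] at hpq
    have m1 := (Finset.mem_inter.1 (eA ⟨p, h1⟩).2).2
    have m2 := (Finset.mem_sdiff.1 (eB ⟨q, h2⟩).2).2
    rw [hpq] at m1; exact absurd m1 m2
  · rw [glueFun_A h1, glueFun_C h2] at hpq
    have m1 := (Finset.mem_inter.1 (eA ⟨p, h1⟩).2).1
    have m2 := (Finset.mem_sdiff.1 (eC ⟨q, h2⟩).2).2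
    rw [hpq] at m1; exact absurd m1 m2
  · rw [glueFun_B h1, glueFun_A h2] at hpq
    have m1 := (Finset.mem_sdiff.1 (eB ⟨p, h1⟩).2).2
    have m2 := (Finset.mem_inter.1 (eA ⟨q, h2⟩).2).2
    rw [hpq] at m1; exact absurd m2 m1
  · rw [glueFun_B h1, glueFun_B h2] at hpq
    have := eB.injective (Subtype.ext hpq)
    exact congrArg Subtype.val this
  · rw [glueFun_B h1, glueFun_C h2] at hpq
    have m1 := (Finset.mem_sdiff.1 (eB ⟨p, h1⟩).2).1
    have m2 := (Finset.mem_sdiff.1 (eC ⟨q, h2⟩).2).2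
    rw [hpq] at m1; exact absurd m1 m2
  · rw [glueFun_C h1, glueFun_A h2] at hpq
    have m1 := (Finset.mem_sdiff.1 (eC ⟨p, h1⟩).2).2
    have m2 := (Finset.mem_inter.1 (eA ⟨q, h2⟩).2).1
    rw [hpq] at m1; exact absurd m2 m1
  · rw [glueFun_C h1, glueFun_B h2] at hpq
    have m1 := (Finset.mem_sdiff.1 (eC ⟨p, h1⟩).2).2
    have m2 := (Finset.mem_sdiff.1 (eB ⟨q, h2⟩).2).1
    rw [hpq] at m1; exact absurd m2 m1
  · rw [glueFun_C h1, glueFun_C h2] at hpq
    have := eC.injective (Subtype.ext hpq)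
    exact congrArg Subtype.val this

end Glue

/-- Set-transitivity of `M24`: a finset `y` can be moved to any finset `y'` of the same size meeting `s` in the
same number of points, by an element preserving `s`, as long as `s ∪ y` has at most 6 points (and, for 6
points, the octad condition agrees). -/
theorem exists_M24_set_map (s y y' : Finset GolayPt) (hy : y.card = y'.card)
    (hi : (s ∩ y).card = (s ∩ y').card) (hle : (s ∪ y).card ≤ 6)
    (h6 : (s ∪ y).card = 6 → ((∃ o ∈ octads, s ∪ y ⊆ o) ↔ (∃ o ∈ octads, s ∪ y' ⊆ o))) :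
    ∃ g ∈ M24, g • s = s ∧ g • y = y' := by
  classical
  have cB : (s \ y).card = (s \ y').card := by
    have h1 := Finset.card_sdiff_add_card_inter s y
    have h2 := Finset.card_sdiff_add_card_inter s y'
    omega
  have cC : (y \ s).card = (y' \ s).card := by
    have h1 := Finset.card_sdiff_add_card_inter y s
    have h2 := Finset.card_sdiff_add_card_inter y' s
    rw [Finset.inter_comm] at h1 h2
    omega
  have cU : (s ∪ y).card = (s ∪ y').card := by
    have h1 := Finset.card_union_add_card_inter s y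
    have h2 := Finset.card_union_add_card_inter s y'
    omega
  set f := glueFun s y y' (Finset.equivOfCardEq hi) (Finset.equivOfCardEq cB) (Finset.equivOfCardEq cC)
    with hf
  have hinj : Set.InjOn f ((s ∪ y : Finset GolayPt) : Set GolayPt) := glueFun_injOn
  have hfs : ∀ p ∈ s, f p ∈ s := fun p hp => glueFun_mem_s hp
  have hfy : ∀ p ∈ y, f p ∈ y' := fun p hp => glueFun_mem_y hp
  have himg : (s ∪ y).image f = s ∪ y' := by
    apply Finset.eq_of_subset_of_card_le
    · intro q hq
      rw [Finset.mem_image] at hq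
      obtain ⟨p, hp, rfl⟩ := hq
      rw [Finset.mem_union] at hp ⊢
      rcases hp with hp | hp
      · exact Or.inl (hfs p hp)
      · exact Or.inr (hfy p hp)
    · rw [Finset.card_image_of_injOn hinj, cU]
  -- the element of M24
  have key : ∃ g ∈ M24, ∀ p ∈ s ∪ y, g p = f p := by
    obtain ⟨n, hn⟩ : ∃ n, (s ∪ y).card = n := ⟨_, rfl⟩
    have e := Finset.equivFinOfCardEq hn
    have hxinj : Function.Injective (fun i : Fin n => ((e.symm i : ↥(s ∪ y)) : GolayPt)) :=
      Subtype.val_injective.comp e.symm.injective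
    have hyinj : Function.Injective (fun i : Fin n => f ((e.symm i : ↥(s ∪ y)) : GolayPt)) := by
      intro i j hij
      have := hinj (Finset.mem_coe.2 (e.symm i).2) (Finset.mem_coe.2 (e.symm j).2) hij
      exact hxinj this
    have hfin : ∀ g : Equiv.Perm GolayPt,
        (∀ i : Fin n, g ((e.symm i : ↥(s ∪ y)) : GolayPt) = f ((e.symm i : ↥(s ∪ y)) : GolayPt)) →
        ∀ p ∈ s ∪ y, g p = f p := by
      intro g hg p hp
      have := hg (e ⟨p, hp⟩)
      rw [Equiv.symm_apply_apply] at this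
      exact this
    have hn6 : n ≤ 5 ∨ n = 6 := by omega
    rcases hn6 with h5 | rfl
    · obtain ⟨g, hg, hmap⟩ := exists_M24_map h5 _ _ hxinj hyinj
      exact ⟨g, hg, hfin g hmap⟩
    · obtain ⟨g, hg, hmap⟩ := six_trans _ _ hxinj hyinj (by
        constructor
        · rintro ⟨o, ho, hxo⟩
          have hsub : s ∪ y ⊆ o := by
            intro p hp
            have := hxo (e ⟨p, hp⟩)
            rw [Equiv.symm_apply_apply] at this
            exact this
          obtain ⟨o', ho', hsub'⟩ := (h6 hn).1 ⟨o, ho, hsub⟩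
          refine ⟨o', ho', fun i => hsub' ?_⟩
          rw [← himg]
          exact Finset.mem_image_of_mem f (e.symm i).2
        · rintro ⟨o', ho', hyo⟩
          have hsub' : s ∪ y' ⊆ o' := by
            intro q hq
            rw [← himg, Finset.mem_image] at hq
            obtain ⟨p, hp, rfl⟩ := hq
            have := hyo (e ⟨p, hp⟩)
            rw [Equiv.symm_apply_apply] at this
            exact this
          obtain ⟨o, ho, hsub⟩ := (h6 hn).2 ⟨o', ho', hsub'⟩
          exact ⟨o, ho, fun i => hsub (e.symm i).2⟩)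
      exact ⟨g, hg, hfin g hmap⟩
  obtain ⟨g, hg, hgf⟩ := key
  refine ⟨g, hg, ?_, ?_⟩
  · apply Finset.eq_of_subset_of_card_le
    · intro q hq
      rw [Finset.mem_smul_finset] at hq
      obtain ⟨p, hp, rfl⟩ := hq
      rw [Equiv.Perm.smul_def, hgf p (Finset.mem_union_left _ hp)]
      exact hfs p hp
    · rw [Finset.card_smul_finset]
  · apply Finset.eq_of_subset_of_card_le
    · intro q hq
      rw [Finset.mem_smul_finset] at hq
      obtain ⟨p, hp, rfl⟩ := hq
      rw [Equiv.Perm.smul_def, hgf p (Finset.mem_union_right _ hp)]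
      exact hfy p hp
    · rw [Finset.card_smul_finset, hy]

end Cfsg.Agent.Lib.H28
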