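/-
helper28 library: abstract consequences of multiple transitivity on an invariant finite subset: moving subsets with
prescribed intersections, counting subsets by intersection size, maximality of duad stabilizers in a 4-transitive
group of degree 11.
-/
import Cfsg.Agent.Lib.H28.M24Six
import Cfsg.Agent.Lib.H28.Primitive

set_option autoImplicit false

namespace Cfsg.Agent.Lib.H28

open Finset
open scoped Pointwise

section Count

variable {α : Type*} [DecidableEq α]

/-- The number of `k`-subsets of `D` meeting a given subset `s ⊆ D` in exactly `j` points. -/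
theorem card_powersetCard_filter_inter_of_subset (D s : Finset α) (hs : s ⊆ D) (k j : ℕ) (hjk : j ≤ k) :
    ((D.powersetCard k).filter (fun y => (s ∩ y).card = j)).card
      = s.card.choose j * (D \ s).card.choose (k - j) := by
  rw [← card_powersetCard, ← card_powersetCard, ← card_product]
  apply card_nbij' (fun y => (s ∩ y, (D \ s) ∩ y)) (fun ab => ab.1 ∪ ab.2)
  · intro y hy
    rw [mem_coe, mem_filter, mem_powersetCard] at hy
    show (s ∩ y, (D \ s) ∩ y) ∈ ((s.powersetCard j ×ˢ (D \ s).powersetCard (k - j) : Finset _) : Set _)
    rw [mem_coe, mem_product, mem_powersetCard, mem_powersetCard]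
    refine ⟨⟨inter_subset_left, hy.2⟩, inter_subset_left, ?_⟩
    show ((D \ s) ∩ y).card = k - j
    have hyk := hy.1.2
    have hyj := hy.2
    have h1 : (s ∩ y).card + ((D \ s) ∩ y).card = y.card := by
      rw [← card_union_of_disjoint, ← union_inter_distrib_right, union_sdiff_of_subset hs,
        inter_eq_right.2 hy.1.1]
      exact disjoint_of_subset_left inter_subset_left
        (disjoint_of_subset_right inter_subset_left disjoint_sdiff)
    omega
  · intro ab hab
    rw [mem_coe, mem_product, mem_powersetCard, mem_powersetCard] at hab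
    show ab.1 ∪ ab.2 ∈ (((D.powersetCard k).filter (fun y => (s ∩ y).card = j) : Finset _) : Set _)
    have hd : Disjoint ab.1 ab.2 :=
      disjoint_of_subset_left hab.1.1 (disjoint_of_subset_right hab.2.1 disjoint_sdiff)
    have h1 : s ∩ (ab.1 ∪ ab.2) = ab.1 := by
      rw [inter_union_distrib_left, inter_eq_right.2 hab.1.1]
      have : s ∩ ab.2 = ∅ := by
        rw [← disjoint_iff_inter_eq_empty]
        exact disjoint_of_subset_right hab.2.1 disjoint_sdiff
      rw [this, union_empty]
    rw [mem_coe, mem_filter, mem_powersetCard, h1, card_union_of_disjoint hd]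
    refine ⟨⟨union_subset (hab.1.1.trans hs) (hab.2.1.trans sdiff_subset), by omega⟩, hab.1.2⟩
  · intro y hy
    rw [mem_coe, mem_filter, mem_powersetCard] at hy
    show s ∩ y ∪ (D \ s) ∩ y = y
    rw [← union_inter_distrib_right, union_sdiff_of_subset hs, inter_eq_right.2 hy.1.1]
  · intro ab hab
    rw [mem_coe, mem_product, mem_powersetCard, mem_powersetCard] at hab
    have e1 : s ∩ (ab.1 ∪ ab.2) = ab.1 := by
      rw [inter_union_distrib_left, inter_eq_right.2 hab.1.1]
      have : s ∩ ab.2 = ∅ := by
        rw [← disjoint_iff_inter_eq_empty]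
        exact disjoint_of_subset_right hab.2.1 disjoint_sdiff
      rw [this, union_empty]
    have e2 : (D \ s) ∩ (ab.1 ∪ ab.2) = ab.2 := by
      rw [inter_union_distrib_left, inter_eq_right.2 hab.2.1]
      have : (D \ s) ∩ ab.1 = ∅ := by
        rw [← disjoint_iff_inter_eq_empty]
        exact disjoint_of_subset_right hab.1.1 sdiff_disjoint
      rw [this, empty_union]
    show (s ∩ (ab.1 ∪ ab.2), (D \ s) ∩ (ab.1 ∪ ab.2)) = ab
    rw [e1, e2]

end Count

section SetMap

variable {G α : Type*} [Group G] [MulAction G α] [DecidableEq α]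

/-- Set-transitivity from multiple transitivity on a subset `D`: a finset `y ⊆ D` can be moved to any `y' ⊆ D` of the
same size meeting `s ⊆ D` in the same number of points by an element preserving `s`, if `s ∪ y` has at most `N`
points. -/
theorem exists_set_map_of_trans (D : Finset α) (N : ℕ)
    (htrans : ∀ n ≤ N, ∀ x y : Fin n → α, Function.Injective x → Function.Injective y →
      (∀ i, x i ∈ D) → (∀ i, y i ∈ D) → ∃ g : G, ∀ i, g • x i = y i)
    (s y y' : Finset α) (hsD : s ⊆ D) (hyD : y ⊆ D) (hy'D : y' ⊆ D) (hy : y.card = y'.card)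
    (hi : (s ∩ y).card = (s ∩ y').card) (hle : (s ∪ y).card ≤ N) :
    ∃ g : G, g • s = s ∧ g • y = y' := by
  classical
  have cB : (s \ y).card = (s \ y').card := by
    have h1 := Finset.card_sdiff_add_card_inter s y
    have h2 := Finset.card_sdiff_add_card_inter s y'
    omega
  have cC : (y \ s).card = (y' \ s).card := by
    have h1 := Finset.card_sdiff_add_card_inter y s
    have h2 := Finset.card_sdiff_add_card_inter y' s
    rw [Finset.inter_comm] at h1 h2
    omega
  have cU : (s ∪ y).card = (s ∪ y').card := by
    have h1 := Finset.card_union_add_card_inter s y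
    have h2 := Finset.card_union_add_card_inter s y'
    omega
  set f := glueFun s y y' (Finset.equivOfCardEq hi) (Finset.equivOfCardEq cB) (Finset.equivOfCardEq cC)
    with hf
  have hinj : Set.InjOn f ((s ∪ y : Finset α) : Set α) := glueFun_injOn
  have hfs : ∀ p ∈ s, f p ∈ s := fun p hp => glueFun_mem_s hp
  have hfy : ∀ p ∈ y, f p ∈ y' := fun p hp => glueFun_mem_y hp
  have key : ∃ g : G, ∀ p ∈ s ∪ y, g • p = f p := by
    obtain ⟨n, hn⟩ : ∃ n, (s ∪ y).card = n := ⟨_, rfl⟩
    have e := Finset.equivFinOfCardEq hn
    have hxinj : Function.Injective (fun i : Fin n => ((e.symm i : ↥(s ∪ y)) : α)) :=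
      Subtype.val_injective.comp e.symm.injective
    have hyinj : Function.Injective (fun i : Fin n => f ((e.symm i : ↥(s ∪ y)) : α)) := by
      intro i j hij
      have := hinj (Finset.mem_coe.2 (e.symm i).2) (Finset.mem_coe.2 (e.symm j).2) hij
      exact hxinj this
    obtain ⟨g, hmap⟩ := htrans n (by omega) _ _ hxinj hyinj
      (fun i => by
        have := (e.symm i).2
        rw [Finset.mem_union] at this
        rcases this with h | h
        · exact hsD h
        · exact hyD h)
      (fun i => by
        have := (e.symm i).2
        rw [Finset.mem_union] at this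
        rcases this with h | h
        · exact hsD (hfs _ h)
        · exact hy'D (hfy _ h))
    refine ⟨g, fun p hp => ?_⟩
    have := hmap (e ⟨p, hp⟩)
    rw [Equiv.symm_apply_apply] at this
    exact this
  obtain ⟨g, hgf⟩ := key
  refine ⟨g, ?_, ?_⟩
  · apply Finset.eq_of_subset_of_card_le
    · intro q hq
      rw [Finset.mem_smul_finset] at hq
      obtain ⟨p, hp, rfl⟩ := hq
      rw [hgf p (Finset.mem_union_left _ hp)]
      exact hfs p hp
    · rw [Finset.card_smul_finset]
  · apply Finset.eq_of_subset_of_card_le
    · intro q hq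
      rw [Finset.mem_smul_finset] at hq
      obtain ⟨p, hp, rfl⟩ := hq
      rw [hgf p (Finset.mem_union_right _ hp)]
      exact hfy p hp
    · rw [Finset.card_smul_finset, hy]

/-- In a group acting 4-transitively on an invariant set `D` of 11 points, the stabilizer of a pair of points of `D`
is a maximal subgroup. -/
theorem isCoatom_stabilizer_duad_of_trans [Finite G] (D : Finset α) (hD : D.card = 11)
    (hinv : ∀ g : G, ∀ p ∈ D, g • p ∈ D)
    (htrans : ∀ n ≤ 4, ∀ x y : Fin n → α, Function.Injective x → Function.Injective y →
      (∀ i, x i ∈ D) → (∀ i, y i ∈ D) → ∃ g : G, ∀ i, g • x i = y i)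
    (s : Finset α) (hsD : s ⊆ D) (hs : s.card = 2) : IsCoatom (MulAction.stabilizer G s) := by
  classical
  have hΩcard : (D.powersetCard 2).card = 55 := by
    rw [card_powersetCard, hD]; decide
  have hsc : (D \ s).card = 9 := by rw [card_sdiff_of_subset hsD, hD, hs]
  apply isCoatom_stabilizer_of_suborbits (G := G) s (D.powersetCard 2)
    (fun y => by
      rw [mem_powersetCard]
      constructor
      · rintro ⟨hyD, hy⟩
        obtain ⟨g, -, h⟩ := exists_set_map_of_trans D 4 htrans ∅ s y (empty_subset _) hsD hyD
          (hs.trans hy.symm) (by simp) (by rw [empty_union]; omega)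
        exact ⟨g, h⟩
      · rintro ⟨g, rfl⟩
        refine ⟨?_, by rw [card_smul_finset, hs]⟩
        intro q hq
        rw [mem_smul_finset] at hq
        obtain ⟨p, hp, rfl⟩ := hq
        exact hinv g p (hsD hp))
    (fun y => (s ∩ y).card) {0, 1, 2}
    (fun y hy => by
      have : (s ∩ y).card ≤ 2 := by
        rw [← hs]; exact card_le_card inter_subset_left
      simp only [mem_insert, mem_singleton]
      omega)
    (fun y hy y' hy' hc => by
      rw [mem_powersetCard] at hy hy'
      obtain ⟨g, h1, h2⟩ := exists_set_map_of_trans D 4 htrans s y y' hsD hy.1 hy'.1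
        (hy.2.trans hy'.2.symm) hc
        (by
          have := card_union_le s y
          omega)
      exact ⟨g, MulAction.mem_stabilizer_iff.2 h1, h2⟩)
    (by rw [hΩcard]; norm_num)
    (fun j => if j = 0 then 36 else if j = 1 then 18 else 1)
    (fun j hj => by
      have h0 := card_powersetCard_filter_inter_of_subset D s hsD 2 0 (by omega)
      have h1 := card_powersetCard_filter_inter_of_subset D s hsD 2 1 (by omega)
      have h2 := card_powersetCard_filter_inter_of_subset D s hsD 2 2 (by omega)
      rw [hs, hsc] at h0 h1 h2
      simp only [mem_insert, mem_singleton] at hj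
      rcases hj with rfl | rfl | rfl
      · rw [h0]; decide
      · rw [h1]; decide
      · rw [h2]; decide)
  rw [hΩcard, inter_self, hs]
  decide

end SetMap

end Cfsg.Agent.Lib.H28
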