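/-
helper28 library: subgroups of `M24` generated by words in the three generators: certificates (stabilizer chains with
explicit transversal words) giving lower bounds for the order, hence generation statements.
-/
import Cfsg.Agent.Lib.H28.M24OctadOrbits

set_option autoImplicit false

namespace Cfsg.Agent.Lib.H28

open Cfsg

/-- The subgroup generated by the permutations of a list of words. -/
noncomputable def wordsClosure (ws : List (List ℕ)) : Subgroup (Equiv.Perm GolayPt) :=
  Subgroup.closure {g | ∃ w ∈ ws, wordPerm w = g}

theorem wordPerm_mem_wordsClosure {ws : List (List ℕ)} {w : List ℕ} (hw : w ∈ ws) :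
    wordPerm w ∈ wordsClosure ws :=
  Subgroup.subset_closure ⟨w, hw, rfl⟩

theorem wordsClosure_le {ws : List (List ℕ)} {K : Subgroup (Equiv.Perm GolayPt)}
    (h : ∀ w ∈ ws, wordPerm w ∈ K) : wordsClosure ws ≤ K := by
  unfold wordsClosure
  rw [Subgroup.closure_le]
  rintro g ⟨w, hw, rfl⟩
  exact h w hw

/-- Expansion of a word in the generators `ws` and their inverses: the index `i < ws.length` stands for `ws[i]`,
and `ws.length + i` for the inverse of `ws[i]`. -/
def metaFlat (ws : List (List ℕ)) (m : List ℕ) : List ℕ :=
  m.flatMap (fun i => if i < ws.length then ws.getD i [] else invWord (ws.getD (i - ws.length) []))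

theorem wordPerm_getD_mem (ws : List (List ℕ)) (i : ℕ) : wordPerm (ws.getD i []) ∈ wordsClosure ws := by
  by_cases h : i < ws.length
  · rw [List.getD_eq_getElem _ _ h]
    exact wordPerm_mem_wordsClosure (List.getElem_mem _)
  · rw [List.getD_eq_default _ _ (not_lt.1 h), wordPerm_nil]
    exact Subgroup.one_mem _

theorem wordPerm_metaFlat_mem (ws : List (List ℕ)) (m : List ℕ) :
    wordPerm (metaFlat ws m) ∈ wordsClosure ws := by
  induction m with
  | nil => exact Subgroup.one_mem _
  | cons i m ih =>
    unfold metaFlat at ih ⊢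
    rw [List.flatMap_cons, wordPerm_append]
    refine Subgroup.mul_mem _ ?_ ih
    split_ifs
    · exact wordPerm_getD_mem ws i
    · rw [wordPerm_invWord]
      exact Subgroup.inv_mem _ (wordPerm_getD_mem ws _)

/-- A word fixes the point with index `j` if its table does. -/
theorem wordPerm_fix_of_evalPt {w : List ℕ} {j : ℕ} (hj : j < 24) (h : evalPt w j = j) :
    wordPerm w (gPt j) = gPt j := by
  apply gIdx_injective
  rw [gIdx_wordPerm, gIdx_gPt hj, h]

/-! ### Level certificates -/

/-- Boolean test that a list has no duplicates. -/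
def nodupB : List ℕ → Bool
  | [] => true
  | a :: l => !(l.contains a) && nodupB l

theorem nodupB_sound : ∀ {l : List ℕ}, nodupB l = true → l.Nodup
  | [], _ => List.nodup_nil
  | a :: l, h => by
    unfold nodupB at h
    rw [Bool.and_eq_true, Bool.not_eq_true', List.contains_eq_mem, decide_eq_false_iff_not] at h
    exact List.nodup_cons.2 ⟨h.1, nodupB_sound h.2⟩

/-- The words `wits` fix the indices in `L` and send `k` to pairwise distinct indices. -/
def levelCheck (L : List ℕ) (k : ℕ) (wits : List (List ℕ)) : Bool :=
  decide (k < 24) && L.all (fun j => decide (j < 24)) &&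
    wits.all (fun w => L.all (fun j => evalPt w j == j)) && nodupB (wits.map (fun w => evalPt w k))

theorem card_fixSub_ge_of_levelCheck (K : Subgroup (Equiv.Perm GolayPt)) {L : List ℕ} {k : ℕ}
    {wits : List (List ℕ)} (hK : ∀ w ∈ wits, wordPerm w ∈ K) (h : levelCheck L k wits = true) :
    wits.length * Nat.card (fixSub K (k :: L)) ≤ Nat.card (fixSub K L) := by
  classical
  unfold levelCheck at h
  rw [Bool.and_eq_true, Bool.and_eq_true, Bool.and_eq_true, decide_eq_true_eq] at h
  obtain ⟨⟨⟨hk, hL⟩, hfix⟩, hnd⟩ := h
  set X : Finset GolayPt := (wits.map (fun w => wordPerm w (gPt k))).toFinset with hX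
  have hXc : X.card = wits.length := by
    rw [hX, List.toFinset_card_of_nodup, List.length_map]
    apply List.Nodup.of_map gIdx
    rw [List.map_map]
    have : (gIdx ∘ fun w => wordPerm w (gPt k)) = fun w => evalPt w k := by
      funext w
      show gIdx (wordPerm w (gPt k)) = evalPt w k
      rw [gIdx_wordPerm, gIdx_gPt hk]
    rw [this]
    exact nodupB_sound hnd
  rw [← hXc]
  apply card_fixSub_ge
  intro x hx
  rw [hX, List.mem_toFinset, List.mem_map] at hx
  obtain ⟨w, hw, rfl⟩ := hx
  refine ⟨wordPerm w, mem_fixSub.2 ⟨hK w hw, ?_⟩, rfl⟩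
  intro j hj
  have h1 := List.all_eq_true.1 (List.all_eq_true.1 hfix w hw) j hj
  rw [beq_iff_eq] at h1
  have h2 := List.all_eq_true.1 hL j hj
  rw [decide_eq_true_eq] at h2
  exact wordPerm_fix_of_evalPt h2 h1

/-- A stabilizer chain certificate: base points with transversal words. -/
def chainCheck : List ℕ → List (ℕ × List (List ℕ)) → Bool
  | _, [] => true
  | L, c :: rest => levelCheck L c.1 c.2 && chainCheck (c.1 :: L) rest

theorem card_ge_of_chainCheck (K : Subgroup (Equiv.Perm GolayPt)) :
    ∀ (chain : List (ℕ × List (List ℕ))) (L : List ℕ),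
      (∀ c ∈ chain, ∀ w ∈ c.2, wordPerm w ∈ K) → chainCheck L chain = true →
      (chain.map (fun c => c.2.length)).prod ≤ Nat.card (fixSub K L)
  | [], L, _, _ => by
    rw [List.map_nil, List.prod_nil]
    exact Nat.card_pos
  | c :: rest, L, hK, h => by
    unfold chainCheck at h
    rw [Bool.and_eq_true] at h
    have h1 := card_fixSub_ge_of_levelCheck K (fun w hw => hK c (List.mem_cons_self) w hw) h.1
    have h2 := card_ge_of_chainCheck K rest (c.1 :: L)
      (fun c' hc' w hw => hK c' (List.mem_cons_of_mem _ hc') w hw) h.2
    rw [List.map_cons, List.prod_cons]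
    exact le_trans (Nat.mul_le_mul_left _ h2) h1

/-- The chain of transversals written in the generators `ws`. -/
def metaChain (ws : List (List ℕ)) (chain : List (ℕ × List (List ℕ))) : List (ℕ × List (List ℕ)) :=
  chain.map (fun c => (c.1, c.2.map (metaFlat ws)))

/-- Generation from a chain certificate: if the words `ws` lie in `G`, and transversal words in `ws` certify at
least `|G|` elements, then `ws` generates `G`. -/
theorem wordsClosure_eq_of_chain (G : Subgroup (Equiv.Perm GolayPt)) (ws : List (List ℕ))
    (chain : List (ℕ × List (List ℕ))) (hws : ∀ w ∈ ws, wordPerm w ∈ G)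
    (hchain : chainCheck [] (metaChain ws chain) = true)
    (hn : Nat.card G ≤ ((metaChain ws chain).map (fun c => c.2.length)).prod) :
    wordsClosure ws = G := by
  apply Subgroup.eq_of_le_of_card_ge (wordsClosure_le hws)
  refine le_trans hn ?_
  have := card_ge_of_chainCheck (wordsClosure ws) (metaChain ws chain) [] ?_ hchain
  · rwa [fixSub_nil] at this
  · intro c hc w hw
    unfold metaChain at hc
    rw [List.mem_map] at hc
    obtain ⟨c0, _, rfl⟩ := hc
    rw [List.mem_map] at hw
    obtain ⟨m, _, rfl⟩ := hw
    exact wordPerm_metaFlat_mem ws m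

end Cfsg.Agent.Lib.H28
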