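/-
helper28 library: simplicity of `M11` (the stabilizer of the dodecad of squares and of its point `0`), by Iwasawa's
criterion for the action on the 55 pairs of the remaining eleven points, with the normal subgroup `3^2` of the pair
stabilizer.
-/
import Cfsg.Agent.Lib.H28.WordChain
import Cfsg.Agent.Lib.H28.IwasawaPoint
import Cfsg.Agent.Lib.H28.MultiTrans

set_option autoImplicit false

namespace Cfsg.Agent.Lib.H28

open Cfsg
open scoped Pointwise commutatorElement

/-! ### Data -/

def m11Gens : List (List ℕ) := [[3], [2, 1, 4, 4, 1, 3, 3, 0, 4, 1, 2]]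

def m11Chain : List (ℕ × List (List ℕ)) := [
    (1, [[], [1, 1], [1, 1, 1], [0, 0], [2], [0, 1], [1, 0], [1], [1, 1, 0], [0, 0, 1], [0]]),
    (2, [[], [1, 2, 1, 2], [1, 0, 1, 1], [1, 2], [0, 3], [0, 0, 1, 1], [0, 1, 0, 0, 1, 2], [0, 3, 0, 3], [3, 3, 2, 2], [0, 1, 0, 3, 2, 1]]),
    (3, [[], [1, 2, 3, 0, 1, 0], [2, 2, 1, 2, 1, 0], [1, 1, 0, 0], [0, 1, 2, 1, 1, 0, 3], [0, 1, 2, 2, 3], [2, 2, 3, 3], [2, 1, 0, 0, 1, 0], [1, 0, 1, 1, 0, 3]]),
    (4, [[], [2, 1, 2, 2, 3, 3, 3], [2, 1, 0, 3, 0, 3, 2], [1, 1, 1, 0, 0, 3, 0], [0, 1, 1, 0, 0, 1, 0, 0, 1], [2, 1, 1, 1, 0, 1, 2, 3], [0, 1, 2, 1, 2, 3, 0], [1, 0, 0, 1, 0, 3, 3, 0]])]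

def m11T1 : List ℕ := [3, 1, 1, 4, 1, 3, 3, 0, 3, 0, 3, 0, 2, 4, 0]

def m11T2 : List ℕ := [2, 0, 0, 4, 0, 3, 1, 4, 0, 3, 1, 3, 1, 2, 3]

def m11HGens : List (List ℕ) := [[2, 0, 3, 2, 0, 3, 0, 3, 0, 0, 2, 0], [1, 4, 1, 1, 1, 2, 0, 4, 0, 4, 4, 0, 0]]

def m11HChain : List (ℕ × List (List ℕ)) := [
    (1, [[], [0]]),
    (3, [[], [0, 3], [1, 1, 1, 1], [0, 1, 1, 1], [0, 1, 0, 1, 1, 1], [0, 1, 0, 1], [3, 0], [0, 1], [1, 1]]),
    (4, [[], [1, 1, 0, 3], [0, 1, 0, 3, 3, 0], [1, 0, 3, 3], [1, 0, 3, 0, 3, 3], [3, 0, 1, 0], [0, 1, 1, 0, 3, 0], [0, 3, 0, 1]])]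

/-- For `h` among the generators of `H` and their inverses: the exponents of `h t₁ h⁻¹` and `h t₂ h⁻¹`. -/
def m11Conj : List (List (ℕ × ℕ)) := [[(0, 1), (1, 0)], [(1, 2), (1, 1)], [(0, 1), (1, 0)], [(2, 2), (1, 2)]]

/-- Factorisations of the generators into conjugates `u t₁^a t₂^b u⁻¹`. -/
def m11Facts : List (List (List ℕ × ℕ × ℕ)) := [[([], 1, 1), ([3, 1, 4, 4, 1, 4, 0, 0, 0, 3, 0], 2, 0)], [([3], 1, 2), ([0, 4, 2, 0, 4, 4, 0, 4, 4, 0, 2, 1], 1, 0)]]

/-- `t₁` and `t₂` as commutators `[q, t₁^a t₂^b]`. -/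
def m11Comm : List (List ℕ × ℕ × ℕ) := [([0, 3, 2, 0, 3, 0, 3, 0, 2, 1], 1, 0), ([0, 3, 2, 0, 3, 0, 3, 0, 2, 1], 0, 1)]

/-! ### The group and its eleven points -/

/-- `M11`: the stabilizer of the dodecad `dod0` and of its point `0`. -/
noncomputable abbrev G11 : Subgroup (Equiv.Perm GolayPt) := fixSub (stabMask dod0) [0]

theorem mem_G11 {g : Equiv.Perm GolayPt} :
    g ∈ G11 ↔ g ∈ M24 ∧ g • ptsMask dod0 = ptsMask dod0 ∧ g (gPt 0) = gPt 0 := by
  rw [mem_fixSub, mem_stabMask_iff_smul]
  constructor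
  · rintro ⟨⟨h1, h2⟩, h3⟩
    exact ⟨h1, h2, h3 0 (by simp)⟩
  · rintro ⟨h1, h2, h3⟩
    refine ⟨⟨h1, h2⟩, ?_⟩
    intro k hk
    rw [List.mem_singleton] at hk
    subst hk
    exact h3

/-- Membership test for words. -/
def inG11 (w : List ℕ) : Bool := presCheck w dod0 && (evalPt w 0 == 0)

theorem wordPerm_mem_G11 {w : List ℕ} (h : inG11 w = true) : wordPerm w ∈ G11 := by
  unfold inG11 at h
  rw [Bool.and_eq_true, beq_iff_eq] at h
  rw [mem_fixSub]
  refine ⟨wordPerm_mem_stabMask h.1, ?_⟩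
  intro k hk
  rw [List.mem_singleton] at hk
  subst hk
  exact wordPerm_fix_of_evalPt (by norm_num) h.2

/-- The eleven points. -/
def D11 : Finset GolayPt := (ptsMask dod0).erase (gPt 0)

theorem gPt0_mem_dod0 : gPt 0 ∈ ptsMask dod0 := by
  rw [mem_ptsMask, gIdx_gPt (by norm_num)]
  decide

theorem card_D11 : D11.card = 11 := by
  unfold D11
  rw [Finset.card_erase_of_mem gPt0_mem_dod0, card_ptsMask]
  decide

theorem mem_D11 {p : GolayPt} : p ∈ D11 ↔ p ≠ gPt 0 ∧ p ∈ ptsMask dod0 := by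
  unfold D11
  rw [Finset.mem_erase]

theorem G11_smul_def (g : ↥G11) (p : GolayPt) : g • p = g.1 p := rfl

theorem G11_smul_finset_def (g : ↥G11) (s : Finset GolayPt) : g • s = g.1 • s := rfl

theorem G11_inv (g : ↥G11) (p : GolayPt) (hp : p ∈ D11) : g • p ∈ D11 := by
  rw [mem_D11] at hp ⊢
  obtain ⟨-, h2, h3⟩ := mem_G11.1 g.2
  rw [G11_smul_def]
  constructor
  · intro h
    rw [← h3] at h
    exact hp.1 (g.1.injective h)
  · rw [← h2, ← Equiv.Perm.smul_def]
    exact Finset.smul_mem_smul_finset hp.2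

/-- `M11` is 4-transitive on the eleven points. -/
theorem G11_trans : ∀ n ≤ 4, ∀ x y : Fin n → GolayPt, Function.Injective x → Function.Injective y →
    (∀ i, x i ∈ D11) → (∀ i, y i ∈ D11) → ∃ g : ↥G11, ∀ i, g • x i = y i := by
  intro n hn x y hx hy hxD hyD
  obtain ⟨g, hg, hgd, hmap⟩ := dodTrans_dod0 (n + 1) (by omega)
    (Fin.cons (gPt 0) x) (Fin.cons (gPt 0) y)
    (Fin.cons_injective_iff.2 ⟨by
      rintro ⟨i, hi⟩
      exact (mem_D11.1 (hxD i)).1 hi, hx⟩)
    (Fin.cons_injective_iff.2 ⟨by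
      rintro ⟨i, hi⟩
      exact (mem_D11.1 (hyD i)).1 hi, hy⟩)
    (by
      intro i
      refine Fin.cases ?_ (fun j => ?_) i
      · rw [Fin.cons_zero]; exact gPt0_mem_dod0
      · rw [Fin.cons_succ]; exact (mem_D11.1 (hxD j)).2)
    (by
      intro i
      refine Fin.cases ?_ (fun j => ?_) i
      · rw [Fin.cons_zero]; exact gPt0_mem_dod0
      · rw [Fin.cons_succ]; exact (mem_D11.1 (hyD j)).2)
  have h0 := hmap 0
  rw [Fin.cons_zero, Fin.cons_zero] at h0
  refine ⟨⟨g, mem_G11.2 ⟨hg, hgd, h0⟩⟩, ?_⟩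
  intro i
  have := hmap i.succ
  rw [Fin.cons_succ, Fin.cons_succ] at this
  exact this

theorem card_G11_le : Nat.card G11 ≤ 7920 := by
  have h0 := card_fixSub_ge (stabMask dod0) ((m12Base.take 0).reverse) (m12Base.getD 0 0) _
    (m12_level_ge 0 (by norm_num))
  rw [m12_levelSet_card 0 (by norm_num)] at h0
  change 12 * Nat.card (fixSub (stabMask dod0) [0]) ≤ Nat.card (fixSub (stabMask dod0) []) at h0
  rw [fixSub_nil, card_stabMask_dod0] at h0
  show Nat.card (fixSub (stabMask dod0) [0]) ≤ 7920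
  omega

theorem m11Gens_mem : ∀ w ∈ m11Gens, wordPerm w ∈ G11 := by
  intro w hw
  apply wordPerm_mem_G11
  have : ∀ w ∈ m11Gens, inG11 w = true := by decide +kernel
  exact this w hw

theorem m11Chain_ok : chainCheck [] (metaChain m11Gens m11Chain) = true := by decide +kernel

theorem wordsClosure_m11Gens : wordsClosure m11Gens = G11 := by
  apply wordsClosure_eq_of_chain G11 m11Gens m11Chain m11Gens_mem m11Chain_ok
  refine le_trans card_G11_le ?_
  decide +kernel

/-! ### The stabilizer of a pair -/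

/-- The base pair `{1, 2}`. -/
def duad0 : Finset GolayPt := {gPt 1, gPt 2}

theorem gPt_ne {i j : ℕ} (hi : i < 24) (hj : j < 24) (h : i ≠ j) : gPt i ≠ gPt j := by
  intro he
  have := congrArg gIdx he
  rw [gIdx_gPt hi, gIdx_gPt hj] at this
  exact h this

theorem card_duad0 : duad0.card = 2 := by
  unfold duad0
  rw [Finset.card_pair (gPt_ne (by norm_num) (by norm_num) (by norm_num))]

theorem duad0_subset : duad0 ⊆ D11 := by
  intro p hp
  unfold duad0 at hp
  rw [Finset.mem_insert, Finset.mem_singleton] at hp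
  rw [mem_D11, mem_ptsMask]
  rcases hp with rfl | rfl
  · exact ⟨gPt_ne (by norm_num) (by norm_num) (by norm_num), by rw [gIdx_gPt (by norm_num)]; decide⟩
  · exact ⟨gPt_ne (by norm_num) (by norm_num) (by norm_num), by rw [gIdx_gPt (by norm_num)]; decide⟩

/-- The stabilizer of the base pair is a maximal subgroup of `M11`. -/
theorem isCoatom_stabilizer_duad0 : IsCoatom (MulAction.stabilizer ↥G11 duad0) :=
  isCoatom_stabilizer_duad_of_trans D11 card_D11 G11_inv G11_trans duad0 duad0_subset card_duad0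

/-- The stabilizer of the base pair, as a group of permutations. -/
noncomputable def H11 : Subgroup (Equiv.Perm GolayPt) :=
  G11 ⊓ MulAction.stabilizer (Equiv.Perm GolayPt) duad0

theorem mem_H11 {g : Equiv.Perm GolayPt} : g ∈ H11 ↔ g ∈ G11 ∧ g • duad0 = duad0 := by
  unfold H11
  rw [Subgroup.mem_inf, MulAction.mem_stabilizer_iff]

/-- All pairs in the eleven points are conjugate to the base pair. -/
theorem exists_G11_smul_duad0 {y : Finset GolayPt} (hyD : y ⊆ D11) (hy : y.card = 2) :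
    ∃ g : ↥G11, g • duad0 = y := by
  obtain ⟨g, -, h⟩ := exists_set_map_of_trans D11 4 G11_trans ∅ duad0 y (Finset.empty_subset _)
    duad0_subset hyD (card_duad0.trans hy.symm) (by simp)
    (by rw [Finset.empty_union, card_duad0]; norm_num)
  exact ⟨g, h⟩

theorem card_H11_le : Nat.card H11 ≤ 144 := by
  classical
  have h1 := card_eq_orbit_mul_stab (G := Equiv.Perm GolayPt) G11 duad0
  have h2 : {y | ∃ h ∈ G11, h • duad0 = y} = ((D11.powersetCard 2 : Finset (Finset GolayPt)) : Set _) := by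
    ext y
    rw [Set.mem_ofPred_eq, Finset.mem_coe, Finset.mem_powersetCard]
    constructor
    · rintro ⟨h, hh, rfl⟩
      refine ⟨?_, by rw [Finset.card_smul_finset, card_duad0]⟩
      intro q hq
      rw [Finset.mem_smul_finset] at hq
      obtain ⟨p, hp, rfl⟩ := hq
      exact G11_inv ⟨h, hh⟩ p (duad0_subset hp)
    · rintro ⟨hyD, hy⟩
      obtain ⟨g, hg⟩ := exists_G11_smul_duad0 hyD hy
      exact ⟨g.1, g.2, hg⟩
  rw [h2, Set.ncard_coe_finset, Finset.card_powersetCard, card_D11] at h1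
  have h3 : Nat.choose 11 2 = 55 := by decide
  rw [h3] at h1
  have := card_G11_le
  unfold H11
  omega

/-- Membership test for words. -/
def inH11 (w : List ℕ) : Bool :=
  inG11 w && ((evalPt w 1 == 1 && evalPt w 2 == 2) || (evalPt w 1 == 2 && evalPt w 2 == 1))

theorem wordPerm_mem_H11 {w : List ℕ} (h : inH11 w = true) : wordPerm w ∈ H11 := by
  unfold inH11 at h
  rw [Bool.and_eq_true] at h
  rw [mem_H11]
  refine ⟨wordPerm_mem_G11 h.1, ?_⟩
  have key : ∀ i j : ℕ, i < 24 → j < 24 → evalPt w i = j → wordPerm w (gPt i) = gPt j := by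
    intro i j hi hj hij
    apply gIdx_injective
    rw [gIdx_wordPerm, gIdx_gPt hi, gIdx_gPt hj, hij]
  unfold duad0
  rw [Finset.smul_finset_insert, Finset.smul_finset_singleton, Equiv.Perm.smul_def, Equiv.Perm.smul_def]
  have h2 := h.2
  rw [Bool.or_eq_true, Bool.and_eq_true, Bool.and_eq_true, beq_iff_eq, beq_iff_eq, beq_iff_eq,
    beq_iff_eq] at h2
  rcases h2 with ⟨e1, e2⟩ | ⟨e1, e2⟩
  · rw [key 1 1 (by norm_num) (by norm_num) e1, key 2 2 (by norm_num) (by norm_num) e2]
  · rw [key 1 2 (by norm_num) (by norm_num) e1, key 2 1 (by norm_num) (by norm_num) e2]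
    exact Finset.pair_comm _ _

theorem m11HGens_mem : ∀ w ∈ m11HGens, wordPerm w ∈ H11 := by
  intro w hw
  apply wordPerm_mem_H11
  have : ∀ w ∈ m11HGens, inH11 w = true := by decide +kernel
  exact this w hw

theorem m11HChain_ok : chainCheck [] (metaChain m11HGens m11HChain) = true := by decide +kernel

theorem wordsClosure_m11HGens : wordsClosure m11HGens = H11 := by
  apply wordsClosure_eq_of_chain H11 m11HGens m11HChain m11HGens_mem m11HChain_ok
  refine le_trans card_H11_le ?_
  decide +kernel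

/-! ### The normal subgroup `3^2` of the pair stabilizer -/

/-- Two words give the same permutation. -/
def eqWords (u v : List ℕ) : Bool := (List.range 24).all (fun k => evalPt u k == evalPt v k)

theorem wordPerm_eq_of_eqWords {u v : List ℕ} (h : eqWords u v = true) : wordPerm u = wordPerm v := by
  apply Equiv.ext
  intro p
  apply gIdx_injective
  rw [gIdx_wordPerm, gIdx_wordPerm]
  have := List.all_eq_true.1 h (gIdx p) (List.mem_range.2 (gIdx_lt p))
  rwa [beq_iff_eq] at this

/-- The word of `t₁^a t₂^b`. -/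
def tPow (a b : ℕ) : List ℕ := (List.replicate a m11T1).flatten ++ (List.replicate b m11T2).flatten

/-- The subgroup `⟨t₁, t₂⟩`. -/
noncomputable def A11 : Subgroup (Equiv.Perm GolayPt) :=
  Subgroup.closure {wordPerm m11T1, wordPerm m11T2}

theorem t1_mem_A11 : wordPerm m11T1 ∈ A11 := Subgroup.subset_closure (by simp)

theorem t2_mem_A11 : wordPerm m11T2 ∈ A11 := Subgroup.subset_closure (by simp)

theorem wordPerm_replicate_flatten (w : List ℕ) (a : ℕ) :
    wordPerm (List.replicate a w).flatten = wordPerm w ^ a := by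
  induction a with
  | zero => rfl
  | succ a ih => rw [List.replicate_succ, List.flatten_cons, wordPerm_append, ih, pow_succ']

theorem wordPerm_tPow_mem (a b : ℕ) : wordPerm (tPow a b) ∈ A11 := by
  unfold tPow
  rw [wordPerm_append, wordPerm_replicate_flatten, wordPerm_replicate_flatten]
  exact A11.mul_mem (A11.pow_mem t1_mem_A11 a) (A11.pow_mem t2_mem_A11 b)

theorem A11_le_G11 : A11 ≤ G11 := by
  unfold A11
  rw [Subgroup.closure_le]
  intro g hg
  rw [Set.mem_insert_iff, Set.mem_singleton_iff] at hg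
  have h1 : inG11 m11T1 = true := by decide +kernel
  have h2 : inG11 m11T2 = true := by decide +kernel
  rcases hg with rfl | rfl
  · exact wordPerm_mem_G11 h1
  · exact wordPerm_mem_G11 h2

theorem A11_comm {a b : Equiv.Perm GolayPt} (ha : a ∈ A11) (hb : b ∈ A11) : a * b = b * a := by
  have hc : wordPerm m11T1 * wordPerm m11T2 = wordPerm m11T2 * wordPerm m11T1 := by
    rw [← wordPerm_append, ← wordPerm_append]
    apply wordPerm_eq_of_eqWords
    decide +kernel
  have := Subgroup.isMulCommutative_closure (k := {wordPerm m11T1, wordPerm m11T2}) (by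
    intro x hx y hy
    rw [Set.mem_insert_iff, Set.mem_singleton_iff] at hx hy
    rcases hx with rfl | rfl <;> rcases hy with rfl | rfl
    · rfl
    · exact hc
    · exact hc.symm
    · rfl)
  have h := this.is_comm.comm (⟨a, ha⟩ : ↥A11) ⟨b, hb⟩
  exact congrArg Subtype.val h

/-- If `h` conjugates both generators into `A11`, it conjugates `A11` into itself. -/
theorem conj_A11_of_gens {h : Equiv.Perm GolayPt} (h1 : h * wordPerm m11T1 * h⁻¹ ∈ A11)
    (h2 : h * wordPerm m11T2 * h⁻¹ ∈ A11) : ∀ a ∈ A11, h * a * h⁻¹ ∈ A11 := by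
  intro a ha
  unfold A11 at ha
  induction ha using Subgroup.closure_induction with
  | mem x hx =>
    rw [Set.mem_insert_iff, Set.mem_singleton_iff] at hx
    rcases hx with rfl | rfl
    · exact h1
    · exact h2
  | one => rw [mul_one, mul_inv_cancel]; exact A11.one_mem
  | mul x y _ _ hx hy =>
    have e : h * (x * y) * h⁻¹ = (h * x * h⁻¹) * (h * y * h⁻¹) := by group
    rw [e]; exact A11.mul_mem hx hy
  | inv x _ hx =>
    have e : h * x⁻¹ * h⁻¹ = (h * x * h⁻¹)⁻¹ := by group
    rw [e]; exact A11.inv_mem hx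

/-- The generators of `H11` and their inverses. -/
def m11HAll : List (List ℕ) := m11HGens ++ m11HGens.map invWord

/-- Certificate: the conjugates of `t₁`, `t₂` by the generators of `H11` and their inverses. -/
def m11ConjOK : Bool :=
  (List.range 4).all (fun k =>
    eqWords (m11HAll.getD k [] ++ m11T1 ++ invWord (m11HAll.getD k []))
      (tPow ((m11Conj.getD k []).getD 0 (0, 0)).1 ((m11Conj.getD k []).getD 0 (0, 0)).2) &&
    eqWords (m11HAll.getD k [] ++ m11T2 ++ invWord (m11HAll.getD k []))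
      (tPow ((m11Conj.getD k []).getD 1 (0, 0)).1 ((m11Conj.getD k []).getD 1 (0, 0)).2))

theorem m11ConjOK_true : m11ConjOK = true := by decide +kernel

theorem m11HAll_conj : ∀ k < 4, ∀ a ∈ A11,
    wordPerm (m11HAll.getD k []) * a * (wordPerm (m11HAll.getD k []))⁻¹ ∈ A11 := by
  intro k hk
  have h := List.all_eq_true.1 m11ConjOK_true k (List.mem_range.2 hk)
  rw [Bool.and_eq_true] at h
  apply conj_A11_of_gens
  · have e := wordPerm_eq_of_eqWords h.1
    rw [wordPerm_append, wordPerm_append, wordPerm_invWord] at e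
    rw [e]
    exact wordPerm_tPow_mem _ _
  · have e := wordPerm_eq_of_eqWords h.2
    rw [wordPerm_append, wordPerm_append, wordPerm_invWord] at e
    rw [e]
    exact wordPerm_tPow_mem _ _

theorem H11_le_normalizer : H11 ≤ Subgroup.normalizer (A11 : Set (Equiv.Perm GolayPt)) := by
  rw [← wordsClosure_m11HGens]
  apply wordsClosure_le
  intro w hw
  have hk : ∃ k < 2, w = m11HAll.getD k [] ∧ m11HAll.getD (k + 2) [] = invWord w := by
    have : ∀ w ∈ m11HGens, ∃ k < 2, w = m11HAll.getD k [] ∧ m11HAll.getD (k + 2) [] = invWord w := by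
      decide +kernel
    exact this w hw
  obtain ⟨k, hk2, e1, e2⟩ := hk
  rw [Subgroup.mem_normalizer_iff]
  intro a
  constructor
  · intro ha
    have := m11HAll_conj k (by omega) a ha
    rwa [← e1] at this
  · intro ha
    have := m11HAll_conj (k + 2) (by omega) _ ha
    rw [e2, wordPerm_invWord, inv_inv] at this
    have e : (wordPerm w)⁻¹ * (wordPerm w * a * (wordPerm w)⁻¹) * wordPerm w = a := by group
    rw [e] at this
    exact this

theorem H11_conj_A11 {h a : Equiv.Perm GolayPt} (hh : h ∈ H11) (ha : a ∈ A11) : h * a * h⁻¹ ∈ A11 :=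
  (Subgroup.mem_normalizer_iff.1 (H11_le_normalizer hh) a).1 ha

/-! ### Generation by conjugates, perfectness -/

/-- `3^2` as a subgroup of `M11`. -/
noncomputable def A11' : Subgroup ↥G11 := A11.subgroupOf G11

/-- The normal closure of `3^2` in `M11`, as a group of permutations. -/
noncomputable def N11 : Subgroup (Equiv.Perm GolayPt) :=
  (Subgroup.normalClosure ((A11' : Subgroup ↥G11) : Set ↥G11)).map G11.subtype

theorem conj_mem_N11 {u a : Equiv.Perm GolayPt} (hu : u ∈ G11) (ha : a ∈ A11) : u * a * u⁻¹ ∈ N11 := by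
  unfold N11
  rw [Subgroup.mem_map]
  refine ⟨⟨u, hu⟩ * ⟨a, A11_le_G11 ha⟩ * ⟨u, hu⟩⁻¹, ?_, rfl⟩
  apply Subgroup.normalClosure_normal.conj_mem
  apply Subgroup.subset_normalClosure
  show (⟨a, A11_le_G11 ha⟩ : ↥G11) ∈ A11'
  unfold A11'
  rw [Subgroup.mem_subgroupOf]
  exact ha

/-- The word of a product of conjugates `u t₁^a t₂^b u⁻¹`. -/
def factWord (F : List (List ℕ × ℕ × ℕ)) : List ℕ :=
  F.flatMap (fun e => e.1 ++ tPow e.2.1 e.2.2 ++ invWord e.1)

theorem factWord_mem_N11 (F : List (List ℕ × ℕ × ℕ)) (hF : F.all (fun e => inG11 e.1) = true) :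
    wordPerm (factWord F) ∈ N11 := by
  induction F with
  | nil => exact Subgroup.one_mem _
  | cons e F ih =>
    rw [List.all_cons, Bool.and_eq_true] at hF
    unfold factWord at ih ⊢
    rw [List.flatMap_cons, wordPerm_append, wordPerm_append, wordPerm_append, wordPerm_invWord]
    exact Subgroup.mul_mem _ (conj_mem_N11 (wordPerm_mem_G11 hF.1) (wordPerm_tPow_mem _ _)) (ih hF.2)

/-- Certificate: the generators are products of conjugates. -/
def m11FactsOK : Bool :=
  (List.range 2).all (fun k => (m11Facts.getD k []).all (fun e => inG11 e.1) &&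
    eqWords (m11Gens.getD k []) (factWord (m11Facts.getD k [])))

theorem m11FactsOK_true : m11FactsOK = true := by decide +kernel

theorem G11_le_N11 : G11 ≤ N11 := by
  rw [← wordsClosure_m11Gens]
  apply wordsClosure_le
  intro w hw
  have hk : ∃ k < 2, w = m11Gens.getD k [] := by
    have : ∀ w ∈ m11Gens, ∃ k < 2, w = m11Gens.getD k [] := by decide +kernel
    exact this w hw
  obtain ⟨k, hk2, rfl⟩ := hk
  have h := List.all_eq_true.1 m11FactsOK_true k (List.mem_range.2 hk2)
  rw [Bool.and_eq_true] at h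
  rw [wordPerm_eq_of_eqWords h.2]
  exact factWord_mem_N11 _ h.1

theorem normalClosure_A11'_eq_top :
    Subgroup.normalClosure ((A11' : Subgroup ↥G11) : Set ↥G11) = ⊤ := by
  rw [eq_top_iff]
  intro g _
  have := G11_le_N11 g.2
  unfold N11 at this
  rw [Subgroup.mem_map] at this
  obtain ⟨y, hy, hyg⟩ := this
  have : y = g := Subtype.ext hyg
  rw [← this]
  exact hy

/-- The commutator subgroup of `M11`, as a group of permutations. -/
noncomputable def C11 : Subgroup (Equiv.Perm GolayPt) := (commutator ↥G11).map G11.subtype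

/-- Certificate: `t₁`, `t₂` are commutators `[q, t₁^a t₂^b]`. -/
def m11CommOK : Bool :=
  (List.range 2).all (fun k =>
    inG11 (m11Comm.getD k ([], 0, 0)).1 &&
    eqWords ([m11T1, m11T2].getD k [])
      ((m11Comm.getD k ([], 0, 0)).1 ++
        tPow (m11Comm.getD k ([], 0, 0)).2.1 (m11Comm.getD k ([], 0, 0)).2.2 ++
        invWord (m11Comm.getD k ([], 0, 0)).1 ++
        invWord (tPow (m11Comm.getD k ([], 0, 0)).2.1 (m11Comm.getD k ([], 0, 0)).2.2)))

theorem m11CommOK_true : m11CommOK = true := by decide +kernel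

theorem t_mem_C11 : ∀ k < 2, wordPerm ([m11T1, m11T2].getD k []) ∈ C11 := by
  intro k hk
  have h := List.all_eq_true.1 m11CommOK_true k (List.mem_range.2 hk)
  rw [Bool.and_eq_true] at h
  set e := m11Comm.getD k ([], 0, 0) with he
  have hq : wordPerm e.1 ∈ G11 := wordPerm_mem_G11 h.1
  have ht : wordPerm (tPow e.2.1 e.2.2) ∈ G11 := A11_le_G11 (wordPerm_tPow_mem _ _)
  rw [wordPerm_eq_of_eqWords h.2, wordPerm_append, wordPerm_append, wordPerm_append, wordPerm_invWord,
    wordPerm_invWord]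
  unfold C11
  rw [Subgroup.mem_map]
  refine ⟨⁅(⟨wordPerm e.1, hq⟩ : ↥G11), ⟨wordPerm (tPow e.2.1 e.2.2), ht⟩⁆, ?_, rfl⟩
  rw [commutator_def]
  exact Subgroup.commutator_mem_commutator (Subgroup.mem_top _) (Subgroup.mem_top _)

theorem A11_le_C11 : A11 ≤ C11 := by
  unfold A11
  rw [Subgroup.closure_le]
  intro g hg
  rw [Set.mem_insert_iff, Set.mem_singleton_iff] at hg
  rcases hg with rfl | rfl
  · exact t_mem_C11 0 (by norm_num)
  · exact t_mem_C11 1 (by norm_num)

theorem commutator_G11_eq_top : commutator ↥G11 = ⊤ := by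
  rw [eq_top_iff, ← normalClosure_A11'_eq_top]
  apply Subgroup.normalClosure_le_normal
  intro a ha
  have ha' : a.1 ∈ A11 := by
    unfold A11' at ha
    rwa [SetLike.mem_coe, Subgroup.mem_subgroupOf] at ha
  have := A11_le_C11 ha'
  unfold C11 at this
  rw [Subgroup.mem_map] at this
  obtain ⟨y, hy, hya⟩ := this
  have : y = a := Subtype.ext hya
  rw [← this]
  exact hy

/-! ### Faithfulness and simplicity -/

theorem eq_one_of_fixes_duads {g : ↥G11}
    (h : ∀ y : Finset GolayPt, y ⊆ D11 ∧ y.card = 2 → g • y = y) : g = 1 := by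
  classical
  have hfix : ∀ p ∈ D11, g.1 p = p := by
    intro p hp
    have hc : 1 < (D11.erase p).card := by
      rw [Finset.card_erase_of_mem hp, card_D11]; norm_num
    obtain ⟨q, hq, r, hr, hqr⟩ := Finset.one_lt_card.1 hc
    rw [Finset.mem_erase] at hq hr
    have h1 := h {p, q} ⟨by
      intro x hx
      rw [Finset.mem_insert, Finset.mem_singleton] at hx
      rcases hx with rfl | rfl
      · exact hp
      · exact hq.2, Finset.card_pair (Ne.symm hq.1)⟩
    have h2 := h {p, r} ⟨by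
      intro x hx
      rw [Finset.mem_insert, Finset.mem_singleton] at hx
      rcases hx with rfl | rfl
      · exact hp
      · exact hr.2, Finset.card_pair (Ne.symm hr.1)⟩
    have m1 : g.1 p ∈ ({p, q} : Finset GolayPt) := by
      rw [← h1, G11_smul_finset_def, ← Equiv.Perm.smul_def]
      exact Finset.smul_mem_smul_finset (Finset.mem_insert_self _ _)
    have m2 : g.1 p ∈ ({p, r} : Finset GolayPt) := by
      rw [← h2, G11_smul_finset_def, ← Equiv.Perm.smul_def]
      exact Finset.smul_mem_smul_finset (Finset.mem_insert_self _ _)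
    rw [Finset.mem_insert, Finset.mem_singleton] at m1 m2
    rcases m1 with m1 | m1
    · exact m1
    · rcases m2 with m2 | m2
      · exact m2
      · exact absurd (m1.symm.trans m2) hqr
  obtain ⟨hgM, hgd, hg0⟩ := mem_G11.1 g.2
  apply Subtype.ext
  refine dodSharp_dod0 g.1 hgM hgd (fun i : Fin 5 => gPt i.val) ?_ ?_ ?_
  · intro i j hij
    have := congrArg gIdx hij
    rw [gIdx_gPt (by omega), gIdx_gPt (by omega)] at this
    exact Fin.ext this
  · intro i
    rw [mem_ptsMask, gIdx_gPt (by omega)]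
    have : ∀ i : Fin 5, dod0.testBit i.val = true := by decide
    exact this i
  · intro i
    by_cases hi : i.val = 0
    · rw [hi]; exact hg0
    · apply hfix
      rw [mem_D11]
      refine ⟨gPt_ne (by omega) (by norm_num) hi, ?_⟩
      rw [mem_ptsMask, gIdx_gPt (by omega)]
      have : ∀ i : Fin 5, dod0.testBit i.val = true := by decide
      exact this i

/-- `M11` is simple. -/
theorem isSimpleGroup_G11 : IsSimpleGroup ↥G11 := by
  have hco := isCoatom_stabilizer_duad0
  have hnt : Nontrivial ↥G11 := by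
    by_contra hcon
    rw [not_nontrivial_iff_subsingleton] at hcon
    have : MulAction.stabilizer ↥G11 duad0 = ⊤ := Subsingleton.elim _ _
    exact hco.1 this
  apply isSimpleGroup_of_iwasawa (MulAction.stabilizer ↥G11 duad0) A11' hco
  · intro a ha b hb
    apply Subtype.ext
    unfold A11' at ha hb
    rw [Subgroup.mem_subgroupOf] at ha hb
    exact A11_comm ha hb
  · intro h hh a ha
    unfold A11' at ha ⊢
    rw [Subgroup.mem_subgroupOf] at ha ⊢
    rw [MulAction.mem_stabilizer_iff, G11_smul_finset_def] at hh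
    exact H11_conj_A11 (mem_H11.2 ⟨h.2, hh⟩) ha
  · exact normalClosure_A11'_eq_top
  · exact commutator_G11_eq_top
  · intro N hN hle
    apply eq_bot_of_normal_le_stabilizer
      ({y | y ⊆ D11 ∧ y.card = 2} : Set (Finset GolayPt)) ?_ duad0 ?_ N hN hle
    · intro g hg
      exact eq_one_of_fixes_duads hg
    · rintro y ⟨hyD, hy⟩
      exact exists_G11_smul_duad0 hyD hy

end Cfsg.Agent.Lib.H28
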