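import Mathlib
import Cfsg.Agent.Lib.H9.DerLenE
import Cfsg.Agent.Lib.H2.SpCenter
import Cfsg.Prelude.Def_Classical

set_option autoImplicit false
set_option linter.unusedSectionVars false

/-!
# `Sp₄(F)`: the subgroup `SL₂ ≀ 2`, its `2`-subgroup `Q ≀ 2`, and `2 × 2` block matrices over
`M₂(F)` with respect to the decomposition into two hyperbolic planes (helper28, for S5320)
-/

namespace Cfsg.Agent.Lib.H28.PSp4

open Matrix Equiv Cfsg.Agent.Lib.H9.SqC Cfsg.Agent.Lib.H9.DerLen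

variable {F : Type*} [Field F]

/-- `Sp₄(F)` -/
abbrev Sp4 (F : Type*) [Field F] := ↥(Matrix.symplecticGroup (Fin 2) F)

/-- the block-diagonal element `Φ(a, b)`: `a` acts on `⟨e₀, f₀⟩`, `b` on `⟨e₁, f₁⟩` -/
def Ph (a b : SL2 F) : Sp4 F := phiHom (n := 2) ![a, b]

/-- the swap of the two hyperbolic planes -/
def sw : Sp4 F := psiHom (n := 2) (Equiv.swap 0 1)

theorem Ph_mul (a b a' b' : SL2 F) : Ph a b * Ph a' b' = Ph (a * a') (b * b') := by
  unfold Ph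
  rw [← map_mul]
  congr 1
  funext i
  fin_cases i <;> rfl

theorem Ph_one : Ph (1 : SL2 F) 1 = 1 := by
  unfold Ph
  rw [← map_one (phiHom (F := F) (n := 2))]
  congr 1
  funext i
  fin_cases i <;> rfl

theorem Ph_inv (a b : SL2 F) : (Ph a b)⁻¹ = Ph a⁻¹ b⁻¹ := by
  apply inv_eq_of_mul_eq_one_right
  rw [Ph_mul, mul_inv_cancel, mul_inv_cancel, Ph_one]

theorem Ph_inj {a b a' b' : SL2 F} (h : Ph a b = Ph a' b') : a = a' ∧ b = b' := by
  have := phiHom_injective h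
  exact ⟨congrFun this 0, congrFun this 1⟩

theorem sw_mul_sw : (sw : Sp4 F) * sw = 1 := by
  unfold sw
  rw [← map_mul, Equiv.swap_mul_self, map_one]

theorem sw_inv : (sw : Sp4 F)⁻¹ = sw := inv_eq_of_mul_eq_one_right sw_mul_sw

theorem sw_mul_Ph (a b : SL2 F) : sw * Ph a b = Ph b a * sw := by
  unfold sw Ph
  rw [psi_mul_phi]
  congr 2
  funext i
  fin_cases i <;> simp

theorem sw_conj_Ph (a b : SL2 F) : sw * Ph a b * sw⁻¹ = Ph b a := by
  rw [sw_mul_Ph, mul_assoc, mul_inv_cancel, mul_one]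

theorem Ph_ne_Ph_mul_sw (a b a' b' : SL2 F) : Ph a b ≠ Ph a' b' * sw := by
  intro h
  have h1 : Ph (a'⁻¹ * a) (b'⁻¹ * b) = sw := by
    rw [← Ph_mul, ← Ph_inv, h]; group
  have h2 := phi_eq_psi h1
  have h3 := congrArg (fun σ : Perm (Fin 2) => σ 0) h2
  simp at h3

/-- `-1 ∈ Sp₄(F)` -/
theorem Ph_neg_one : Ph (-1 : SL2 F) (-1) = Cfsg.Agent.Lib.H2.Sp.negOne 2 := by
  apply Subtype.ext
  show phiMat ![(-1 : SL2 F), -1] = -1
  unfold phiMat
  ext (i | i) (j | j) <;> fin_cases i <;> fin_cases j <;> simp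

theorem mem_center_iff {g : Sp4 F} :
    g ∈ Subgroup.center (Sp4 F) ↔ g = 1 ∨ g = Ph (-1) (-1) := by
  have h := Cfsg.Agent.Lib.H2.Sp.center_eq (F := F) 2 (by norm_num)
  rw [Ph_neg_one, ← SetLike.mem_coe, h]
  simp

/-- the subgroup `Q ≀ 2` of `Sp₄(F)` -/
def St (Q : Subgroup (SL2 F)) : Subgroup (Sp4 F) where
  carrier := {g | ∃ a ∈ Q, ∃ b ∈ Q, g = Ph a b ∨ g = Ph a b * sw}
  one_mem' := ⟨1, Q.one_mem, 1, Q.one_mem, Or.inl Ph_one.symm⟩
  mul_mem' := by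
    rintro _ _ ⟨a, ha, b, hb, rfl | rfl⟩ ⟨a', ha', b', hb', rfl | rfl⟩
    · exact ⟨a * a', Q.mul_mem ha ha', b * b', Q.mul_mem hb hb', Or.inl (Ph_mul _ _ _ _)⟩
    · exact ⟨a * a', Q.mul_mem ha ha', b * b', Q.mul_mem hb hb',
        Or.inr (by rw [← mul_assoc, Ph_mul])⟩
    · exact ⟨a * b', Q.mul_mem ha hb', b * a', Q.mul_mem hb ha',
        Or.inr (by rw [mul_assoc, sw_mul_Ph, ← mul_assoc, Ph_mul])⟩
    · exact ⟨a * b', Q.mul_mem ha hb', b * a', Q.mul_mem hb ha',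
        Or.inl (by rw [mul_assoc, ← mul_assoc sw, sw_mul_Ph, mul_assoc _ sw, sw_mul_sw, mul_one,
          Ph_mul])⟩
  inv_mem' := by
    rintro _ ⟨a, ha, b, hb, rfl | rfl⟩
    · exact ⟨a⁻¹, Q.inv_mem ha, b⁻¹, Q.inv_mem hb, Or.inl (Ph_inv a b)⟩
    · exact ⟨b⁻¹, Q.inv_mem hb, a⁻¹, Q.inv_mem ha,
        Or.inr (by rw [_root_.mul_inv_rev, sw_inv, Ph_inv, sw_mul_Ph])⟩

theorem mem_St {Q : Subgroup (SL2 F)} {g : Sp4 F} :
    g ∈ St Q ↔ ∃ a ∈ Q, ∃ b ∈ Q, g = Ph a b ∨ g = Ph a b * sw := Iff.rfl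

theorem Ph_mem_St {Q : Subgroup (SL2 F)} {a b : SL2 F} : Ph a b ∈ St Q ↔ a ∈ Q ∧ b ∈ Q := by
  constructor
  · rintro ⟨a', ha', b', hb', h | h⟩
    · obtain ⟨rfl, rfl⟩ := Ph_inj h
      exact ⟨ha', hb'⟩
    · exact absurd h (Ph_ne_Ph_mul_sw _ _ _ _)
  · rintro ⟨ha, hb⟩
    exact ⟨a, ha, b, hb, Or.inl rfl⟩

theorem sw_mem_St (Q : Subgroup (SL2 F)) : (sw : Sp4 F) ∈ St Q :=
  ⟨1, Q.one_mem, 1, Q.one_mem, Or.inr (by rw [Ph_one, one_mul])⟩

theorem Ph_mul_sw_mem_St {Q : Subgroup (SL2 F)} {a b : SL2 F} :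
    Ph a b * sw ∈ St Q ↔ a ∈ Q ∧ b ∈ Q := by
  rw [← Ph_mem_St]
  constructor
  · intro h
    have := (St Q).mul_mem h (sw_mem_St Q)
    rwa [mul_assoc, sw_mul_sw, mul_one] at this
  · intro h
    exact (St Q).mul_mem h (sw_mem_St Q)

theorem perm_fin_two (σ : Perm (Fin 2)) : σ = 1 ∨ σ = Equiv.swap 0 1 := by
  revert σ
  decide

/-- `St Q` is helper9's wreath subgroup -/
theorem St_eq_sub (Q : Subgroup (SL2 F)) : St Q = (spWr F 2).sub Q ⊤ := by
  apply le_antisymm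
  · have h1 : ∀ a ∈ Q, ∀ b ∈ Q, Ph a b ∈ (spWr F 2).sub Q ⊤ := by
      intro a ha b hb
      apply (le_sup_right : (spWr F 2).base Q ≤ _)
      refine ⟨![a, b], ?_, rfl⟩
      intro i _
      fin_cases i
      · exact ha
      · exact hb
    have h2 : (sw : Sp4 F) ∈ (spWr F 2).sub Q ⊤ := by
      apply (le_sup_left : (spWr F 2).top ⊤ ≤ _)
      exact ⟨Equiv.swap 0 1, Subgroup.mem_top _, rfl⟩
    rintro _ ⟨a, ha, b, hb, rfl | rfl⟩
    · exact h1 a ha b hb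
    · exact Subgroup.mul_mem _ (h1 a ha b hb) h2
  · apply sup_le
    · rintro _ ⟨σ, -, rfl⟩
      rcases perm_fin_two σ with rfl | rfl
      · show (spWr F 2).Ψ 1 ∈ St Q
        rw [map_one]; exact Subgroup.one_mem _
      · exact sw_mem_St Q
    · rintro _ ⟨f, hf, rfl⟩
      have : f = ![f 0, f 1] := by
        funext i; fin_cases i <;> rfl
      show phiHom f ∈ St Q
      rw [this]
      exact Ph_mem_St.2 ⟨hf 0 (Set.mem_univ _), hf 1 (Set.mem_univ _)⟩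

/-! ### Block matrices with respect to the two hyperbolic planes -/

/-- the plane containing a basis vector -/
def pl : Fin 2 ⊕ Fin 2 → Fin 2 := Sum.elim id id

/-- the position of a basis vector in its plane -/
def ps : Fin 2 ⊕ Fin 2 → Fin 2 := Sum.elim (fun _ => 0) (fun _ => 1)

/-- the matrix with blocks `A B C D ∈ M₂(F)` with respect to `⟨e₀,f₀⟩ ⊕ ⟨e₁,f₁⟩` -/
def bm (A B C D : Matrix (Fin 2) (Fin 2) F) : Matrix (Fin 2 ⊕ Fin 2) (Fin 2 ⊕ Fin 2) F :=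
  Matrix.of fun k l => (![![A, B], ![C, D]] (pl k) (pl l)) (ps k) (ps l)

theorem bm_mul (A B C D A' B' C' D' : Matrix (Fin 2) (Fin 2) F) :
    bm A B C D * bm A' B' C' D' =
      bm (A * A' + B * C') (A * B' + B * D') (C * A' + D * C') (C * B' + D * D') := by
  ext (i | i) (j | j) <;> fin_cases i <;> fin_cases j <;>
    simp [bm, pl, ps, Matrix.mul_apply, Fintype.sum_sum_type, Fin.sum_univ_two] <;> ring

theorem bm_one : bm (1 : Matrix (Fin 2) (Fin 2) F) 0 0 1 = 1 := by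
  ext (i | i) (j | j) <;> fin_cases i <;> fin_cases j <;> simp [bm, pl, ps]

theorem bm_neg (A B C D : Matrix (Fin 2) (Fin 2) F) : - bm A B C D = bm (-A) (-B) (-C) (-D) := by
  ext (i | i) (j | j) <;> fin_cases i <;> fin_cases j <;> simp [bm, pl, ps]

theorem bm_transpose (A B C D : Matrix (Fin 2) (Fin 2) F) :
    (bm A B C D)ᵀ = bm Aᵀ Cᵀ Bᵀ Dᵀ := by
  ext (i | i) (j | j) <;> fin_cases i <;> fin_cases j <;> simp [bm, pl, ps]

theorem bm_inj {A B C D A' B' C' D' : Matrix (Fin 2) (Fin 2) F}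
    (h : bm A B C D = bm A' B' C' D') : A = A' ∧ B = B' ∧ C = C' ∧ D = D' := by
  have e : ∀ k l, bm A B C D k l = bm A' B' C' D' k l := fun k l => by rw [h]
  refine ⟨?_, ?_, ?_, ?_⟩ <;> ext i j <;> fin_cases i <;> fin_cases j
  · exact e (Sum.inl 0) (Sum.inl 0)
  · exact e (Sum.inl 0) (Sum.inr 0)
  · exact e (Sum.inr 0) (Sum.inl 0)
  · exact e (Sum.inr 0) (Sum.inr 0)
  · exact e (Sum.inl 0) (Sum.inl 1)
  · exact e (Sum.inl 0) (Sum.inr 1)
  · exact e (Sum.inr 0) (Sum.inl 1)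
  · exact e (Sum.inr 0) (Sum.inr 1)
  · exact e (Sum.inl 1) (Sum.inl 0)
  · exact e (Sum.inl 1) (Sum.inr 0)
  · exact e (Sum.inr 1) (Sum.inl 0)
  · exact e (Sum.inr 1) (Sum.inr 0)
  · exact e (Sum.inl 1) (Sum.inl 1)
  · exact e (Sum.inl 1) (Sum.inr 1)
  · exact e (Sum.inr 1) (Sum.inl 1)
  · exact e (Sum.inr 1) (Sum.inr 1)

/-- every `4 × 4` matrix is a block matrix -/
theorem exists_bm (M : Matrix (Fin 2 ⊕ Fin 2) (Fin 2 ⊕ Fin 2) F) :
    ∃ A B C D : Matrix (Fin 2) (Fin 2) F, M = bm A B C D := by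
  refine ⟨!![M (Sum.inl 0) (Sum.inl 0), M (Sum.inl 0) (Sum.inr 0);
             M (Sum.inr 0) (Sum.inl 0), M (Sum.inr 0) (Sum.inr 0)],
          !![M (Sum.inl 0) (Sum.inl 1), M (Sum.inl 0) (Sum.inr 1);
             M (Sum.inr 0) (Sum.inl 1), M (Sum.inr 0) (Sum.inr 1)],
          !![M (Sum.inl 1) (Sum.inl 0), M (Sum.inl 1) (Sum.inr 0);
             M (Sum.inr 1) (Sum.inl 0), M (Sum.inr 1) (Sum.inr 0)],
          !![M (Sum.inl 1) (Sum.inl 1), M (Sum.inl 1) (Sum.inr 1);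
             M (Sum.inr 1) (Sum.inl 1), M (Sum.inr 1) (Sum.inr 1)], ?_⟩
  ext (i | i) (j | j) <;> fin_cases i <;> fin_cases j <;> simp [bm, pl, ps]

theorem Ph_val (a b : SL2 F) : (Ph a b).1 = bm a.1 0 0 b.1 := by
  show phiMat ![a, b] = _
  unfold phiMat
  ext (i | i) (j | j) <;> fin_cases i <;> fin_cases j <;> simp [bm, pl, ps]

theorem sw_val : (sw : Sp4 F).1 = bm 0 1 1 0 := by
  show psiMat (Equiv.swap (0 : Fin 2) 1) = _
  unfold psiMat
  ext (i | i) (j | j) <;> fin_cases i <;> fin_cases j <;> simp [bm, pl, ps, pM_apply]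

/-- the form matrix of one hyperbolic plane -/
def j0 : Matrix (Fin 2) (Fin 2) F := !![0, -1; 1, 0]

theorem J_eq_bm : Matrix.J (Fin 2) F = bm j0 0 0 j0 := by
  unfold Matrix.J j0
  ext (i | i) (j | j) <;> fin_cases i <;> fin_cases j <;> simp [bm, pl, ps]

theorem j0_mul_transpose (X : Matrix (Fin 2) (Fin 2) F) : j0 * Xᵀ = X.adjugate * j0 := by
  rw [Matrix.adjugate_fin_two]
  ext i j
  fin_cases i <;> fin_cases j <;> simp [j0, Matrix.mul_apply, Fin.sum_univ_two]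

theorem j0_mul_j0 : (j0 : Matrix (Fin 2) (Fin 2) F) * j0 = -1 := by
  ext i j
  fin_cases i <;> fin_cases j <;> simp [j0, Matrix.mul_apply, Fin.sum_univ_two]

theorem mul_j0_cancel {X Y : Matrix (Fin 2) (Fin 2) F} : X * j0 = Y * j0 ↔ X = Y := by
  constructor
  · intro h
    have := congrArg (fun Z => Z * (-j0)) h
    simpa [mul_assoc, j0_mul_j0] using this
  · rintro rfl; rfl

/-- membership of a block matrix in `Sp₄(F)`: `X X^† = 1`, where `†` is adjugate-transpose -/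
theorem bm_mem_iff (A B C D : Matrix (Fin 2) (Fin 2) F) :
    bm A B C D ∈ Matrix.symplecticGroup (Fin 2) F ↔
      A * A.adjugate + B * B.adjugate = 1 ∧ A * C.adjugate + B * D.adjugate = 0 ∧
      C * A.adjugate + D * B.adjugate = 0 ∧ C * C.adjugate + D * D.adjugate = 1 := by
  rw [SymplecticGroup.mem_iff, J_eq_bm, bm_transpose, bm_mul, bm_mul]
  simp only [Matrix.mul_zero, add_zero, zero_add, Matrix.zero_mul]
  have e : ∀ X Y : Matrix (Fin 2) (Fin 2) F, X * j0 * Yᵀ = X * Y.adjugate * j0 := by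
    intro X Y
    rw [mul_assoc, j0_mul_transpose, mul_assoc]
  simp only [e, ← Matrix.add_mul]
  constructor
  · intro h
    obtain ⟨h1, h2, h3, h4⟩ := bm_inj h
    refine ⟨?_, ?_, ?_, ?_⟩
    · exact mul_j0_cancel.1 (by rw [h1, Matrix.one_mul])
    · exact mul_j0_cancel.1 (by rw [h2, Matrix.zero_mul])
    · exact mul_j0_cancel.1 (by rw [h3, Matrix.zero_mul])
    · exact mul_j0_cancel.1 (by rw [h4, Matrix.one_mul])
  · rintro ⟨h1, h2, h3, h4⟩
    rw [h1, h2, h3, h4, Matrix.one_mul, Matrix.zero_mul]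


/-! ### The diagonal `SL₂`, the subgroup `Q ∘ D₈`, and the projection to `PSp₄(F)` -/

/-- the diagonal embedding `a ↦ Φ(a, a)` -/
def Dg : SL2 F →* Sp4 F where
  toFun a := Ph a a
  map_one' := Ph_one
  map_mul' a b := (Ph_mul a a b b).symm

theorem Dg_apply (a : SL2 F) : Dg a = Ph a a := rfl

/-- the subgroup `Δ(Q) ∘ ⟨Φ(-1,1), sw⟩` (`≅ Q₈ ∘ D₈` of order `32` when `Q ≅ Q₈`) -/
def Et (Q : Subgroup (SL2 F)) : Subgroup (Sp4 F) :=
  Q.map Dg ⊔ Subgroup.zpowers (Ph (-1) 1) ⊔ Subgroup.zpowers sw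

/-- the projection `Sp₄(F) → PSp₄(F)` -/
def pr : Sp4 F →* Cfsg.PSp 2 F := QuotientGroup.mk' _

theorem pr_surjective : Function.Surjective (pr : Sp4 F →* Cfsg.PSp 2 F) :=
  QuotientGroup.mk'_surjective _

theorem ker_pr : (pr : Sp4 F →* Cfsg.PSp 2 F).ker = Subgroup.center (Sp4 F) :=
  QuotientGroup.ker_mk' _

theorem pr_eq_one_iff {g : Sp4 F} : pr g = 1 ↔ g ∈ Subgroup.center (Sp4 F) := by
  unfold pr
  rw [QuotientGroup.mk'_apply, QuotientGroup.eq_one_iff]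

theorem pr_eq_pr_iff {g h : Sp4 F} : pr g = pr h ↔ h = g ∨ h = g * Ph (-1) (-1) := by
  have : pr g = pr h ↔ pr (g⁻¹ * h) = 1 := by
    rw [map_mul, map_inv, inv_mul_eq_one]
  rw [this, pr_eq_one_iff, mem_center_iff]
  constructor
  · rintro (h1 | h1)
    · left; rw [inv_mul_eq_one] at h1; exact h1.symm
    · right; rw [← h1]; group
  · rintro (rfl | rfl)
    · left; group
    · right; group

end Cfsg.Agent.Lib.H28.PSp4
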