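import Mathlib
import Cfsg.Agent.Lib.H8.S3571SSDefs

/-!
helper28: S3571, block NT (Sylvester-Schur), pieces SS1 and SS2 (Mathlib only).
* `choose_le_pow_primeCounting` : if every prime factor of `C(n,k)` is `≤ k` then `C(n,k) ≤ n ^ π(k)`;
* `pow_le_pow_mul_choose`       : `n ^ k ≤ k ^ k * C(n,k)` for `k ≤ n`.
-/

set_option autoImplicit false

namespace Cfsg.Agent.Lib.H28.S3571SS

open Nat

theorem primeCounting_eq_card (k : ℕ) :
    Nat.primeCounting k = ((Finset.range (k + 1)).filter Nat.Prime).card := by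
  simp [Nat.primeCounting, Nat.primeCounting', Nat.count_eq_card_filter_range]

/-- (SS1) -/
theorem choose_le_pow_primeCounting (n k : ℕ)
    (h : ∀ p : ℕ, p.Prime → p ∣ n.choose k → p ≤ k) :
    n.choose k ≤ n ^ Nat.primeCounting k := by
  rcases Nat.eq_zero_or_pos (n.choose k) with h0 | hpos
  · rw [h0]; exact Nat.zero_le _
  have hN : n.choose k ≠ 0 := hpos.ne'
  rcases Nat.eq_zero_or_pos n with rfl | hn
  · -- `n = 0`: then `k = 0`
    have hk : k = 0 := by
      by_contra hk
      exact hN (Nat.choose_eq_zero_of_lt (Nat.pos_of_ne_zero hk))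
    subst hk
    simp
  have e : n.choose k = ∏ p ∈ (n.choose k).primeFactors, p ^ (n.choose k).factorization p := by
    conv_lhs => rw [← Nat.prod_factorization_pow_eq_self hN]
    rw [Finsupp.prod, Nat.support_factorization]
  have hle : ∀ p ∈ (n.choose k).primeFactors, p ^ (n.choose k).factorization p ≤ n := by
    intro p _
    calc p ^ (n.choose k).factorization p ≤ p ^ Nat.log p n :=
          Nat.pow_le_pow_right (Nat.pos_of_ne_zero (by
            rintro rfl
            simp at *)) Nat.factorization_choose_le_log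
      _ ≤ n := Nat.pow_log_le_self p hn.ne'
  have hcard : (n.choose k).primeFactors.card ≤ Nat.primeCounting k := by
    rw [primeCounting_eq_card]
    apply Finset.card_le_card
    intro p hp
    have hp' := Nat.mem_primeFactors.mp hp
    exact Finset.mem_filter.mpr
      ⟨Finset.mem_range.mpr (Nat.lt_succ_of_le (h p hp'.1 hp'.2.1)), hp'.1⟩
  calc n.choose k = ∏ p ∈ (n.choose k).primeFactors, p ^ (n.choose k).factorization p := e
    _ ≤ ∏ _p ∈ (n.choose k).primeFactors, n :=
        Finset.prod_le_prod (fun _ _ => Nat.zero_le _) hle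
    _ = n ^ (n.choose k).primeFactors.card := Finset.prod_const n
    _ ≤ n ^ Nat.primeCounting k := Nat.pow_le_pow_right hn hcard

/-- (SS2) -/
theorem pow_le_pow_mul_choose (n k : ℕ) (hk : k ≤ n) : n ^ k ≤ k ^ k * n.choose k := by
  have h1 : n ^ k * k ! ≤ k ^ k * n.descFactorial k := by
    have e1 : n ^ k = ∏ _i ∈ Finset.range k, n := by rw [Finset.prod_const, Finset.card_range]
    have e2 : k ^ k = ∏ _i ∈ Finset.range k, k := by rw [Finset.prod_const, Finset.card_range]
    rw [← Nat.descFactorial_self k, Nat.descFactorial_eq_prod_range,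
      Nat.descFactorial_eq_prod_range, e1, e2, ← Finset.prod_mul_distrib,
      ← Finset.prod_mul_distrib]
    apply Finset.prod_le_prod (fun _ _ => Nat.zero_le _)
    intro i _
    rw [Nat.mul_sub, Nat.mul_sub, mul_comm k n]
    exact Nat.sub_le_sub_left (Nat.mul_le_mul_right i hk) _
  rw [Nat.descFactorial_eq_factorial_mul_choose] at h1
  have h2 : n ^ k * k ! ≤ k ^ k * n.choose k * k ! := by
    calc n ^ k * k ! ≤ k ^ k * (k ! * n.choose k) := h1
      _ = k ^ k * n.choose k * k ! := by ring
  exact Nat.le_of_mul_le_mul_right h2 (Nat.factorial_pos k)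

/-- (SS1) in the exact shape of helper8's cut. -/
theorem ss1 : Cfsg.Agent.Lib.H8.S3571SS.SS1Stmt :=
  fun n k _ h => choose_le_pow_primeCounting n k h

/-- (SS2) in the exact shape of helper8's cut. -/
theorem ss2 : Cfsg.Agent.Lib.H8.S3571SS.SS2Stmt :=
  fun n k hk => pow_le_pow_mul_choose n k hk

end Cfsg.Agent.Lib.H28.S3571SS
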