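import Cfsg.Agent.Lib.H1.S77.Hyp

/-!
S0429 piece (COCL2): `v0` together with five pairwise orthogonal classes is a coclique of size 21.
-/

set_option autoImplicit false
set_option linter.unusedSectionVars false
open Cfsg

namespace Cfsg.Agent.Lib.H28.S77

open Cfsg.Agent.Lib.H1.S77 Finset

section
variable {V : Type*} [Fintype V] [DecidableEq V] {G : SimpleGraph V} [DecidableRel G.Adj]
variable {v0 : V}

/-- (COCL2) -/
theorem isHC_of_ovoid (hG : G.IsSRGWith 77 16 0 4) (hp : HPart G v0) {O : Finset (Finset V)}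
    (hO : O ⊆ classes G v0) (hcard : O.card = 5)
    (horth : ∀ K ∈ O, ∀ K' ∈ O, ¬ nonorth G K K') :
    IsHC G (insert v0 (O.biUnion id)) := by
  have hsub : ∀ K ∈ O, ∀ z ∈ K, z ∈ nB G v0 := by
    intro K hK z hz
    rw [← hp.union, Finset.mem_biUnion]
    exact ⟨K, hO hK, hz⟩
  have hv0 : v0 ∉ O.biUnion id := by
    intro h
    rw [Finset.mem_biUnion] at h
    obtain ⟨K, hK, hz⟩ := h
    exact v0_notMem_nB (hsub K hK v0 hz)
  have hcardU : (O.biUnion id).card = 20 := by
    rw [Finset.card_biUnion]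
    · have : ∀ K ∈ O, (id K : Finset V).card = 4 := fun K hK => hp.card_mem K (hO hK)
      rw [Finset.sum_congr rfl this, Finset.sum_const, hcard]; rfl
    · intro K hK K' hK' hne
      exact hp.disj K (hO hK) K' (hO hK') hne
  refine ⟨?_, ?_⟩
  · rw [Finset.card_insert_of_notMem hv0, hcardU]
  · intro x hx y hy
    rw [Finset.mem_insert, Finset.mem_biUnion] at hx hy
    rcases hx with rfl | ⟨K, hK, hxK⟩
    · rcases hy with rfl | ⟨K', hK', hyK'⟩
      · exact G.irrefl
      · exact (mem_nB.mp (hsub K' hK' y hyK')).2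
    · rcases hy with rfl | ⟨K', hK', hyK'⟩
      · exact fun h => (mem_nB.mp (hsub K hK x hxK)).2 h.symm
      · exact fun h => horth K hK K' hK' ⟨x, hxK, y, hyK', h⟩

end

end Cfsg.Agent.Lib.H28.S77
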