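import Cfsg.Agent.Lib.H1.S77.Hyp

/-!
S0429 piece (HOFF): a vertex outside a coclique of size 21 of srg(77,16,0,4) has exactly six
neighbours in it (variance trick).
-/

set_option autoImplicit false
set_option linter.unusedSectionVars false
open Cfsg

namespace Cfsg.Agent.Lib.H28.S77

open Cfsg.Agent.Lib.H1.S77 Finset

section
variable {V : Type*} [Fintype V] [DecidableEq V] {G : SimpleGraph V} [DecidableRel G.Adj]

theorem offDiag_filter_eq (C : Finset V) (P : V → Prop) [DecidablePred P] :
    (C.filter P).offDiag = C.offDiag.filter (fun q => P q.1 ∧ P q.2) := by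
  ext q
  simp only [Finset.mem_offDiag, Finset.mem_filter]
  tauto

/-- (HOFF) -/
theorem hhoff (hG : G.IsSRGWith 77 16 0 4) : HHoff G := by
  intro C hC y hy
  obtain ⟨hcard, hco⟩ := hC
  have hDcard : (univ \ C : Finset V).card = 56 := by
    rw [card_sdiff_of_subset (subset_univ _), card_univ, hG.card, hcard]
  have hconv : ∀ y : V, G.neighborFinset y ∩ C = C.filter (fun c => G.Adj y c) := by
    intro y; ext c
    rw [Finset.mem_inter, SimpleGraph.mem_neighborFinset, Finset.mem_filter]; tauto
  -- first moment
  have hS1 : ∑ y ∈ (univ \ C : Finset V), (C.filter (fun c => G.Adj y c)).card = 336 := by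
    have h0 : ∀ y ∈ (univ \ C : Finset V), (C.filter (fun c => G.Adj y c)).card
        = (C.bipartiteAbove (fun y c => G.Adj y c) y).card := fun y _ => rfl
    rw [Finset.sum_congr rfl h0, Finset.sum_card_bipartiteAbove_eq_sum_card_bipartiteBelow]
    have h2 : ∀ c ∈ C, ((univ \ C : Finset V).bipartiteBelow (fun y c => G.Adj y c) c).card = 16 := by
      intro c hc
      have h3 : (univ \ C : Finset V).bipartiteBelow (fun y c => G.Adj y c) c
          = G.neighborFinset c := by
        ext z
        rw [Finset.bipartiteBelow, Finset.mem_filter, SimpleGraph.mem_neighborFinset,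
          Finset.mem_sdiff]
        constructor
        · rintro ⟨-, h⟩; exact h.symm
        · intro h
          exact ⟨⟨Finset.mem_univ _, fun hz => hco c hc z hz h⟩, h.symm⟩
      rw [h3]; exact deg hG c
    rw [Finset.sum_congr rfl h2, Finset.sum_const, hcard]; rfl
  -- second moment
  have hS2 : ∑ y ∈ (univ \ C : Finset V),
      ((C.filter (fun c => G.Adj y c)).card * (C.filter (fun c => G.Adj y c)).card
        - (C.filter (fun c => G.Adj y c)).card) = 1680 := by
    have h0 : ∀ y ∈ (univ \ C : Finset V),
        ((C.filter (fun c => G.Adj y c)).card * (C.filter (fun c => G.Adj y c)).card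
          - (C.filter (fun c => G.Adj y c)).card)
        = (C.offDiag.bipartiteAbove (fun y q => G.Adj y q.1 ∧ G.Adj y q.2) y).card := by
      intro y _
      rw [Finset.bipartiteAbove, ← offDiag_filter_eq, Finset.offDiag_card]
    rw [Finset.sum_congr rfl h0, Finset.sum_card_bipartiteAbove_eq_sum_card_bipartiteBelow]
    have h2 : ∀ q ∈ C.offDiag,
        ((univ \ C : Finset V).bipartiteBelow (fun y q => G.Adj y q.1 ∧ G.Adj y q.2) q).card = 4 := by
      intro q hq
      rw [Finset.mem_offDiag] at hq
      have h3 : (univ \ C : Finset V).bipartiteBelow (fun y q => G.Adj y q.1 ∧ G.Adj y q.2) q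
          = G.neighborFinset q.1 ∩ G.neighborFinset q.2 := by
        ext z
        rw [Finset.bipartiteBelow, Finset.mem_filter, Finset.mem_inter,
          SimpleGraph.mem_neighborFinset, SimpleGraph.mem_neighborFinset, Finset.mem_sdiff]
        constructor
        · rintro ⟨-, h, h'⟩; exact ⟨h.symm, h'.symm⟩
        · rintro ⟨h, h'⟩
          exact ⟨⟨Finset.mem_univ _, fun hz => hco q.1 hq.1 z hz h⟩, h.symm, h'.symm⟩
      rw [h3]
      exact nadj_common hG hq.2.2 (hco q.1 hq.1 q.2 hq.2.1)
    rw [Finset.sum_congr rfl h2, Finset.sum_const, Finset.offDiag_card, hcard]; rfl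
  -- the variance vanishes
  have hvar : ∑ y ∈ (univ \ C : Finset V),
      (((C.filter (fun c => G.Adj y c)).card : ℤ) - 6) ^ 2 = 0 := by
    have e : ∀ y ∈ (univ \ C : Finset V),
        (((C.filter (fun c => G.Adj y c)).card : ℤ) - 6) ^ 2
        = (((C.filter (fun c => G.Adj y c)).card * (C.filter (fun c => G.Adj y c)).card
            - (C.filter (fun c => G.Adj y c)).card : ℕ) : ℤ)
          - 11 * ((C.filter (fun c => G.Adj y c)).card : ℤ) + 36 := by
      intro y _
      rw [Nat.cast_sub (Nat.le_mul_self _), Nat.cast_mul]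
      ring
    rw [Finset.sum_congr rfl e, Finset.sum_add_distrib, Finset.sum_sub_distrib, ← Finset.mul_sum,
      ← Nat.cast_sum, ← Nat.cast_sum, hS1, hS2, Finset.sum_const, hDcard]
    norm_num
  have hy' : y ∈ (univ \ C : Finset V) := Finset.mem_sdiff.mpr ⟨Finset.mem_univ _, hy⟩
  have hz := (Finset.sum_eq_zero_iff_of_nonneg (fun y _ => sq_nonneg _)).mp hvar y hy'
  rw [hconv]
  have : ((C.filter (fun c => G.Adj y c)).card : ℤ) - 6 = 0 := by
    exact pow_eq_zero_iff (two_ne_zero) |>.mp hz
  omega

end

end Cfsg.Agent.Lib.H28.S77
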