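import Cfsg.Agent.Lib.H1.S77.Hyp

/-!
S0429 piece (T4): three pairwise non-adjacent vertices of srg(77,16,0,4) do not have exactly four
common neighbours (PSD certificate, groups {x,y,z}, T, weights (1,1), value -12).
-/

set_option autoImplicit false
set_option linter.unusedSectionVars false
open Cfsg

namespace Cfsg.Agent.Lib.H28.S77

open Cfsg.Agent.Lib.H1.S77 Finset

section
variable {V : Type*} [Fintype V] [DecidableEq V] {G : SimpleGraph V} [DecidableRel G.Adj]

theorem ee_none {S T : Finset V} (h : ∀ x ∈ S, ∀ y ∈ T, ¬ G.Adj x y) : ee G S T = 0 := by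
  unfold ee
  refine Finset.sum_eq_zero fun x hx => ?_
  have : G.neighborFinset x ∩ T = ∅ := by
    rw [Finset.eq_empty_iff_forall_notMem]
    intro y hy
    rw [Finset.mem_inter, SimpleGraph.mem_neighborFinset] at hy
    exact h x hx y hy.2 hy.1
  rw [this]; simp

theorem ee_all {S T : Finset V} (h : ∀ x ∈ S, ∀ y ∈ T, G.Adj x y) :
    ee G S T = (S.card : ℤ) * T.card := by
  unfold ee
  have : ∀ x ∈ S, ((G.neighborFinset x ∩ T).card : ℤ) = T.card := by
    intro x hx
    have : G.neighborFinset x ∩ T = T := by
      rw [Finset.inter_eq_right]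
      intro y hy
      rw [SimpleGraph.mem_neighborFinset]; exact h x hx y hy
    rw [this]
  rw [Finset.sum_congr rfl this, Finset.sum_const, nsmul_eq_mul]

/-- (T4) K_{3,4}: groups {x,y,z}, T; weights (1,1); value -12 -/
theorem triple_ne_four (hG : G.IsSRGWith 77 16 0 4) (hp : HPsdFam G) {x y z : V}
    (hxy : x ≠ y) (hxz : x ≠ z) (hyz : y ≠ z)
    (nxy : ¬ G.Adj x y) (nxz : ¬ G.Adj x z) (nyz : ¬ G.Adj y z) :
    (G.neighborFinset x ∩ G.neighborFinset y ∩ G.neighborFinset z).card ≠ 4 := by
  intro hT
  set T : Finset V := G.neighborFinset x ∩ G.neighborFinset y ∩ G.neighborFinset z with hTdef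
  have memT : ∀ t, t ∈ T ↔ G.Adj x t ∧ G.Adj y t ∧ G.Adj z t := by
    intro t
    rw [hTdef, Finset.mem_inter, Finset.mem_inter, SimpleGraph.mem_neighborFinset,
      SimpleGraph.mem_neighborFinset, SimpleGraph.mem_neighborFinset]
    tauto
  have hS0card : ({x, y, z} : Finset V).card = 3 := by
    rw [Finset.card_insert_of_notMem, Finset.card_insert_of_notMem, Finset.card_singleton]
    · simpa using hyz
    · simp [hxy, hxz]
  have mem0 : ∀ u, u ∈ ({x, y, z} : Finset V) ↔ u = x ∨ u = y ∨ u = z := by
    intro u; simp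
  have e00 : ee G ({x, y, z} : Finset V) {x, y, z} = 0 := by
    apply ee_none
    intro u hu w hw
    rw [mem0] at hu hw
    rcases hu with rfl | rfl | rfl <;> rcases hw with rfl | rfl | rfl
    · exact G.irrefl
    · exact nxy
    · exact nxz
    · exact fun h => nxy h.symm
    · exact G.irrefl
    · exact nyz
    · exact fun h => nxz h.symm
    · exact fun h => nyz h.symm
    · exact G.irrefl
  have e01 : ee G ({x, y, z} : Finset V) T = 12 := by
    rw [ee_all, hS0card, hT]; · norm_num
    intro u hu t ht
    rw [mem0] at hu; rw [memT] at ht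
    rcases hu with rfl | rfl | rfl
    · exact ht.1
    · exact ht.2.1
    · exact ht.2.2
  have e10 : ee G T ({x, y, z} : Finset V) = 12 := by
    rw [ee_all, hS0card, hT]; · norm_num
    intro t ht u hu
    rw [mem0] at hu; rw [memT] at ht
    rcases hu with rfl | rfl | rfl
    · exact ht.1.symm
    · exact ht.2.1.symm
    · exact ht.2.2.symm
  have e11 : ee G T T = 0 := by
    apply ee_none
    intro t ht t' ht'
    rw [memT] at ht ht'
    exact no_tri hG ht.1 ht'.1
  have hdisj : ∀ i j : Fin 2, i ≠ j →
      Disjoint ((![({x, y, z} : Finset V), T]) i) ((![({x, y, z} : Finset V), T]) j) := by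
    have hd : Disjoint ({x, y, z} : Finset V) T := by
      rw [Finset.disjoint_left]
      intro u hu ht
      rw [mem0] at hu; rw [memT] at ht
      rcases hu with rfl | rfl | rfl
      · exact G.irrefl ht.1
      · exact G.irrefl ht.2.1
      · exact G.irrefl ht.2.2
    intro i j hij
    fin_cases i <;> fin_cases j
    · exact absurd rfl hij
    · exact hd
    · exact hd.symm
    · exact absurd rfl hij
  have key := hp 2 (![({x, y, z} : Finset V), T]) hdisj (![1, 1])
  simp only [Fin.sum_univ_two, Matrix.cons_val_zero, Matrix.cons_val_one,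
    e00, e01, e10, e11, hS0card, hT] at key
  norm_num at key

end

end Cfsg.Agent.Lib.H28.S77
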