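import Mathlib
import Cfsg.Prelude.Def_Blocks
import Cfsg.Agent.Lib.H21.AD.Defs

/-!
S4937 piece (AB): on an abelian quotient `J₂ / J₁`, some linear twist of `f` has a nonzero
`p`-regular sum over `J₂` provided `f` has a nonzero `p`-regular sum over `J₁`
(sum over all characters of `J₂ / J₁`, orthogonality).
-/

set_option autoImplicit false
open Cfsg.Agent.Lib.H21.AD
namespace Cfsg.Agent.Lib.H28.AD

open Classical in
/-- sum of all characters of a finite abelian group at a point -/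
theorem sum_char_apply {A : Type*} [CommGroup A] [Finite A] [Fintype (A →* ℂˣ)] (a : A) :
    ∑ χ : A →* ℂˣ, ((χ a : ℂˣ) : ℂ) = if a = 1 then (Fintype.card (A →* ℂˣ) : ℂ) else 0 := by
  split_ifs with h
  · subst h; simp
  · obtain ⟨φ, hφ⟩ := CommGroup.exists_apply_ne_one_of_hasEnoughRootsOfUnity A ℂ h
    have h1 : ∑ χ : A →* ℂˣ, ((φ a : ℂˣ) : ℂ) * ((χ a : ℂˣ) : ℂ) = ∑ χ : A →* ℂˣ, ((χ a : ℂˣ) : ℂ) :=
      Fintype.sum_equiv (Equiv.mulLeft φ) (fun χ => ((φ a : ℂˣ) : ℂ) * ((χ a : ℂˣ) : ℂ))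
        (fun χ => ((χ a : ℂˣ) : ℂ)) (fun χ => by simp)
    rw [← Finset.mul_sum] at h1
    have h2 : (((φ a : ℂˣ) : ℂ) - 1) * ∑ χ : A →* ℂˣ, ((χ a : ℂˣ) : ℂ) = 0 := by
      rw [sub_mul, h1, one_mul, sub_self]
    rcases mul_eq_zero.mp h2 with h3 | h3
    · exfalso; apply hφ
      have : ((φ a : ℂˣ) : ℂ) = 1 := by linear_combination h3
      exact Units.ext (by simpa using this)
    · exact h3

/-- (AB) abelian quotient `J₂ / J₁`: some twist has nonzero sum. PURE (no characters). -/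
theorem ab {G : Type*} [Group G] [Finite G] (p : ℕ) (J₁ J₂ : Subgroup G) (h12 : J₁ ≤ J₂)
    (hnorm : ∀ a ∈ J₂, ∀ b ∈ J₁, a * b * a⁻¹ ∈ J₁)
    (hab : ∀ a ∈ J₂, ∀ b ∈ J₂, a * b * a⁻¹ * b⁻¹ ∈ J₁) (f : G → ℂ) (hf : sSum p J₁ f ≠ 0) :
    ∃ μ : G → ℂ, IsTwist J₁ J₂ μ ∧ sSum p J₂ (fun g => f g * μ g) ≠ 0 := by
  classical
  have : Fintype G := Fintype.ofFinite G
  have hN : (J₁.subgroupOf J₂).Normal := ⟨fun n hn g => by
    rw [Subgroup.mem_subgroupOf] at hn ⊢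
    simpa using hnorm g g.2 n hn⟩
  let _ : CommGroup (↥J₂ ⧸ J₁.subgroupOf J₂) :=
    { (inferInstance : Group (↥J₂ ⧸ J₁.subgroupOf J₂)) with
      mul_comm := by
        intro x y
        induction x using QuotientGroup.induction_on with
        | _ a =>
          induction y using QuotientGroup.induction_on with
          | _ b =>
            rw [← QuotientGroup.mk_mul, ← QuotientGroup.mk_mul, QuotientGroup.eq,
              Subgroup.mem_subgroupOf]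
            have := hab (b⁻¹ : J₂) (b⁻¹ : J₂).2 (a⁻¹ : J₂) (a⁻¹ : J₂).2
            simpa [mul_assoc] using this }
  have : Fintype ((↥J₂ ⧸ J₁.subgroupOf J₂) →* ℂˣ) := Fintype.ofFinite _
  -- the twist attached to a character of the quotient
  let μ : ((↥J₂ ⧸ J₁.subgroupOf J₂) →* ℂˣ) → G → ℂ := fun χ g =>
    if h : g ∈ J₂ then ((χ (QuotientGroup.mk (⟨g, h⟩ : J₂)) : ℂˣ) : ℂ) else 0
  have hμ : ∀ χ, IsTwist J₁ J₂ (μ χ) := by
    intro χ
    refine ⟨fun a ha b hb => ?_, fun n hn => ?_⟩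
    · have hab' : a * b ∈ J₂ := J₂.mul_mem ha hb
      simp only [μ, dif_pos ha, dif_pos hb, dif_pos hab']
      have : (QuotientGroup.mk (⟨a * b, hab'⟩ : J₂) : ↥J₂ ⧸ J₁.subgroupOf J₂)
          = QuotientGroup.mk (⟨a, ha⟩ : J₂) * QuotientGroup.mk (⟨b, hb⟩ : J₂) := by
        rw [← QuotientGroup.mk_mul]; rfl
      rw [this, map_mul, Units.val_mul]
    · have hn2 : n ∈ J₂ := h12 hn
      simp only [μ, dif_pos hn2]
      have : (QuotientGroup.mk (⟨n, hn2⟩ : J₂) : ↥J₂ ⧸ J₁.subgroupOf J₂) = 1 := by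
        rw [QuotientGroup.eq_one_iff, Subgroup.mem_subgroupOf]; exact hn
      rw [this, map_one, Units.val_one]
  by_contra hcon
  push Not at hcon
  have hall : ∀ χ, sSum p J₂ (fun g => f g * μ χ g) = 0 := fun χ => hcon (μ χ) (hμ χ)
  apply hf
  -- the sum over all characters
  have hkey : ∑ χ : (↥J₂ ⧸ J₁.subgroupOf J₂) →* ℂˣ, sSum p J₂ (fun g => f g * μ χ g)
      = (Fintype.card ((↥J₂ ⧸ J₁.subgroupOf J₂) →* ℂˣ) : ℂ) * sSum p J₁ f := by
    unfold sSum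
    simp only [finsum_eq_sum_of_fintype]
    rw [Finset.sum_comm, Finset.mul_sum]
    refine Finset.sum_congr rfl fun g _ => ?_
    by_cases hg2 : g ∈ J₂
    · by_cases hreg : ¬ p ∣ orderOf g
      · have e1 : ∀ χ : (↥J₂ ⧸ J₁.subgroupOf J₂) →* ℂˣ,
            (if g ∈ J₂ ∧ ¬ p ∣ orderOf g then f g * μ χ g else 0)
              = f g * ((χ (QuotientGroup.mk (⟨g, hg2⟩ : J₂)) : ℂˣ) : ℂ) := by
          intro χ
          rw [if_pos ⟨hg2, hreg⟩]
          simp only [μ, dif_pos hg2]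
        rw [Finset.sum_congr rfl (fun χ _ => e1 χ), ← Finset.mul_sum, sum_char_apply]
        have e2 : ((QuotientGroup.mk (⟨g, hg2⟩ : J₂) : ↥J₂ ⧸ J₁.subgroupOf J₂) = 1) ↔ g ∈ J₁ := by
          rw [QuotientGroup.eq_one_iff, Subgroup.mem_subgroupOf]
        by_cases hg1 : g ∈ J₁
        · rw [if_pos (e2.mpr hg1), if_pos ⟨hg1, hreg⟩]; ring
        · rw [if_neg (fun h => hg1 (e2.mp h)), if_neg (fun h => hg1 h.1)]; ring
      · rw [if_neg (fun h => hreg h.2)]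
        have : ∀ χ : (↥J₂ ⧸ J₁.subgroupOf J₂) →* ℂˣ,
            (if g ∈ J₂ ∧ ¬ p ∣ orderOf g then f g * μ χ g else 0) = 0 :=
          fun χ => if_neg (fun h => hreg h.2)
        rw [Finset.sum_congr rfl (fun χ _ => this χ)]; simp
    · rw [if_neg (fun h => hg2 (h12 h.1))]
      have : ∀ χ : (↥J₂ ⧸ J₁.subgroupOf J₂) →* ℂˣ,
          (if g ∈ J₂ ∧ ¬ p ∣ orderOf g then f g * μ χ g else 0) = 0 :=
        fun χ => if_neg (fun h => hg2 h.1)
      rw [Finset.sum_congr rfl (fun χ _ => this χ)]; simp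
  rw [Finset.sum_congr rfl (fun χ _ => hall χ), Finset.sum_const_zero] at hkey
  have hcard : (Fintype.card ((↥J₂ ⧸ J₁.subgroupOf J₂) →* ℂˣ) : ℂ) ≠ 0 := by
    have : 0 < Fintype.card ((↥J₂ ⧸ J₁.subgroupOf J₂) →* ℂˣ) := Fintype.card_pos
    exact_mod_cast this.ne'
  rcases mul_eq_zero.mp hkey.symm with h | h
  · exact absurd h hcard
  · exact h

end Cfsg.Agent.Lib.H28.AD
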