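import Mathlib
import Cfsg.Prelude.Def_Transfer
import Cfsg.Agent.Lib.H20.CyclicAut
import Cfsg.Agent.Lib.H20.PowDecomp

/-!
# S1950 piece BURN = F1 (helper28)

If the Sylow `p`-subgroups of the finite group `G` are cyclic, then `C_G(s)` has a normal
`p`-complement for every nontrivial `p`-element `s` (Burnside's transfer theorem: a `p'`-automorphism
of a cyclic `p`-group fixing a nontrivial element is trivial, landed `H20.CyclicAut`).
-/

set_option autoImplicit false

namespace Cfsg.Agent.Lib.H28.CY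

/-- a `p`-element normalizing a Sylow `p`-subgroup lies in it -/
theorem mem_sylow_of_pElement_mem_normalizer {C : Type*} [Group C] {p : ℕ} [Fact p.Prime]
    (Q : Sylow p C) {u : C} {e : ℕ} (hu : orderOf u = p ^ e)
    (hn : u ∈ Subgroup.normalizer ((Q : Subgroup C) : Set C)) : u ∈ (Q : Subgroup C) := by
  have hz : IsPGroup p (Subgroup.zpowers u) := by
    apply IsPGroup.of_card (n := e)
    rw [Nat.card_zpowers, hu]
  have hle : Subgroup.zpowers u ≤ Subgroup.normalizer ((Q : Subgroup C) : Set C) :=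
    Subgroup.zpowers_le_of_mem hn
  have hpg : IsPGroup p (Subgroup.zpowers u ⊔ (Q : Subgroup C) : Subgroup C) :=
    hz.to_sup_of_normal_right' Q.isPGroup' hle
  have := Q.is_maximal' hpg le_sup_right
  have h2 : Subgroup.zpowers u ≤ (Q : Subgroup C) := by
    rw [← this]; exact le_sup_left
  exact h2 (Subgroup.mem_zpowers u)

/-- If a cyclic Sylow `p`-subgroup `Q` of `C` contains a nontrivial central element of `C`, then
`N_C(Q) ≤ C_C(Q)`. -/
theorem normalizer_le_centralizer_of_cyclic_of_central {C : Type*} [Group C] [Finite C] {p : ℕ}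
    [Fact p.Prime] (Q : Sylow p C) (hQ : IsCyclic ↥(Q : Subgroup C)) (s : C)
    (hsQ : s ∈ (Q : Subgroup C)) (hs1 : s ≠ 1) (hsc : ∀ c : C, c * s = s * c) :
    Subgroup.normalizer ((Q : Subgroup C) : Set C) ≤
      Subgroup.centralizer ((Q : Subgroup C) : Set C) := by
  have hp : p.Prime := Fact.out
  have hQcomm : ∀ a ∈ (Q : Subgroup C), ∀ b ∈ (Q : Subgroup C), a * b = b * a := by
    intro a ha b hb
    have hc : IsMulCommutative ↥(Q : Subgroup C) := IsCyclic.isMulCommutative
    have := hc.is_comm.comm (⟨a, ha⟩ : ↥(Q : Subgroup C)) ⟨b, hb⟩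
    exact congrArg Subtype.val this
  have hQleC : (Q : Subgroup C) ≤ Subgroup.centralizer ((Q : Subgroup C) : Set C) := by
    intro a ha
    rw [Subgroup.mem_centralizer_iff]
    intro b hb
    exact hQcomm b hb a ha
  intro c hcN
  obtain ⟨k, l, hkl, ⟨e, he⟩, hl⟩ :=
    Cfsg.Agent.Lib.H20.exists_pPart_pPrimePart c (isOfFinOrder_of_finite c) p hp
  have hu : c ^ k ∈ Subgroup.centralizer ((Q : Subgroup C) : Set C) :=
    hQleC (mem_sylow_of_pElement_mem_normalizer Q he (Subgroup.pow_mem _ hcN k))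
  have hd : c ^ l ∈ Subgroup.centralizer ((Q : Subgroup C) : Set C) := by
    set d := c ^ l with hddef
    have hdN : d ∈ Subgroup.normalizer ((Q : Subgroup C) : Set C) := Subgroup.pow_mem _ hcN l
    have hdx : d * s * d⁻¹ = s := by
      rw [hsc d]; group
    let ψ : MulAut ↥(Q : Subgroup C) := (Q : Subgroup C).normalizerMonoidHom ⟨d, hdN⟩
    have hψm : ψ ^ (orderOf d) = 1 := by
      rw [← map_pow]
      have : (⟨d, hdN⟩ : Subgroup.normalizer ((Q : Subgroup C) : Set C)) ^ orderOf d = 1 := by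
        apply Subtype.ext
        simp [pow_orderOf_eq_one]
      rw [this, map_one]
    have hψx : ψ ⟨s, hsQ⟩ = ⟨s, hsQ⟩ := by
      apply Subtype.ext
      simp only [ψ, Subgroup.normalizerMonoidHom_apply_apply_coe]
      exact hdx
    have hx1' : (⟨s, hsQ⟩ : ↥(Q : Subgroup C)) ≠ 1 := by
      intro h
      exact hs1 (congrArg Subtype.val h)
    letI : CommGroup ↥(Q : Subgroup C) := IsCyclic.commGroup
    have hψ1 : ψ = 1 :=
      Cfsg.Agent.Lib.H20.mulAut_eq_one_of_fixes_of_cyclic_pGroup Q.isPGroup' ψ (orderOf d)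
        hψm hl ⟨s, hsQ⟩ hx1' hψx
    rw [Subgroup.mem_centralizer_iff]
    intro b hb
    have h1 : ψ ⟨b, hb⟩ = ⟨b, hb⟩ := by rw [hψ1]; rfl
    have h2 : d * b * d⁻¹ = b := by
      have := congrArg Subtype.val h1
      simpa only [ψ, Subgroup.normalizerMonoidHom_apply_apply_coe] using this
    calc b * d = (d * b * d⁻¹) * d := by rw [h2]
      _ = d * b := by group
  rw [← hkl]
  exact Subgroup.mul_mem _ hu hd

/-- Burnside: under the same hypotheses `C` has a normal `p`-complement. -/
theorem hasNormalPComplement_of_cyclic_of_central {C : Type*} [Group C] [Finite C] {p : ℕ}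
    [Fact p.Prime] (Q : Sylow p C) (hQ : IsCyclic ↥(Q : Subgroup C)) (s : C)
    (hsQ : s ∈ (Q : Subgroup C)) (hs1 : s ≠ 1) (hsc : ∀ c : C, c * s = s * c) :
    Cfsg.HasNormalPComplement p C := by
  have h := normalizer_le_centralizer_of_cyclic_of_central Q hQ s hsQ hs1 hsc
  exact ⟨Q, (MonoidHom.transferSylow Q h).ker, inferInstance,
    MonoidHom.ker_transferSylow_isComplement' Q h⟩

variable {G : Type*} [Group G] [Finite G] {p : ℕ} [Fact p.Prime]

/-- every `p`-subgroup of a group with a cyclic Sylow `p`-subgroup is cyclic -/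
theorem isCyclic_of_isPGroup_of_cyclic_sylow (P : Sylow p G) (hP : IsCyclic ↥(P : Subgroup G))
    (S : Subgroup G) (hS : IsPGroup p S) : IsCyclic ↥S := by
  obtain ⟨P', hSP'⟩ := hS.exists_le_sylow
  have e : ↥(P : Subgroup G) ≃* ↥(P' : Subgroup G) := Sylow.equiv P P'
  have h' : IsCyclic ↥(P' : Subgroup G) := isCyclic_of_surjective e.toMonoidHom e.surjective
  exact Subgroup.isCyclic_of_le hSP'

/-- **BURN = F1**: cyclic Sylow `p`-subgroups, `s` a nontrivial `p`-element: `C_G(s)` has a normal
`p`-complement. -/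
theorem centralizer_hasNormalPComplement_of_pElement (P : Sylow p G)
    (hP : IsCyclic ↥(P : Subgroup G)) (s : G) (k : ℕ) (hs : orderOf s = p ^ k) (hs1 : s ≠ 1) :
    Cfsg.HasNormalPComplement p ↥(Subgroup.centralizer ({s} : Set G)) := by
  set C : Subgroup G := Subgroup.centralizer ({s} : Set G) with hC
  have hsC : s ∈ C := by
    rw [hC, Subgroup.mem_centralizer_singleton_iff]
  set s' : ↥C := ⟨s, hsC⟩ with hs'
  have hord : orderOf s' = p ^ k := by rw [hs', Subgroup.orderOf_mk]; exact hs
  have hz : IsPGroup p (Subgroup.zpowers s') := by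
    apply IsPGroup.of_card (n := k)
    rw [Nat.card_zpowers, hord]
  obtain ⟨Q, hQ⟩ := hz.exists_le_sylow
  have hs'Q : s' ∈ (Q : Subgroup ↥C) := hQ (Subgroup.mem_zpowers s')
  have hs'1 : s' ≠ 1 := by
    intro h
    exact hs1 (congrArg Subtype.val h)
  have hcent : ∀ c : ↥C, c * s' = s' * c := by
    intro c
    apply Subtype.ext
    exact Subgroup.mem_centralizer_singleton_iff.1 c.2
  have hQcyc : IsCyclic ↥(Q : Subgroup ↥C) := by
    have h1 : IsPGroup p ↥((Q : Subgroup ↥C).map C.subtype) := Q.isPGroup'.map _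
    have h2 : IsCyclic ↥((Q : Subgroup ↥C).map C.subtype) :=
      isCyclic_of_isPGroup_of_cyclic_sylow P hP _ h1
    have e := (Q : Subgroup ↥C).equivMapOfInjective C.subtype C.subtype_injective
    exact isCyclic_of_surjective e.symm.toMonoidHom e.symm.surjective
  exact hasNormalPComplement_of_cyclic_of_central Q hQcyc s' hs'Q hs'1 hcent

/-- **BURN = F1**, order-`p` form. -/
theorem centralizer_hasNormalPComplement (P : Sylow p G) (hP : IsCyclic ↥(P : Subgroup G))
    (s : G) (hs : orderOf s = p) :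
    Cfsg.HasNormalPComplement p ↥(Subgroup.centralizer ({s} : Set G)) := by
  have hp : p.Prime := Fact.out
  apply centralizer_hasNormalPComplement_of_pElement P hP s 1 (by rw [hs, pow_one])
  intro h
  rw [h, orderOf_one] at hs
  exact hp.one_lt.ne hs

end Cfsg.Agent.Lib.H28.CY
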