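import Mathlib
import Cfsg.Agent.Lib.H28.PSp4Defs

set_option autoImplicit false
set_option linter.unusedSectionVars false

/-!
# S5320 piece E0: the elements of `Et Q` (helper28)
-/

namespace Cfsg.Agent.Lib.H28.PSp4

open Matrix Cfsg.Agent.Lib.H9.SqC

variable {F : Type*} [Field F]

/-- the explicit form of `Et Q` -/
def EtX (Q : Subgroup (SL2 F)) (hneg : (-1 : SL2 F) ∈ Q) : Subgroup (Sp4 F) where
  carrier := {g | ∃ a ∈ Q, ∃ b : SL2 F, (b = a ∨ b = -a) ∧ (g = Ph a b ∨ g = Ph a b * sw)}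
  one_mem' := ⟨1, Q.one_mem, 1, Or.inl rfl, Or.inl Ph_one.symm⟩
  mul_mem' := by
    have hn : ∀ a ∈ Q, -a ∈ Q := by
      intro a ha
      have := Q.mul_mem hneg ha
      rwa [neg_mul, one_mul] at this
    rintro _ _ ⟨a, ha, b, hb, rfl | rfl⟩ ⟨a', ha', b', hb', rfl | rfl⟩
    · refine ⟨a * a', Q.mul_mem ha ha', b * b', ?_, Or.inl (Ph_mul _ _ _ _)⟩
      rcases hb with rfl | rfl <;> rcases hb' with rfl | rfl <;> simp
    · refine ⟨a * a', Q.mul_mem ha ha', b * b', ?_, Or.inr (by rw [← mul_assoc, Ph_mul])⟩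
      rcases hb with rfl | rfl <;> rcases hb' with rfl | rfl <;> simp
    · have hb'Q : b' ∈ Q := by
        rcases hb' with rfl | rfl
        · exact ha'
        · exact hn _ ha'
      refine ⟨a * b', Q.mul_mem ha hb'Q, b * a', ?_,
        Or.inr (by rw [mul_assoc, sw_mul_Ph, ← mul_assoc, Ph_mul])⟩
      rcases hb with rfl | rfl <;> rcases hb' with rfl | rfl <;> simp
    · have hb'Q : b' ∈ Q := by
        rcases hb' with rfl | rfl
        · exact ha'
        · exact hn _ ha'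
      refine ⟨a * b', Q.mul_mem ha hb'Q, b * a', ?_,
        Or.inl (by rw [mul_assoc, ← mul_assoc sw, sw_mul_Ph, mul_assoc _ sw, sw_mul_sw, mul_one,
          Ph_mul])⟩
      rcases hb with rfl | rfl <;> rcases hb' with rfl | rfl <;> simp
  inv_mem' := by
    have hn : ∀ a ∈ Q, -a ∈ Q := by
      intro a ha
      have := Q.mul_mem hneg ha
      rwa [neg_mul, one_mul] at this
    rintro _ ⟨a, ha, b, hb, rfl | rfl⟩
    · refine ⟨a⁻¹, Q.inv_mem ha, b⁻¹, ?_, Or.inl (Ph_inv a b)⟩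
      rcases hb with rfl | rfl
      · left; rfl
      · right; exact inv_neg
    · have hbQ : b ∈ Q := by
        rcases hb with rfl | rfl
        · exact ha
        · exact hn _ ha
      refine ⟨b⁻¹, Q.inv_mem hbQ, a⁻¹, ?_,
        Or.inr (by rw [_root_.mul_inv_rev, sw_inv, Ph_inv, sw_mul_Ph])⟩
      rcases hb with rfl | rfl
      · left; rfl
      · right; rw [inv_neg, neg_neg]

theorem Et_eq_EtX (Q : Subgroup (SL2 F)) (hneg : (-1 : SL2 F) ∈ Q) : Et Q = EtX Q hneg := by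
  apply le_antisymm
  · unfold Et
    refine sup_le (sup_le ?_ ?_) ?_
    · rintro _ ⟨a, ha, rfl⟩
      exact ⟨a, ha, a, Or.inl rfl, Or.inl rfl⟩
    · rw [Subgroup.zpowers_le]
      exact ⟨-1, hneg, 1, Or.inr (by simp), Or.inl rfl⟩
    · rw [Subgroup.zpowers_le]
      exact ⟨1, Q.one_mem, 1, Or.inl rfl, Or.inr (by rw [Ph_one, one_mul])⟩
  · have h1 : ∀ a ∈ Q, Ph a a ∈ Et Q := fun a ha =>
      (le_sup_left.trans le_sup_left : Q.map Dg ≤ Et Q) ⟨a, ha, rfl⟩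
    have h2 : Ph (-1 : SL2 F) 1 ∈ Et Q :=
      (le_sup_right.trans le_sup_left : Subgroup.zpowers (Ph (-1 : SL2 F) 1) ≤ Et Q)
        (Subgroup.mem_zpowers _)
    have h3 : (sw : Sp4 F) ∈ Et Q :=
      (le_sup_right : Subgroup.zpowers (sw : Sp4 F) ≤ Et Q) (Subgroup.mem_zpowers _)
    have h4 : ∀ a ∈ Q, ∀ b : SL2 F, (b = a ∨ b = -a) → Ph a b ∈ Et Q := by
      intro a ha b hb
      rcases hb with rfl | rfl
      · exact h1 b ha
      · have hna : -a ∈ Q := by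
          have := Q.mul_mem hneg ha
          rwa [neg_mul, one_mul] at this
        have := (Et Q).mul_mem (h1 _ hna) h2
        rwa [Ph_mul, mul_neg, mul_one, neg_neg] at this
    rintro _ ⟨a, ha, b, hb, rfl | rfl⟩
    · exact h4 a ha b hb
    · exact (Et Q).mul_mem (h4 a ha b hb) h3

/-- **E0**. -/
theorem mem_Et_iff {Q : Subgroup (SL2 F)} (hneg : (-1 : SL2 F) ∈ Q) {g : Sp4 F} :
    g ∈ Et Q ↔ ∃ a ∈ Q, g = Ph a a ∨ g = Ph a (-a) ∨ g = Ph a a * sw ∨ g = Ph a (-a) * sw := by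
  rw [Et_eq_EtX Q hneg]
  constructor
  · rintro ⟨a, ha, b, rfl | rfl, h | h⟩
    · exact ⟨_, ha, Or.inl h⟩
    · exact ⟨_, ha, Or.inr (Or.inr (Or.inl h))⟩
    · exact ⟨_, ha, Or.inr (Or.inl h)⟩
    · exact ⟨_, ha, Or.inr (Or.inr (Or.inr h))⟩
  · rintro ⟨a, ha, h | h | h | h⟩
    · exact ⟨a, ha, a, Or.inl rfl, Or.inl h⟩
    · exact ⟨a, ha, -a, Or.inr rfl, Or.inl h⟩
    · exact ⟨a, ha, a, Or.inl rfl, Or.inr h⟩
    · exact ⟨a, ha, -a, Or.inr rfl, Or.inr h⟩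

end Cfsg.Agent.Lib.H28.PSp4
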