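import Mathlib
import Cfsg.Prelude.Def_KGroupFacts

set_option autoImplicit false

/-!
# Stem extensions of presented groups

If `σ : Γ →* PresentedGroup rels` is a stem extension and `g` lifts the generators, then the
kernel of `σ` is generated by the values of the relators at `g`: it lies in every central
subgroup containing these values.
-/

namespace Cfsg.Agent.Lib.H28.StemPres

open Subgroup

variable {Γ : Type*} [Group Γ]

open scoped commutatorElement

theorem central_conj {k y : Γ} (h : k ∈ center Γ) : k * y * k⁻¹ = y := by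
  rw [mul_inv_eq_iff_eq_mul]
  exact ((mem_center_iff.mp h) y).symm

theorem comm_central_left {k n y : Γ} (h : k ∈ center Γ) : ⁅k * n, y⁆ = ⁅n, y⁆ := by
  rw [commutatorElement_def, commutatorElement_def]
  have hkn : k * n = n * k := ((mem_center_iff.mp h) n).symm
  have : k * n * y * (k * n)⁻¹ = n * y * n⁻¹ := by
    rw [hkn, mul_inv_rev]
    calc n * k * y * (k⁻¹ * n⁻¹) = n * (k * y * k⁻¹) * n⁻¹ := by group
      _ = n * y * n⁻¹ := by rw [central_conj h]
  rw [this]

theorem comm_central_right {k n x : Γ} (h : k ∈ center Γ) : ⁅x, k * n⁆ = ⁅x, n⁆ := by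
  rw [commutatorElement_def, commutatorElement_def]
  have : x * (k * n) * x⁻¹ * (k * n)⁻¹ = k * (x * n * x⁻¹ * n⁻¹) * k⁻¹ := by
    have hkx : x * k = k * x := (mem_center_iff.mp h) x
    calc x * (k * n) * x⁻¹ * (k * n)⁻¹ = (x * k) * n * x⁻¹ * (k * n)⁻¹ := by group
      _ = (k * x) * n * x⁻¹ * (k * n)⁻¹ := by rw [hkx]
      _ = k * (x * n * x⁻¹ * n⁻¹) * k⁻¹ := by group
  rw [this, central_conj h]

theorem commutatorElement_central_mul {k₁ k₂ n₁ n₂ : Γ} (h₁ : k₁ ∈ center Γ)
    (h₂ : k₂ ∈ center Γ) : ⁅k₁ * n₁, k₂ * n₂⁆ = ⁅n₁, n₂⁆ := by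
  rw [comm_central_left h₁, comm_central_right h₂]

variable {α : Type*} {rels : Set (FreeGroup α)}

theorem sigma_lift (σ : Γ →* PresentedGroup rels) (g : α → Γ)
    (hg : ∀ x, σ (g x) = PresentedGroup.of x) (w : FreeGroup α) :
    σ (FreeGroup.lift g w) = PresentedGroup.mk rels w := by
  have : σ.comp (FreeGroup.lift g) = PresentedGroup.mk rels := by
    ext x
    simp only [MonoidHom.comp_apply, FreeGroup.lift_apply_of]
    exact hg x
  exact DFunLike.congr_fun this w

/-- the lifts of the generators generate a stem extension -/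
theorem lift_surjective (σ : Γ →* PresentedGroup rels)
    (hcen : σ.ker ≤ center Γ) (hcomm : σ.ker ≤ commutator Γ)
    (g : α → Γ) (hg : ∀ x, σ (g x) = PresentedGroup.of x) :
    Function.Surjective (FreeGroup.lift g) := by
  set Φ := FreeGroup.lift g with hΦ
  have hσΦ := sigma_lift σ g hg
  -- every element is central times an element of the range
  have hdec : ∀ γ : Γ, ∃ k ∈ σ.ker, ∃ w, γ = k * Φ w := by
    intro γ
    obtain ⟨w, hw⟩ := PresentedGroup.mk_surjective rels (σ γ)
    refine ⟨γ * (Φ w)⁻¹, ?_, w, by group⟩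
    rw [MonoidHom.mem_ker, map_mul, map_inv, hσΦ, hw, mul_inv_cancel]
  have hcr : commutator Γ ≤ Φ.range := by
    rw [commutator_def, Subgroup.commutator_le]
    intro x _ y _
    obtain ⟨k₁, hk₁, w₁, rfl⟩ := hdec x
    obtain ⟨k₂, hk₂, w₂, rfl⟩ := hdec y
    rw [commutatorElement_central_mul (hcen hk₁) (hcen hk₂)]
    exact ⟨⁅w₁, w₂⁆, by rw [map_commutatorElement]⟩
  intro γ
  obtain ⟨k, hk, w, rfl⟩ := hdec γ
  obtain ⟨w', hw'⟩ := hcr (hcomm hk)
  exact ⟨w' * w, by rw [map_mul, hw']⟩

/-- **The kernel of a stem extension of a presented group is generated by the relator values.** -/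
theorem ker_le_of_relator_values (σ : Γ →* PresentedGroup rels)
    (hcen : σ.ker ≤ center Γ) (hcomm : σ.ker ≤ commutator Γ)
    (g : α → Γ) (hg : ∀ x, σ (g x) = PresentedGroup.of x)
    (V : Subgroup Γ) (hV : V ≤ center Γ)
    (hrel : ∀ r ∈ rels, FreeGroup.lift g r ∈ V) : σ.ker ≤ V := by
  set Φ := FreeGroup.lift g with hΦ
  have hVn : V.Normal := ⟨fun n hn x => by
    have := (mem_center_iff.mp (hV hn)) x
    rw [this, mul_inv_cancel_right]
    exact hn⟩
  have : (V.comap Φ).Normal := hVn.comap Φ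
  have hnc : Subgroup.normalClosure rels ≤ V.comap Φ :=
    Subgroup.normalClosure_le_normal fun r hr => hrel r hr
  intro k hk
  obtain ⟨w, rfl⟩ := lift_surjective σ hcen hcomm g hg k
  have h1 : PresentedGroup.mk rels w = 1 := by
    rw [← sigma_lift σ g hg w]
    exact hk
  exact hnc (PresentedGroup.mk_eq_one_iff.mp h1)

end Cfsg.Agent.Lib.H28.StemPres
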