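import Mathlib
import Cfsg.Prelude.Def_KGroupFacts

/-!
# Lifting a perfect subgroup with trivial multiplier through a central extension (helper28)

If `σ : Γ →* G` is surjective with central kernel and `U ≤ G` is perfect and has only trivial finite
stem extensions, then the derived subgroup of the preimage of `U` maps isomorphically onto `U`.
-/

set_option autoImplicit false

namespace Cfsg.Agent.Lib.H28.StemLift

universe u

open scoped commutatorElement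

section

variable {G : Type u} [Group G] {Γ : Type u} [Group Γ] (σ : Γ →* G)
  (hs : Function.Surjective σ) (hc : σ.ker ≤ Subgroup.center Γ) (U : Subgroup G)
  (hperf : ⁅U, U⁆ = U)

/-- The derived subgroup of the preimage. -/
def L : Subgroup Γ := ⁅U.comap σ, U.comap σ⁆

theorem comm_le_self (H : Subgroup Γ) : ⁅H, H⁆ ≤ H := by
  rw [Subgroup.commutator_le]
  intro g1 h1 g2 h2
  rw [commutatorElement_def]
  exact H.mul_mem (H.mul_mem (H.mul_mem h1 h2) (H.inv_mem h1)) (H.inv_mem h2)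

theorem L_le : L σ U ≤ U.comap σ := comm_le_self _

include hs hperf in
theorem map_L : (L σ U).map σ = U := by
  unfold L
  rw [Subgroup.map_commutator, Subgroup.map_comap_eq_self_of_surjective hs, hperf]

include hc in
theorem central {z : Γ} (hz : z ∈ σ.ker) (x : Γ) : z * x = x * z :=
  (Subgroup.mem_center_iff.1 (hc hz) x).symm

include hs hperf in
theorem exists_L_mul {x : Γ} (hx : x ∈ U.comap σ) : ∃ y ∈ L σ U, ∃ z ∈ σ.ker, x = y * z := by
  have h1 : σ x ∈ (L σ U).map σ := by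
    rw [map_L σ hs U hperf]
    exact hx
  obtain ⟨y, hy, hyx⟩ := Subgroup.mem_map.1 h1
  refine ⟨y, hy, y⁻¹ * x, ?_, by group⟩
  rw [MonoidHom.mem_ker, map_mul, map_inv, hyx, inv_mul_cancel]

include hc in
theorem comm_central_mul {y1 y2 z1 z2 : Γ} (h1 : z1 ∈ σ.ker) (h2 : z2 ∈ σ.ker) :
    ⁅y1 * z1, y2 * z2⁆ = ⁅y1, y2⁆ := by
  have c1 := central σ hc h1
  have c2 := central σ hc h2
  rw [commutatorElement_def, commutatorElement_def, mul_inv_rev, mul_inv_rev]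
  have e1 : z1⁻¹ * y1⁻¹ = y1⁻¹ * z1⁻¹ := by
    rw [← mul_inv_rev, ← mul_inv_rev, c1]
  have e2 : z2⁻¹ * y2⁻¹ = y2⁻¹ * z2⁻¹ := by
    rw [← mul_inv_rev, ← mul_inv_rev, c2]
  calc y1 * z1 * (y2 * z2) * (z1⁻¹ * y1⁻¹) * (z2⁻¹ * y2⁻¹)
      = y1 * (z1 * y2) * z2 * (z1⁻¹ * y1⁻¹) * (z2⁻¹ * y2⁻¹) := by group
    _ = y1 * (y2 * z1) * z2 * (y1⁻¹ * z1⁻¹) * (y2⁻¹ * z2⁻¹) := by rw [c1, e1, e2]
    _ = y1 * y2 * (z1 * (z2 * y1⁻¹)) * z1⁻¹ * (y2⁻¹ * z2⁻¹) := by group
    _ = y1 * y2 * (z1 * (y1⁻¹ * z2)) * z1⁻¹ * (y2⁻¹ * z2⁻¹) := by rw [c2]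
    _ = y1 * y2 * (z1 * y1⁻¹) * (z2 * z1⁻¹) * (y2⁻¹ * z2⁻¹) := by group
    _ = y1 * y2 * (y1⁻¹ * z1) * (z2 * z1⁻¹) * (y2⁻¹ * z2⁻¹) := by rw [c1]
    _ = y1 * y2 * y1⁻¹ * (z1 * (z2 * z1⁻¹)) * (y2⁻¹ * z2⁻¹) := by group
    _ = y1 * y2 * y1⁻¹ * (z1 * (z1⁻¹ * z2)) * (y2⁻¹ * z2⁻¹) := by rw [central σ hc h2 z1⁻¹]
    _ = y1 * y2 * y1⁻¹ * (z2 * y2⁻¹) * z2⁻¹ := by group
    _ = y1 * y2 * y1⁻¹ * (y2⁻¹ * z2) * z2⁻¹ := by rw [c2]
    _ = y1 * y2 * y1⁻¹ * y2⁻¹ := by group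

include hs hc hperf in
theorem L_perfect : ⁅L σ U, L σ U⁆ = L σ U := by
  apply le_antisymm (comm_le_self _)
  show ⁅U.comap σ, U.comap σ⁆ ≤ _
  rw [Subgroup.commutator_le]
  intro x1 h1 x2 h2
  obtain ⟨y1, hy1, z1, hz1, rfl⟩ := exists_L_mul σ hs U hperf h1
  obtain ⟨y2, hy2, z2, hz2, rfl⟩ := exists_L_mul σ hs U hperf h2
  rw [comm_central_mul σ hc hz1 hz2]
  exact Subgroup.commutator_mem_commutator hy1 hy2

/-- Restriction of `σ` to `L`. -/
def tau : ↥(L σ U) →* ↥U :=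
  (σ.comp (L σ U).subtype).codRestrict U (fun x => L_le σ U x.2)

theorem tau_apply (x : ↥(L σ U)) : ((tau σ U x : ↥U) : G) = σ x.1 := rfl

include hs hc hperf in
theorem commutator_L_eq_top : commutator ↥(L σ U) = ⊤ := by
  apply Subgroup.map_injective (Subgroup.subtype_injective (L σ U))
  rw [Subgroup.map_subtype_commutator, L_perfect σ hs hc U hperf, ← MonoidHom.range_eq_map,
    Subgroup.range_subtype]

include hs hc hperf in
theorem tau_stem : Cfsg.IsStemExtension (tau σ U) := by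
  refine ⟨?_, ?_, ?_⟩
  · rintro ⟨g, hg⟩
    have h1 : g ∈ (L σ U).map σ := by rw [map_L σ hs U hperf]; exact hg
    obtain ⟨y, hy, hyg⟩ := Subgroup.mem_map.1 h1
    exact ⟨⟨y, hy⟩, Subtype.ext hyg⟩
  · intro x hx
    have h1 : σ x.1 = 1 := by
      have := MonoidHom.mem_ker.1 hx
      have h2 := congrArg Subtype.val this
      rw [tau_apply] at h2
      exact h2
    rw [Subgroup.mem_center_iff]
    intro y
    apply Subtype.ext
    show y.1 * x.1 = x.1 * y.1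
    exact (central σ hc (MonoidHom.mem_ker.2 h1) y.1).symm
  · rw [commutator_L_eq_top σ hs hc U hperf]
    exact le_top

include hs hc hperf in
/-- The lifted subgroup meets the kernel trivially. -/
theorem L_inf_ker [Finite Γ]
    (hmult : ∀ (E : Type u) [Group E] [Finite E] (τ : E →* ↥U), Cfsg.IsStemExtension τ → τ.ker = ⊥)
    {y : Γ} (hy : y ∈ L σ U) (h1 : σ y = 1) : y = 1 := by
  have hk := hmult ↥(L σ U) (tau σ U) (tau_stem σ hs hc U hperf)
  have h2 : (⟨y, hy⟩ : ↥(L σ U)) ∈ (tau σ U).ker := by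
    rw [MonoidHom.mem_ker]
    apply Subtype.ext
    rw [tau_apply]
    exact h1
  rw [hk, Subgroup.mem_bot] at h2
  exact congrArg Subtype.val h2

include hs hperf in
/-- Every element of `U` has a lift in `L`. -/
theorem exists_lift {u : G} (hu : u ∈ U) : ∃ y ∈ L σ U, σ y = u := by
  have h1 : u ∈ (L σ U).map σ := by rw [map_L σ hs U hperf]; exact hu
  obtain ⟨y, hy, hyg⟩ := Subgroup.mem_map.1 h1
  exact ⟨y, hy, hyg⟩

include hs hc hperf in
/-- An element of `U` of order dividing `n` has a lift of order dividing `n`. -/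
theorem exists_lift_pow [Finite Γ]
    (hmult : ∀ (E : Type u) [Group E] [Finite E] (τ : E →* ↥U), Cfsg.IsStemExtension τ → τ.ker = ⊥)
    {u : G} (hu : u ∈ U) {n : ℕ} (hn : u ^ n = 1) : ∃ y : Γ, σ y = u ∧ y ^ n = 1 := by
  obtain ⟨y, hy, hyu⟩ := exists_lift σ hs U hperf hu
  refine ⟨y, hyu, ?_⟩
  apply L_inf_ker σ hs hc U hperf hmult ((L σ U).pow_mem hy n)
  rw [map_pow, hyu, hn]

end

end Cfsg.Agent.Lib.H28.StemLift
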