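import Cfsg.Agent.Lib.H28.StemTools
import Cfsg.Agent.Lib.H28.StemLift

/-!
# More tools for stem extensions (helper28)

Dihedral subgroups, lifting of involutions, and the elimination of primes from the kernel of a
stem extension by transfer.
-/

set_option autoImplicit false

namespace Cfsg.Agent.Lib.H28.StemTools

open scoped commutatorElement Pointwise

universe u

/-- A group generated by `r`, `s` with `r⁴ = s² = (rs)² = 1` has at most eight elements. -/
theorem card_closure_dihedral_le {X : Type*} [Group X] (r s : X) (h4 : r ^ 4 = 1) (h2 : s ^ 2 = 1)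
    (hrs : (r * s) ^ 2 = 1) : Nat.card (Subgroup.closure ({r, s} : Set X)) ≤ 8 := by
  have hs_inv : s⁻¹ = s := by
    rw [inv_eq_iff_mul_eq_one, ← pow_two, h2]
  have hconj : s * r * s⁻¹ = r⁻¹ := by
    rw [hs_inv]
    have h1 : r * s * (r * s) = 1 := by rw [← pow_two, hrs]
    have h3 : s * r * s = r⁻¹ * (r * s * (r * s)) := by group
    rw [h3, h1, mul_one]
  have hnorm : Subgroup.zpowers s ≤ Subgroup.normalizer (Subgroup.zpowers r : Set X) := by
    rw [Subgroup.zpowers_le]
    rw [Subgroup.mem_normalizer_iff]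
    have key : ∀ h : X, h ∈ Subgroup.zpowers r → s * h * s⁻¹ ∈ Subgroup.zpowers r := by
      intro h hh
      obtain ⟨k, rfl⟩ := Subgroup.mem_zpowers_iff.1 hh
      have : s * r ^ k * s⁻¹ = (s * r * s⁻¹) ^ k := by
        rw [conj_zpow]
      rw [this, hconj]
      exact Subgroup.zpow_mem _ (Subgroup.inv_mem _ (Subgroup.mem_zpowers r)) k
    intro h
    constructor
    · exact key h
    · intro hh
      have h5 := key _ hh
      rw [hs_inv] at h5
      have e : s * (s * h * s) * s = h := by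
        have hss : s * s = 1 := by rw [← pow_two, h2]
        calc s * (s * h * s) * s = (s * s) * h * (s * s) := by group
          _ = h := by rw [hss, one_mul, mul_one]
      rw [hs_inv] at hh
      rw [← e]
      exact h5
  have hcl : Subgroup.closure ({r, s} : Set X) = Subgroup.zpowers s ⊔ Subgroup.zpowers r := by
    rw [Subgroup.zpowers_eq_closure, Subgroup.zpowers_eq_closure, ← Subgroup.closure_union]
    have hset : ({r, s} : Set X) = {s} ∪ {r} := by
      ext x
      simp only [Set.mem_insert_iff, Set.mem_singleton_iff, Set.mem_union]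
      exact or_comm
    rw [hset]
  have hset := Subgroup.coe_mul_of_left_le_normalizer_right (Subgroup.zpowers s) (Subgroup.zpowers r) hnorm
  have hr : Nat.card (Subgroup.zpowers r) ≤ 4 := by
    rw [Nat.card_zpowers]
    exact Nat.le_of_dvd (by norm_num) (orderOf_dvd_of_pow_eq_one h4)
  have hs : Nat.card (Subgroup.zpowers s) ≤ 2 := by
    rw [Nat.card_zpowers]
    exact Nat.le_of_dvd (by norm_num) (orderOf_dvd_of_pow_eq_one h2)
  have hfin_r : Finite (Subgroup.zpowers r) := Nat.finite_of_card_ne_zero (by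
    rw [Nat.card_zpowers]
    exact (orderOf_pos_iff.2 (isOfFinOrder_iff_pow_eq_one.2 ⟨4, by norm_num, h4⟩)).ne')
  have hfin_s : Finite (Subgroup.zpowers s) := Nat.finite_of_card_ne_zero (by
    rw [Nat.card_zpowers]
    exact (orderOf_pos_iff.2 (isOfFinOrder_iff_pow_eq_one.2 ⟨2, by norm_num, h2⟩)).ne')
  let f : ↥(Subgroup.zpowers s) × ↥(Subgroup.zpowers r) → ↥(Subgroup.zpowers s ⊔ Subgroup.zpowers r) :=
    fun t => ⟨t.1.1 * t.2.1, Subgroup.mul_mem _ (Subgroup.mem_sup_left t.1.2) (Subgroup.mem_sup_right t.2.2)⟩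
  have hf : Function.Surjective f := by
    rintro ⟨x, hx⟩
    have hx' : x ∈ ((Subgroup.zpowers s ⊔ Subgroup.zpowers r : Subgroup X) : Set X) := hx
    rw [hset] at hx'
    obtain ⟨a, ha, b, hb, rfl⟩ := Set.mem_mul.1 hx'
    exact ⟨(⟨a, ha⟩, ⟨b, hb⟩), rfl⟩
  have hle := Nat.card_le_card_of_surjective f hf
  rw [Nat.card_prod] at hle
  rw [hcl]
  calc Nat.card ↥(Subgroup.zpowers s ⊔ Subgroup.zpowers r)
      ≤ Nat.card ↥(Subgroup.zpowers s) * Nat.card ↥(Subgroup.zpowers r) := hle
    _ ≤ 2 * 4 := Nat.mul_le_mul hs hr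
    _ = 8 := by norm_num

/-- If a dihedral subgroup of order eight and odd index lifts with the same relations, then no nontrivial
central involution of the kernel is a product of commutators. -/
theorem not_mem_commutator_of_dihedral {X Q : Type u} [Group X] [Group Q] [Finite X] (π : X →* Q)
    (hc : π.ker ≤ Subgroup.center X) (r s : X) (h4 : r ^ 4 = 1) (h2 : s ^ 2 = 1)
    (hrs : (r * s) ^ 2 = 1)
    (h8 : 8 ≤ Nat.card (Subgroup.closure ({π r, π s} : Set Q)))
    (hodd : Odd ((Subgroup.closure ({π r, π s} : Set Q)).comap π).index)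
    {z : X} (hz : z ∈ π.ker) (hz2 : z ^ 2 = 1) (hz1 : z ≠ 1) : z ∉ commutator X := by
  intro hzc
  set D1 : Subgroup X := Subgroup.closure ({r, s} : Set X) with hD1
  set Dg : Subgroup Q := Subgroup.closure ({π r, π s} : Set Q) with hDg
  have hmap : D1.map π = Dg := by
    rw [hD1, MonoidHom.map_closure, hDg]
    congr 1
    ext x
    simp only [Set.image_insert_eq, Set.image_singleton]
  have hD1le : Nat.card D1 ≤ 8 := card_closure_dihedral_le r s h4 h2 hrs
  -- `π` is injective on `D1`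
  have hinj : Function.Injective (π.comp D1.subtype) := by
    have hsurj : Function.Surjective ((π.comp D1.subtype).rangeRestrict) :=
      MonoidHom.rangeRestrict_surjective _
    have hrange : (π.comp D1.subtype).range = Dg := by
      rw [MonoidHom.range_eq_map, ← Subgroup.map_map, ← MonoidHom.range_eq_map, Subgroup.range_subtype, hmap]
    have hcard : Nat.card (π.comp D1.subtype).range ≥ Nat.card D1 := by
      rw [hrange]
      exact le_trans hD1le h8
    have hbij := Function.Surjective.bijective_of_nat_card_le hsurj hcard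
    intro a b hab
    apply hbij.1
    exact Subtype.ext hab
  have hzD1 : z ∉ D1 := by
    intro hz'
    have h1 : (π.comp D1.subtype) ⟨z, hz'⟩ = (π.comp D1.subtype) 1 := by
      rw [map_one]
      exact MonoidHom.mem_ker.1 hz
    have h2' := hinj h1
    exact hz1 (congrArg Subtype.val h2')
  -- transfer into the preimage of `Dg`
  set T : Subgroup X := Dg.comap π with hT
  have hzT : z ∈ T := by
    rw [hT, Subgroup.mem_comap, MonoidHom.mem_ker.1 hz]
    exact Subgroup.one_mem _
  have hcop : Nat.Coprime T.index 2 := by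
    exact Nat.coprime_two_right.2 hodd
  have hzTT : z ∈ ⁅T, T⁆ := mem_commutator_of_central T (hc hz) hzT hzc hz2 hcop
  -- every element of `T` is an element of `D1` times an element of the kernel
  have hdec : ∀ x ∈ T, ∃ d ∈ D1, ∃ k ∈ π.ker, x = d * k := by
    intro x hx
    have hx' : π x ∈ D1.map π := by rw [hmap]; exact hx
    obtain ⟨d, hd, hdx⟩ := Subgroup.mem_map.1 hx'
    refine ⟨d, hd, d⁻¹ * x, ?_, by group⟩
    rw [MonoidHom.mem_ker, map_mul, map_inv, hdx, inv_mul_cancel]
  have hle : ⁅T, T⁆ ≤ D1 := by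
    rw [Subgroup.commutator_le]
    intro x1 h1 x2 h2'
    obtain ⟨d1, hd1, k1, hk1, rfl⟩ := hdec x1 h1
    obtain ⟨d2, hd2, k2, hk2, rfl⟩ := hdec x2 h2'
    rw [Cfsg.Agent.Lib.H28.StemLift.comm_central_mul π hc hk1 hk2]
    exact Subgroup.commutator_mem_commutator hd1 hd2 |> fun h => (Cfsg.Agent.Lib.H28.StemLift.comm_le_self D1) h
  exact hzD1 (hle hzTT)

/-- Lifts of an involution which is conjugate into a perfect subgroup with trivial multiplier are
involutions, when the kernel has exponent two. -/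
theorem sq_eq_one_of_conj {G : Type u} [Group G] {Γ : Type u} [Group Γ] [Finite Γ] (σ : Γ →* G)
    (hs : Function.Surjective σ) (hc : σ.ker ≤ Subgroup.center Γ) (hk2 : ∀ k ∈ σ.ker, k ^ 2 = 1)
    (W : Subgroup G) (hperf : ⁅W, W⁆ = W)
    (hmult : ∀ (E : Type u) [Group E] [Finite E] (τ : E →* ↥W), Cfsg.IsStemExtension τ → τ.ker = ⊥)
    {t g : G} (ht : t ^ 2 = 1) (hg : g * t * g⁻¹ ∈ W) {γ : Γ} (hγ : σ γ = t) : γ ^ 2 = 1 := by
  have ht' : (g * t * g⁻¹) ^ 2 = 1 := by
    rw [conj_pow, ht, mul_one, mul_inv_cancel]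
  obtain ⟨y, hy, hy2⟩ := Cfsg.Agent.Lib.H28.StemLift.exists_lift_pow σ hs hc W hperf hmult hg ht'
  obtain ⟨c, hcg⟩ := hs g
  set γ' := c⁻¹ * y * c with hγ'
  have h1 : σ γ' = t := by
    rw [hγ', map_mul, map_mul, map_inv, hy, hcg]
    group
  have h2 : γ' ^ 2 = 1 := by
    rw [hγ', pow_two]
    calc c⁻¹ * y * c * (c⁻¹ * y * c) = c⁻¹ * (y * y) * c := by group
      _ = 1 := by rw [← pow_two, hy2]; group
  have hk : γ'⁻¹ * γ ∈ σ.ker := by
    rw [MonoidHom.mem_ker, map_mul, map_inv, h1, hγ, inv_mul_cancel]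
  have hcomm := Subgroup.mem_center_iff.1 (hc hk) γ'
  have e : γ = γ' * (γ'⁻¹ * γ) := by group
  rw [e, pow_two]
  calc γ' * (γ'⁻¹ * γ) * (γ' * (γ'⁻¹ * γ)) = γ' * ((γ'⁻¹ * γ) * γ') * (γ'⁻¹ * γ) := by group
    _ = γ' * (γ' * (γ'⁻¹ * γ)) * (γ'⁻¹ * γ) := by rw [hcomm]
    _ = (γ' * γ') * ((γ'⁻¹ * γ) * (γ'⁻¹ * γ)) := by group
    _ = 1 := by rw [← pow_two, ← pow_two, h2, hk2 _ hk, one_mul]

/-- Transfer to the kernel itself: an element of the kernel whose order is prime to the order of the
quotient is trivial. -/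
theorem eq_one_of_coprime_card {G : Type*} [Group G] {Γ : Type*} [Group Γ] [Finite Γ] (σ : Γ →* G)
    (hσ : Cfsg.IsStemExtension σ) {x : Γ} (hx : x ∈ σ.ker) {n : ℕ} (hn : x ^ n = 1)
    (hcop : Nat.Coprime (Nat.card G) n) : x = 1 := by
  obtain ⟨hs, hc, hd⟩ := hσ
  have hidx : σ.ker.index = Nat.card G := by
    rw [Subgroup.index_ker, MonoidHom.range_eq_top.2 hs, Subgroup.card_top]
  have h1 := mem_commutator_of_central σ.ker (hc hx) hx (hd hx) hn (by rw [hidx]; exact hcop)
  have h2 : ⁅σ.ker, σ.ker⁆ = ⊥ := by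
    rw [Subgroup.commutator_eq_bot_iff_le_centralizer]
    intro a ha
    rw [Subgroup.mem_centralizer_iff]
    intro b _
    exact (Subgroup.mem_center_iff.1 (hc ha) b)
  rw [h2, Subgroup.mem_bot] at h1
  exact h1

/-- Transfer to the preimage of a perfect subgroup with trivial multiplier. -/
theorem eq_one_of_subgroup_trivial {G : Type u} [Group G] {Γ : Type u} [Group Γ] [Finite Γ] (σ : Γ →* G)
    (hσ : Cfsg.IsStemExtension σ) (W : Subgroup G) (hperf : ⁅W, W⁆ = W)
    (hmult : ∀ (E : Type u) [Group E] [Finite E] (τ : E →* ↥W), Cfsg.IsStemExtension τ → τ.ker = ⊥)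
    {x : Γ} (hx : x ∈ σ.ker) {n : ℕ} (hn : x ^ n = 1) (hcop : Nat.Coprime W.index n) : x = 1 := by
  obtain ⟨hs, hc, hd⟩ := hσ
  have hidx : (W.comap σ).index = W.index := Subgroup.index_comap_of_surjective W hs
  have hxW : x ∈ W.comap σ := by
    rw [Subgroup.mem_comap, MonoidHom.mem_ker.1 hx]
    exact Subgroup.one_mem _
  have h1 := mem_commutator_of_central (W.comap σ) (hc hx) hxW (hd hx) hn (by rw [hidx]; exact hcop)
  exact Cfsg.Agent.Lib.H28.StemLift.L_inf_ker σ hs hc W hperf hmult h1 (MonoidHom.mem_ker.1 hx)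

/-- Transfer to the preimage of a cyclic subgroup. -/
theorem eq_one_of_cyclic {G : Type*} [Group G] {Γ : Type*} [Group Γ] [Finite Γ] (σ : Γ →* G)
    (hσ : Cfsg.IsStemExtension σ) (c : G) {x : Γ} (hx : x ∈ σ.ker) {n : ℕ} (hn : x ^ n = 1)
    (hcop : Nat.Coprime (Subgroup.zpowers c).index n) : x = 1 := by
  obtain ⟨hs, hc, hd⟩ := hσ
  set H : Subgroup Γ := (Subgroup.zpowers c).comap σ with hH
  have hidx : H.index = (Subgroup.zpowers c).index := Subgroup.index_comap_of_surjective _ hs
  have hxH : x ∈ H := by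
    rw [hH, Subgroup.mem_comap, MonoidHom.mem_ker.1 hx]
    exact Subgroup.one_mem _
  have h1 := mem_commutator_of_central H (hc hx) hxH (hd hx) hn (by rw [hidx]; exact hcop)
  let f : ↥H →* ↥(Subgroup.zpowers c) := (σ.comp H.subtype).codRestrict (Subgroup.zpowers c) (fun y => y.2)
  have hf : f.ker ≤ Subgroup.center ↥H := by
    intro y hy
    have hy1 : σ y.1 = 1 := by
      have := MonoidHom.mem_ker.1 hy
      exact congrArg Subtype.val this
    rw [Subgroup.mem_center_iff]
    intro w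
    apply Subtype.ext
    exact Subgroup.mem_center_iff.1 (hc (MonoidHom.mem_ker.2 hy1)) w.1
  have hab : IsMulCommutative ↥H := MonoidHom.isMulCommutative_of_isCyclic_of_ker_le_center f hf
  have hcomm : ∀ a b : ↥H, a * b = b * a := fun a b => hab.is_comm.comm a b
  have h2 : ⁅H, H⁆ = ⊥ := by
    rw [Subgroup.commutator_eq_bot_iff_le_centralizer]
    intro a ha
    rw [Subgroup.mem_centralizer_iff]
    intro b hb
    exact congrArg Subtype.val (hcomm ⟨b, hb⟩ ⟨a, ha⟩)
  rw [h2, Subgroup.mem_bot] at h1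
  exact h1

end Cfsg.Agent.Lib.H28.StemTools
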