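import Mathlib
import Cfsg.Prelude.Def_OddOrderLocal
import Cfsg.Prelude.Def_CaseTheorems
import Cfsg.Prelude.Def_PLocal
import Cfsg.Agent.Lib.H19.R2Defs
import Cfsg.Agent.Lib.H16.ClassTwo

/-!
# S3888 piece C1E (helper28): the subgroup `E = N⟨x⟩` in Case 1 of Blackburn's theorem

Blueprint: `tools/blueprints/S3888.md`, signature `tools/blueprints/S3888_sigs.lean` (`c1_E`).
-/

set_option autoImplicit false

namespace Cfsg.Agent.Lib.H28.R2

open Cfsg Cfsg.Agent.Lib.H19.R2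
open scoped commutatorElement

universe u

variable {p : ℕ} [Fact p.Prime] {G : Type u} [Group G] [Finite G]

omit [Finite G] in
theorem card_mul_relIndex_of_le {H K : Subgroup G} (h : H ≤ K) :
    Nat.card H * H.relIndex K = Nat.card K := by
  rw [← Subgroup.relIndex_bot_left, ← Subgroup.relIndex_bot_left]
  exact Subgroup.relIndex_mul_relIndex _ _ _ bot_le h

omit [Finite G] in
/-- `|N⟨x⟩| = |N| p` for `x ∉ N` with `x ^ p = 1`, `N` normal. -/
theorem card_sup_zpowers_of_pow_eq_one (N : Subgroup G) [N.Normal] {x : G} (hx : x ^ p = 1)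
    (hxN : x ∉ N) : Nat.card ↥(N ⊔ Subgroup.zpowers x) = Nat.card N * p := by
  have hp : p.Prime := Fact.out
  have h1 := card_mul_relIndex_of_le (le_sup_left : N ≤ N ⊔ Subgroup.zpowers x)
  rw [Subgroup.relIndex_sup_left] at h1
  have h2 : N.relIndex (Subgroup.zpowers x) ∣ p := by
    have := Subgroup.relIndex_dvd_card N (Subgroup.zpowers x)
    rwa [Nat.card_zpowers, orderOf_eq_prime hx (by rintro rfl; exact hxN N.one_mem)] at this
  have h3 : N.relIndex (Subgroup.zpowers x) ≠ 1 := by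
    rw [Ne, Subgroup.relIndex_eq_one, Subgroup.zpowers_le]
    exact hxN
  rcases (Nat.dvd_prime hp).1 h2 with h | h
  · exact absurd h h3
  · rw [h] at h1; exact h1.symm

/-- fixed points of a `p`-element acting on a subgroup: `|K| ≡ |C_K(x)| mod p`. -/
theorem card_modEq_card_inf_centralizer (K : Subgroup G) {x : G} (hx : x ^ p = 1)
    (hK : ∀ a ∈ K, x⁻¹ * a * x ∈ K) :
    Nat.card K ≡ Nat.card ↥(K ⊓ Subgroup.centralizer ({x} : Set G)) [MOD p] := by
  classical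
  have : Fintype K := Fintype.ofFinite K
  let f : Function.End K := fun a => ⟨x⁻¹ * a * x, hK a a.2⟩
  have hf : ∀ (k : ℕ) (a : K), (((f ^ k) a : K) : G) = (x ^ k)⁻¹ * a * x ^ k := by
    intro k
    induction k with
    | zero => intro a; simp only [pow_zero, inv_one, one_mul, mul_one]; rfl
    | succ k ih =>
      intro a
      rw [pow_succ]
      show (((f ^ k) (f a) : K) : G) = _
      rw [ih]
      show (x ^ k)⁻¹ * (x⁻¹ * a * x) * x ^ k = _
      rw [pow_succ]; group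
  have hfp : f ^ p ^ 1 = 1 := by
    funext a
    apply Subtype.ext
    rw [pow_one, hf, hx]
    simp only [inv_one, one_mul, mul_one]; rfl
  have h1 := Equiv.Perm.card_fixedPoints_modEq (f := f) (p := p) (n := 1) hfp
  rw [← Nat.card_eq_fintype_card, ← Nat.card_eq_fintype_card] at h1
  have h4 : Nat.card ↥(Function.fixedPoints (f : ↥K → ↥K)) =
      Nat.card ↥(K ⊓ Subgroup.centralizer ({x} : Set G)) := by
    refine Nat.card_congr ⟨fun a => ⟨a.1.1, ⟨a.1.2, ?_⟩⟩, fun b => ⟨⟨b.1, b.2.1⟩, ?_⟩, ?_, ?_⟩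
    · show ((a.1 : ↥K) : G) ∈ Subgroup.centralizer ({x} : Set G)
      rw [Subgroup.mem_centralizer_singleton_iff]
      have h2 : f a.1 = a.1 := a.2
      have h3 : x⁻¹ * (a.1 : G) * x = a.1 := congrArg Subtype.val h2
      calc ((a.1 : ↥K) : G) * x = x * (x⁻¹ * (a.1 : G) * x) := by group
        _ = x * (a.1 : G) := by rw [h3]
    · show f ⟨b.1, b.2.1⟩ = ⟨b.1, b.2.1⟩
      have h2 : (b : G) ∈ Subgroup.centralizer ({x} : Set G) := b.2.2
      rw [Subgroup.mem_centralizer_singleton_iff] at h2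
      apply Subtype.ext
      show x⁻¹ * (b : G) * x = b
      rw [mul_assoc, h2, inv_mul_cancel_left]
    · intro a; rfl
    · intro b; rfl
  rw [h4] at h1
  exact h1

/-- the map `a ↦ a⁻¹ * x⁻¹ * a * x` on an abelian subgroup normalized by `x` -/
def dHom (A : Subgroup G) (hA : ∀ a ∈ A, ∀ b ∈ A, a * b = b * a) (x : G)
    (hxA : ∀ a ∈ A, x⁻¹ * a * x ∈ A) : ↥A →* ↥A where
  toFun a := ⟨(a : G)⁻¹ * x⁻¹ * a * x, by
    have h2 : (a : G)⁻¹ * x⁻¹ * a * x = (a : G)⁻¹ * (x⁻¹ * a * x) := by group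
    rw [h2]; exact A.mul_mem (A.inv_mem a.2) (hxA a a.2)⟩
  map_one' := by apply Subtype.ext; simp
  map_mul' a b := by
    apply Subtype.ext
    show ((a : G) * b)⁻¹ * x⁻¹ * (a * b) * x =
      ((a : G)⁻¹ * x⁻¹ * a * x) * ((b : G)⁻¹ * x⁻¹ * b * x)
    have h1 := hA _ (A.inv_mem b.2) _ (A.mul_mem (A.inv_mem a.2) (hxA a a.2))
    calc ((a : G) * b)⁻¹ * x⁻¹ * (a * b) * x
        = (b : G)⁻¹ * ((a : G)⁻¹ * (x⁻¹ * a * x)) * (x⁻¹ * b * x) := by group
      _ = ((a : G)⁻¹ * (x⁻¹ * a * x)) * (b : G)⁻¹ * (x⁻¹ * b * x) := by rw [h1]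
      _ = _ := by group

omit [Finite G] in
theorem dHom_coe (A : Subgroup G) (hA : ∀ a ∈ A, ∀ b ∈ A, a * b = b * a) (x : G)
    (hxA : ∀ a ∈ A, x⁻¹ * a * x ∈ A) (a : A) :
    ((dHom A hA x hxA a : A) : G) = (a : G)⁻¹ * x⁻¹ * a * x := rfl

omit [Finite G] in
theorem inv_mul_conj_eq_one_iff {a x : G} : a⁻¹ * x⁻¹ * a * x = 1 ↔ a * x = x * a := by
  constructor
  · intro h
    calc a * x = x * a * (a⁻¹ * x⁻¹ * a * x) := by group
      _ = x * a := by rw [h, mul_one]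
  · intro h
    calc a⁻¹ * x⁻¹ * a * x = a⁻¹ * x⁻¹ * (a * x) := by group
      _ = 1 := by rw [h]; group

omit [Finite G] in
theorem mem_dHom_ker (A : Subgroup G) (hA : ∀ a ∈ A, ∀ b ∈ A, a * b = b * a) (x : G)
    (hxA : ∀ a ∈ A, x⁻¹ * a * x ∈ A) (a : A) :
    a ∈ (dHom A hA x hxA).ker ↔ (a : G) * x = x * a := by
  rw [MonoidHom.mem_ker, ← inv_mul_conj_eq_one_iff, Subtype.ext_iff, dHom_coe]
  rfl

omit [Finite G] in
theorem card_dHom_ker (A : Subgroup G) (hA : ∀ a ∈ A, ∀ b ∈ A, a * b = b * a) (x : G)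
    (hxA : ∀ a ∈ A, x⁻¹ * a * x ∈ A) :
    Nat.card (dHom A hA x hxA).ker = Nat.card ↥(A ⊓ Subgroup.centralizer ({x} : Set G)) := by
  refine Nat.card_congr ⟨fun a => ⟨a.1.1, ⟨a.1.2, ?_⟩⟩, fun b => ⟨⟨b.1, b.2.1⟩, ?_⟩, ?_, ?_⟩
  · show ((a.1 : ↥A) : G) ∈ Subgroup.centralizer ({x} : Set G)
    rw [Subgroup.mem_centralizer_singleton_iff]
    exact (mem_dHom_ker A hA x hxA a.1).1 a.2
  · rw [mem_dHom_ker]
    have h2 : (b : G) ∈ Subgroup.centralizer ({x} : Set G) := b.2.2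
    rwa [Subgroup.mem_centralizer_singleton_iff] at h2
  · intro a; rfl
  · intro b; rfl

theorem card_ker_mul_card_range {H K : Type*} [Group H] [Group K] (f : H →* K) :
    Nat.card f.ker * Nat.card f.range = Nat.card H := by
  rw [← Subgroup.index_ker, Subgroup.card_mul_index]

omit [Finite G] in
/-- `N⟨g⟩` is abelian when `N` is abelian normal and `g` centralizes `N`. -/
theorem sup_zpowers_comm (N : Subgroup G) [N.Normal] (hN : ∀ a ∈ N, ∀ b ∈ N, a * b = b * a)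
    {g : G} (hg : ∀ a ∈ N, g * a = a * g) :
    ∀ u ∈ N ⊔ Subgroup.zpowers g, ∀ v ∈ N ⊔ Subgroup.zpowers g, u * v = v * u := by
  have hgc : Subgroup.zpowers g ≤ Subgroup.centralizer (N : Set G) := by
    rw [Subgroup.zpowers_le, Subgroup.mem_centralizer_iff]
    intro a ha; exact (hg a ha).symm
  have hzz : ∀ c ∈ Subgroup.zpowers g, ∀ c' ∈ Subgroup.zpowers g, Commute c c' := by
    intro c hc c' hc'
    obtain ⟨k, rfl⟩ := Subgroup.mem_zpowers_iff.1 hc
    obtain ⟨l, rfl⟩ := Subgroup.mem_zpowers_iff.1 hc'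
    exact (Commute.refl g).zpow_zpow k l
  have hza : ∀ c ∈ Subgroup.zpowers g, ∀ a ∈ N, Commute c a := by
    intro c hc a ha
    exact ((Subgroup.mem_centralizer_iff.1 (hgc hc)) a ha).symm
  intro u hu v hv
  obtain ⟨a, ha, c, hc, rfl⟩ := Subgroup.mem_sup_of_normal_left.1 hu
  obtain ⟨a', ha', c', hc', rfl⟩ := Subgroup.mem_sup_of_normal_left.1 hv
  have h1 : Commute a a' := hN a ha a' ha'
  have h2 : Commute a c' := (hza c' hc' a ha).symm
  have h3 : Commute c a' := hza c hc a' ha'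
  have h4 : Commute c c' := hzz c hc c' hc'
  exact ((h1.mul_right h2).mul_left (h3.mul_right h4)).eq

omit [Finite G] [Fact p.Prime] in
/-- `N⟨g⟩` has exponent `p` when `N` has, `g ^ p = 1` and `g` centralizes `N`. -/
theorem sup_zpowers_pow (N : Subgroup G) [N.Normal] (hN : ∀ a ∈ N, a ^ p = 1)
    {g : G} (hg : ∀ a ∈ N, g * a = a * g) (hgp : g ^ p = 1) :
    ∀ u ∈ N ⊔ Subgroup.zpowers g, u ^ p = 1 := by
  intro u hu
  obtain ⟨a, ha, c, hc, rfl⟩ := Subgroup.mem_sup_of_normal_left.1 hu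
  obtain ⟨k, rfl⟩ := Subgroup.mem_zpowers_iff.1 hc
  have h1 : Commute a (g ^ k) := (Commute.zpow_right (hg a ha).symm k)
  rw [h1.mul_pow, hN a ha, one_mul, ← zpow_natCast, ← zpow_mul, mul_comm, zpow_mul, zpow_natCast,
    hgp, one_zpow]

/-- C1E. -/
theorem c1_E (hp2 : p ≠ 2) {N : Subgroup G} {x : G} (h : C1 p G N x) :
    Nat.card ↥(N ⊔ Subgroup.zpowers x) = p ^ 3 ∧ (∀ e ∈ N ⊔ Subgroup.zpowers x, e ^ p = 1) ∧
    Nat.card ↥(N ⊓ Subgroup.centralizer ({x} : Set G)) = p ∧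
    (∀ a ∈ N, a⁻¹ * x⁻¹ * a * x ∈ N ⊓ Subgroup.centralizer ({x} : Set G)) ∧
    (∀ g : G, g ^ p = 1 → g ∈ Subgroup.centralizer (N : Set G) → g ∈ N) := by
  have hp : p.Prime := Fact.out
  have := h.nd.normal
  have hodd : Odd p := hp.odd_of_ne_two hp2
  have hxN : ∀ a ∈ N, x⁻¹ * a * x ∈ N := fun a ha => by
    have := h.nd.normal.conj_mem a ha x⁻¹
    simpa using this
  -- (5)
  have h5 : ∀ g : G, g ^ p = 1 → g ∈ Subgroup.centralizer (N : Set G) → g ∈ N := by
    intro g hgp hgc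
    have hg : ∀ a ∈ N, g * a = a * g := fun a ha => ((Subgroup.mem_centralizer_iff.1 hgc) a ha).symm
    have hcomm := sup_zpowers_comm N h.nd.comm hg
    have hpow := sup_zpowers_pow N h.nd.exp hg hgp
    have hle : Nat.card ↥(N ⊔ Subgroup.zpowers g) ≤ p ^ 2 := by
      refine h.rk _ ⟨⟨fun u v => Subtype.ext (hcomm u u.2 v v.2)⟩⟩ hpow
    have heq : N = N ⊔ Subgroup.zpowers g :=
      Subgroup.eq_of_le_of_card_ge le_sup_left (by rw [h.nd.card]; exact hle)
    rw [heq]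
    exact (le_sup_right : Subgroup.zpowers g ≤ _) (Subgroup.mem_zpowers g)
  have hxnN : x ∉ N := fun hx => h.hxC (by
    rw [Subgroup.mem_centralizer_iff]; intro a ha; exact h.nd.comm a ha x hx)
  -- (1)
  have h1 : Nat.card ↥(N ⊔ Subgroup.zpowers x) = p ^ 3 := by
    rw [card_sup_zpowers_of_pow_eq_one N h.hx hxnN, h.nd.card]; ring
  -- `|Z| = p`
  have hZle : N ⊓ Subgroup.centralizer ({x} : Set G) ≤ N := inf_le_left
  have hZne : N ⊓ Subgroup.centralizer ({x} : Set G) ≠ N := by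
    intro heq
    apply h.hxC
    rw [Subgroup.mem_centralizer_iff]
    intro a ha
    have : a ∈ N ⊓ Subgroup.centralizer ({x} : Set G) := by rw [heq]; exact ha
    exact Subgroup.mem_centralizer_singleton_iff.1 this.2
  have hZdvd : p ∣ Nat.card ↥(N ⊓ Subgroup.centralizer ({x} : Set G)) := by
    have h2 := card_modEq_card_inf_centralizer N h.hx hxN
    rw [h.nd.card] at h2
    exact (Nat.modEq_zero_iff_dvd).1
      (h2.symm.trans ((Nat.modEq_zero_iff_dvd).2 (dvd_pow_self p two_ne_zero)))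
  have h3 : Nat.card ↥(N ⊓ Subgroup.centralizer ({x} : Set G)) = p := by
    have h2 := Subgroup.card_dvd_of_le hZle
    rw [h.nd.card] at h2
    obtain ⟨k, hk, hk'⟩ := (Nat.dvd_prime_pow hp).1 h2
    interval_cases k
    · rw [hk', pow_zero] at hZdvd
      exact absurd (Nat.dvd_one.1 hZdvd) hp.one_lt.ne'
    · rw [hk', pow_one]
    · exact absurd (Subgroup.eq_of_le_of_card_ge hZle (by rw [h.nd.card, hk'])) hZne
  -- (4)
  have h4 : ∀ a ∈ N, a⁻¹ * x⁻¹ * a * x ∈ N ⊓ Subgroup.centralizer ({x} : Set G) := by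
    let δ := dHom N h.nd.comm x hxN
    have hker : Nat.card δ.ker = p := by rw [card_dHom_ker, h3]
    have hrange : Nat.card δ.range = p := by
      have h6 := card_ker_mul_card_range δ
      rw [hker, h.nd.card, sq] at h6
      exact Nat.eq_of_mul_eq_mul_left hp.pos h6
    have hD : Nat.card ↥(δ.range.map N.subtype) = p := by
      rw [Subgroup.card_map_of_injective N.subtype_injective, hrange]
    have hDx : ∀ b ∈ δ.range.map N.subtype, x⁻¹ * b * x ∈ δ.range.map N.subtype := by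
      rintro _ ⟨_, ⟨a, rfl⟩, rfl⟩
      refine ⟨δ ⟨x⁻¹ * a * x, hxN a a.2⟩, ⟨_, rfl⟩, ?_⟩
      show (x⁻¹ * (a : G) * x)⁻¹ * x⁻¹ * (x⁻¹ * a * x) * x = x⁻¹ * ((a : G)⁻¹ * x⁻¹ * a * x) * x
      group
    have h7 := card_modEq_card_inf_centralizer _ h.hx hDx
    rw [hD] at h7
    have h8 : p ∣ Nat.card ↥(δ.range.map N.subtype ⊓ Subgroup.centralizer ({x} : Set G)) :=
      (Nat.modEq_zero_iff_dvd).1 (h7.symm.trans ((Nat.modEq_zero_iff_dvd).2 dvd_rfl))
    have h9 : δ.range.map N.subtype ⊓ Subgroup.centralizer ({x} : Set G) = δ.range.map N.subtype :=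
      Subgroup.eq_of_le_of_card_ge inf_le_left (by
        rw [hD]; exact Nat.le_of_dvd Nat.card_pos h8)
    intro a ha
    refine ⟨?_, ?_⟩
    · have h2 : a⁻¹ * x⁻¹ * a * x = a⁻¹ * (x⁻¹ * a * x) := by group
      rw [h2]; exact N.mul_mem (N.inv_mem ha) (hxN a ha)
    · have : a⁻¹ * x⁻¹ * a * x ∈ δ.range.map N.subtype := ⟨δ ⟨a, ha⟩, ⟨_, rfl⟩, rfl⟩
      rw [← h9] at this
      exact this.2
  refine ⟨h1, ?_, h3, h4, h5⟩
  -- (2)
  intro e he
  obtain ⟨a, ha, c, hc, rfl⟩ := Subgroup.mem_sup_of_normal_left.1 he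
  obtain ⟨k, rfl⟩ := (mem_powers_iff_mem_zpowers.2 hc)
  have hz := h4 a ha
  set z := (a⁻¹ * x⁻¹ * a * x)⁻¹ with hzdef
  have hzx : Commute z x := by
    have := Subgroup.mem_centralizer_singleton_iff.1 hz.2
    exact (Commute.inv_left this)
  have hza : Commute z a := by
    have := h.nd.comm _ hz.1 a ha
    exact (Commute.inv_left this)
  have hxa : x * a = a * x * z := by rw [hzdef]; group
  have h6 := Cfsg.Agent.Lib.H16.pow_mul_comm_of_central hxa hzx k
  exact Cfsg.Agent.Lib.H16.mul_pow_eq_one_of_central h6 (hza.pow_left k)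
    ((hzx.pow_left k).pow_right k) hodd (h.nd.exp a ha)
    (by rw [← pow_mul, mul_comm, pow_mul, h.hx, one_pow])

end Cfsg.Agent.Lib.H28.R2
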