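import Mathlib
import Cfsg.Prelude.Def_OddOrderLocal
import Cfsg.Prelude.Def_CaseTheorems
import Cfsg.Prelude.Def_PLocal
import Cfsg.Agent.Lib.H19.R2Defs
import Cfsg.Agent.Lib.H28.R2C1E

/-!
# S3888 piece C1B0 (helper28): structure `B` of Case 1 of Blackburn's theorem, basic facts

Blueprint: `tools/blueprints/S3888.md`, signature `tools/blueprints/S3888_sigs.lean` (`c1_B0`).
-/

set_option autoImplicit false

namespace Cfsg.Agent.Lib.H28.R2

open Cfsg Cfsg.Agent.Lib.H19.R2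
open scoped commutatorElement

universe u

variable {p : ℕ} [Fact p.Prime] {G : Type u} [Group G] [Finite G]

theorem card_lt_card_of_lt {H K : Subgroup G} (h : H < K) : Nat.card H < Nat.card K := by
  by_contra hc
  exact h.ne (Subgroup.eq_of_le_of_card_ge h.le (not_lt.1 hc))

omit [Finite G] in
theorem exists_card_eq_pow_of_card {n : ℕ} (hcard : Nat.card G = p ^ n) (H : Subgroup G) :
    ∃ k ≤ n, Nat.card H = p ^ k :=
  (Nat.dvd_prime_pow Fact.out).1 (hcard ▸ Subgroup.card_subgroup_dvd_card H)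

omit [Finite G] [Fact p.Prime] in
theorem conj_pow_eq (x z : G) (k : ℕ) : x⁻¹ * z ^ k * x = (x⁻¹ * z * x) ^ k := by
  have := conj_pow (a := x⁻¹) (b := z) (i := k)
  simp only [inv_inv] at this
  exact this.symm

omit [Finite G] [Fact p.Prime] in
theorem conj_zpow_eq (x z : G) (k : ℤ) : x⁻¹ * z ^ k * x = (x⁻¹ * z * x) ^ k := by
  have := conj_zpow (a := x⁻¹) (b := z) (i := k)
  simp only [inv_inv] at this
  exact this.symm

/-- C1B0. -/
theorem c1_B0 (hp2 : p ≠ 2) {n : ℕ} (hcard : Nat.card G = p ^ n) {N : Subgroup G} {x : G}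
    (h : C1 p G N x) {y z : G} (hy : y ∈ N) (hyx : y * x ≠ x * y) (hz : ∀ a ∈ N, z * a = a * z)
    (hzx : x⁻¹ * z * x = y * z) (hgen : N ⊔ Subgroup.zpowers x ⊔ Subgroup.zpowers z = ⊤) :
    4 ≤ n ∧ orderOf z = p ^ (n - 2) ∧ z ^ p ^ (n - 3) ∈ N ∧ x * z ^ p = z ^ p * x ∧
    (∃ k : ℕ, ¬ p ∣ k ∧ x⁻¹ * y * x = y * z ^ (k * p ^ (n - 3))) ∧
    Subgroup.closure ({x, y, z} : Set G) = ⊤ ∧
    Nat.card ↥(Subgroup.centralizer ({x} : Set G)) = p ^ (n - 2) := by
  have hp : p.Prime := Fact.out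
  have hNn := h.nd.normal
  obtain ⟨hE1, hE2, hZ, hd, h5⟩ := c1_E hp2 h
  have hGp : IsPGroup p G := IsPGroup.of_card hcard
  have hxN : ∀ a ∈ N, x⁻¹ * a * x ∈ N := fun a ha => by
    have := h.nd.normal.conj_mem a ha x⁻¹
    simpa using this
  -- S1
  have hyZ : y ∉ N ⊓ Subgroup.centralizer ({x} : Set G) := fun hc =>
    hyx (Subgroup.mem_centralizer_singleton_iff.1 hc.2)
  -- S2
  obtain ⟨A, hAdef⟩ : ∃ A : Subgroup G, A = N ⊔ Subgroup.zpowers z := ⟨_, rfl⟩
  have hAcomm : ∀ u ∈ A, ∀ v ∈ A, u * v = v * u := by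
    rw [hAdef]; exact sup_zpowers_comm N h.nd.comm hz
  have hzA : z ∈ A := by
    rw [hAdef]; exact (le_sup_right : Subgroup.zpowers z ≤ _) (Subgroup.mem_zpowers z)
  have hzpA : Subgroup.zpowers z ≤ A := by rw [hAdef]; exact le_sup_right
  have hNA : N ≤ A := by rw [hAdef]; exact le_sup_left
  -- S4
  have hxA : x ∉ A := fun hc => hyx (hAcomm y (hNA hy) x hc)
  -- S3 : A normal
  have hAx : ∀ a ∈ A, x⁻¹ * a * x ∈ A := by
    intro a ha
    rw [hAdef] at ha
    obtain ⟨b, hb, c, hc, rfl⟩ := Subgroup.mem_sup_of_normal_left.1 ha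
    obtain ⟨k, rfl⟩ := Subgroup.mem_zpowers_iff.1 hc
    have h1 : x⁻¹ * (b * z ^ k) * x = (x⁻¹ * b * x) * (x⁻¹ * z ^ k * x) := by group
    rw [h1, conj_zpow_eq, hzx]
    exact Subgroup.mul_mem _ (hNA (hxN b hb))
      (Subgroup.zpow_mem _ (Subgroup.mul_mem _ (hNA hy) hzA) k)
  have hAn : A.Normal := by
    rw [← Subgroup.normalizer_eq_top_iff, eq_top_iff, ← hgen]
    refine sup_le (sup_le (hNA.trans Subgroup.le_normalizer) ?_)
      (hzpA.trans Subgroup.le_normalizer)
    rw [Subgroup.zpowers_le]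
    have h1 : x⁻¹ ∈ Subgroup.normalizer (A : Set G) := by
      apply Subgroup.mem_normalizer_fintype
      intro a ha
      have := hAx a ha
      rwa [inv_inv]
    simpa using Subgroup.inv_mem _ h1
  -- S5, S6
  have hAtop : A ⊔ Subgroup.zpowers x = ⊤ := by
    rw [hAdef, sup_right_comm]; exact hgen
  have hAcard : Nat.card ↥A * p = p ^ n := by
    rw [← card_sup_zpowers_of_pow_eq_one A h.hx hxA, hAtop, Subgroup.card_top, hcard]
  -- S7
  have hz1 : z ≠ 1 := by
    rintro rfl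
    apply hyx
    have : y = 1 := by simpa using hzx.symm
    rw [this]; simp
  -- S8
  obtain ⟨e, he⟩ := (IsPGroup.iff_orderOf.1 hGp) z
  have he0 : e ≠ 0 := by
    rintro rfl
    rw [pow_zero, orderOf_eq_one_iff] at he
    exact hz1 he
  obtain ⟨e', rfl⟩ : ∃ e', e = e' + 1 := ⟨e - 1, by omega⟩
  -- S9
  have hz1p : (z ^ p ^ e') ^ p = 1 := by
    rw [← pow_mul, ← pow_succ, ← he, pow_orderOf_eq_one]
  have hz1ne : z ^ p ^ e' ≠ 1 := by
    intro hc
    have := orderOf_dvd_of_pow_eq_one hc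
    rw [he] at this
    exact absurd (Nat.le_of_dvd (pow_pos hp.pos _) this)
      (not_le.2 (Nat.pow_lt_pow_right hp.one_lt (Nat.lt_succ_self e')))
  have hz1N : z ^ p ^ e' ∈ N := by
    apply h5 _ hz1p
    rw [Subgroup.mem_centralizer_iff]
    intro a ha
    exact ((Commute.pow_left (hz a ha) _).eq).symm
  have hz1o : orderOf (z ^ p ^ e') = p := orderOf_eq_prime hz1p hz1ne
  -- S10
  have hB : N ⊓ Subgroup.zpowers z = Subgroup.zpowers (z ^ p ^ e') := by
    apply le_antisymm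
    · rintro b ⟨hbN, hbz⟩
      obtain ⟨k, rfl⟩ := Subgroup.mem_zpowers_iff.1 hbz
      have h1 : z ^ (k * (p : ℤ)) = 1 := by
        rw [zpow_mul, zpow_natCast]; exact h.nd.exp _ hbN
      have h2 := (orderOf_dvd_iff_zpow_eq_one).2 h1
      rw [he, pow_succ] at h2
      push_cast at h2
      have h3 : ((p : ℤ) ^ e') ∣ k :=
        Int.dvd_of_mul_dvd_mul_right (by exact_mod_cast hp.ne_zero) h2
      obtain ⟨m, rfl⟩ := h3
      rw [Subgroup.mem_zpowers_iff]
      refine ⟨m, ?_⟩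
      rw [zpow_mul]
      congr 1
      exact_mod_cast (zpow_natCast z (p ^ e')).symm
    · rw [Subgroup.zpowers_le]
      exact ⟨hz1N, Subgroup.pow_mem _ (Subgroup.mem_zpowers z) _⟩
  have hBcard : Nat.card ↥(N ⊓ Subgroup.zpowers z) = p := by
    rw [hB, Nat.card_zpowers, hz1o]
  -- S11
  have hn : n = e' + 3 := by
    have h1 := card_mul_relIndex_of_le hNA
    rw [hAdef, Subgroup.relIndex_sup_left, h.nd.card] at h1
    have h2 := card_mul_relIndex_of_le (inf_le_right : N ⊓ Subgroup.zpowers z ≤ Subgroup.zpowers z)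
    rw [Subgroup.inf_relIndex_right, hBcard, Nat.card_zpowers, he, pow_succ'] at h2
    have h3 : N.relIndex (Subgroup.zpowers z) = p ^ e' := Nat.eq_of_mul_eq_mul_left hp.pos h2
    rw [h3, ← hAdef] at h1
    rw [← h1] at hAcard
    have h4 : p ^ (e' + 3) = p ^ n := by rw [← hAcard]; ring
    exact (Nat.pow_right_injective hp.two_le h4).symm
  subst hn
  -- S12
  have he'0 : e' ≠ 0 := by
    rintro rfl
    rw [pow_zero, pow_one] at hz1N
    apply hyZ
    have h1 := hd z hz1N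
    have h2 : z⁻¹ * x⁻¹ * z * x = y := by
      have : z⁻¹ * x⁻¹ * z * x = z⁻¹ * (x⁻¹ * z * x) := by group
      rw [this, hzx, ← hz y hy, inv_mul_cancel_left]
    rwa [h2] at h1
  have e1 : e' + 3 - 2 = e' + 1 := by omega
  have e2 : e' + 3 - 3 = e' := by omega
  rw [e1, e2]
  -- S14
  have hyz : y * z = z * y := (hz y hy).symm
  have hxzp : x * z ^ p = z ^ p * x := by
    have h1 : x⁻¹ * z ^ p * x = z ^ p := by
      rw [conj_pow_eq, hzx, (show Commute y z from hyz).mul_pow, h.nd.exp y hy, one_mul]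
    calc x * z ^ p = x * (x⁻¹ * z ^ p * x) := by rw [h1]
      _ = z ^ p * x := by group
  -- S15
  have hz1x : z ^ p ^ e' * x = x * z ^ p ^ e' := by
    obtain ⟨e'', rfl⟩ : ∃ e'', e' = e'' + 1 := ⟨e' - 1, by omega⟩
    rw [pow_succ', pow_mul]
    exact ((show Commute x (z ^ p) from hxzp).pow_right _).eq.symm
  have hz1Z : z ^ p ^ e' ∈ N ⊓ Subgroup.centralizer ({x} : Set G) :=
    ⟨hz1N, Subgroup.mem_centralizer_singleton_iff.2 hz1x⟩
  have hZeq : Subgroup.zpowers (z ^ p ^ e') = N ⊓ Subgroup.centralizer ({x} : Set G) :=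
    Subgroup.eq_of_le_of_card_ge (Subgroup.zpowers_le.2 hz1Z) (by
      rw [hZ, Nat.card_zpowers, hz1o])
  have hw := hd y hy
  have hw1 : y⁻¹ * x⁻¹ * y * x ≠ 1 := fun hc => hyx (inv_mul_conj_eq_one_iff.1 hc)
  have hk : ∃ k : ℕ, ¬ p ∣ k ∧ x⁻¹ * y * x = y * z ^ (k * p ^ e') := by
    rw [← hZeq] at hw
    obtain ⟨k, hk⟩ := mem_powers_iff_mem_zpowers.2 hw
    replace hk : (z ^ p ^ e') ^ k = y⁻¹ * x⁻¹ * y * x := hk
    refine ⟨k, ?_, ?_⟩
    · rintro ⟨m, rfl⟩
      apply hw1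
      rw [← hk, pow_mul, hz1p, one_pow]
    · rw [mul_comm, pow_mul, hk]; group
  refine ⟨by omega, he, hz1N, hxzp, hk, ?_, ?_⟩
  · -- closure
    obtain ⟨L, hL⟩ : ∃ L : Subgroup G, L = Subgroup.closure ({x, y, z} : Set G) := ⟨_, rfl⟩
    rw [← hL]
    have hxL : x ∈ L := by rw [hL]; exact Subgroup.subset_closure (by simp)
    have hyL : y ∈ L := by rw [hL]; exact Subgroup.subset_closure (by simp)
    have hzL : z ∈ L := by rw [hL]; exact Subgroup.subset_closure (by simp)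
    have hNL : N ≤ L := by
      have h1 : N ⊓ Subgroup.centralizer ({x} : Set G) < L ⊓ N := by
        refine lt_of_le_of_ne ?_ ?_
        · rw [← hZeq, Subgroup.zpowers_le]; exact ⟨L.pow_mem hzL _, hz1N⟩
        · intro hc; apply hyZ; rw [hc]; exact ⟨hyL, hy⟩
      have h2 := card_lt_card_of_lt h1
      rw [hZ] at h2
      have h3 : L ⊓ N = N := by
        have h4 := Subgroup.card_dvd_of_le (inf_le_right : L ⊓ N ≤ N)
        rw [h.nd.card] at h4
        obtain ⟨k, hk, hk'⟩ := (Nat.dvd_prime_pow hp).1 h4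
        interval_cases k
        · rw [hk', pow_zero] at h2; exact absurd h2 (by have := hp.one_lt; omega)
        · rw [hk', pow_one] at h2; exact absurd h2 (lt_irrefl _)
        · exact Subgroup.eq_of_le_of_card_ge inf_le_right (by rw [h.nd.card, hk'])
      rw [← h3]; exact inf_le_left
    rw [eq_top_iff, ← hgen]
    exact sup_le (sup_le hNL (Subgroup.zpowers_le.2 hxL)) (Subgroup.zpowers_le.2 hzL)
  · obtain ⟨C, hC⟩ : ∃ C : Subgroup G, C = Subgroup.centralizer ({x} : Set G) := ⟨_, rfl⟩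
    rw [← hC]
    have hxC : x ∈ C := by rw [hC]; exact Subgroup.mem_centralizer_singleton_iff.2 rfl
    obtain ⟨c, hc, hCc⟩ := exists_card_eq_pow_of_card hcard C
    -- lower
    have hlow : p ^ e' < p ^ c := by
      rw [← hCc]
      have h1 : Subgroup.zpowers (z ^ p) < C := by
        refine lt_of_le_of_ne ?_ ?_
        · rw [Subgroup.zpowers_le, hC]; exact Subgroup.mem_centralizer_singleton_iff.2 hxzp.symm
        · intro hcc; apply hxA; apply hzpA
          have : x ∈ Subgroup.zpowers (z ^ p) := by rw [hcc]; exact hxC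
          exact (Subgroup.zpowers_le.2 (Subgroup.pow_mem _ (Subgroup.mem_zpowers z) p)) this
      have h2 := card_lt_card_of_lt h1
      rwa [Nat.card_zpowers, orderOf_pow_of_dvd hp.ne_zero
        (by rw [he]; exact dvd_pow_self p (by omega)), he, pow_succ,
        Nat.mul_div_cancel _ hp.pos] at h2
    -- upper
    have h1 : C < C ⊔ N := by
      refine lt_of_le_of_ne le_sup_left ?_
      intro hcc
      apply hyZ
      refine ⟨hy, ?_⟩
      rw [← hC, hcc]; exact (le_sup_right : N ≤ C ⊔ N) hy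
    have h2 : C ⊔ N < ⊤ := by
      refine lt_of_le_of_ne le_top ?_
      intro hcc
      have hzm : z ∈ C ⊔ N := by rw [hcc]; trivial
      obtain ⟨c', hc', a, ha, hca⟩ := Subgroup.mem_sup_of_normal_right.1 hzm
      apply hyZ
      have hda := hd a ha
      have : y = a⁻¹ * x⁻¹ * a * x := by
        have hc'x : c' * x = x * c' := by
          rw [hC] at hc'; exact Subgroup.mem_centralizer_singleton_iff.1 hc'
        have h3 : x⁻¹ * z * x = z * (a⁻¹ * x⁻¹ * a * x) := by
          rw [← hca]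
          calc x⁻¹ * (c' * a) * x = x⁻¹ * (c' * x) * (x⁻¹ * a * x) := by group
            _ = x⁻¹ * (x * c') * (x⁻¹ * a * x) := by rw [hc'x]
            _ = c' * a * (a⁻¹ * x⁻¹ * a * x) := by group
        rw [hzx, hyz] at h3
        exact mul_left_cancel h3
      rw [this]; exact hda
    obtain ⟨m, hm, hCm⟩ := exists_card_eq_pow_of_card hcard (C ⊔ N)
    have h3 := card_lt_card_of_lt h1
    have h4 := card_lt_card_of_lt h2
    rw [hCc, hCm] at h3
    rw [hCm, Subgroup.card_top, hcard] at h4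
    have h5' := (Nat.pow_lt_pow_iff_right hp.one_lt).1 h3
    have h6 := (Nat.pow_lt_pow_iff_right hp.one_lt).1 h4
    have h7 := (Nat.pow_lt_pow_iff_right hp.one_lt).1 hlow
    rw [hCc]; congr 1; omega

end Cfsg.Agent.Lib.H28.R2
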