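import Mathlib
import Cfsg.Prelude.Def_Transfer
import Cfsg.Prelude.Def_Characters
import Cfsg.Agent.Lib.H28.CYBURN
import Cfsg.Agent.Lib.H24.CharKer
import Cfsg.Agent.Lib.H20.Cyclic

/-!
# S1950 pieces KER and E2 (helper28)

* `irr_eq_one_of_apply_eq` (KER): in a simple group an irreducible character with `χ z = χ 1` for
  some `z ≠ 1` is the trivial character.
* `exists_conj_eq_pow_ne` (E2): cyclic Sylow `p`-subgroup `P`, no normal `p`-complement, `z ∈ P` of
  order `p`: some `g` conjugates `z` to a power `z ^ j ≠ z` (so `e = |N_G(P) : C_G(P)| ≥ 2`).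
-/

set_option autoImplicit false

namespace Cfsg.Agent.Lib.H28.CY

open Cfsg

/-- **KER**: in a simple group an irreducible character taking the value `χ 1` at some `z ≠ 1` is
trivial. -/
theorem irr_eq_one_of_apply_eq {G : Type*} [Group G] [Finite G] [IsSimpleGroup G] {χ : G → ℂ}
    (hχ : Cfsg.IsIrrCharacter G χ) (z : G) (hz1 : z ≠ 1) (hz : χ z = χ 1) : χ = fun _ => 1 := by
  apply Cfsg.Agent.Lib.H24.irr_eq_trivial_of_charKer_eq_top hχ
  have hn : (Cfsg.Agent.Lib.H24.charKer χ (Cfsg.Agent.Lib.L0.isCharacter_of_irr hχ)).Normal :=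
    inferInstance
  rcases hn.eq_bot_or_eq_top with h | h
  · exfalso
    apply hz1
    have : z ∈ Cfsg.Agent.Lib.H24.charKer χ (Cfsg.Agent.Lib.L0.isCharacter_of_irr hχ) :=
      Cfsg.Agent.Lib.H24.mem_charKer.2 hz
    rw [h] at this
    exact Subgroup.mem_bot.1 this
  · exact h

/-- If a cyclic Sylow `p`-subgroup `Q` contains `s ≠ 1`, then every element of `N(Q)` commuting with
`s` centralizes `Q`. -/
theorem mem_centralizer_of_mem_normalizer_of_commute {C : Type*} [Group C] [Finite C] {p : ℕ}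
    [Fact p.Prime] (Q : Sylow p C) (hQ : IsCyclic ↥(Q : Subgroup C)) (s : C)
    (hsQ : s ∈ (Q : Subgroup C)) (hs1 : s ≠ 1) (c : C)
    (hcN : c ∈ Subgroup.normalizer ((Q : Subgroup C) : Set C)) (hcs : c * s = s * c) :
    c ∈ Subgroup.centralizer ((Q : Subgroup C) : Set C) := by
  have hp : p.Prime := Fact.out
  have hQcomm : ∀ a ∈ (Q : Subgroup C), ∀ b ∈ (Q : Subgroup C), a * b = b * a := by
    intro a ha b hb
    have hc : IsMulCommutative ↥(Q : Subgroup C) := IsCyclic.isMulCommutative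
    have := hc.is_comm.comm (⟨a, ha⟩ : ↥(Q : Subgroup C)) ⟨b, hb⟩
    exact congrArg Subtype.val this
  have hQleC : (Q : Subgroup C) ≤ Subgroup.centralizer ((Q : Subgroup C) : Set C) := by
    intro a ha
    rw [Subgroup.mem_centralizer_iff]
    intro b hb
    exact hQcomm b hb a ha
  obtain ⟨k, l, hkl, ⟨e, he⟩, hl⟩ :=
    Cfsg.Agent.Lib.H20.exists_pPart_pPrimePart c (isOfFinOrder_of_finite c) p hp
  have hu : c ^ k ∈ Subgroup.centralizer ((Q : Subgroup C) : Set C) :=
    hQleC (mem_sylow_of_pElement_mem_normalizer Q he (Subgroup.pow_mem _ hcN k))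
  have hd : c ^ l ∈ Subgroup.centralizer ((Q : Subgroup C) : Set C) := by
    set d := c ^ l with hddef
    have hdN : d ∈ Subgroup.normalizer ((Q : Subgroup C) : Set C) := Subgroup.pow_mem _ hcN l
    have hdx : d * s * d⁻¹ = s := by
      have h1 : Commute c s := hcs
      have h2 : Commute d s := h1.pow_left l
      rw [h2.eq]; group
    let ψ : MulAut ↥(Q : Subgroup C) := (Q : Subgroup C).normalizerMonoidHom ⟨d, hdN⟩
    have hψm : ψ ^ (orderOf d) = 1 := by
      rw [← map_pow]
      have : (⟨d, hdN⟩ : Subgroup.normalizer ((Q : Subgroup C) : Set C)) ^ orderOf d = 1 := by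
        apply Subtype.ext
        simp [pow_orderOf_eq_one]
      rw [this, map_one]
    have hψx : ψ ⟨s, hsQ⟩ = ⟨s, hsQ⟩ := by
      apply Subtype.ext
      simp only [ψ, Subgroup.normalizerMonoidHom_apply_apply_coe]
      exact hdx
    have hx1' : (⟨s, hsQ⟩ : ↥(Q : Subgroup C)) ≠ 1 := by
      intro h
      exact hs1 (congrArg Subtype.val h)
    let _ : CommGroup ↥(Q : Subgroup C) := IsCyclic.commGroup
    have hψ1 : ψ = 1 :=
      Cfsg.Agent.Lib.H20.mulAut_eq_one_of_fixes_of_cyclic_pGroup Q.isPGroup' ψ (orderOf d)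
        hψm hl ⟨s, hsQ⟩ hx1' hψx
    rw [Subgroup.mem_centralizer_iff]
    intro b hb
    have h1 : ψ ⟨b, hb⟩ = ⟨b, hb⟩ := by rw [hψ1]; rfl
    have h2 : d * b * d⁻¹ = b := by
      have := congrArg Subtype.val h1
      simpa only [ψ, Subgroup.normalizerMonoidHom_apply_apply_coe] using this
    calc b * d = (d * b * d⁻¹) * d := by rw [h2]
      _ = d * b := by group
  rw [← hkl]
  exact Subgroup.mul_mem _ hu hd

/-- **E2**: cyclic Sylow `p`-subgroup `P`, `G` without a normal `p`-complement, `z ∈ P` of order `p`: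
some element of `N_G(P)` conjugates `z` to a power `z ^ j ≠ z`. -/
theorem exists_conj_eq_pow_ne {G : Type*} [Group G] [Finite G] {p : ℕ} [Fact p.Prime]
    (P : Sylow p G) (hP : IsCyclic ↥(P : Subgroup G)) (hnc : ¬ Cfsg.HasNormalPComplement p G)
    (z : G) (hzP : z ∈ (P : Subgroup G)) (hz : orderOf z = p) :
    ∃ g ∈ Subgroup.normalizer ((P : Subgroup G) : Set G), ∃ j : ℕ,
      g * z * g⁻¹ = z ^ j ∧ z ^ j ≠ z := by
  have hp : p.Prime := Fact.out
  have hz1 : z ≠ 1 := by
    intro h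
    rw [h, orderOf_one] at hz
    exact hp.one_lt.ne hz
  have hnot : ¬ Subgroup.normalizer ((P : Subgroup G) : Set G) ≤
      Subgroup.centralizer ((P : Subgroup G) : Set G) := by
    intro h
    exact hnc ⟨P, (MonoidHom.transferSylow P h).ker, inferInstance,
      MonoidHom.ker_transferSylow_isComplement' P h⟩
  obtain ⟨g, hgN, hgC⟩ := SetLike.not_le_iff_exists.1 hnot
  have hgz : g * z ≠ z * g := fun h =>
    hgC (mem_centralizer_of_mem_normalizer_of_commute P hP z hzP hz1 g hgN h)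
  have hconjP : g * z * g⁻¹ ∈ (P : Subgroup G) :=
    ((Subgroup.mem_normalizer_iff.1 hgN) z).1 hzP
  -- both `z` and its conjugate lie in the cyclic group `P` and have order `p`
  have hord : orderOf (g * z * g⁻¹) = p := by
    have : g * z * g⁻¹ = MulAut.conj g z := rfl
    rw [this, MulEquiv.orderOf_eq, hz]
  have hmem : (⟨g * z * g⁻¹, hconjP⟩ : ↥(P : Subgroup G)) ∈
      Subgroup.zpowers (⟨z, hzP⟩ : ↥(P : Subgroup G)) := by
    apply Cfsg.Agent.Lib.H20.mem_zpowers_of_orderOf_dvd_of_isCyclic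
    rw [Subgroup.orderOf_mk, Subgroup.orderOf_mk, hord, hz]
  obtain ⟨k, hk⟩ := Subgroup.mem_zpowers_iff.1 hmem
  have hk' : z ^ k = g * z * g⁻¹ := by
    have := congrArg Subtype.val hk
    simpa using this
  -- replace the integer exponent by a natural one
  have hzpow : z ^ k = z ^ (k % (p : ℤ)).toNat := by
    have h1 : z ^ (k % (p : ℤ)) = z ^ k := by
      rw [← hz]; exact zpow_mod_orderOf z k
    have h2 : 0 ≤ k % (p : ℤ) := Int.emod_nonneg _ (by exact_mod_cast hp.ne_zero)
    rw [← h1]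
    conv_lhs => rw [← Int.toNat_of_nonneg h2]
    exact zpow_natCast z _
  refine ⟨g, hgN, (k % (p : ℤ)).toNat, ?_, ?_⟩
  · rw [← hzpow, hk']
  · rw [← hzpow, hk']
    intro h
    apply hgz
    calc g * z = (g * z * g⁻¹) * g := by group
      _ = z * g := by rw [h]

end Cfsg.Agent.Lib.H28.CY
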