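import Mathlib
import Cfsg.Prelude.Def_Characters
import Cfsg.Agent.Lib.L0.CharOps

/-!
# S1950 piece MULT (helper28): restriction multiplicities to a subgroup of order `p`

For a character `χ` of `G`, `z ∈ G` with `z ^ p = 1`, an additive character `ψ` of `ZMod p` and
`k : ZMod p`, the Fourier coefficient `∑_b χ (z ^ b) ψ (-(k b))` is `p` times a natural number (the
multiplicity of the linear character `b ↦ ψ (k b)` in the restriction of `χ` to `⟨z⟩`).
-/

set_option autoImplicit false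

open scoped ComplexConjugate

namespace Cfsg.Agent.Lib.H28.CY

variable {G : Type*} [Group G] {p : ℕ} [Fact p.Prime]

/-- `b ↦ z ^ b` as a homomorphism from `Multiplicative (ZMod p)` when `z ^ p = 1`. -/
def zpowHom (z : G) (hz : z ^ p = 1) : Multiplicative (ZMod p) →* G where
  toFun a := z ^ (Multiplicative.toAdd a).val
  map_one' := by
    show z ^ (0 : ZMod p).val = 1
    rw [ZMod.val_zero, pow_zero]
  map_mul' a b := by
    show z ^ (Multiplicative.toAdd a + Multiplicative.toAdd b).val =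
      z ^ (Multiplicative.toAdd a).val * z ^ (Multiplicative.toAdd b).val
    rw [ZMod.val_add, ← pow_add]
    exact (pow_eq_pow_mod _ hz).symm

@[simp] theorem zpowHom_apply (z : G) (hz : z ^ p = 1) (a : Multiplicative (ZMod p)) :
    zpowHom z hz a = z ^ (Multiplicative.toAdd a).val := rfl

/-- the linear character `a ↦ ψ (k a)` of `Multiplicative (ZMod p)` -/
noncomputable def linHom (ψ : AddChar (ZMod p) ℂ) (k : ZMod p) : Multiplicative (ZMod p) →* ℂˣ :=
  (AddChar.toMonoidHom (ψ.compAddMonoidHom (AddMonoidHom.mulLeft k))).toHomUnits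

theorem linHom_apply (ψ : AddChar (ZMod p) ℂ) (k : ZMod p) (a : Multiplicative (ZMod p)) :
    ((linHom ψ k a : ℂˣ) : ℂ) = ψ (k * Multiplicative.toAdd a) := rfl

/-- **MULT**: the Fourier coefficient of `b ↦ χ (z ^ b)` at `k` is `p` times a natural number. -/
theorem mult_nat (χ : G → ℂ) (hχ : Cfsg.IsCharacter G χ) (z : G) (hz : z ^ p = 1)
    (ψ : AddChar (ZMod p) ℂ) (k : ZMod p) :
    ∃ n : ℕ, ∑ b : ZMod p, χ (z ^ b.val) * ψ (-(k * b)) = (p : ℂ) * n := by
  have hp : p.Prime := Fact.out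
  have h1 : Cfsg.IsCharacter (Multiplicative (ZMod p)) (χ ∘ zpowHom z hz) :=
    Cfsg.Agent.Lib.L0.isCharacter_comp (zpowHom z hz) hχ
  have h2 : Cfsg.IsIrrCharacter (Multiplicative (ZMod p))
      (fun a => ((linHom ψ k a : ℂˣ) : ℂ)) :=
    Cfsg.Agent.Lib.L0.isIrrCharacter_of_hom (linHom ψ k)
  obtain ⟨n, hn⟩ := Cfsg.Agent.Lib.L0.classInner_char_irr_nat h1 h2
  refine ⟨n, ?_⟩
  unfold Cfsg.classInner at hn
  have hcard : Nat.card (Multiplicative (ZMod p)) = p := by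
    rw [Nat.card_eq_fintype_card, Fintype.card_multiplicative, ZMod.card]
  rw [hcard] at hn
  have hsum : ∑ g : Multiplicative (ZMod p), (χ ∘ zpowHom z hz) g *
      conj (((linHom ψ k g : ℂˣ) : ℂ)) = ∑ b : ZMod p, χ (z ^ b.val) * ψ (-(k * b)) := by
    apply Fintype.sum_equiv (Multiplicative.toAdd : Multiplicative (ZMod p) ≃ ZMod p)
    intro a
    rw [linHom_apply, ← AddChar.map_neg_eq_conj]
    rfl
  rw [hsum] at hn
  have hp0 : (p : ℂ) ≠ 0 := Nat.cast_ne_zero.2 hp.ne_zero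
  rw [← hn, ← mul_assoc, mul_inv_cancel₀ hp0, one_mul]

/-- **MULT**, split form: `χ 1 + ∑_{b ≠ 0} χ (z ^ b) ψ (-(k b)) = p * n`. -/
theorem mult_nat_split (χ : G → ℂ) (hχ : Cfsg.IsCharacter G χ) (z : G) (hz : z ^ p = 1)
    (ψ : AddChar (ZMod p) ℂ) (k : ZMod p) :
    ∃ n : ℕ, χ 1 + ∑ b ∈ (Finset.univ : Finset (ZMod p)).filter (fun b => b ≠ 0),
      χ (z ^ b.val) * ψ (-(k * b)) = (p : ℂ) * n := by
  obtain ⟨n, hn⟩ := mult_nat χ hχ z hz ψ k
  refine ⟨n, ?_⟩
  rw [← hn]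
  have h := Finset.sum_filter_add_sum_filter_not (Finset.univ : Finset (ZMod p))
    (fun b => b ≠ 0) (fun b => χ (z ^ b.val) * ψ (-(k * b)))
  rw [← h, add_comm]
  congr 1
  have h0 : (Finset.univ : Finset (ZMod p)).filter (fun b => ¬ b ≠ 0) = {0} := by
    ext b
    simp
  rw [h0, Finset.sum_singleton, ZMod.val_zero, pow_zero, mul_zero, neg_zero, AddChar.map_zero_eq_one,
    mul_one]

/-- the real form: the weight `(χ 1 + ∑_{b ≠ 0} …) / χ 1` of the FOUR identity is a nonnegative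
real number when `χ 1` is a positive natural number. -/
theorem weight_eq (χ : G → ℂ) (hχ : Cfsg.IsCharacter G χ) (z : G) (hz : z ^ p = 1)
    (ψ : AddChar (ZMod p) ℂ) (k : ZMod p) (d : ℕ) (hd : χ 1 = d) :
    ∃ n : ℕ, (χ 1 + ∑ b ∈ (Finset.univ : Finset (ZMod p)).filter (fun b => b ≠ 0),
      χ (z ^ b.val) * ψ (-(k * b))) / χ 1 = (((p * n : ℕ) : ℝ) / (d : ℝ) : ℝ) := by
  obtain ⟨n, hn⟩ := mult_nat_split χ hχ z hz ψ k
  refine ⟨n, ?_⟩
  rw [hn, hd]
  push_cast
  ring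

end Cfsg.Agent.Lib.H28.CY
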