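import Mathlib
import Cfsg.Agent.Lib.H28.CYBURN
import Cfsg.Agent.Lib.H28.CYKER
import Cfsg.Agent.Lib.H28.CYMULT

/-!
# S1950 pieces AUT, BURN, CHARZ, KER in the EXACT signatures of `tools/blueprints/S1950_sigs_h12.lean`
(helper28; wrappers of `CYKER`, `CYBURN`, `CYMULT`)
-/

set_option autoImplicit false

namespace Cfsg.Agent.Lib.H28.CY

open Cfsg
open scoped ComplexConjugate

variable {G : Type*} [Group G] [Finite G] {p : ℕ} [Fact p.Prime]

/-- AUT. -/
theorem mem_centralizer_of_normalizer (P : Sylow p G) (hP : IsCyclic ↥(P : Subgroup G))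
    {s g : G} (hsP : s ∈ (P : Subgroup G)) (hs1 : s ≠ 1)
    (hg : g ∈ Subgroup.normalizer ((P : Subgroup G) : Set G)) (hgs : g * s = s * g) :
    g ∈ Subgroup.centralizer ((P : Subgroup G) : Set G) :=
  mem_centralizer_of_mem_normalizer_of_commute P hP s hsP hs1 g hg hgs

/-- BURN. -/
theorem burn (P : Sylow p G) (hP : IsCyclic ↥(P : Subgroup G)) {s : G} (hs : orderOf s = p) :
    Cfsg.HasNormalPComplement p ↥(Subgroup.centralizer ({s} : Set G)) :=
  centralizer_hasNormalPComplement P hP s hs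

/-- CHARZ. -/
theorem charz {z : G} (hz : orderOf z = p) (ψ : AddChar (ZMod p) ℂ) (χ : G → ℂ) (hχ : Cfsg.IsCharacter G χ)
    (k : ZMod p) : ∃ m : ℕ, ∑ b : ZMod p, χ (z ^ b.val) * ψ (-(k * b)) = (p : ℂ) * (m : ℂ) :=
  mult_nat χ hχ z (by rw [← hz]; exact pow_orderOf_eq_one z) ψ k

/-- KER. -/
theorem eq_one_of_apply_eq [IsSimpleGroup G] (χ : Cfsg.IrrCharacter G) {z : G} (hz1 : z ≠ 1)
    (h : (χ : G → ℂ) z = (χ : G → ℂ) 1) : (χ : G → ℂ) = fun _ => 1 :=
  irr_eq_one_of_apply_eq χ.2 z hz1 h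

end Cfsg.Agent.Lib.H28.CY
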