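/-
helper28 library: octads versus a dodecad in an abstract Golay code: intersection sizes 2/4/6, complement dodecad,
the Steiner system S(5,6,12) of hexads, and the counts 132/132/495.
-/
import Cfsg.Agent.Lib.H28.GolayCount
import Cfsg.Agent.Lib.H28.GolayConcrete

set_option autoImplicit false
set_option linter.unusedSectionVars false

namespace Cfsg.Agent.Lib.H28

open Finset

variable {ι : Type*} [Fintype ι] [DecidableEq ι] {C : Submodule (ZMod 2) (ι → ZMod 2)}

local notation "Oct" C => Cfsg.wordsOfWeight (C : Set (ι → ZMod 2)) 8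
local notation "Dod" C => Cfsg.wordsOfWeight (C : Set (ι → ZMod 2)) 12

/-- An octad meets a dodecad in 2, 4 or 6 points. -/
theorem octad_inter_dodecad (hC : IsAbsGolay C) {o d : Finset ι} (ho : o ∈ Oct C) (hd : d ∈ Dod C) :
    (o ∩ d).card = 2 ∨ (o ∩ d).card = 4 ∨ (o ∩ d).card = 6 := by
  rw [mem_wordsOfWeight_iff] at ho hd
  have h1 := wt_add (ind o) (ind d)
  rw [supp_ind, supp_ind, hammingNorm_ind, hammingNorm_ind, ho.2, hd.2] at h1
  have hmem : ind o + ind d ∈ C := C.add_mem ho.1 hd.1
  have h2 : ind o + ind d ≠ 0 := by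
    intro h
    have : ind o = ind d := by
      have h3 : ind o = (ind o + ind d) + ind d := by rw [add_assoc, add_self', add_zero]
      rw [h3, h, zero_add]
    have := congrArg supp this
    rw [supp_ind, supp_ind] at this
    have h4 := ho.2
    rw [this, hd.2] at h4
    omega
  have h3 := hC.hmin _ hmem h2
  have h4 := even_inter_of_ind_orth (hC.horth _ ho.1 _ hd.1)
  have h5 := wt_ne_twenty hC hmem
  obtain ⟨k, hk⟩ := h4
  omega

/-- The complement of a dodecad is a dodecad. -/
theorem compl_mem_dodecads (hC : IsAbsGolay C) {d : Finset ι} (hd : d ∈ Dod C) : dᶜ ∈ Dod C := by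
  rw [mem_wordsOfWeight_iff] at hd ⊢
  constructor
  · have : ind dᶜ = 1 + ind d := by
      funext i
      by_cases hi : i ∈ d
      · simp only [ind, mem_compl, hi, not_true_eq_false, if_false, if_true, Pi.add_apply, Pi.one_apply]
        decide
      · simp [ind, hi]
    rw [this]
    exact C.add_mem (one_mem hC) hd.1
  · rw [card_compl, hC.hcard, hd.2]

/-- The hexads of a dodecad form a Steiner system `S(5, 6, 12)`. -/
theorem steiner_dodecad (hC : IsAbsGolay C) {d : Finset ι} (hd : d ∈ Dod C) :
    Cfsg.IsSteinerSystem 5 6 {h : Finset {p : ι // p ∈ d} |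
      ∃ o ∈ Oct C, (o ∩ d).card = 6 ∧ h = Finset.subtype (fun p => p ∈ d) o} := by
  constructor
  · rintro b ⟨o, ho, h6, rfl⟩
    rw [card_subtype, filter_mem_eq_inter, h6]
  · intro s hs
    set s' : Finset ι := s.map (Function.Embedding.subtype _) with hs'
    have hs'c : s'.card = 5 := by rw [hs', card_map, hs]
    have hs'd : s' ⊆ d := by
      intro x hx
      rw [hs', mem_map] at hx
      obtain ⟨y, _, rfl⟩ := hx
      exact y.2
    obtain ⟨o, ⟨hoO, hso⟩, huniq⟩ := (steiner_wordsOfWeight hC).2 s' hs'c
    have h6 : (o ∩ d).card = 6 := by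
      have h1 : s' ⊆ o ∩ d := subset_inter hso hs'd
      have h2 := card_le_card h1
      rcases octad_inter_dodecad hC hoO hd with h | h | h <;> omega
    have hsub : ∀ o' : Finset ι, s ⊆ Finset.subtype (fun p => p ∈ d) o' ↔ s' ⊆ o' := by
      intro o'
      constructor
      · intro h x hx
        rw [hs', mem_map] at hx
        obtain ⟨y, hy, rfl⟩ := hx
        have := h hy
        rwa [mem_subtype] at this
      · intro h y hy
        rw [mem_subtype]
        apply h
        rw [hs', mem_map]
        exact ⟨y, hy, rfl⟩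
    refine ⟨Finset.subtype (fun p => p ∈ d) o, ⟨⟨o, hoO, h6, rfl⟩, (hsub o).2 hso⟩, ?_⟩
    rintro b ⟨⟨o', ho'O, -, rfl⟩, hsb⟩
    have := huniq o' ⟨ho'O, (hsub o').1 hsb⟩
    rw [this]

open Classical in
/-- 132 octads meet a dodecad in six points. -/
theorem card_octads_inter_six (hC : IsAbsGolay C) {d : Finset ι} (hd : d ∈ Dod C) :
    {o : Finset ι | o ∈ (Oct C) ∧ (o ∩ d).card = 6}.ncard = 132 := by
  rw [ncard_eq_card_filter]
  set O6 := (blocksF (Oct C)).filter (fun o => (o ∩ d).card = 6) with hO6
  have hdc : d.card = 12 := hd.2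
  have hunion : d.powersetCard 5 = O6.biUnion (fun o => (o ∩ d).powersetCard 5) := by
    ext s
    rw [mem_biUnion, mem_powersetCard]
    constructor
    · rintro ⟨hsd, hs⟩
      obtain ⟨o, ⟨hoO, hso⟩, -⟩ := (steiner_wordsOfWeight hC).2 s hs
      have h6 : (o ∩ d).card = 6 := by
        have h1 : s ⊆ o ∩ d := subset_inter hso hsd
        have h2 := card_le_card h1
        rcases octad_inter_dodecad hC hoO hd with h | h | h <;> omega
      refine ⟨o, ?_, ?_⟩
      · rw [hO6, mem_filter, mem_blocksF]; exact ⟨hoO, h6⟩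
      · rw [mem_powersetCard]; exact ⟨subset_inter hso hsd, hs⟩
    · rintro ⟨o, -, hso⟩
      rw [mem_powersetCard] at hso
      exact ⟨hso.1.trans inter_subset_right, hso.2⟩
  have hcard := congrArg Finset.card hunion
  rw [card_powersetCard, hdc, card_biUnion] at hcard
  · have h6 : ∀ o ∈ O6, ((o ∩ d).powersetCard 5).card = 6 := by
      intro o ho
      rw [hO6, mem_filter] at ho
      rw [card_powersetCard, ho.2]
      decide
    rw [sum_congr rfl h6, sum_const, smul_eq_mul] at hcard
    have : Nat.choose 12 5 = 792 := by decide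
    omega
  · intro o ho o' ho' hne
    show Disjoint ((o ∩ d).powersetCard 5) ((o' ∩ d).powersetCard 5)
    rw [Finset.disjoint_left]
    intro s hs hs'
    rw [mem_powersetCard] at hs hs'
    rw [mem_coe, hO6, mem_filter, mem_blocksF] at ho ho'
    obtain ⟨b, -, huniq⟩ := (steiner_wordsOfWeight hC).2 s hs.2
    have e1 := huniq o ⟨ho.1, hs.1.trans inter_subset_left⟩
    have e2 := huniq o' ⟨ho'.1, hs'.1.trans inter_subset_left⟩
    exact hne (e1.trans e2.symm)

open Classical in
/-- 132 octads meet a dodecad in two points. -/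
theorem card_octads_inter_two (hC : IsAbsGolay C) {d : Finset ι} (hd : d ∈ Dod C) :
    {o : Finset ι | o ∈ (Oct C) ∧ (o ∩ d).card = 2}.ncard = 132 := by
  rw [← card_octads_inter_six hC (compl_mem_dodecads hC hd)]
  congr 1
  ext o
  simp only [Set.mem_ofPred_eq]
  constructor
  · rintro ⟨ho, h2⟩
    refine ⟨ho, ?_⟩
    have h8 : o.card = 8 := ho.2
    have := card_sdiff_add_card_inter o d
    rw [← sdiff_eq_inter_compl]
    omega
  · rintro ⟨ho, h6⟩
    refine ⟨ho, ?_⟩
    have h8 : o.card = 8 := ho.2
    have := card_sdiff_add_card_inter o d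
    rw [← sdiff_eq_inter_compl] at h6
    omega

open Classical in
/-- 495 octads meet a dodecad in four points. -/
theorem card_octads_inter_four (hC : IsAbsGolay C) {d : Finset ι} (hd : d ∈ Dod C) :
    {o : Finset ι | o ∈ (Oct C) ∧ (o ∩ d).card = 4}.ncard = 495 := by
  have h2 := card_octads_inter_two hC hd
  have h6 := card_octads_inter_six hC hd
  have h8 := card_octads hC
  rw [ncard_eq_card_filter] at h2 h6 ⊢
  have hO : (Oct C).ncard = (blocksF (Oct C)).card := by
    rw [← Set.ncard_coe_finset]
    congr 1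
    ext b
    simp [mem_blocksF]
  rw [hO] at h8
  have hfib := card_eq_sum_card_fiberwise (s := blocksF (Oct C)) (t := ({2, 4, 6} : Finset ℕ))
    (f := fun o => (o ∩ d).card) (by
      intro o ho
      rw [mem_coe, mem_blocksF] at ho
      show (o ∩ d).card ∈ (({2, 4, 6} : Finset ℕ) : Set ℕ)
      rw [mem_coe]
      rcases octad_inter_dodecad hC ho hd with h | h | h <;> simp [h])
  rw [sum_insert (by decide), sum_insert (by decide), sum_singleton] at hfib
  omega

end Cfsg.Agent.Lib.H28
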