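/-
helper28 library: the punctured (length 23) Golay code: minimum weight 7, perfectness, weight distribution;
words of a given weight through / avoiding a point (253 / 506 octads, 1288 / 1288 dodecads).
-/
import Cfsg.Agent.Lib.H28.GolayCount
import Cfsg.Agent.Lib.H28.GolayConcrete
import Cfsg.Agent.Lib.H28.GolayDodecad

set_option autoImplicit false
set_option linter.unusedSectionVars false

namespace Cfsg.Agent.Lib.H28

open Finset

variable {κ : Type*} [Fintype κ] [DecidableEq κ] {C : Submodule (ZMod 2) (Option κ → ZMod 2)}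

/-- Puncturing at the coordinate `none`. -/
def punct (w : Option κ → ZMod 2) : κ → ZMod 2 := fun x => w (some x)

/-- Extension by a given value at `none`. -/
def extend0 (u : κ → ZMod 2) : Option κ → ZMod 2 := fun o => o.elim 0 u

theorem punct_extend0 (u : κ → ZMod 2) : punct (extend0 u) = u := rfl

theorem punct_add (w w' : Option κ → ZMod 2) : punct (w + w') = punct w + punct w' := rfl

theorem punct_sub (w w' : Option κ → ZMod 2) : punct (w - w') = punct w - punct w' := rfl

/-- The punctured code, in the form used in the statements. -/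
def punctured (C : Submodule (ZMod 2) (Option κ → ZMod 2)) : Set (κ → ZMod 2) :=
  {u : κ → ZMod 2 | ∃ w ∈ C, ∀ x : κ, u x = w (some x)}

theorem mem_punctured {u : κ → ZMod 2} : u ∈ punctured C ↔ ∃ w ∈ C, u = punct w := by
  unfold punctured
  rw [Set.mem_ofPred_eq]
  constructor
  · rintro ⟨w, hw, h⟩
    exact ⟨w, hw, funext h⟩
  · rintro ⟨w, hw, rfl⟩
    exact ⟨w, hw, fun _ => rfl⟩

theorem wt_punct (w : Option κ → ZMod 2) :
    hammingNorm w = hammingNorm (punct w) + (if w none = 0 then 0 else 1) := by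
  unfold hammingNorm
  rw [card_filter, card_filter, Fintype.sum_option, add_comm]
  congr 1
  by_cases h : w none = 0 <;> simp [h]

theorem wt_punct_le (w : Option κ → ZMod 2) : hammingNorm w ≤ hammingNorm (punct w) + 1 := by
  rw [wt_punct w]
  split_ifs <;> omega

theorem punct_wt_le (w : Option κ → ZMod 2) : hammingNorm (punct w) ≤ hammingNorm w := by
  rw [wt_punct w]
  omega

theorem punct_injOn (hC : IsAbsGolay C) : Set.InjOn punct (C : Set (Option κ → ZMod 2)) := by
  intro w hw w' hw' h
  by_contra hne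
  have hmem : w - w' ∈ C := C.sub_mem hw hw'
  have h0 : w - w' ≠ 0 := sub_ne_zero.2 hne
  have h8 := hC.hmin _ hmem h0
  have h1 := wt_punct_le (w - w')
  rw [punct_sub, h, sub_self, hammingNorm_zero] at h1
  omega

/-- Minimum weight 7 of the punctured code. -/
theorem punctured_min_wt (hC : IsAbsGolay C) : ∀ u ∈ punctured C, u ≠ 0 → 7 ≤ hammingNorm u := by
  intro u hu h0
  rw [mem_punctured] at hu
  obtain ⟨w, hw, rfl⟩ := hu
  have hw0 : w ≠ 0 := by
    rintro rfl
    exact h0 rfl
  have h8 := hC.hmin w hw hw0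
  have := wt_punct_le w
  omega

theorem hdist_eq_wt_sub (x y : κ → ZMod 2) : hammingDist x y = hammingNorm (x - y) := by
  unfold hammingDist hammingNorm
  congr 1
  ext i
  simp only [mem_filter, mem_univ, true_and, Pi.sub_apply, ne_eq, sub_eq_zero]

/-- The punctured code is perfect. -/
theorem punctured_perfect (hC : IsAbsGolay C) (u : κ → ZMod 2) :
    ∃! c : κ → ZMod 2, c ∈ punctured C ∧ hammingDist u c ≤ 3 := by
  have hex : ∃ v : Option κ → ZMod 2, extend0 u - v ∈ C ∧ hammingNorm (punct v) ≤ 3 := by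
    set q : (Option κ → ZMod 2) ⧸ C := Submodule.Quotient.mk (extend0 u) with hq
    rcases coset_dichotomy hC q with ⟨v, hv, -⟩ | ⟨-, h6⟩
    · have : v ∈ cosetLow C q := by rw [hv]; exact mem_singleton_self v
      rw [mem_cosetLow, hq, Submodule.Quotient.eq] at this
      refine ⟨v, ?_, (punct_wt_le v).trans this.2⟩
      rw [← neg_sub, Submodule.neg_mem_iff]
      exact this.1
    · obtain ⟨v, hv, hp⟩ := sextet_cover hC q h6 none
      rw [mem_cosetFour, hq, Submodule.Quotient.eq] at hv
      refine ⟨v, ?_, ?_⟩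
      · rw [← neg_sub, Submodule.neg_mem_iff]
        exact hv.1
      · have h1 := wt_punct v
        rw [mem_supp] at hp
        rw [if_neg hp, hv.2] at h1
        omega
  obtain ⟨v, hv, hv3⟩ := hex
  refine ⟨punct (extend0 u - v), ⟨mem_punctured.2 ⟨_, hv, rfl⟩, ?_⟩, ?_⟩
  · rw [hdist_eq_wt_sub, punct_sub, punct_extend0, sub_sub_cancel]
    exact hv3
  · rintro c' ⟨hc', hd'⟩
    by_contra hne
    have hc : punct (extend0 u - v) ∈ punctured C := mem_punctured.2 ⟨_, hv, rfl⟩
    have hd : hammingDist u (punct (extend0 u - v)) ≤ 3 := by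
      rw [hdist_eq_wt_sub, punct_sub, punct_extend0, sub_sub_cancel]
      exact hv3
    rw [mem_punctured] at hc'
    obtain ⟨w', hw', rfl⟩ := hc'
    have hmem : punct (w' - (extend0 u - v)) ∈ punctured C :=
      mem_punctured.2 ⟨_, C.sub_mem hw' hv, rfl⟩
    have h0 : punct (w' - (extend0 u - v)) ≠ 0 := by
      rw [punct_sub]
      exact sub_ne_zero.2 hne
    have h7 := punctured_min_wt hC _ hmem h0
    rw [punct_sub, ← hdist_eq_wt_sub] at h7
    have htri := hammingDist_triangle (punct w') u (punct (extend0 u - v))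
    rw [hammingDist_comm (punct w') u] at htri
    omega

end Cfsg.Agent.Lib.H28

namespace Cfsg.Agent.Lib.H28

open Finset

section Through

variable {ι : Type*} [Fintype ι] [DecidableEq ι] {C : Submodule (ZMod 2) (ι → ZMod 2)}

open Classical in
/-- Words of weight `n` through the point `p`. -/
noncomputable def wordsIn (C : Submodule (ZMod 2) (ι → ZMod 2)) (n : ℕ) (p : ι) : Finset (ι → ZMod 2) :=
  (wordsF C n).filter fun w => w p ≠ 0

open Classical in
/-- Words of weight `n` avoiding the point `p`. -/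
noncomputable def wordsOut (C : Submodule (ZMod 2) (ι → ZMod 2)) (n : ℕ) (p : ι) : Finset (ι → ZMod 2) :=
  (wordsF C n).filter fun w => w p = 0

theorem mem_wordsIn {n : ℕ} {p : ι} {w : ι → ZMod 2} :
    w ∈ wordsIn C n p ↔ w ∈ C ∧ hammingNorm w = n ∧ w p ≠ 0 := by
  unfold wordsIn; rw [mem_filter, mem_wordsF, and_assoc]

theorem mem_wordsOut {n : ℕ} {p : ι} {w : ι → ZMod 2} :
    w ∈ wordsOut C n p ↔ w ∈ C ∧ hammingNorm w = n ∧ w p = 0 := by
  unfold wordsOut; rw [mem_filter, mem_wordsF, and_assoc]

theorem card_wordsIn_add_wordsOut (n : ℕ) (p : ι) :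
    (wordsIn C n p).card + (wordsOut C n p).card = (wordsF C n).card := by
  classical
  unfold wordsIn wordsOut
  rw [add_comm]
  have := card_filter_add_card_filter_not (s := wordsF C n) (fun w => w p = 0)
  convert this using 3

theorem card_wordsIn_compl (hC : IsAbsGolay C) (n : ℕ) (hn : n ≤ 24) (p : ι) :
    (wordsIn C (24 - n) p).card = (wordsOut C n p).card := by
  have hz : ∀ a : ZMod 2, a = 0 ∨ a = 1 := by decide
  apply card_nbij' (fun w => 1 + w) (fun w => 1 + w)
  · intro w hw
    rw [mem_coe, mem_wordsIn] at hw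
    show (1 : ι → ZMod 2) + w ∈ ((wordsOut C n p : Finset (ι → ZMod 2)) : Set (ι → ZMod 2))
    rw [mem_coe, mem_wordsOut]
    refine ⟨C.add_mem (one_mem hC) hw.1, ?_, ?_⟩
    · have := wt_one_add w
      rw [hC.hcard] at this
      omega
    · rw [Pi.add_apply, Pi.one_apply]
      rcases hz (w p) with h | h
      · exact absurd h hw.2.2
      · rw [h]; decide
  · intro w hw
    rw [mem_coe, mem_wordsOut] at hw
    show (1 : ι → ZMod 2) + w ∈ ((wordsIn C (24 - n) p : Finset (ι → ZMod 2)) : Set (ι → ZMod 2))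
    rw [mem_coe, mem_wordsIn]
    refine ⟨C.add_mem (one_mem hC) hw.1, ?_, ?_⟩
    · have := wt_one_add w
      rw [hC.hcard] at this
      omega
    · rw [Pi.add_apply, Pi.one_apply, hw.2.2]; decide
  · intro w _
    show (1 : ι → ZMod 2) + (1 + w) = w
    rw [← add_assoc, add_self', zero_add]
  · intro w _
    show (1 : ι → ZMod 2) + (1 + w) = w
    rw [← add_assoc, add_self', zero_add]

theorem card_wordsF_eight (hC : IsAbsGolay C) : (wordsF C 8).card = 759 := by
  rw [← ncard_wordsOfWeight, card_octads hC]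

theorem card_wordsF_twelve (hC : IsAbsGolay C) : (wordsF C 12).card = 2576 := by
  rw [← ncard_wordsOfWeight, card_dodecads hC]

/-- 253 octads through a point. -/
theorem card_wordsIn_eight (hC : IsAbsGolay C) (p : ι) : (wordsIn C 8 p).card = 253 := by
  classical
  have h := steiner_count (steiner_wordsOfWeight hC) ({p} : Finset ι) (by simp)
  rw [card_singleton, hC.hcard] at h
  have himg : (wordsIn C 8 p).image supp
      = (blocksF (Cfsg.wordsOfWeight (C : Set (ι → ZMod 2)) 8)).filter (({p} : Finset ι) ⊆ ·) := by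
    ext b
    rw [mem_image, mem_filter, mem_blocksF, mem_wordsOfWeight_iff, singleton_subset_iff]
    constructor
    · rintro ⟨w, hw, rfl⟩
      rw [mem_wordsIn] at hw
      rw [ind_supp, ← hammingNorm_eq_card_supp, mem_supp]
      exact ⟨⟨hw.1, hw.2.1⟩, hw.2.2⟩
    · rintro ⟨⟨h1, h2⟩, h3⟩
      refine ⟨ind b, ?_, supp_ind b⟩
      rw [mem_wordsIn, hammingNorm_ind]
      refine ⟨h1, h2, ?_⟩
      rw [← mem_supp, supp_ind]
      exact h3
  rw [← himg, card_image_of_injective _ supp_injective] at h
  have h1 : Nat.choose (8 - 1) (5 - 1) = 35 := by decide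
  have h2 : Nat.choose (24 - 1) (5 - 1) = 8855 := by norm_num [Nat.choose]
  rw [h1, h2] at h
  omega

theorem card_wordsOut_eight (hC : IsAbsGolay C) (p : ι) : (wordsOut C 8 p).card = 506 := by
  have := card_wordsIn_add_wordsOut (C := C) 8 p
  rw [card_wordsIn_eight hC, card_wordsF_eight hC] at this
  omega

theorem card_wordsIn_sixteen (hC : IsAbsGolay C) (p : ι) : (wordsIn C 16 p).card = 506 := by
  rw [← card_wordsOut_eight hC p, ← card_wordsIn_compl hC 8 (by omega) p]

theorem card_wordsOut_sixteen (hC : IsAbsGolay C) (p : ι) : (wordsOut C 16 p).card = 253 := by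
  rw [← card_wordsIn_eight hC p, ← card_wordsIn_compl hC 16 (by omega) p]

theorem card_wordsIn_twelve (hC : IsAbsGolay C) (p : ι) : (wordsIn C 12 p).card = 1288 := by
  have h1 := card_wordsIn_add_wordsOut (C := C) 12 p
  have h2 := card_wordsIn_compl hC 12 (by omega) p
  rw [card_wordsF_twelve hC] at h1
  have : 24 - 12 = 12 := rfl
  rw [this] at h2
  omega

theorem card_wordsOut_twelve (hC : IsAbsGolay C) (p : ι) : (wordsOut C 12 p).card = 1288 := by
  have h1 := card_wordsIn_add_wordsOut (C := C) 12 p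
  rw [card_wordsF_twelve hC, card_wordsIn_twelve hC] at h1
  omega

end Through

section PunctCount

variable {κ : Type*} [Fintype κ] [DecidableEq κ] {C : Submodule (ZMod 2) (Option κ → ZMod 2)}

theorem ncard_punctured (hC : IsAbsGolay C) : (punctured C).ncard = 4096 := by
  have h1 : punctured C = punct '' (C : Set (Option κ → ZMod 2)) := by
    ext u
    rw [mem_punctured, Set.mem_image]
    constructor
    · rintro ⟨w, hw, rfl⟩; exact ⟨w, hw, rfl⟩
    · rintro ⟨w, hw, rfl⟩; exact ⟨w, hw, rfl⟩
  rw [h1, Set.InjOn.ncard_image (punct_injOn hC)]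
  have h2 : Nat.card C = 4096 := by
    rw [Module.natCard_eq_pow_finrank (K := ZMod 2), hC.hdim, Nat.card_eq_fintype_card, ZMod.card]
    norm_num
  rw [← h2]
  exact (Nat.card_coe_set_eq _).symm

/-- Words of the punctured code of weight `k`: those coming from weight `k` words avoiding `none`, and those
coming from weight `k + 1` words through `none`. -/
theorem ncard_punctured_wt (hC : IsAbsGolay C) (k : ℕ) :
    {u : κ → ZMod 2 | u ∈ punctured C ∧ hammingNorm u = k}.ncard
      = (wordsOut C k none).card + (wordsIn C (k + 1) none).card := by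
  classical
  have h1 : {u : κ → ZMod 2 | u ∈ punctured C ∧ hammingNorm u = k}
      = punct '' ((wordsOut C k none ∪ wordsIn C (k + 1) none : Finset (Option κ → ZMod 2)) :
          Set (Option κ → ZMod 2)) := by
    ext u
    rw [Set.mem_ofPred_eq, mem_punctured, Set.mem_image]
    constructor
    · rintro ⟨⟨w, hw, rfl⟩, hk⟩
      refine ⟨w, ?_, rfl⟩
      rw [mem_coe, mem_union, mem_wordsOut, mem_wordsIn]
      have := wt_punct w
      by_cases h0 : w none = 0
      · left
        rw [if_pos h0] at this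
        exact ⟨hw, by omega, h0⟩
      · right
        rw [if_neg h0] at this
        exact ⟨hw, by omega, h0⟩
    · rintro ⟨w, hw, rfl⟩
      rw [mem_coe, mem_union, mem_wordsOut, mem_wordsIn] at hw
      have := wt_punct w
      rcases hw with ⟨h1, h2, h3⟩ | ⟨h1, h2, h3⟩
      · rw [if_pos h3] at this
        exact ⟨⟨w, h1, rfl⟩, by omega⟩
      · rw [if_neg h3] at this
        exact ⟨⟨w, h1, rfl⟩, by omega⟩
  rw [h1, Set.InjOn.ncard_image, Set.ncard_coe_finset, card_union_of_disjoint]
  · rw [Finset.disjoint_left]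
    intro w hw hw'
    rw [mem_wordsOut] at hw
    rw [mem_wordsIn] at hw'
    exact hw'.2.2 hw.2.2
  · intro w hw w' hw' h
    apply punct_injOn hC _ _ h
    · rw [mem_coe, mem_union, mem_wordsOut, mem_wordsIn] at hw
      rcases hw with h | h <;> exact h.1
    · rw [mem_coe, mem_union, mem_wordsOut, mem_wordsIn] at hw'
      rcases hw' with h | h <;> exact h.1

theorem wordsF_eq_empty (hC : IsAbsGolay C) {n : ℕ} (h0 : n ≠ 0) (h8 : n ≠ 8) (h12 : n ≠ 12) (h16 : n ≠ 16)
    (h24 : n ≠ 24) : wordsF C n = ∅ := by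
  rw [eq_empty_iff_forall_notMem]
  intro w hw
  rw [mem_wordsF] at hw
  rcases weight_cases hC hw.1 with h | h | h | h | h <;> omega

theorem wordsIn_eq_empty (hC : IsAbsGolay C) {n : ℕ} (p : Option κ) (h0 : n ≠ 0) (h8 : n ≠ 8) (h12 : n ≠ 12)
    (h16 : n ≠ 16) (h24 : n ≠ 24) : wordsIn C n p = ∅ := by
  unfold wordsIn
  rw [wordsF_eq_empty hC h0 h8 h12 h16 h24, filter_empty]

theorem wordsOut_eq_empty (hC : IsAbsGolay C) {n : ℕ} (p : Option κ) (h0 : n ≠ 0) (h8 : n ≠ 8) (h12 : n ≠ 12)
    (h16 : n ≠ 16) (h24 : n ≠ 24) : wordsOut C n p = ∅ := by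
  unfold wordsOut
  rw [wordsF_eq_empty hC h0 h8 h12 h16 h24, filter_empty]

/-- Weight distribution of the punctured code. -/
theorem punctured_weights (hC : IsAbsGolay C) :
    {u : κ → ZMod 2 | u ∈ punctured C ∧ hammingNorm u = 7}.ncard = 253 ∧
    {u : κ → ZMod 2 | u ∈ punctured C ∧ hammingNorm u = 8}.ncard = 506 ∧
    {u : κ → ZMod 2 | u ∈ punctured C ∧ hammingNorm u = 11}.ncard = 1288 ∧
    {u : κ → ZMod 2 | u ∈ punctured C ∧ hammingNorm u = 12}.ncard = 1288 ∧
    {u : κ → ZMod 2 | u ∈ punctured C ∧ hammingNorm u = 15}.ncard = 506 ∧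
    {u : κ → ZMod 2 | u ∈ punctured C ∧ hammingNorm u = 16}.ncard = 253 := by
  refine ⟨?_, ?_, ?_, ?_, ?_, ?_⟩
  · rw [ncard_punctured_wt hC, wordsOut_eq_empty hC none (by omega) (by omega) (by omega) (by omega) (by omega),
      card_empty, card_wordsIn_eight hC]
  · rw [ncard_punctured_wt hC, wordsIn_eq_empty hC none (by omega) (by omega) (by omega) (by omega) (by omega),
      card_empty, card_wordsOut_eight hC]
  · rw [ncard_punctured_wt hC, wordsOut_eq_empty hC none (by omega) (by omega) (by omega) (by omega) (by omega),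
      card_empty, card_wordsIn_twelve hC]
  · rw [ncard_punctured_wt hC, wordsIn_eq_empty hC none (by omega) (by omega) (by omega) (by omega) (by omega),
      card_empty, card_wordsOut_twelve hC]
  · rw [ncard_punctured_wt hC, wordsOut_eq_empty hC none (by omega) (by omega) (by omega) (by omega) (by omega),
      card_empty, card_wordsIn_sixteen hC]
  · rw [ncard_punctured_wt hC, wordsIn_eq_empty hC none (by omega) (by omega) (by omega) (by omega) (by omega),
      card_empty, card_wordsOut_sixteen hC]

end PunctCount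

end Cfsg.Agent.Lib.H28
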