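import Mathlib.GroupTheory.GroupAction.Iwasawa
import Cfsg.Agent.Lib.H28.M24OctadStab
import Cfsg.Agent.Lib.H28.GolayPunctured
import Cfsg.Agent.Lib.H28.GolayOctadMeet

set_option autoImplicit false

namespace Cfsg.Agent.Lib.H28

open Cfsg
open scoped Pointwise commutatorElement

/-! ### Words: factorisations of the generators and commutators -/

theorem wordPerm_eq_of_evalPt {u v : List ℕ} (h : ∀ k < 24, evalPt u k = evalPt v k) :
    wordPerm u = wordPerm v := by
  apply Equiv.ext
  intro p
  apply gIdx_injective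
  rw [gIdx_wordPerm, gIdx_wordPerm]
  exact h _ (gIdx_lt p)

/-- The word of the conjugate of the `z`-th element of `K0` by the word `w`. -/
def conjWord (e : List ℕ × ℕ) : List ℕ := e.1 ++ k0Tab.getD e.2 [] ++ invWord e.1

theorem wordPerm_conjWord (e : List ℕ × ℕ) :
    wordPerm (conjWord e) = wordPerm e.1 * wordPerm (k0Tab.getD e.2 []) * (wordPerm e.1)⁻¹ := by
  unfold conjWord
  rw [wordPerm_append, wordPerm_append, wordPerm_invWord]

def factS : List (List ℕ × ℕ) := [([0, 0, 0], 9), ([1, 4, 0, 3, 1], 21), ([1, 1, 4, 4], 10)]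
def factT : List (List ℕ × ℕ) := [([1, 1], 9), ([0, 3, 0, 2, 0, 0], 20)]
def factU : List (List ℕ × ℕ) := [([1, 1], 6), ([3, 3, 1, 1], 6)]
def commTab : List (List ℕ × ℕ) := [
  ([], 0),
  ([], 0),
  ([], 0),
  ([], 0),
  ([], 0),
  ([], 0),
  ([1, 3, 0], 7),
  ([4, 1, 3, 3, 0, 0, 2], 6),
  ([1, 3, 0], 6),
  ([1, 4, 0], 6),
  ([1, 3, 0, 1, 3, 0], 6),
  ([1, 3, 0, 2, 1, 1, 4, 4, 0, 3, 2, 1, 1, 4, 4, 0, 3], 6),
  ([2, 1, 1, 4, 4, 0, 3], 6),
  ([2, 1, 1, 4, 4, 0, 3, 1, 3, 0], 6),
  ([], 0),
  ([1, 4, 0, 1, 4, 0], 6),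
  ([2, 1, 1, 4, 4, 0, 3, 2, 1, 1, 4, 4, 0, 3], 6),
  ([], 0),
  ([1, 3, 0, 4, 1, 3, 3, 0, 0, 2], 6),
  ([1, 4, 0, 2, 1, 1, 4, 4, 0, 3], 6),
  ([1, 3, 0, 2, 1, 1, 4, 4, 0, 3], 6),
  ([4, 1, 3, 3, 0, 0, 2, 4, 1, 3, 3, 0, 0, 2], 6),
  ([4, 1, 3, 3, 0, 0, 2, 1, 4, 0], 6),
  ([], 0)]

/-- The entries of a factorisation are valid (`z` outside the base octad). -/
def factOK (L : List (List ℕ × ℕ)) : Bool := L.all (fun e => decide (e.2 < 24) && !(baseOctad.testBit e.2))

theorem fact_ok : factOK factS = true ∧ factOK factT = true ∧ factOK factU = true := by decide +kernel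

theorem factS_eval : ∀ k < 24, evalPt [0] k = evalPt (factS.flatMap conjWord) k := by decide +kernel
theorem factT_eval : ∀ k < 24, evalPt [2] k = evalPt (factT.flatMap conjWord) k := by decide +kernel
theorem factU_eval : ∀ k < 24, evalPt [3] k = evalPt (factU.flatMap conjWord) k := by decide +kernel

/-- The word of the commutator `[a, k_{z0}]`. -/
def commWord (e : List ℕ × ℕ) : List ℕ :=
  e.1 ++ k0Tab.getD e.2 [] ++ invWord e.1 ++ invWord (k0Tab.getD e.2 [])

theorem commTab_eval : ∀ z < 24, baseOctad.testBit z = false → z ≠ 4 →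
    ∀ k < 24, evalPt (k0Tab.getD z []) k = evalPt (commWord (commTab.getD z ([], 0))) k := by
  decide +kernel


/-! ### The action on octads -/

/-- The octads, as an `M24`-set. -/
def octSub : SubMulAction M24 (Finset GolayPt) where
  carrier := octads
  smul_mem' := fun g _ hx => smul_mem_octads g.2 hx

theorem mem_octSub {x : Finset GolayPt} : x ∈ octSub ↔ x ∈ octads := Iff.rfl

theorem octSub_coe_smul (g : M24) (x : octSub) :
    ((g • x : octSub) : Finset GolayPt) = (g : Equiv.Perm GolayPt) • (x : Finset GolayPt) := rfl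

instance octSub_isPretransitive : MulAction.IsPretransitive M24 octSub := by
  refine ⟨fun x y => ?_⟩
  obtain ⟨g, hg, h⟩ := exists_M24_smul_octad x.2 y.2
  exact ⟨⟨g, hg⟩, Subtype.ext h⟩

/-- For distinct points there is an octad through the first avoiding the second. -/
theorem exists_octad_separating {p q : GolayPt} (hpq : p ≠ q) :
    ∃ o ∈ octads, p ∈ o ∧ q ∉ o := by
  classical
  have h1 := steiner_count octads_isSteinerSystem ({p} : Finset GolayPt) (by simp)
  have h2 := steiner_count octads_isSteinerSystem ({p, q} : Finset GolayPt)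
    (by rw [Finset.card_pair hpq]; norm_num)
  rw [Finset.card_singleton, card_GolayPt] at h1
  rw [Finset.card_pair hpq, card_GolayPt] at h2
  have e1 : Nat.choose (8 - 1) (5 - 1) = 35 := by decide
  have e2 : Nat.choose (24 - 1) (5 - 1) = 8855 := by decide
  have e3 : Nat.choose (8 - 2) (5 - 2) = 20 := by decide
  have e4 : Nat.choose (24 - 2) (5 - 2) = 1540 := by decide
  rw [e1, e2] at h1
  rw [e3, e4] at h2
  have hlt : ((blocksF octads).filter (({p, q} : Finset GolayPt) ⊆ ·)).card
      < ((blocksF octads).filter (({p} : Finset GolayPt) ⊆ ·)).card := by omega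
  by_contra hcon
  push Not at hcon
  have hsub : (blocksF octads).filter (({p} : Finset GolayPt) ⊆ ·)
      ⊆ (blocksF octads).filter (({p, q} : Finset GolayPt) ⊆ ·) := by
    intro o ho
    rw [Finset.mem_filter, mem_blocksF, Finset.singleton_subset_iff] at ho
    rw [Finset.mem_filter, mem_blocksF]
    refine ⟨ho.1, ?_⟩
    intro x hx
    rw [Finset.mem_insert, Finset.mem_singleton] at hx
    rcases hx with rfl | rfl
    · exact ho.2
    · exact hcon o ho.1 ho.2
  have := Finset.card_le_card hsub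
  omega

theorem octSub_nontrivial : Nontrivial octSub := by
  obtain ⟨o, ho, hp, hq⟩ := exists_octad_separating (p := gPt 0) (q := gPt 1) (by
    intro h
    have := congrArg gIdx h
    rw [gIdx_gPt (by norm_num), gIdx_gPt (by norm_num)] at this
    omega)
  obtain ⟨o', ho', hp', hq'⟩ := exists_octad_separating (p := gPt 1) (q := gPt 0) (by
    intro h
    have := congrArg gIdx h
    rw [gIdx_gPt (by norm_num), gIdx_gPt (by norm_num)] at this
    omega)
  refine ⟨⟨⟨o, ho⟩, ⟨o', ho'⟩, ?_⟩⟩
  intro h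
  have h' : o = o' := congrArg Subtype.val h
  rw [h'] at hq
  exact hq hp'

instance octSub_nontrivial_inst : Nontrivial octSub := octSub_nontrivial

instance octSub_isPreprimitive : MulAction.IsPreprimitive M24 octSub := by
  rw [← MulAction.isCoatom_stabilizer_iff_preprimitive M24 (⟨oct0, oct0_mem_octads⟩ : octSub),
    SubMulAction.stabilizer_of_subMul]
  exact isCoatom_stabilizer_octad oct0_mem_octads

theorem octSub_faithful : FaithfulSMul M24 octSub := by
  refine ⟨fun {g h} hgh => ?_⟩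
  apply Subtype.ext
  apply Equiv.ext
  intro p
  by_contra hne
  -- `h⁻¹ g` moves `h⁻¹ (g p)`...
  obtain ⟨o, ho, hp, hq⟩ := exists_octad_separating hne
  -- the octad `g⁻¹ • o`
  have ho' : (g.1⁻¹ • o : Finset GolayPt) ∈ octads := smul_mem_octads (M24.inv_mem g.2) ho
  have := congrArg (fun x : octSub => (x : Finset GolayPt)) (hgh ⟨_, ho'⟩)
  simp only [octSub_coe_smul, smul_inv_smul] at this
  have hmem : h.1 p ∈ (h.1 • (g.1⁻¹ • o) : Finset GolayPt) := by
    rw [← Equiv.Perm.smul_def]
    apply Finset.smul_mem_smul_finset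
    rw [Finset.mem_inv_smul_finset_iff, Equiv.Perm.smul_def]
    exact hp
  rw [← this] at hmem
  exact hq hmem


/-! ### The Iwasawa structure -/

/-- The subgroup of `M24` fixing an octad pointwise. -/
def octT (x : octSub) : Subgroup M24 :=
  (fixingSubgroup (Equiv.Perm GolayPt) ((x : Finset GolayPt) : Set GolayPt)).subgroupOf M24

theorem mem_octT {x : octSub} {g : M24} :
    g ∈ octT x ↔ ∀ p ∈ (x : Finset GolayPt), g.1 p = p := by
  unfold octT
  rw [Subgroup.mem_subgroupOf, mem_fixingSubgroup_iff]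
  rfl

theorem octT_sq {x : octSub} {a : M24} (ha : a ∈ octT x) : a * a = 1 := by
  apply Subtype.ext
  refine (octad_pointwise_stabilizer x.2).2 a.1 (Subgroup.mem_inf.2 ⟨a.2, ?_⟩)
  rw [mem_fixingSubgroup_iff]
  intro p hp
  exact mem_octT.1 ha p hp

theorem octT_comm (x : octSub) : IsMulCommutative (octT x) := by
  refine ⟨⟨fun a b => ?_⟩⟩
  apply Subtype.ext
  have ha := octT_sq a.2
  have hb := octT_sq b.2
  have hab := octT_sq (mul_mem a.2 b.2)
  show a.1 * b.1 = b.1 * a.1
  have h1 : a.1 * b.1 = (a.1 * b.1)⁻¹ := eq_inv_of_mul_eq_one_left hab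
  have h2 : a.1⁻¹ = a.1 := (eq_inv_of_mul_eq_one_left ha).symm
  have h3 : b.1⁻¹ = b.1 := (eq_inv_of_mul_eq_one_left hb).symm
  rw [h1, mul_inv_rev, h2, h3]

theorem octT_conj (g : M24) (x : octSub) : octT (g • x) = MulAut.conj g • octT x := by
  ext h
  rw [Subgroup.mem_pointwise_smul_iff_inv_smul_mem, mem_octT, mem_octT, octSub_coe_smul]
  have hc : (MulAut.conj g)⁻¹ • h = g⁻¹ * h * g := by
    rw [← map_inv, MulAut.smul_def, MulAut.conj_apply, inv_inv]
  rw [hc]
  constructor
  · intro H p hp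
    have := H (g.1 p) (by
      rw [← Equiv.Perm.smul_def]
      exact Finset.smul_mem_smul_finset hp)
    show g.1⁻¹ (h.1 (g.1 p)) = p
    rw [this, Equiv.Perm.inv_def, Equiv.symm_apply_apply]
  · intro H q hq
    rw [Finset.mem_smul_finset] at hq
    obtain ⟨p, hp, rfl⟩ := hq
    have := H p hp
    change g.1⁻¹ (h.1 (g.1 p)) = p at this
    rw [Equiv.Perm.inv_def, Equiv.symm_apply_eq] at this
    rw [Equiv.Perm.smul_def]
    exact this

/-- The subgroup generated by the pointwise octad stabilizers, as a group of permutations. -/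
def octGen : Subgroup (Equiv.Perm GolayPt) := (iSup octT).map M24.subtype

theorem mem_octGen_of {g : Equiv.Perm GolayPt} (hg : g ∈ M24) (x : octSub)
    (h : ∀ p ∈ (x : Finset GolayPt), g p = p) : g ∈ octGen := by
  unfold octGen
  rw [Subgroup.mem_map]
  refine ⟨⟨g, hg⟩, ?_, rfl⟩
  apply Subgroup.mem_iSup_of_mem x
  rw [mem_octT]
  exact h

theorem conjWord_mem_octGen {e : List ℕ × ℕ} (h1 : e.2 < 24)
    (h2 : baseOctad.testBit e.2 = false) : wordPerm (conjWord e) ∈ octGen := by
  have hk := (word_mem_K0 h1 h2).1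
  apply mem_octGen_of (wordPerm_mem_M24 _)
    (⟨wordPerm e.1 • oct0, smul_mem_octads (wordPerm_mem_M24 _) oct0_mem_octads⟩ : octSub)
  intro q hq
  change q ∈ wordPerm e.1 • oct0 at hq
  rw [Finset.mem_smul_finset] at hq
  obtain ⟨p, hp, rfl⟩ := hq
  rw [mem_oct0_iff] at hp
  have := K0_fix hk _ hp
  rw [gPt_gIdx] at this
  rw [wordPerm_conjWord, Equiv.Perm.smul_def, Equiv.Perm.mul_apply, Equiv.Perm.mul_apply,
    Equiv.Perm.inv_def, Equiv.symm_apply_apply, this]

theorem fact_mem_octGen (L : List (List ℕ × ℕ)) (hL : factOK L = true) :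
    wordPerm (L.flatMap conjWord) ∈ octGen := by
  induction L with
  | nil => exact Subgroup.one_mem _
  | cons e L ih =>
    unfold factOK at hL ih
    rw [List.all_cons, Bool.and_eq_true, Bool.and_eq_true, decide_eq_true_eq,
      Bool.not_eq_true'] at hL
    rw [List.flatMap_cons, wordPerm_append]
    exact Subgroup.mul_mem _ (conjWord_mem_octGen hL.1.1 hL.1.2) (ih hL.2)

theorem M24_le_octGen : M24 ≤ octGen := by
  rw [← genSubgroup_eq_M24]
  unfold genSubgroup
  rw [Subgroup.closure_le]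
  intro g hg
  rw [Set.mem_insert_iff, Set.mem_insert_iff, Set.mem_singleton_iff] at hg
  have hS : permS = wordPerm [0] := by
    rw [wordPerm_cons, wordPerm_nil, mul_one]; rfl
  have hT : projInv = wordPerm [2] := by
    rw [wordPerm_cons, wordPerm_nil, mul_one]; rfl
  have hU : cubeTwist = wordPerm [3] := by
    rw [wordPerm_cons, wordPerm_nil, mul_one]; rfl
  rcases hg with rfl | rfl | rfl
  · rw [SetLike.mem_coe, hS, wordPerm_eq_of_evalPt factS_eval]
    exact fact_mem_octGen _ fact_ok.1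
  · rw [SetLike.mem_coe, hT, wordPerm_eq_of_evalPt factT_eval]
    exact fact_mem_octGen _ fact_ok.2.1
  · rw [SetLike.mem_coe, hU, wordPerm_eq_of_evalPt factU_eval]
    exact fact_mem_octGen _ fact_ok.2.2

theorem iSup_octT : iSup octT = ⊤ := by
  rw [eq_top_iff]
  intro g _
  have := M24_le_octGen g.2
  unfold octGen at this
  rw [Subgroup.mem_map] at this
  obtain ⟨y, hy, hyg⟩ := this
  have : y = g := Subtype.ext hyg
  rw [← this]
  exact hy

/-- The Iwasawa structure of `M24` acting on the octads. -/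
def octIwasawa : MulAction.IwasawaStructure M24 octSub where
  T := octT
  is_comm := octT_comm
  is_conj := octT_conj
  is_generator := iSup_octT


/-! ### Perfectness -/

theorem k0_mem_commutator {z : ℕ} (hz : z < 24) (h : baseOctad.testBit z = false) :
    (⟨wordPerm (k0Tab.getD z []), wordPerm_mem_M24 _⟩ : M24) ∈ commutator M24 := by
  by_cases h4 : z = 4
  · subst h4
    have : (⟨wordPerm (k0Tab.getD 4 []), wordPerm_mem_M24 _⟩ : M24) = 1 := Subtype.ext rfl
    rw [this]
    exact Subgroup.one_mem _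
  · have h1 := wordPerm_eq_of_evalPt (commTab_eval z hz h h4)
    set e := commTab.getD z ([], 0) with he
    have hc : wordPerm (commWord e) = ⁅wordPerm e.1, wordPerm (k0Tab.getD e.2 [])⁆ := by
      unfold commWord
      rw [wordPerm_append, wordPerm_append, wordPerm_append, wordPerm_invWord, wordPerm_invWord,
        commutatorElement_def]
    have h2 : (⟨wordPerm (k0Tab.getD z []), wordPerm_mem_M24 _⟩ : M24)
        = ⁅(⟨wordPerm e.1, wordPerm_mem_M24 _⟩ : M24),
            (⟨wordPerm (k0Tab.getD e.2 []), wordPerm_mem_M24 _⟩ : M24)⁆ := by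
      apply Subtype.ext
      show wordPerm (k0Tab.getD z []) = _
      rw [h1, hc]
      rfl
    rw [h2, commutator_def]
    exact Subgroup.commutator_mem_commutator (Subgroup.mem_top _) (Subgroup.mem_top _)

theorem octT_base_le_commutator :
    octT (⟨oct0, oct0_mem_octads⟩ : octSub) ≤ commutator M24 := by
  intro g hg
  have hK : g.1 ∈ K0 := by
    rw [K0_eq, Subgroup.mem_inf]
    refine ⟨g.2, ?_⟩
    rw [mem_fixingSubgroup_iff]
    intro p hp
    exact mem_octT.1 hg p hp
  have h1 := K0_eq_word hK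
  have h2 := K0_outside hK
  have : g = ⟨wordPerm (k0Tab.getD (gIdx (g.1 (gPt 4))) []), wordPerm_mem_M24 _⟩ :=
    Subtype.ext h1
  rw [this]
  exact k0_mem_commutator (gIdx_lt _) h2

theorem commutator_M24 : commutator M24 = ⊤ := by
  rw [eq_top_iff, ← iSup_octT, iSup_le_iff]
  intro x
  obtain ⟨g, rfl⟩ := MulAction.exists_smul_eq M24 (⟨oct0, oct0_mem_octads⟩ : octSub) x
  rw [octT_conj]
  intro h hh
  rw [Subgroup.mem_pointwise_smul_iff_inv_smul_mem] at hh
  have hc : (MulAut.conj g)⁻¹ • h = g⁻¹ * h * g := by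
    rw [← map_inv, MulAut.smul_def, MulAut.conj_apply, inv_inv]
  rw [hc] at hh
  have h3 := octT_base_le_commutator hh
  have h4 := (inferInstance : (commutator M24).Normal).conj_mem _ h3 g
  have h5 : g * (g⁻¹ * h * g) * g⁻¹ = h := by group
  rw [h5] at h4
  exact h4

theorem M24_nontrivial : Nontrivial M24 := by
  rw [← Finite.one_lt_card_iff_nontrivial, card_M24]
  norm_num

/-- `M24` is a simple group. -/
theorem M24_isSimpleGroup : IsSimpleGroup M24 := by
  have := M24_nontrivial
  exact MulAction.IwasawaStructure.isSimpleGroup commutator_M24 octIwasawa octSub_faithful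

end Cfsg.Agent.Lib.H28
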