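/-
helper28 library: Iwasawa's criterion for the pointwise stabilizers in `M24` of one or two points of the base octad
(the groups `M23` and `M22`), acting on the octads through these points; certificates for generation, perfectness,
suborbits.
-/
import Cfsg.Agent.Lib.H28.WordChain
import Cfsg.Agent.Lib.H28.IwasawaPoint
import Cfsg.Agent.Lib.H28.M24Simple

set_option autoImplicit false

namespace Cfsg.Agent.Lib.H28

open Cfsg
open scoped Pointwise commutatorElement

/-! ### Counting octads through a subset of an octad -/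

section Abs

open Finset

variable {ι : Type*} [Fintype ι] [DecidableEq ι] {C : Submodule (ZMod 2) (ι → ZMod 2)}

local notation "Oct" C => Cfsg.wordsOfWeight (C : Set (ι → ZMod 2)) 8

theorem card_octads_thru_meet_card (hC : IsAbsGolay C) {o P : Finset ι} (ho : o ∈ Oct C) (hP : P ⊆ o)
    (k m : ℕ) (hPk : P.card ≤ k)
    (hm : ∀ s ⊆ o, s.card = k → ((blocksF (Oct C)).filter (fun o' => o ∩ o' = s)).card = m) :
    ((blocksF (Oct C)).filter (fun o' => P ⊆ o' ∧ (o ∩ o').card = k)).card
      = Nat.choose (8 - P.card) (k - P.card) * m := by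
  have ho8 : o.card = 8 := ho.2
  have hunion : (blocksF (Oct C)).filter (fun o' => P ⊆ o' ∧ (o ∩ o').card = k)
      = ((o.powersetCard k).filter (P ⊆ ·)).biUnion
          (fun s => (blocksF (Oct C)).filter (fun o' => o ∩ o' = s)) := by
    ext o'
    rw [mem_filter, mem_biUnion]
    constructor
    · rintro ⟨h1, h2, h3⟩
      refine ⟨o ∩ o', ?_, ?_⟩
      · rw [mem_filter, mem_powersetCard]
        exact ⟨⟨inter_subset_left, h3⟩, subset_inter hP h2⟩
      · rw [mem_filter]; exact ⟨h1, rfl⟩
    · rintro ⟨s, hs, h⟩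
      rw [mem_filter, mem_powersetCard] at hs
      rw [mem_filter] at h
      refine ⟨h.1, ?_, by rw [h.2]; exact hs.1.2⟩
      exact (hs.2.trans (h.2 ▸ inter_subset_right))
  rw [hunion, card_biUnion]
  · have : ∀ s ∈ (o.powersetCard k).filter (P ⊆ ·),
        ((blocksF (Oct C)).filter (fun o' => o ∩ o' = s)).card = m := by
      intro s hs
      rw [mem_filter, mem_powersetCard] at hs
      exact hm s hs.1.1 hs.1.2
    rw [sum_congr rfl this, sum_const, smul_eq_mul, card_filter_powersetCard_subset P o k hP hPk, ho8]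
  · intro s _ s' _ hne
    show Disjoint ((blocksF (Oct C)).filter (fun o' => o ∩ o' = s))
      ((blocksF (Oct C)).filter (fun o' => o ∩ o' = s'))
    rw [Finset.disjoint_left]
    intro o' h1 h2
    rw [mem_filter] at h1 h2
    exact hne (h1.2.symm.trans h2.2)

end Abs

/-! ### The pointwise stabilizer `G_L` of some points of the base octad -/

section Generic

variable (L : List ℕ)

/-- All indices of `L` lie in the base octad. -/
def inOct (L : List ℕ) : Prop := ∀ j ∈ L, j ∈ octPts

variable {L}

theorem lt_of_inOct (hL : inOct L) {j : ℕ} (hj : j ∈ L) : j < 24 := by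
  have : ∀ j ∈ octPts, j < 24 := by decide
  exact this j (hL j hj)

theorem K0_le_fixSub (hL : inOct L) : K0 ≤ fixSub M24 L := by
  intro g hg
  rw [mem_fixSub]
  have hg' := hg
  rw [K0_eq, Subgroup.mem_inf] at hg'
  exact ⟨hg'.1, fun k hk => K0_fix hg k (hL k hk)⟩

theorem K0_comm {a b : Equiv.Perm GolayPt} (ha : a ∈ K0) (hb : b ∈ K0) : a * b = b * a := by
  have h1 := K0_sq ha
  have h2 := K0_sq hb
  have h3 := K0_sq (K0.mul_mem ha hb)
  have e1 : a * b = (a * b)⁻¹ := eq_inv_of_mul_eq_one_left h3
  have e2 : a⁻¹ = a := (eq_inv_of_mul_eq_one_left h1).symm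
  have e3 : b⁻¹ = b := (eq_inv_of_mul_eq_one_left h2).symm
  rw [e1, mul_inv_rev, e2, e3]

/-- A word fixing the indices of `L` lies in `G_L`. -/
def fixesL (L : List ℕ) (w : List ℕ) : Bool := L.all (fun j => evalPt w j == j)

theorem wordPerm_mem_fixSub (hL : inOct L) {w : List ℕ} (h : fixesL L w = true) :
    wordPerm w ∈ fixSub M24 L := by
  rw [mem_fixSub]
  refine ⟨wordPerm_mem_M24 w, fun k hk => ?_⟩
  have := List.all_eq_true.1 h k hk
  rw [beq_iff_eq] at this
  exact wordPerm_fix_of_evalPt (lt_of_inOct hL hk) this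

variable (L)

/-- `K0` as a subgroup of `G_L`. -/
noncomputable def AL : Subgroup ↥(fixSub M24 L) := K0.subgroupOf (fixSub M24 L)

/-- The normal closure of `K0` in `G_L`, as a group of permutations. -/
noncomputable def NL : Subgroup (Equiv.Perm GolayPt) :=
  (Subgroup.normalClosure ((AL L : Subgroup ↥(fixSub M24 L)) : Set ↥(fixSub M24 L))).map
    (fixSub M24 L).subtype

variable {L}

theorem conj_mem_NL {u k : Equiv.Perm GolayPt} (hu : u ∈ fixSub M24 L) (hk : k ∈ K0)
    (hkL : k ∈ fixSub M24 L) : u * k * u⁻¹ ∈ NL L := by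
  unfold NL
  rw [Subgroup.mem_map]
  refine ⟨⟨u, hu⟩ * ⟨k, hkL⟩ * ⟨u, hu⟩⁻¹, ?_, rfl⟩
  apply Subgroup.normalClosure_normal.conj_mem
  apply Subgroup.subset_normalClosure
  show (⟨k, hkL⟩ : ↥(fixSub M24 L)) ∈ AL L
  unfold AL
  rw [Subgroup.mem_subgroupOf]
  exact hk

/-- A factorisation into conjugates: conjugating words fix `L`, indices `z` outside the base octad. -/
def factOKL (L : List ℕ) (F : List (List ℕ × ℕ)) : Bool :=
  F.all (fun e => fixesL L e.1 && decide (e.2 < 24) && !(baseOctad.testBit e.2))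

theorem fact_mem_NL (hL : inOct L) (F : List (List ℕ × ℕ)) (hF : factOKL L F = true) :
    wordPerm (F.flatMap conjWord) ∈ NL L := by
  induction F with
  | nil => exact Subgroup.one_mem _
  | cons e F ih =>
    unfold factOKL at hF ih
    rw [List.all_cons, Bool.and_eq_true, Bool.and_eq_true, Bool.and_eq_true, decide_eq_true_eq,
      Bool.not_eq_true'] at hF
    rw [List.flatMap_cons, wordPerm_append, wordPerm_conjWord]
    have hk := (word_mem_K0 hF.1.1.2 hF.1.2).1
    exact Subgroup.mul_mem _ (conj_mem_NL (wordPerm_mem_fixSub hL hF.1.1.1) hk (K0_le_fixSub hL hk))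
      (ih hF.2)

/-- Certificate that every generator is a product of conjugates of elements of `K0`. -/
def gensFactOK (L : List ℕ) (ws : List (List ℕ)) (facts : List (List (List ℕ × ℕ))) : Bool :=
  decide (ws.length = facts.length) &&
  (List.zip ws facts).all (fun e => factOKL L e.2 &&
    (List.range 24).all (fun k => evalPt e.1 k == evalPt (e.2.flatMap conjWord) k))

theorem gens_mem_NL (hL : inOct L) {ws : List (List ℕ)} {facts : List (List (List ℕ × ℕ))}
    (h : gensFactOK L ws facts = true) : ∀ w ∈ ws, wordPerm w ∈ NL L := by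
  unfold gensFactOK at h
  rw [Bool.and_eq_true, decide_eq_true_eq] at h
  intro w hw
  obtain ⟨i, hi, rfl⟩ := List.getElem_of_mem hw
  have hi' : i < facts.length := h.1 ▸ hi
  have hmem : (ws[i], facts[i]) ∈ List.zip ws facts := by
    rw [List.mem_iff_getElem]
    refine ⟨i, by rw [List.length_zip]; omega, ?_⟩
    rw [List.getElem_zip]
  have := List.all_eq_true.1 h.2 _ hmem
  rw [Bool.and_eq_true] at this
  have heq : wordPerm ws[i] = wordPerm (facts[i].flatMap conjWord) := by
    apply wordPerm_eq_of_evalPt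
    intro k hk
    have := List.all_eq_true.1 this.2 k (List.mem_range.2 hk)
    rwa [beq_iff_eq] at this
  rw [heq]
  exact fact_mem_NL hL _ this.1

theorem normalClosure_AL_eq_top (hL : inOct L) {ws : List (List ℕ)} {facts : List (List (List ℕ × ℕ))}
    (hgen : wordsClosure ws = fixSub M24 L) (h : gensFactOK L ws facts = true) :
    Subgroup.normalClosure ((AL L : Subgroup ↥(fixSub M24 L)) : Set ↥(fixSub M24 L)) = ⊤ := by
  have hle : fixSub M24 L ≤ NL L := by
    rw [← hgen]
    exact wordsClosure_le (gens_mem_NL hL h)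
  rw [eq_top_iff]
  intro g _
  have := hle g.2
  unfold NL at this
  rw [Subgroup.mem_map] at this
  obtain ⟨y, hy, hyg⟩ := this
  have : y = g := Subtype.ext hyg
  rw [← this]
  exact hy

/-! ### Perfectness -/

/-- Certificate: every nonidentity element of `K0` is a commutator `[a, k]` with `a ∈ G_L` and `k ∈ K0`. -/
def commOKL (L : List ℕ) (tab : List (List ℕ × ℕ)) : Bool :=
  (List.range 24).all (fun z => baseOctad.testBit z || z == 4 ||
    (fixesL L (tab.getD z ([], 0)).1 && decide ((tab.getD z ([], 0)).2 < 24) &&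
      !(baseOctad.testBit (tab.getD z ([], 0)).2) &&
      (List.range 24).all (fun k =>
        evalPt (k0Tab.getD z []) k == evalPt (commWord (tab.getD z ([], 0))) k)))

theorem AL_le_commutator (hL : inOct L) {tab : List (List ℕ × ℕ)} (h : commOKL L tab = true) :
    AL L ≤ commutator ↥(fixSub M24 L) := by
  intro g hg
  have hK : g.1 ∈ K0 := by
    unfold AL at hg
    rwa [Subgroup.mem_subgroupOf] at hg
  have h1 := K0_eq_word hK
  have h2 := K0_outside hK
  set z := gIdx (g.1 (gPt 4)) with hz
  have hz24 : z < 24 := gIdx_lt _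
  by_cases h4 : z = 4
  · have : g = 1 := by
      apply Subtype.ext
      rw [h1, h4]
      rfl
    rw [this]
    exact Subgroup.one_mem _
  · have hc := List.all_eq_true.1 h z (List.mem_range.2 hz24)
    rw [h2, Bool.false_or, Bool.or_eq_true, beq_iff_eq] at hc
    rcases hc with hc | hc
    · exact absurd hc h4
    · rw [Bool.and_eq_true, Bool.and_eq_true, Bool.and_eq_true, decide_eq_true_eq,
        Bool.not_eq_true'] at hc
      obtain ⟨⟨⟨ha, he2⟩, he3⟩, heq⟩ := hc
      set e := tab.getD z ([], 0) with he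
      have haG : wordPerm e.1 ∈ fixSub M24 L := wordPerm_mem_fixSub hL ha
      have hkK : wordPerm (k0Tab.getD e.2 []) ∈ K0 := (word_mem_K0 he2 he3).1
      have hkG : wordPerm (k0Tab.getD e.2 []) ∈ fixSub M24 L := K0_le_fixSub hL hkK
      have hw : wordPerm (k0Tab.getD z []) = wordPerm (commWord e) := by
        apply wordPerm_eq_of_evalPt
        intro k hk
        have := List.all_eq_true.1 heq k (List.mem_range.2 hk)
        rwa [beq_iff_eq] at this
      have hcw : wordPerm (commWord e) = ⁅wordPerm e.1, wordPerm (k0Tab.getD e.2 [])⁆ := by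
        unfold commWord
        rw [wordPerm_append, wordPerm_append, wordPerm_append, wordPerm_invWord, wordPerm_invWord,
          commutatorElement_def]
      have hg2 : g = ⁅(⟨wordPerm e.1, haG⟩ : ↥(fixSub M24 L)), ⟨wordPerm (k0Tab.getD e.2 []), hkG⟩⁆ := by
        apply Subtype.ext
        show g.1 = _
        rw [h1, hw, hcw]
        rfl
      rw [hg2, commutator_def]
      exact Subgroup.commutator_mem_commutator (Subgroup.mem_top _) (Subgroup.mem_top _)

theorem commutator_fixSub_eq_top (hL : inOct L) {tab : List (List ℕ × ℕ)} (h : commOKL L tab = true)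
    (hgen : Subgroup.normalClosure ((AL L : Subgroup ↥(fixSub M24 L)) : Set ↥(fixSub M24 L)) = ⊤) :
    commutator ↥(fixSub M24 L) = ⊤ := by
  rw [eq_top_iff, ← hgen]
  exact Subgroup.normalClosure_le_normal (AL_le_commutator hL h)

/-! ### The action on the octads through the points of `L` -/

theorem fixSub_smul_def (g : ↥(fixSub M24 L)) (s : Finset GolayPt) :
    g • s = (g : Equiv.Perm GolayPt) • s := rfl

/-- The octad masks through the points of `L`. -/
def octMasksThru (L : List ℕ) : List ℕ := octMasks.filter (fun m => L.all (fun j => m.testBit j))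

/-- The octad masks through the points of `L` meeting the base octad in `k` points. -/
def octMasksThruMeet (L : List ℕ) (k : ℕ) : List ℕ :=
  (octMasksThru L).filter (fun m => popc (m &&& baseOctad) == k)

theorem gPt_mem_ptsMask {m j : ℕ} (hj : j < 24) : gPt j ∈ ptsMask m ↔ m.testBit j = true := by
  rw [mem_ptsMask, gIdx_gPt hj]

theorem mem_octMasksThru (hL : inOct L) {m : ℕ} (hm : m ∈ octMasks)
    (h : ∀ j ∈ L, gPt j ∈ ptsMask m) : m ∈ octMasksThru L := by
  unfold octMasksThru
  rw [List.mem_filter, List.all_eq_true]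
  refine ⟨hm, fun j hj => ?_⟩
  exact (gPt_mem_ptsMask (lt_of_inOct hL hj)).1 (h j hj)

theorem gPt_mem_oct0 (hL : inOct L) {j : ℕ} (hj : j ∈ L) : gPt j ∈ oct0 := by
  rw [mem_oct0_iff, gIdx_gPt (lt_of_inOct hL hj)]
  exact hL j hj

/-- Transitivity of `G_L` on the octads through the points of `L`, from an orbit certificate. -/
theorem exists_fixSub_smul_oct0 (hL : inOct L) {ws : List (List ℕ)} (hws : ∀ w ∈ ws, fixesL L w = true)
    {cert : List (ℕ × ℕ)} (hcert : orbCheck (wordTis ws) baseOctad cert (octMasksThru L) = true)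
    {y : Finset GolayPt} (hy : y ∈ octads) (hyL : ∀ j ∈ L, gPt j ∈ y) :
    ∃ g ∈ fixSub M24 L, g • oct0 = y := by
  obtain ⟨m, hm, rfl⟩ := exists_octMask hy
  have hs := orbCheck_words_sound (fixSub M24 L) ws (fun w hw => wordPerm_mem_fixSub hL (hws w hw)) hcert
  exact reach_smul (hs m (mem_octMasksThru hL hm hyL))

/-- The words preserve the base octad and fix the points of `L`. -/
def stabWordsOK (L : List ℕ) (hs : List (List ℕ)) : Bool :=
  hs.all (fun w => presCheck w baseOctad && fixesL L w)

theorem stabWords_mem (hL : inOct L) {hs : List (List ℕ)} (h : stabWordsOK L hs = true) :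
    ∀ w ∈ hs, wordPerm w ∈ fixSub (stabMask baseOctad) L := by
  intro w hw
  have := List.all_eq_true.1 h w hw
  rw [Bool.and_eq_true] at this
  rw [mem_fixSub]
  exact ⟨wordPerm_mem_stabMask this.1, (mem_fixSub.1 (wordPerm_mem_fixSub hL this.2)).2⟩

/-- Suborbits: two octads through `L` meeting the base octad in equally many (2 or 4) points are conjugate under the
stabilizer of the base octad in `G_L`. -/
theorem oct0_orbits_thru (hL : inOct L) {hs : List (List ℕ)} (hhs : stabWordsOK L hs = true)
    {s2 s4 : ℕ} {c2 c4 : List (ℕ × ℕ)}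
    (h2 : orbCheck (wordTis hs) s2 c2 (octMasksThruMeet L 2) = true)
    (h4 : orbCheck (wordTis hs) s4 c4 (octMasksThruMeet L 4) = true)
    {o' o'' : Finset GolayPt} (ho' : o' ∈ octads) (ho'' : o'' ∈ octads)
    (hL' : ∀ j ∈ L, gPt j ∈ o') (hL'' : ∀ j ∈ L, gPt j ∈ o'')
    (h : (oct0 ∩ o').card = (oct0 ∩ o'').card) (hne : (oct0 ∩ o').card = 2 ∨ (oct0 ∩ o').card = 4) :
    ∃ g ∈ fixSub (stabMask baseOctad) L, g • o' = o'' := by
  obtain ⟨m', hm', rfl⟩ := exists_octMask ho'
  obtain ⟨m'', hm'', rfl⟩ := exists_octMask ho''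
  unfold oct0 at h hne
  rw [card_ptsMask_inter, Nat.land_comm baseOctad m'] at h hne
  rw [card_ptsMask_inter, Nat.land_comm baseOctad m''] at h
  have key : ∀ (k start : ℕ) (cert : List (ℕ × ℕ)),
      orbCheck (wordTis hs) start cert (octMasksThruMeet L k) = true →
      popc (m' &&& baseOctad) = k →
      ∃ g ∈ fixSub (stabMask baseOctad) L, g • ptsMask m' = ptsMask m'' := by
    intro k start cert hcert hk
    have h1 : m' ∈ octMasksThruMeet L k := by
      unfold octMasksThruMeet
      rw [List.mem_filter, beq_iff_eq]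
      exact ⟨mem_octMasksThru hL hm' hL', hk⟩
    have h2 : m'' ∈ octMasksThruMeet L k := by
      unfold octMasksThruMeet
      rw [List.mem_filter, beq_iff_eq]
      exact ⟨mem_octMasksThru hL hm'' hL'', by rw [← h, hk]⟩
    have hsd := orbCheck_words_sound (fixSub (stabMask baseOctad) L) hs (stabWords_mem hL hhs) hcert
    obtain ⟨g', hg', e'⟩ := reach_smul (hsd m' h1)
    obtain ⟨g'', hg'', e''⟩ := reach_smul (hsd m'' h2)
    refine ⟨g'' * g'⁻¹, Subgroup.mul_mem _ hg'' (Subgroup.inv_mem _ hg'), ?_⟩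
    rw [← e', mul_smul, inv_smul_smul, e'']
  rcases hne with hne | hne
  · exact key 2 _ _ h2 hne
  · exact key 4 _ _ h4 hne

/-- The points with indices in `L`. -/
def ptsL (L : List ℕ) : Finset GolayPt := (L.map gPt).toFinset

theorem ptsL_subset_iff {o : Finset GolayPt} : ptsL L ⊆ o ↔ ∀ j ∈ L, gPt j ∈ o := by
  unfold ptsL
  constructor
  · intro h j hj
    exact h (List.mem_toFinset.2 (List.mem_map.2 ⟨j, hj, rfl⟩))
  · intro h p hp
    rw [List.mem_toFinset, List.mem_map] at hp
    obtain ⟨j, hj, rfl⟩ := hp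
    exact h j hj

theorem card_ptsL (hL : inOct L) (hnd : L.Nodup) : (ptsL L).card = L.length := by
  unfold ptsL
  rw [List.toFinset_card_of_nodup, List.length_map]
  apply List.Nodup.map_on _ hnd
  intro a ha b hb hab
  have := congrArg gIdx hab
  rwa [gIdx_gPt (lt_of_inOct hL ha), gIdx_gPt (lt_of_inOct hL hb)] at this

theorem ptsL_subset_oct0 (hL : inOct L) : ptsL L ⊆ oct0 :=
  ptsL_subset_iff.2 (fun _ hj => gPt_mem_oct0 hL hj)

/-- Maximality of the stabilizer of the base octad in `G_L`, from orbit certificates. -/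
theorem isCoatom_stabilizer_oct0_of_certs (hL : inOct L) (hnd : L.Nodup) (hlen : 1 ≤ L.length ∧ L.length ≤ 2)
    (N n4 n2 : ℕ)
    (hN : ((blocksF octads).filter (fun o => ptsL L ⊆ o)).card = N) (hN1 : 1 < N)
    (hn4 : Nat.choose (8 - L.length) (4 - L.length) * 4 = n4)
    (hn2 : Nat.choose (8 - L.length) (2 - L.length) * 16 = n2)
    {ws : List (List ℕ)} (hws : ∀ w ∈ ws, fixesL L w = true)
    {cert : List (ℕ × ℕ)} (hcert : orbCheck (wordTis ws) baseOctad cert (octMasksThru L) = true)
    {hs : List (List ℕ)} (hhs : stabWordsOK L hs = true)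
    {s2 s4 : ℕ} {c2 c4 : List (ℕ × ℕ)}
    (h2 : orbCheck (wordTis hs) s2 c2 (octMasksThruMeet L 2) = true)
    (h4 : orbCheck (wordTis hs) s4 c4 (octMasksThruMeet L 4) = true)
    (harith : ∀ A ∈ ({2, 4, 8} : Finset ℕ).powerset, 8 ∈ A →
      (∑ j ∈ A, (if j = 2 then n2 else if j = 4 then n4 else 1)) ∣ N →
      (∑ j ∈ A, (if j = 2 then n2 else if j = 4 then n4 else 1)) = 1 ∨
        (∑ j ∈ A, (if j = 2 then n2 else if j = 4 then n4 else 1)) = N) :
    IsCoatom (MulAction.stabilizer ↥(fixSub M24 L) oct0) := by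
  classical
  have hC := golayCode_isAbsGolay
  have hP := ptsL_subset_oct0 hL
  have hPc := card_ptsL hL hnd
  have h8 : oct0.card = 8 := oct0_mem_octads.2
  apply isCoatom_stabilizer_of_suborbits (G := ↥(fixSub M24 L)) oct0
    ((blocksF octads).filter (fun o => ptsL L ⊆ o))
    (fun y => by
      rw [Finset.mem_filter, mem_blocksF]
      constructor
      · rintro ⟨hy, hPy⟩
        obtain ⟨g, hg, h⟩ := exists_fixSub_smul_oct0 hL hws hcert hy (ptsL_subset_iff.1 hPy)
        exact ⟨⟨g, hg⟩, h⟩
      · rintro ⟨g, rfl⟩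
        refine ⟨smul_mem_octads (mem_fixSub.1 g.2).1 oct0_mem_octads, ?_⟩
        rw [ptsL_subset_iff]
        intro j hj
        have h1 := (mem_fixSub.1 g.2).2 j hj
        rw [fixSub_smul_def, ← h1, ← Equiv.Perm.smul_def]
        exact Finset.smul_mem_smul_finset (gPt_mem_oct0 hL hj))
    (fun y => (oct0 ∩ y).card) {2, 4, 8}
    (fun y hy => by
      rw [Finset.mem_filter, mem_blocksF] at hy
      simp only [Finset.mem_insert, Finset.mem_singleton]
      have hsub : ptsL L ⊆ oct0 ∩ y := Finset.subset_inter hP hy.2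
      have hpos : 1 ≤ (oct0 ∩ y).card := by
        have := Finset.card_le_card hsub
        omega
      rcases octad_inter_cases hC oct0_mem_octads hy.1 with h | h | h | h
      · omega
      · exact Or.inl h
      · exact Or.inr (Or.inl h)
      · exact Or.inr (Or.inr h))
    (fun y hy y' hy' hc => by
      rw [Finset.mem_filter, mem_blocksF] at hy hy'
      have hsub : ptsL L ⊆ oct0 ∩ y := Finset.subset_inter hP hy.2
      have hpos : 1 ≤ (oct0 ∩ y).card := by
        have := Finset.card_le_card hsub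
        omega
      rcases octad_inter_cases hC oct0_mem_octads hy.1 with h | h | h | h
      · omega
      · obtain ⟨g, hg, e⟩ := oct0_orbits_thru hL hhs h2 h4 hy.1 hy'.1 (ptsL_subset_iff.1 hy.2)
          (ptsL_subset_iff.1 hy'.2) hc (Or.inl h)
        rw [mem_fixSub, mem_stabMask_iff_smul] at hg
        exact ⟨⟨g, mem_fixSub.2 ⟨hg.1.1, hg.2⟩⟩, MulAction.mem_stabilizer_iff.2 hg.1.2, e⟩
      · obtain ⟨g, hg, e⟩ := oct0_orbits_thru hL hhs h2 h4 hy.1 hy'.1 (ptsL_subset_iff.1 hy.2)
          (ptsL_subset_iff.1 hy'.2) hc (Or.inr h)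
        rw [mem_fixSub, mem_stabMask_iff_smul] at hg
        exact ⟨⟨g, mem_fixSub.2 ⟨hg.1.1, hg.2⟩⟩, MulAction.mem_stabilizer_iff.2 hg.1.2, e⟩
      · have e1 : oct0 ∩ y = oct0 := Finset.eq_of_subset_of_card_le Finset.inter_subset_left (by omega)
        have e2 : oct0 ∩ y = y :=
          Finset.eq_of_subset_of_card_le Finset.inter_subset_right (by rw [h, hy.1.2])
        have h' : (oct0 ∩ y').card = 8 := by rw [← hc, h]
        have e1' : oct0 ∩ y' = oct0 :=
          Finset.eq_of_subset_of_card_le Finset.inter_subset_left (by omega)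
        have e2' : oct0 ∩ y' = y' :=
          Finset.eq_of_subset_of_card_le Finset.inter_subset_right (by rw [h', hy'.1.2])
        refine ⟨1, Subgroup.one_mem _, ?_⟩
        rw [one_smul, ← e2, e1, ← e2', e1'])
    (by rw [hN]; exact hN1)
    (fun j => if j = 2 then n2 else if j = 4 then n4 else 1)
    (fun j hj => by
      simp only [Finset.mem_insert, Finset.mem_singleton] at hj
      rw [Finset.filter_filter]
      rcases hj with rfl | rfl | rfl
      · have h := card_octads_thru_meet_card hC oct0_mem_octads hP 2 16 (by omega)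
          (fun s hs h2 => card_octads_meet_two hC oct0_mem_octads hs h2)
        rw [hPc, hn2] at h
        exact h
      · have h := card_octads_thru_meet_card hC oct0_mem_octads hP 4 4 (by omega)
          (fun s hs h4 => card_octads_meet_four hC oct0_mem_octads hs h4)
        rw [hPc, hn4] at h
        exact h
      · show _ = 1
        rw [Finset.card_eq_one]
        refine ⟨oct0, ?_⟩
        ext o'
        rw [Finset.mem_filter, Finset.mem_singleton, mem_blocksF]
        constructor
        · rintro ⟨ho', -, h⟩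
          have e1 : oct0 ∩ o' = oct0 :=
            Finset.eq_of_subset_of_card_le Finset.inter_subset_left (by omega)
          have e2 : oct0 ∩ o' = o' :=
            Finset.eq_of_subset_of_card_le Finset.inter_subset_right (by rw [h, ho'.2])
          rw [← e2, e1]
        · rintro rfl
          exact ⟨oct0_mem_octads, hP, by rw [Finset.inter_self, h8]⟩)
  rw [hN, Finset.inter_self, h8]
  exact harith

/-! ### Faithfulness -/

theorem steiner_counts_lt : ∀ i ≤ 4, ∀ a b : ℕ, a * Nat.choose (8 - i) (5 - i) = Nat.choose (24 - i) (5 - i) →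
    b * Nat.choose (8 - (i + 1)) (5 - (i + 1)) = Nat.choose (24 - (i + 1)) (5 - (i + 1)) → b < a := by
  intro i hi a b
  interval_cases i
  · have e1 : Nat.choose (8 - 0) (5 - 0) = 56 := by decide
    have e2 : Nat.choose (24 - 0) (5 - 0) = 42504 := by decide
    have e3 : Nat.choose (8 - (0 + 1)) (5 - (0 + 1)) = 35 := by decide
    have e4 : Nat.choose (24 - (0 + 1)) (5 - (0 + 1)) = 8855 := by decide
    rw [e1, e2, e3, e4]; omega
  · have e1 : Nat.choose (8 - 1) (5 - 1) = 35 := by decide
    have e2 : Nat.choose (24 - 1) (5 - 1) = 8855 := by decide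
    have e3 : Nat.choose (8 - (1 + 1)) (5 - (1 + 1)) = 20 := by decide
    have e4 : Nat.choose (24 - (1 + 1)) (5 - (1 + 1)) = 1540 := by decide
    rw [e1, e2, e3, e4]; omega
  · have e1 : Nat.choose (8 - 2) (5 - 2) = 20 := by decide
    have e2 : Nat.choose (24 - 2) (5 - 2) = 1540 := by decide
    have e3 : Nat.choose (8 - (2 + 1)) (5 - (2 + 1)) = 10 := by decide
    have e4 : Nat.choose (24 - (2 + 1)) (5 - (2 + 1)) = 210 := by decide
    rw [e1, e2, e3, e4]; omega
  · have e1 : Nat.choose (8 - 3) (5 - 3) = 10 := by decide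
    have e2 : Nat.choose (24 - 3) (5 - 3) = 210 := by decide
    have e3 : Nat.choose (8 - (3 + 1)) (5 - (3 + 1)) = 4 := by decide
    have e4 : Nat.choose (24 - (3 + 1)) (5 - (3 + 1)) = 20 := by decide
    rw [e1, e2, e3, e4]; omega
  · have e1 : Nat.choose (8 - 4) (5 - 4) = 4 := by decide
    have e2 : Nat.choose (24 - 4) (5 - 4) = 20 := by decide
    have e3 : Nat.choose (8 - (4 + 1)) (5 - (4 + 1)) = 1 := by decide
    have e4 : Nat.choose (24 - (4 + 1)) (5 - (4 + 1)) = 1 := by decide
    rw [e1, e2, e3, e4]; omega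

/-- There is an octad through a set of at most four points avoiding a further point. -/
theorem exists_octad_separating_set {I : Finset GolayPt} (hI : I.card ≤ 4) {r : GolayPt} (hr : r ∉ I) :
    ∃ o ∈ octads, I ⊆ o ∧ r ∉ o := by
  classical
  have h1 := steiner_count octads_isSteinerSystem I (by omega)
  have h2 := steiner_count octads_isSteinerSystem (insert r I)
    (by rw [Finset.card_insert_of_notMem hr]; omega)
  rw [card_GolayPt] at h1
  rw [Finset.card_insert_of_notMem hr, card_GolayPt] at h2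
  have hlt := steiner_counts_lt I.card hI _ _ h1 h2
  by_contra hcon
  push Not at hcon
  have hsub : (blocksF octads).filter (I ⊆ ·) ⊆ (blocksF octads).filter (insert r I ⊆ ·) := by
    intro o ho
    rw [Finset.mem_filter, mem_blocksF] at ho
    rw [Finset.mem_filter, mem_blocksF]
    refine ⟨ho.1, ?_⟩
    intro x hx
    rw [Finset.mem_insert] at hx
    rcases hx with rfl | hx
    · exact hcon o ho.1 ho.2
    · exact ho.2 hx
  have := Finset.card_le_card hsub
  omega

/-- An element of `G_L` fixing every octad through the points of `L` is trivial. -/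
theorem eq_one_of_fixes_octads_thru (hL : inOct L) (hnd : L.Nodup) (hlen : L.length ≤ 3)
    {g : Equiv.Perm GolayPt} (hg : g ∈ fixSub M24 L)
    (h : ∀ o ∈ octads, ptsL L ⊆ o → g • o = o) : g = 1 := by
  classical
  apply Equiv.ext
  intro q
  rw [Equiv.Perm.one_apply]
  by_contra hne
  have hgfix := (mem_fixSub.1 hg).2
  have hqP : q ∉ ptsL L := by
    intro hq
    unfold ptsL at hq
    rw [List.mem_toFinset, List.mem_map] at hq
    obtain ⟨j, hj, rfl⟩ := hq
    exact hne (hgfix j hj)
  have hrP : g q ∉ ptsL L := by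
    intro hr
    unfold ptsL at hr
    rw [List.mem_toFinset, List.mem_map] at hr
    obtain ⟨j, hj, hjq⟩ := hr
    have := hgfix j hj
    rw [hjq] at this
    exact hne (g.injective this)
  have hrI : g q ∉ insert q (ptsL L) := by
    rw [Finset.mem_insert]
    rintro (h' | h')
    · exact hne h'
    · exact hrP h'
  obtain ⟨o, ho, hIo, hro⟩ := exists_octad_separating_set (I := insert q (ptsL L))
    (by rw [Finset.card_insert_of_notMem hqP, card_ptsL hL hnd]; omega) hrI
  have hPo : ptsL L ⊆ o := (Finset.subset_insert _ _).trans hIo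
  have hqo : q ∈ o := hIo (Finset.mem_insert_self _ _)
  have := h o ho hPo
  apply hro
  rw [← this, ← Equiv.Perm.smul_def]
  exact Finset.smul_mem_smul_finset hqo

/-! ### Simplicity -/

/-- The data of the certificates for `G_L`. -/
structure IwCert (L : List ℕ) where
  ws : List (List ℕ)
  chain : List (ℕ × List (List ℕ))
  facts : List (List (List ℕ × ℕ))
  commT : List (List ℕ × ℕ)
  cert : List (ℕ × ℕ)
  hs : List (List ℕ)
  s2 : ℕ
  s4 : ℕ
  c2 : List (ℕ × ℕ)
  c4 : List (ℕ × ℕ)

/-- Validity of the certificates. -/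
def IwCert.ok {L : List ℕ} (D : IwCert L) : Prop :=
  (∀ w ∈ D.ws, fixesL L w = true) ∧
  chainCheck [] (metaChain D.ws D.chain) = true ∧
  gensFactOK L D.ws D.facts = true ∧
  commOKL L D.commT = true ∧
  orbCheck (wordTis D.ws) baseOctad D.cert (octMasksThru L) = true ∧
  stabWordsOK L D.hs = true ∧
  orbCheck (wordTis D.hs) D.s2 D.c2 (octMasksThruMeet L 2) = true ∧
  orbCheck (wordTis D.hs) D.s4 D.c4 (octMasksThruMeet L 4) = true

theorem isSimpleGroup_fixSub (hL : inOct L) (hnd : L.Nodup) (hlen : 1 ≤ L.length ∧ L.length ≤ 2)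
    (D : IwCert L) (hD : D.ok)
    (hcard : Nat.card (fixSub M24 L) ≤ ((metaChain D.ws D.chain).map (fun c => c.2.length)).prod)
    (N n4 n2 : ℕ)
    (hN : ((blocksF octads).filter (fun o => ptsL L ⊆ o)).card = N) (hN1 : 1 < N)
    (hn4 : Nat.choose (8 - L.length) (4 - L.length) * 4 = n4)
    (hn2 : Nat.choose (8 - L.length) (2 - L.length) * 16 = n2)
    (harith : ∀ A ∈ ({2, 4, 8} : Finset ℕ).powerset, 8 ∈ A →
      (∑ j ∈ A, (if j = 2 then n2 else if j = 4 then n4 else 1)) ∣ N →
      (∑ j ∈ A, (if j = 2 then n2 else if j = 4 then n4 else 1)) = 1 ∨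
        (∑ j ∈ A, (if j = 2 then n2 else if j = 4 then n4 else 1)) = N) :
    IsSimpleGroup ↥(fixSub M24 L) := by
  classical
  obtain ⟨h1, h2, h3, h4, h5, h6, h7, h8⟩ := hD
  have hgen : wordsClosure D.ws = fixSub M24 L :=
    wordsClosure_eq_of_chain _ _ _ (fun w hw => wordPerm_mem_fixSub hL (h1 w hw)) h2 hcard
  have hnc := normalClosure_AL_eq_top hL hgen h3
  have hperf := commutator_fixSub_eq_top hL h4 hnc
  have hco := isCoatom_stabilizer_oct0_of_certs hL hnd hlen N n4 n2 hN hN1 hn4 hn2 h1 h5 h6 h7 h8 harith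
  have hnt : Nontrivial ↥(fixSub M24 L) := by
    by_contra hcon
    rw [not_nontrivial_iff_subsingleton] at hcon
    have : MulAction.stabilizer ↥(fixSub M24 L) oct0 = ⊤ := Subsingleton.elim _ _
    exact hco.1 this
  apply isSimpleGroup_of_iwasawa (MulAction.stabilizer ↥(fixSub M24 L) oct0) (AL L) hco
  · intro a ha b hb
    apply Subtype.ext
    unfold AL at ha hb
    rw [Subgroup.mem_subgroupOf] at ha hb
    exact K0_comm ha hb
  · intro h hh a ha
    unfold AL at ha ⊢
    rw [Subgroup.mem_subgroupOf] at ha ⊢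
    rw [MulAction.mem_stabilizer_iff, fixSub_smul_def] at hh
    rw [K0_eq, Subgroup.mem_inf] at ha ⊢
    refine ⟨(mem_fixSub.1 (h * a * h⁻¹).2).1, ?_⟩
    rw [mem_fixingSubgroup_iff] at ha ⊢
    intro p hp
    have hp' : (h.1)⁻¹ p ∈ (oct0 : Set GolayPt) := by
      rw [Finset.mem_coe] at hp ⊢
      rw [← hh] at hp
      rw [Finset.mem_smul_finset] at hp
      obtain ⟨q, hq, rfl⟩ := hp
      rw [Equiv.Perm.smul_def, Equiv.Perm.inv_def, Equiv.symm_apply_apply]
      exact hq
    have := ha.2 _ hp'
    rw [Equiv.Perm.smul_def] at this ⊢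
    show h.1 (a.1 ((h.1)⁻¹ p)) = p
    rw [this, Equiv.Perm.inv_def, Equiv.apply_symm_apply]
  · exact hnc
  · exact hperf
  · intro N' hN' hle
    apply eq_bot_of_normal_le_stabilizer
      ({o | o ∈ octads ∧ ptsL L ⊆ o} : Set (Finset GolayPt)) ?_ oct0 ?_ N' hN' hle
    · intro g hg
      apply Subtype.ext
      exact eq_one_of_fixes_octads_thru hL hnd (by omega) g.2 (fun o ho hPo => hg o ⟨ho, hPo⟩)
    · rintro y ⟨hy, hPy⟩
      obtain ⟨g, hg, e⟩ := exists_fixSub_smul_oct0 hL h1 h5 hy (ptsL_subset_iff.1 hPy)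
      exact ⟨⟨g, hg⟩, e⟩

end Generic

end Cfsg.Agent.Lib.H28
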