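/-
helper28 library: instances (M23, M22) of Iwasawa's criterion for the pointwise stabilizers in `M24` of one or two points of the base octad
(the groups `M23` and `M22`), acting on the octads through these points; certificates for generation, perfectness,
suborbits.
-/
import Cfsg.Agent.Lib.H28.OctadIwasawa

set_option autoImplicit false

namespace Cfsg.Agent.Lib.H28

open Cfsg

set_option maxRecDepth 1000000 in
def m23Cert : IwCert [23] where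
  ws := [[0], [3]]
  chain := [
    (0, [[], [0], [0, 0], [0, 0, 0], [1, 1, 0], [2, 3, 0], [3, 0], [0, 3, 0], [0, 0, 3, 0], [1, 2, 1, 2], [1, 0, 3, 2], [3, 3, 2], [0, 3, 3, 2], [2, 1, 2], [1, 2], [0, 1, 2], [0, 0, 1, 2], [1, 1, 2], [1, 0], [3, 2], [0, 3, 2], [2, 2], [2]]),
    (1, [[], [3, 3], [0, 1, 0, 1, 0, 3, 3], [1, 1], [0, 0, 1, 2, 3, 0], [3], [0, 0, 3, 2, 2, 2], [0, 0, 3, 0, 3, 2], [2, 1, 0, 3, 2, 2], [0, 1, 2, 1, 2, 2], [0, 1, 2, 2, 2, 2], [2, 1, 1, 0, 0, 3], [1, 2, 2, 3, 3, 0], [0, 0, 1, 2, 3, 0, 3], [2, 2, 3, 3, 0, 1], [2, 2, 3, 3, 0], [0, 0, 0, 1, 2, 2], [1], [0, 1, 2, 1, 2, 2, 3], [2, 1, 0, 0, 3, 0, 0], [1, 0, 0, 1, 2, 3, 0], [0, 0, 1, 1, 0, 3, 0]]),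
    (2, [[], [1, 0, 1, 0, 1, 0], [0, 1, 2, 1, 1, 2, 1, 0, 0], [2, 2, 3, 0, 0, 1, 1, 0], [0, 0, 3, 2, 3, 2, 2, 2, 1], [0, 1, 2, 3, 3, 0, 1, 0, 0], [1, 2, 1, 1, 0, 0, 1], [1, 2, 1, 2, 3, 3, 2, 2], [3, 0, 1, 2, 2, 2, 2, 1], [0, 1, 2, 2, 2, 2, 1, 1], [3, 2, 2, 3, 3, 0, 3], [1, 0, 3, 3, 0, 3, 2, 1, 2], [3, 2, 1, 1, 2, 3, 0, 0, 0], [2, 2, 3, 3, 0, 3, 3], [0, 0, 1, 0, 1, 0, 1, 1, 2], [3, 0, 0, 0, 0, 3, 2, 1], [1, 1, 0, 3, 3, 2, 1, 0, 3], [0, 0, 3, 2, 3, 0, 3, 2, 1], [1, 1, 2, 1, 1, 0, 0], [3, 3, 0, 0, 0, 0, 3, 2], [2, 3, 3, 2, 2, 1, 0, 0]]),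
    (3, [[], [0, 1, 0, 1, 0, 1], [2, 3, 3, 2, 2, 2, 3, 2, 1, 0, 0], [3, 3, 0, 0, 1, 0, 3, 0, 0], [0, 0, 0, 0, 0, 3, 0, 0, 0, 3, 2, 3, 2], [0, 3, 2, 3, 2, 2, 3, 3, 0, 1, 0], [2, 3, 2, 1, 0, 3, 0, 3, 0, 1], [2, 2, 1, 1, 2, 3, 0, 1, 0, 0, 0, 0, 0], [2, 1, 2, 3, 0, 1, 1, 0, 1, 1], [0, 1, 1, 2, 3, 2, 2, 2, 1, 2, 1, 0], [2, 3, 0, 0, 0, 1, 2, 2, 2, 1, 0], [1, 0, 0, 0, 1, 1, 2, 3, 0], [0, 0, 0, 0, 0, 3, 0, 0, 0, 0, 1], [1, 1, 0, 3, 3, 0, 0, 3, 3, 0, 1, 2], [2, 1, 0, 3, 3, 2, 2, 2, 3], [2, 3, 0, 0, 0, 3, 2, 2, 2, 1, 0], [2, 2, 1, 2, 3, 2, 2, 1, 1], [2, 3, 2, 1, 1, 0, 0, 1, 0, 1, 2], [3, 2, 1, 2, 1, 2, 3, 0, 1, 0], [1, 2, 2, 3, 2, 2, 1, 0, 3, 3, 2]]),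
    (4, [[], [1, 1, 2, 1, 2, 2, 2, 1, 2, 1, 2, 1, 1], [2, 3, 0, 0, 1, 0, 1, 2, 2, 3, 0, 0, 3, 0, 1], [1, 0, 3, 3, 0, 1, 1, 0, 0, 1, 0, 3, 2, 1], [2, 1, 2, 2, 2, 3, 0, 3, 2, 2, 2, 2, 3], [3, 2, 1, 2, 2, 1, 0, 0, 3, 2, 3, 2, 2, 1, 0], [2, 1, 1, 2, 3, 0, 1, 0, 0, 0, 0], [2, 3, 3, 2, 3, 0, 0, 0, 1, 0, 3, 3], [0, 1, 0, 0, 3, 0, 3, 2, 1, 0, 3, 3, 2, 1], [3, 0, 3, 2, 2, 3, 3, 0, 0, 1, 2, 1, 2, 1, 0], [2, 3, 0, 1, 1, 2, 3, 2, 2, 1, 0, 0, 0, 0], [2, 3, 3, 2, 3, 2, 2, 2, 3, 2, 2, 1, 2, 2], [3, 2, 3, 2, 1, 0, 1, 1, 0, 3, 3, 0, 3, 0], [2, 2, 2, 2, 3, 2, 1, 0, 3, 3, 0], [3, 2, 2, 2, 1, 2, 1, 2, 3, 2, 1, 1], [1, 0, 3, 0, 0, 0, 3, 2, 2, 1, 0, 1, 1, 0]]),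
    (5, [[], [3, 2, 3, 2, 2, 1, 1, 2, 1, 0, 3, 2, 3, 2, 3], [1, 0, 1, 0, 1, 2, 3, 0, 3, 3, 0, 0, 1, 0, 1]])]
  facts := [[([4, 0, 3, 1, 3], 8), ([0, 3, 1, 4], 18), ([4, 1], 11)], [([1, 1], 6), ([3, 3, 1, 1], 6)]]
  commT := [
    ([], 0),
    ([], 0),
    ([], 0),
    ([], 0),
    ([], 0),
    ([], 0),
    ([1, 1, 4, 1, 4], 7),
    ([3, 0, 3, 0, 0], 9),
    ([3, 3, 1, 3, 3], 11),
    ([1, 1, 4, 1, 4], 6),
    ([3, 3, 1, 3, 3], 6),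
    ([3, 0, 3, 0, 0], 6),
    ([3, 0, 3, 0, 0], 11),
    ([4, 4, 0, 4, 4], 16),
    ([], 0),
    ([4, 4, 0, 4, 4], 10),
    ([4, 4, 0, 4, 4], 6),
    ([], 0),
    ([4, 4, 0, 4, 4], 7),
    ([4, 4, 0, 4, 4], 8),
    ([3, 3, 1, 3, 3], 7),
    ([3, 3, 1, 3, 3], 8),
    ([1, 1, 4, 1, 4], 9),
    ([], 0)]
  cert := [(47, 0), (47, 1), (94, 0), (2121, 0), (2121, 1), (188, 0), (188, 1), (146, 0), (146, 1), (2075, 0), (2075, 1), (376, 0), (376, 1), (108, 0), (108, 1), (293, 1), (308, 0), (308, 1), (54, 1), (752, 0), (3086, 0), (3086, 1), (217, 0), (586, 0), (586, 1), (1601, 0), (1601, 1), (617, 0), (617, 1), (84, 0), (84, 1), (1348, 0), (1504, 0), (1504, 1), (2076, 0), (2076, 1), (200, 0), (200, 1), (435, 0), (435, 1), (1172, 0), (1172, 1), (1034, 0), (1034, 1), (3203, 0), (3203, 1), (131, 0), (131, 1), (1234, 0), (1234, 1), (11, 0), (11, 1), (168, 0), (168,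 1), (2118, 0), (2118, 1), (2696, 0), (2696, 1), (3009, 0), (3009, 1), (162, 0), (162, 1), (57, 0), (57, 1), (2380, 0), (2380, 1), (400, 0), (400, 1), (1594, 0), (870, 0), (870, 1), (37, 1), (2345, 0), (2345, 1), (228, 0), (228, 1), (2068, 1), (3480, 0), (2311, 0), (2209, 0), (2209, 1), (262, 0), (262, 1), (1825, 1), (2468, 0), (2468, 1), (23, 1), (265, 0), (265, 1), (337, 0), (2104, 0), (2104, 1), (140, 0), (3650, 0), (1297, 0), (1297, 1), (40, 1), (1922, 0), (1922, 1), (1059, 1), (325, 0), (325, 1), (32, 0), (32, 1), (114, 1), (797, 1), (664, 0), (664, 1), (74, 0), (74, 1), (800, 1), (1060, 1), (3189, 0), (3189, 1), (66, 0), (66, 1), (81, 1), (9, 0), (9, 1), (456, 0), (456, 1), (1122, 0), (1122, 1), (596, 0), (596, 1), (2864, 0), (2864, 1), (526, 0), (322, 0), (322, 1), (49, 0), (49, 1), (524, 1), (576, 0), (576, 1), (2193, 0), (840, 0), (840, 1),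 (2144, 0), (2144, 1), (581, 0), (530, 1), (1049, 0), (1049, 1), (674, 1), (112, 0), (12, 0), (12, 1), (280, 0), (3204, 0), (2595, 1), (1413, 0), (1288, 0), (1288, 1), (3844, 0), (3844, 1), (416, 0), (385, 0), (651, 0), (2115, 0), (2115, 1), (64, 0), (518, 1), (77, 0), (77, 1), (1328, 0), (1324, 0), (149, 0), (2058, 0), (2058, 1), (1024, 0), (1024, 1), (3264, 0), (2282, 0), (199, 0), (786, 0), (786, 1), (1543, 1), (18, 1), (521, 0), (912, 1), (42, 1), (2244, 0), (2178, 1), (1193, 0), (1094, 1), (260, 1), (1282, 0), (1282, 1), (2053, 1), (1152, 0), (1152, 1), (3090, 1), (290, 1), (1681, 0), (1681, 1), (282, 0), (282, 1), (1026, 1), (1162, 0), (4, 1), (2098, 0), (3104, 0), (561, 1), (2312, 0), (2312, 1), (2826, 1), (2184, 0), (2184, 1), (832, 1), (771, 1), (1302, 0), (134, 1), (3, 0), (129, 0), (129, 1), (2128, 0), (1355, 0), (2656, 1), (2648, 0), (2048,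 1), (1408, 1), (2432, 0), (2432, 1), (468, 0), (398, 1), (1217, 0), (3076, 1), (1043, 0), (1544, 0), (320, 0), (320, 1), (2224, 0), (2816, 0), (2816, 1), (3362, 0), (1664, 0), (2324, 0), (2324, 1), (528, 1), (1800, 1), (272, 0), (2562, 1), (1, 1), (2604, 0), (6, 1), (259, 1), (3744, 0), (3088, 0), (1538, 1), (353, 0), (2321, 0)]
  hs := [[1, 1, 4, 1, 4], [3, 3, 1, 3, 3]]
  s2 := 8401364
  s4 := 8391797
  c2 := [(468, 0), (468, 1), (3090, 0), (3090, 1), (129, 0), (129, 1), (1632, 0), (1632, 1), (3144, 0), (3144, 1), (2304, 1), (2688, 0), (2688, 1), (1681, 1), (64, 0), (64, 1), (596, 0), (596, 1), (3650, 0), (3650, 1), (1556, 0), (1556, 1), (3264, 0), (3264, 1), (1172, 0), (1172, 1), (192, 0), (192, 1), (24, 0), (24, 1), (2864, 0), (2864, 1), (146, 0), (146, 1), (513, 0), (513, 1), (752, 0), (752, 1), (1112, 1), (1922, 0), (1922, 1), (81, 0), (2648, 1),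 (1504, 0), (1504, 1), (2562, 1), (3009, 0), (3088, 0), (900, 0), (260, 0), (260, 1), (786, 0), (1217, 0), (1024, 0), (1024, 1), (3104, 0), (3104, 1), (664, 0), (1152, 0), (272, 1), (2193, 0), (2193, 1), (400, 0), (400, 1), (322, 0), (456, 1), (16, 0), (16, 1), (1026, 0), (704, 0), (1544, 0), (1544, 1), (2256, 0), (840, 1), (2178, 0), (1282, 0), (769, 1), (160, 0), (160, 1), (3600, 1), (1800, 1), (1601, 0), (1601, 1), (2816, 1), (3392, 1), (1408, 0), (1408, 1), (416, 0), (416, 1), (2434, 1), (1280, 1), (544, 0), (544, 1), (3480, 0), (3480, 1), (530, 1), (2144, 0), (2048, 0), (2048, 1), (3073, 1), (66, 1), (1092, 1), (2560, 0), (3329, 0), (144, 1), (1160, 1), (112, 0), (2113, 1), (200, 0), (2224, 1), (706, 1)]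
  c4 := [(3189, 0), (3189, 1), (595, 0), (595, 1), (1089, 0), (1089, 1), (1200, 0), (1200, 1), (12, 0), (12, 1), (536, 0), (536, 1), (100, 0), (100, 1), (3593, 0), (3593, 1), (228, 0), (228, 1), (6, 0), (6, 1), (2311, 1), (140, 0), (140, 1), (54, 0), (54, 1), (1043, 0), (1043, 1), (21, 0), (21, 1), (1740, 0), (1740, 1), (1122, 0), (1122, 1), (2209, 0), (298, 0), (298, 1), (57, 0), (57, 1), (1049, 0), (1049, 1), (3086, 0), (3086, 1), (435, 1), (1059, 0), (1059, 1), (265, 1), (552, 0), (552, 1), (1034, 0), (1034, 1), (2081, 1), (2710, 0), (2710, 1), (199, 1), (561, 1), (2121, 0), (2121, 1), (37, 0), (37, 1), (282, 0), (282, 1), (1029, 0), (1029, 1), (18, 0), (18, 1), (772, 0), (2118, 0), (2118, 1), (870, 1), (1355, 0), (1355, 1), (2184, 1), (1825, 0), (72, 0), (72, 1), (2098, 0), (1413, 0), (1413, 1), (262, 1), (1572, 0), (3076, 0), (1193, 0), (1193,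 1), (393, 1), (32, 1), (84, 1), (1302, 0), (1302, 1), (259, 0), (259, 1), (2321, 1), (1324, 0), (1324, 1), (42, 1), (1538, 0), (1538, 1), (1037, 0), (9, 1), (564, 0), (564, 1), (74, 1), (1190, 0), (1190, 1), (641, 1), (1052, 1), (225, 1), (651, 1), (586, 0), (450, 0), (134, 0), (134, 1), (308, 0), (293, 0), (293, 1), (288, 1), (268, 1), (1060, 0), (1060, 1), (1543, 0), (2115, 1), (2058, 1), (936, 1), (518, 1), (290, 0), (290, 1), (131, 1), (2595, 1), (217, 0), (99, 0), (132, 1), (154, 1), (3362, 0), (3362, 1), (2189, 1), (23, 1), (3112, 1), (1057, 1), (617, 0), (617, 1)]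

set_option maxRecDepth 1000000 in
def m22Cert : IwCert [0, 23] where
  ws := [[3], [1, 1, 4, 4, 0]]
  chain := [
    (1, [[], [3], [1, 1, 0, 0, 1], [0, 0], [3, 3], [2], [2, 3, 3], [2, 1], [0, 0, 1], [0, 1, 1], [0, 1, 0, 1], [3, 2], [0, 1], [1, 2, 1], [1, 0], [1], [1, 0, 1], [0], [1, 0, 0, 1], [1, 1], [0, 3, 3], [2, 1, 2, 1]]),
    (2, [[], [1, 0, 3, 0, 3, 2], [2, 3, 2, 1, 0], [0, 0, 3, 2, 1, 2], [0, 0, 3, 0, 3, 0], [1, 0, 1, 1, 0, 1], [0, 3, 0], [3, 0, 0, 3, 2], [1, 2, 2, 1, 2, 2], [2, 1, 2, 2, 1, 2], [2, 1, 2], [2, 1, 0, 3], [1, 0, 3, 2, 1], [1, 2, 2], [2, 3, 0, 1, 1, 2], [1, 0, 0, 1, 2], [0, 1, 2, 2, 1], [1, 2, 3, 0], [0, 0, 3], [0, 3, 3, 2, 1, 0], [0, 1, 2, 3, 3, 0, 1]]),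
    (3, [[], [0, 1, 0, 1, 2, 1, 1], [3, 2, 1, 2, 3, 0, 1, 2], [0, 1, 1, 0, 1, 1], [1, 0, 3, 0, 3, 3, 0], [3, 3, 2, 3, 3, 2], [1, 1, 0, 0, 3, 2, 2, 1], [0, 0, 3, 0, 3, 2, 2, 3], [0, 1, 1, 2, 1, 2, 3, 3], [2, 1, 1, 2, 1, 2, 3], [2, 3, 2, 1, 2, 3, 0, 3, 2], [0, 3, 2, 1, 0, 3, 0, 1], [1, 0, 3, 2, 1, 0, 0, 3], [1, 2, 2, 3, 0, 0, 3, 3, 0], [0, 0, 3, 3, 0, 1, 0, 1, 2], [1, 0, 1, 1, 0, 1, 1, 2, 2], [3, 3, 2, 2, 1, 2, 3, 3], [1, 2, 2, 3, 0, 1, 2, 3], [1, 2, 3, 2, 3, 2, 1], [3, 0, 1, 0, 1, 0, 3]]),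
    (4, [[], [1, 1, 2, 2, 1, 2, 1, 2, 3, 3, 2, 1], [0, 3, 2, 1, 1, 0, 0, 3, 2, 1, 0, 1], [3, 2, 2, 3, 3, 2, 3, 3, 2, 1, 1], [3, 2, 1, 2, 3, 3, 2, 1, 1, 2, 2], [1, 2, 3, 2, 2, 3, 2, 3, 0, 1, 0], [3, 0, 1, 2, 1, 0, 3, 2, 3, 3, 2, 1, 2], [2, 2, 1, 2, 3, 3, 0, 1, 0, 1], [1, 2, 1, 2, 1, 0, 3, 2, 2, 1, 0], [3, 0, 3, 2, 2, 1, 0, 3, 2, 3], [3, 2, 3, 3, 0, 1, 0, 0, 3, 2, 1], [2, 2, 1, 0, 1, 0, 1, 1, 0, 1, 0], [0, 0, 3, 2, 3, 0, 3, 2, 3, 0, 3, 3, 2], [2, 3, 0, 1, 0, 1, 2, 2, 1, 2, 3, 0], [0, 0, 3, 3, 0, 1, 1, 0, 3, 0, 1], [3, 0, 1, 2, 2, 3, 2, 1, 1, 0, 1]]),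
    (5, [[], [3, 0, 0, 1, 0, 1, 2, 3, 3, 0, 0], [2, 2, 1, 1, 0, 3, 2, 3, 2, 2, 1]])]
  facts := [[([1, 3, 3, 0, 0, 4, 4], 9), ([1, 1, 4, 4, 0, 4, 1, 1, 4, 4, 0], 22)], [([4, 1, 3, 3, 0, 0], 19), ([3, 1, 3, 3, 0, 0, 4, 1, 3, 3, 0, 0], 8)]]
  commT := [
    ([], 0),
    ([], 0),
    ([], 0),
    ([], 0),
    ([], 0),
    ([], 0),
    ([4, 2, 1, 4, 4, 1, 4, 1, 1, 2], 7),
    ([3, 0, 3, 0, 3, 0], 12),
    ([3, 0, 3, 0, 3, 0], 9),
    ([4, 2, 1, 4, 4, 1, 4, 1, 1, 2], 18),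
    ([4, 2, 1, 4, 4, 1, 4, 1, 1, 2], 13),
    ([2, 0, 0, 3, 0, 3, 3, 0, 2, 3], 15),
    ([4, 2, 1, 4, 4, 1, 4, 1, 1, 2], 20),
    ([2, 0, 0, 3, 0, 3, 3, 0, 2, 3], 16),
    ([], 0),
    ([3, 0, 3, 0, 3, 0], 6),
    ([4, 2, 1, 4, 4, 1, 4, 1, 1, 2], 11),
    ([], 0),
    ([2, 0, 0, 3, 0, 3, 3, 0, 2, 3], 6),
    ([4, 2, 1, 4, 4, 1, 4, 1, 1, 2], 6),
    ([2, 0, 0, 3, 0, 3, 3, 0, 2, 3], 9),
    ([2, 0, 0, 3, 0, 3, 3, 0, 2, 3], 8),
    ([2, 0, 0, 3, 0, 3, 3, 0, 2, 3], 11),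
    ([], 0)]
  cert := [(47, 0), (47, 1), (2121, 0), (2121, 1), (23, 0), (23, 1), (2075, 0), (2075, 1), (2577, 0), (2577, 1), (581, 0), (581, 1), (259, 0), (259, 1), (1037, 0), (1037, 1), (2345, 0), (2345, 1), (21, 0), (21, 1), (3329, 0), (3329, 1), (595, 0), (595, 1), (3, 1), (3073, 0), (3073, 1), (561, 0), (561, 1), (217, 1), (11, 0), (11, 1), (9, 0), (2053, 0), (2053, 1), (325, 0), (325, 1), (1355, 0), (1355, 1), (129, 0), (129, 1), (3593, 0), (3593, 1), (1049, 0), (1049, 1), (1681, 0), (2081, 1), (1029, 0), (385, 1), (1601, 0), (1601, 1), (521, 1), (1089, 0), (1089, 1), (2595, 1), (1043, 0), (1043, 1), (1, 0), (1, 1), (2113, 0), (2189, 0), (1297, 0), (1297, 1), (677, 1), (3009, 0), (3009, 1), (131, 0), (131, 1), (49, 1), (3203, 1), (149, 1), (81, 0), (199, 0), (1059, 1), (435, 0), (1543, 0)]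
  hs := [[4, 2, 1, 4, 4, 1, 4, 1, 1, 2], [3, 0, 3, 0, 3, 0]]
  s2 := 8499969
  s4 := 8391797
  c2 := [(769, 0), (769, 1), (1217, 1), (2193, 0), (337, 0), (1297, 0), (1297, 1), (1601, 0), (129, 0), (3073, 0), (3073, 1), (1681, 0), (3329, 0), (2577, 0), (385, 0)]
  c4 := [(3189, 0), (3189, 1), (2345, 0), (2345, 1), (617, 0), (1355, 0), (1355, 1), (677, 0), (651, 0), (651, 1), (2115, 0), (2115, 1), (199, 0), (57, 0), (57, 1), (1043, 0), (1043, 1), (2311, 0), (1413, 1), (595, 0), (561, 0), (561, 1), (11, 0), (11, 1), (37, 0), (2053, 0), (2053, 1), (3, 0), (353, 0), (353, 1), (1, 0), (1037, 0), (131, 0), (131, 1), (23, 0), (1193, 0), (641, 0), (641, 1), (77, 0), (225, 0), (1029, 1), (2595, 0), (259, 0), (1057, 0), (1057, 1), (2075, 0), (2075, 1), (2321, 0), (1059, 0), (1049, 0), (1089, 0), (2189, 0), (2189, 1), (771, 0), (1543, 0), (325, 1), (2565, 0), (797,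 0), (581, 1)]


theorem inOct_23 : inOct [23] := by
  intro j hj
  have : ∀ j ∈ [23], j ∈ octPts := by decide
  exact this j hj

theorem inOct_0_23 : inOct [0, 23] := by
  intro j hj
  have : ∀ j ∈ [0, 23], j ∈ octPts := by decide
  exact this j hj

theorem m23Cert_ok : m23Cert.ok := by
  refine ⟨?_, ?_, ?_, ?_, ?_, ?_, ?_, ?_⟩
  · decide +kernel
  · decide +kernel
  · decide +kernel
  · decide +kernel
  · decide +kernel
  · decide +kernel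
  · decide +kernel
  · decide +kernel

theorem m22Cert_ok : m22Cert.ok := by
  refine ⟨?_, ?_, ?_, ?_, ?_, ?_, ?_, ?_⟩
  · decide +kernel
  · decide +kernel
  · decide +kernel
  · decide +kernel
  · decide +kernel
  · decide +kernel
  · decide +kernel
  · decide +kernel

theorem card_fixSub_chain :
    Nat.card (fixSub M24 [23]) ≤ 10200960 ∧ Nat.card (fixSub M24 [0, 23]) ≤ 443520 := by
  have h1 := card_fixSub_le M24 (levelFix 1) 0 _ (level_le 1 (by norm_num))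
  have h2 := card_fixSub_le M24 (levelFix 2) 1 _ (level_le 2 (by norm_num))
  have h3 := card_fixSub_le M24 (levelFix 3) 2 _ (level_le 3 (by norm_num))
  have h4 := card_fixSub_le M24 (levelFix 4) 3 _ (level_le 4 (by norm_num))
  have h5 := card_fixSub_le M24 (levelFix 5) 4 _ (level_le 5 (by norm_num))
  have h6 := card_fixSub_le M24 (levelFix 6) 5 _ (level_le 6 (by norm_num))
  have h7 : Nat.card (fixSub M24 (levelFix 7)) = 1 := by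
    rw [fixSub_M24_top]; exact Subgroup.card_bot
  rw [levelSet_card 1 (by norm_num)] at h1
  rw [levelSet_card 2 (by norm_num)] at h2
  rw [levelSet_card 3 (by norm_num)] at h3
  rw [levelSet_card 4 (by norm_num)] at h4
  rw [levelSet_card 5 (by norm_num)] at h5
  rw [levelSet_card 6 (by norm_num)] at h6
  change Nat.card (fixSub M24 [23]) ≤ 23 * Nat.card (fixSub M24 [0, 23]) at h1
  change Nat.card (fixSub M24 [0, 23]) ≤ 22 * Nat.card (fixSub M24 [1, 0, 23]) at h2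
  change Nat.card (fixSub M24 [1, 0, 23]) ≤ 21 * Nat.card (fixSub M24 [2, 1, 0, 23]) at h3
  change Nat.card (fixSub M24 [2, 1, 0, 23]) ≤ 20 * Nat.card (fixSub M24 [3, 2, 1, 0, 23]) at h4
  change Nat.card (fixSub M24 [3, 2, 1, 0, 23]) ≤ 16 * Nat.card (fixSub M24 [4, 3, 2, 1, 0, 23]) at h5
  change Nat.card (fixSub M24 [4, 3, 2, 1, 0, 23]) ≤ 3 * Nat.card (fixSub M24 [5, 4, 3, 2, 1, 0, 23]) at h6
  change Nat.card (fixSub M24 [5, 4, 3, 2, 1, 0, 23]) = 1 at h7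
  constructor <;> omega

theorem card_octads_thru_ptsL {L : List ℕ} (hL : inOct L) (hnd : L.Nodup) (hlen : L.length ≤ 5) :
    ((blocksF octads).filter (fun o => ptsL L ⊆ o)).card * Nat.choose (8 - L.length) (5 - L.length)
      = Nat.choose (24 - L.length) (5 - L.length) := by
  have h := steiner_count octads_isSteinerSystem (ptsL L) (by rw [card_ptsL hL hnd]; exact hlen)
  rw [card_ptsL hL hnd, card_GolayPt] at h
  exact h

/-- The stabilizer of the point `∞` in `M24` is simple. -/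
theorem isSimpleGroup_fixSub_23 : IsSimpleGroup ↥(fixSub M24 [23]) := by
  have hN : ((blocksF octads).filter (fun o => ptsL [23] ⊆ o)).card = 253 := by
    have h := card_octads_thru_ptsL inOct_23 (by decide) (by decide)
    have e1 : Nat.choose (8 - [23].length) (5 - [23].length) = 35 := by decide
    have e2 : Nat.choose (24 - [23].length) (5 - [23].length) = 8855 := by decide
    rw [e1, e2] at h
    omega
  apply isSimpleGroup_fixSub inOct_23 (by decide) (by decide) m23Cert m23Cert_ok ?_ 253 140 112 hN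
    (by norm_num) (by decide) (by decide) (by decide)
  refine le_trans card_fixSub_chain.1 ?_
  decide +kernel

/-- The pointwise stabilizer of the points `∞` and `0` in `M24` is simple. -/
theorem isSimpleGroup_fixSub_0_23 : IsSimpleGroup ↥(fixSub M24 [0, 23]) := by
  have hN : ((blocksF octads).filter (fun o => ptsL [0, 23] ⊆ o)).card = 77 := by
    have h := card_octads_thru_ptsL inOct_0_23 (by decide) (by decide)
    have e1 : Nat.choose (8 - [0, 23].length) (5 - [0, 23].length) = 20 := by decide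
    have e2 : Nat.choose (24 - [0, 23].length) (5 - [0, 23].length) = 1540 := by decide
    rw [e1, e2] at h
    omega
  apply isSimpleGroup_fixSub inOct_0_23 (by decide) (by decide) m22Cert m22Cert_ok ?_ 77 60 16 hN
    (by norm_num) (by decide) (by decide) (by decide)
  refine le_trans card_fixSub_chain.2 ?_
  decide +kernel

end Cfsg.Agent.Lib.H28
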