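/-
helper28 library: pointwise stabilizers in `M24` of arbitrary points are isomorphic to the standard ones `fixSub M24 L`.
-/
import Cfsg.Agent.Lib.H28.M24Order
import Mathlib.Tactic.Group

set_option autoImplicit false

namespace Cfsg.Agent.Lib.H28

open Cfsg

theorem mem_fixSub_conj {g : Equiv.Perm GolayPt} (hg : g ∈ M24) (L : List ℕ) (x : Equiv.Perm GolayPt) :
    g⁻¹ * x * g ∈ fixSub M24 L ↔ x ∈ M24 ∧ ∀ k ∈ L, x (g (gPt k)) = g (gPt k) := by
  rw [mem_fixSub]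
  constructor
  · rintro ⟨h1, h2⟩
    constructor
    · have := M24.mul_mem (M24.mul_mem hg h1) (M24.inv_mem hg)
      have e : g * (g⁻¹ * x * g) * g⁻¹ = x := by group
      rwa [e] at this
    · intro k hk
      have := h2 k hk
      rw [Equiv.Perm.mul_apply, Equiv.Perm.mul_apply, Equiv.Perm.inv_def, Equiv.symm_apply_eq] at this
      exact this
  · rintro ⟨h1, h2⟩
    refine ⟨M24.mul_mem (M24.mul_mem (M24.inv_mem hg) h1) hg, ?_⟩
    intro k hk
    rw [Equiv.Perm.mul_apply, Equiv.Perm.mul_apply, Equiv.Perm.inv_def, Equiv.symm_apply_eq]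
    exact h2 k hk

/-- A subgroup of `M24` cut out by fixing the images under `g ∈ M24` of the points of `L` is isomorphic to
`fixSub M24 L`. -/
noncomputable def fixSubEquiv {g : Equiv.Perm GolayPt} (hg : g ∈ M24) (L : List ℕ) (B : Subgroup ↥M24)
    (hB : ∀ x : ↥M24, x ∈ B ↔ ∀ k ∈ L, x.1 (g (gPt k)) = g (gPt k)) : ↥B ≃* ↥(fixSub M24 L) where
  toFun x := ⟨g⁻¹ * x.1.1 * g, (mem_fixSub_conj hg L _).2 ⟨x.1.2, (hB x.1).1 x.2⟩⟩
  invFun y := ⟨⟨g * y.1 * g⁻¹, M24.mul_mem (M24.mul_mem hg (mem_fixSub.1 y.2).1) (M24.inv_mem hg)⟩, by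
    rw [hB]
    have h := y.2
    have e : g⁻¹ * (g * y.1 * g⁻¹) * g = y.1 := by group
    rw [← e] at h
    exact ((mem_fixSub_conj hg L _).1 h).2⟩
  left_inv x := by
    apply Subtype.ext
    apply Subtype.ext
    show g * (g⁻¹ * x.1.1 * g) * g⁻¹ = x.1.1
    group
  right_inv y := by
    apply Subtype.ext
    show g⁻¹ * (g * y.1 * g⁻¹) * g = y.1
    group
  map_mul' x y := by
    apply Subtype.ext
    show g⁻¹ * (x.1.1 * y.1.1) * g = (g⁻¹ * x.1.1 * g) * (g⁻¹ * y.1.1 * g)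
    group

end Cfsg.Agent.Lib.H28
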