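/-
S2345 piece COMM (architect helper12): `A₀ = 1 + E₀₁` is a commutator of two elements of `sqGL` fixing a given
alternating matrix `T` of rank two that is fixed by `A₀`.
-/
import Mathlib
import Cfsg.Agent.Lib.H12.OPMinDefs

set_option autoImplicit false

namespace Cfsg.Agent.Lib.H28.OPMin

open Matrix Cfsg.Agent.Lib.H12.OPMin

variable {F : Type*} [Field F] {n : ℕ}

/-- a unit whose square is not one, `q ≥ 4` -/
theorem exists_unit_sq_ne_one [Fintype F] (hq : 4 ≤ Fintype.card F) : ∃ t : Fˣ, (t : F) ^ 2 ≠ 1 := by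
  classical
  by_contra h
  push Not at h
  have hsub : (Finset.univ : Finset F) ⊆ {0, 1, -1} := by
    intro x _
    by_cases hx : x = 0
    · simp [hx]
    · have h1 := h (Units.mk0 x hx)
      simp only [Units.val_mk0] at h1
      have h2 : (x - 1) * (x + 1) = 0 := by
        have : (x - 1) * (x + 1) = x ^ 2 - 1 := by ring
        rw [this, h1, sub_self]
      rcases mul_eq_zero.1 h2 with h3 | h3
      · simp [sub_eq_zero.1 h3]
      · simp [eq_neg_of_add_eq_zero_left h3]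
  have h1 := Finset.card_le_card hsub
  have h3 : ({0, 1, -1} : Finset F).card ≤ 3 := Finset.card_le_three
  rw [Finset.card_univ] at h1
  omega

/-! ### rank one perturbations of the identity -/

theorem one_add_smul_mul {P : Matrix (Fin n) (Fin n) F} (hP : P * P = P) (x y : F) :
    (1 + x • P) * (1 + y • P) = 1 + (x + y + x * y) • P := by
  rw [Matrix.add_mul, Matrix.mul_add, Matrix.mul_add, Matrix.one_mul, Matrix.one_mul, Matrix.mul_one,
    Matrix.smul_mul, Matrix.mul_smul, hP, smul_smul, add_smul, add_smul]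
  abel

theorem vmv_idem {u v : Fin n → F} (h : v ⬝ᵥ u = 1) : vecMulVec u v * vecMulVec u v = vecMulVec u v := by
  rw [vecMulVec_mul_vecMulVec, h, one_smul]

theorem dil_aux (l : Fˣ) : ((l : F) - 1) + (((l⁻¹ : Fˣ) : F) - 1) + ((l : F) - 1) * (((l⁻¹ : Fˣ) : F) - 1) = 0 := by
  have h : (l : F) * ((l⁻¹ : Fˣ) : F) = 1 := by rw [← Units.val_mul, mul_inv_cancel, Units.val_one]
  linear_combination h

theorem dil_aux' (l : Fˣ) : (((l⁻¹ : Fˣ) : F) - 1) + ((l : F) - 1) + (((l⁻¹ : Fˣ) : F) - 1) * ((l : F) - 1) = 0 := by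
  have h : (l : F) * ((l⁻¹ : Fˣ) : F) = 1 := by rw [← Units.val_mul, mul_inv_cancel, Units.val_one]
  linear_combination h

/-- the dilation `1 + (l - 1) u vᵀ`, `vᵀ u = 1` -/
def dil (u v : Fin n → F) (h : v ⬝ᵥ u = 1) (l : Fˣ) : GL (Fin n) F :=
  ⟨1 + ((l : F) - 1) • vecMulVec u v, 1 + (((l⁻¹ : Fˣ) : F) - 1) • vecMulVec u v, by
    rw [one_add_smul_mul (vmv_idem h), dil_aux, zero_smul, add_zero], by
    rw [one_add_smul_mul (vmv_idem h), dil_aux', zero_smul, add_zero]⟩

theorem dil_val (u v : Fin n → F) (h : v ⬝ᵥ u = 1) (l : Fˣ) :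
    (dil u v h l).1 = 1 + ((l : F) - 1) • vecMulVec u v := rfl

theorem det_one_add_smul_vmv (u v : Fin n → F) (x : F) :
    det (1 + x • vecMulVec u v) = 1 + x * (v ⬝ᵥ u) := by
  rw [← smul_vecMulVec, vecMulVec_eq Unit, det_one_add_replicateCol_mul_replicateRow, dotProduct_smul, smul_eq_mul]

theorem det_dil (u v : Fin n → F) (h : v ⬝ᵥ u = 1) (l : Fˣ) :
    Matrix.GeneralLinearGroup.det (dil u v h l) = l := by
  apply Units.ext
  rw [Matrix.GeneralLinearGroup.val_det_apply, dil_val, det_one_add_smul_vmv, h]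
  ring

theorem pert_mulVec (u v x : Fin n → F) (s : F) :
    (1 + s • vecMulVec u v) *ᵥ x = x + (s * (v ⬝ᵥ x)) • u := by
  rw [add_mulVec, one_mulVec, smul_mulVec, vecMulVec_mulVec, op_smul_eq_smul, smul_smul]

theorem pert_vecMul (u v x : Fin n → F) (s : F) :
    x ᵥ* (1 + s • vecMulVec u v) = x + (s * (x ⬝ᵥ u)) • v := by
  rw [vecMul_add, vecMul_one, vecMul_smul, vecMul_vecMulVec, smul_smul]

theorem cong_vmv (A : Matrix (Fin n) (Fin n) F) (x y : Fin n → F) :
    Aᵀ * vecMulVec x y * A = vecMulVec (x ᵥ* A) (y ᵥ* A) := by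
  rw [mul_vecMulVec, vecMulVec_mul, mulVec_transpose]

/-! ### the root group `1 + s E₀₁` -/

/-- `1 + s E₀₁` -/
def tv (m : ℕ) (s : F) : GL (Fin (m + 3)) F :=
  ⟨1 + Matrix.single 0 1 s, 1 - Matrix.single 0 1 s, by
    rw [Matrix.add_mul, Matrix.mul_sub, Matrix.mul_sub, Matrix.one_mul, Matrix.mul_one,
      Matrix.single_mul_single_of_ne _ _ _ _ (by simp : (1 : Fin (m + 3)) ≠ 0)]
    simp, by
    rw [Matrix.sub_mul, Matrix.mul_add, Matrix.mul_add, Matrix.one_mul, Matrix.mul_one,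
      Matrix.single_mul_single_of_ne _ _ _ _ (by simp : (1 : Fin (m + 3)) ≠ 0)]
    simp⟩

theorem tv_val (m : ℕ) (s : F) : (tv m s).1 = 1 + Matrix.single 0 1 s := rfl

theorem A0_eq_tv (m : ℕ) : A0 m F = tv m 1 := Units.ext rfl

theorem tv_mul (m : ℕ) (a b : F) : tv m a * tv m b = tv m (a + b) := by
  apply Units.ext
  rw [Units.val_mul, tv_val, tv_val, tv_val, Matrix.add_mul, Matrix.mul_add, Matrix.mul_add, Matrix.one_mul,
    Matrix.one_mul, Matrix.mul_one, Matrix.single_mul_single_of_ne _ _ _ _ (by simp : (1 : Fin (m + 3)) ≠ 0),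
    add_zero, Matrix.single_add, add_assoc, add_comm (Matrix.single 0 1 b)]

theorem det_tv (m : ℕ) (s : F) : Matrix.GeneralLinearGroup.det (tv m s) = 1 := by
  apply Units.ext
  rw [Matrix.GeneralLinearGroup.val_det_apply, tv_val, Units.val_one]
  exact Matrix.det_transvection_of_ne (0 : Fin (m + 3)) 1 (by simp) s

theorem tv_mem_sqGL (m : ℕ) (s : F) : tv m s ∈ sqGL (m + 3) F := by
  rw [mem_sqGL, det_tv]
  exact ⟨1, one_pow 2⟩

theorem single_eq_smul (m : ℕ) (s : F) :
    Matrix.single (0 : Fin (m + 3)) (1 : Fin (m + 3)) s = s • Matrix.single 0 1 (1 : F) := by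
  rw [smul_single, smul_eq_mul, mul_one]

/-- `[B, 1 + d E] = 1 + E` when `B E = α E`, `E B = β E`, `d = β / (α - β)` -/
theorem comm_of_scale (m : ℕ) (B : GL (Fin (m + 3)) F) (α β : F) (hβ : β ≠ 0) (hαβ : α ≠ β)
    (h1 : B.1 * Matrix.single 0 1 1 = α • Matrix.single 0 1 1)
    (h2 : Matrix.single 0 1 1 * B.1 = β • Matrix.single 0 1 1) :
    A0 m F = B * tv m (β / (α - β)) * B⁻¹ * (tv m (β / (α - β)))⁻¹ := by
  have hd : α - β ≠ 0 := sub_ne_zero.2 hαβ
  have key : B * tv m (β / (α - β)) = tv m (α / (α - β)) * B := by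
    apply Units.ext
    rw [Units.val_mul, Units.val_mul, tv_val, tv_val, Matrix.mul_add, Matrix.add_mul, Matrix.mul_one,
      Matrix.one_mul]
    congr 1
    rw [single_eq_smul m (β / (α - β)), single_eq_smul m (α / (α - β)), Matrix.mul_smul, Matrix.smul_mul, h1, h2,
      smul_smul, smul_smul]
    congr 1
    field_simp
  rw [key, mul_assoc (tv m (α / (α - β))) B, mul_inv_cancel, mul_one, eq_mul_inv_iff_mul_eq, A0_eq_tv, tv_mul]
  congr 1
  field_simp
  ring

theorem scale_of_vecs (m : ℕ) (B : Matrix (Fin (m + 3)) (Fin (m + 3)) F) (α β : F)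
    (h1 : B *ᵥ (Pi.single 0 1) = α • (Pi.single 0 1 : Fin (m + 3) → F))
    (h2 : (Pi.single 1 1) ᵥ* B = β • (Pi.single 1 1 : Fin (m + 3) → F)) :
    B * Matrix.single 0 1 1 = α • Matrix.single 0 1 1 ∧ Matrix.single 0 1 1 * B = β • Matrix.single 0 1 1 := by
  rw [single_eq_single_vecMulVec_single, mul_vecMulVec, vecMulVec_mul, h1, h2, smul_vecMulVec, vecMulVec_smul]
  exact ⟨rfl, rfl⟩

theorem single_dot_single_ne (m : ℕ) :
    (Pi.single 1 1 : Fin (m + 3) → F) ⬝ᵥ Pi.single 0 1 = 0 := by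
  rw [single_dotProduct, one_mul, Pi.single_apply, if_neg (by simp)]

theorem single_dot_single_same (m : ℕ) (i : Fin (m + 3)) :
    (Pi.single i 1 : Fin (m + 3) → F) ⬝ᵥ Pi.single i 1 = 1 := by
  rw [single_dotProduct, one_mul, Pi.single_apply, if_pos rfl]

/-- COMM -/
theorem comm_fixed [Fintype F] (hq : 4 ≤ Fintype.card F) (m : ℕ) (T : Alt (m + 3) F) (hT : IsR2 T.1)
    (hfix : (A0 m F).1ᵀ * T.1 * (A0 m F).1 = T.1) :
    ∃ A₁ A₂ : GL (Fin (m + 3)) F, A₁ ∈ sqGL (m + 3) F ∧ A₂ ∈ sqGL (m + 3) F ∧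
      A₁.1ᵀ * T.1 * A₁.1 = T.1 ∧ A₂.1ᵀ * T.1 * A₂.1 = T.1 ∧
      A0 m F = A₁ * A₂ * A₁⁻¹ * A₂⁻¹ := by
  classical
  obtain ⟨t, ht⟩ := exists_unit_sq_ne_one hq
  have htt : (t : F) * ((t⁻¹ : Fˣ) : F) = 1 := by rw [← Units.val_mul, mul_inv_cancel, Units.val_one]
  set E : Matrix (Fin (m + 3)) (Fin (m + 3)) F := Matrix.single 0 1 1 with hE
  have hE0 : Eᵀ * T.1 * E = 0 := by
    rw [hE, transpose_single, single_mul_mul_single, diag_of_mem T.2, mul_zero, zero_mul, single_zero]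
  have hexp : ∀ s : F, (1 + s • E)ᵀ * T.1 * (1 + s • E) = T.1 + s • (Eᵀ * T.1 + T.1 * E) := by
    intro s
    have h : (1 + s • E)ᵀ * T.1 * (1 + s • E) =
        T.1 + s • (Eᵀ * T.1 + T.1 * E) + (s * s) • (Eᵀ * T.1 * E) := by
      simp only [transpose_add, transpose_one, transpose_smul, Matrix.add_mul, Matrix.mul_add, Matrix.one_mul,
        Matrix.mul_one, Matrix.smul_mul, Matrix.mul_smul, smul_add, smul_smul]
      abel
    rw [h, hE0, smul_zero, add_zero]
  have hN : Eᵀ * T.1 + T.1 * E = 0 := by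
    have h := hexp 1
    rw [one_smul, one_smul] at h
    have h2 : (A0 m F).1 = 1 + E := rfl
    rw [h2, h] at hfix
    exact left_eq_add.1 hfix.symm
  have htv : ∀ s : F, (tv m s).1ᵀ * T.1 * (tv m s).1 = T.1 := by
    intro s
    rw [tv_val, single_eq_smul, ← hE, hexp, hN, smul_zero, add_zero]
  have hrow : ∀ j : Fin (m + 3), j ≠ 1 → T.1 0 j = 0 := by
    intro j hj
    have h := congrFun (congrFun hN 1) j
    rw [Matrix.add_apply, hE, transpose_single, single_mul_apply_same, mul_single_apply_of_ne _ _ _ _ _ hj, one_mul,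
      add_zero] at h
    exact h
  by_cases hc : T.1 0 1 = 0
  · -- the first row and column of `T` vanish
    have hrow0 : ∀ j, T.1 0 j = 0 := fun j => by
      by_cases hj : j = 1
      · rw [hj, hc]
      · exact hrow j hj
    have hcol0 : ∀ j, T.1 j 0 = 0 := fun j => by rw [apply_swap_of_mem T.2 0 j, hrow0, neg_zero]
    have he := single_dot_single_same (F := F) m 0
    have hB1 : (dil (Pi.single 0 1) (Pi.single 0 1) he (t ^ 2)).1 *ᵥ (Pi.single 0 1) =
        ((t : F) ^ 2) • (Pi.single 0 1 : Fin (m + 3) → F) := by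
      rw [dil_val, pert_mulVec, he, mul_one, Units.val_pow_eq_pow_val]
      funext i
      simp only [Pi.add_apply, Pi.smul_apply, smul_eq_mul]
      ring
    have hB2 : (Pi.single 1 1) ᵥ* (dil (Pi.single 0 1) (Pi.single 0 1) he (t ^ 2)).1 =
        (1 : F) • (Pi.single 1 1 : Fin (m + 3) → F) := by
      rw [dil_val, pert_vecMul, single_dot_single_ne, mul_zero, zero_smul, add_zero, one_smul]
    have hs := scale_of_vecs m _ _ _ hB1 hB2
    refine ⟨dil (Pi.single 0 1) (Pi.single 0 1) he (t ^ 2), tv m (1 / ((t : F) ^ 2 - 1)), ?_, tv_mem_sqGL _ _, ?_,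
      htv _, comm_of_scale m _ _ _ one_ne_zero ht hs.1 hs.2⟩
    · rw [mem_sqGL, det_dil]
      exact ⟨t, rfl⟩
    · have hP1 : vecMulVec (Pi.single 0 1) (Pi.single 0 1) * T.1 = 0 := by
        rw [vecMulVec_mul, single_one_vecMul]
        have : T.1.row 0 = 0 := funext fun j => hrow0 j
        rw [this, vecMulVec_zero]
      have hP2 : T.1 * vecMulVec (Pi.single 0 1) (Pi.single 0 1) = 0 := by
        rw [mul_vecMulVec, mulVec_single_one]
        have : T.1.col 0 = 0 := funext fun j => hcol0 j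
        rw [this, zero_vecMulVec]
      rw [dil_val, transpose_add, transpose_one, transpose_smul, transpose_vecMulVec, Matrix.add_mul, Matrix.one_mul,
        Matrix.smul_mul, hP1, smul_zero, add_zero, Matrix.mul_add, Matrix.mul_one, Matrix.mul_smul, hP2, smul_zero,
        add_zero]
  · -- `T = g e₁ᵀ - e₁ gᵀ`
    obtain ⟨a, b, hab⟩ := hT.2
    have hent : ∀ i j, T.1 i j = a i * b j - b i * a j := by
      intro i j
      rw [hab, Matrix.sub_apply, vecMulVec_apply, vecMulVec_apply]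
    have hpl : ∀ i j, T.1 0 1 * T.1 i j - T.1 0 i * T.1 1 j + T.1 0 j * T.1 1 i = 0 := by
      intro i j
      rw [hent, hent, hent, hent, hent, hent]
      ring
    have hzero : ∀ i j : Fin (m + 3), i ≠ 1 → j ≠ 1 → T.1 i j = 0 := by
      intro i j hi hj
      have h := hpl i j
      rw [hrow i hi, hrow j hj, zero_mul, zero_mul, sub_zero, add_zero] at h
      exact (mul_eq_zero.1 h).resolve_left hc
    set c : F := T.1 0 1 with hcdef
    set g : Fin (m + 3) → F := fun i => T.1 i 1 with hg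
    have hg0 : g 0 = c := rfl
    have hg1 : g 1 = 0 := diag_of_mem T.2 1
    have hTform : T.1 = vecMulVec g (Pi.single 1 1) - vecMulVec (Pi.single 1 1) g := by
      ext i j
      rw [Matrix.sub_apply, vecMulVec_apply, vecMulVec_apply, Pi.single_apply, Pi.single_apply]
      by_cases hi : i = 1
      · by_cases hj : j = 1
        · rw [if_pos hi, if_pos hj, hi, hj, hg1, diag_of_mem T.2]
          ring
        · rw [if_pos hi, if_neg hj, hi, mul_zero, zero_sub, one_mul]
          exact apply_swap_of_mem T.2 j 1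
      · by_cases hj : j = 1
        · rw [if_neg hi, if_pos hj, hj, mul_one, zero_mul, sub_zero]
        · rw [if_neg hi, if_neg hj, mul_zero, zero_mul, sub_zero]
          exact hzero i j hi hj
    have h₁ : (c⁻¹ • g) ⬝ᵥ (Pi.single 0 1) = 1 := by
      rw [smul_dotProduct, dotProduct_single, mul_one, hg0, smul_eq_mul, inv_mul_cancel₀ hc]
    have h₂ := single_dot_single_same (F := F) m 1
    have hg0' : g ⬝ᵥ (Pi.single 0 1) = c := by rw [dotProduct_single, mul_one]
    have hg1' : g ⬝ᵥ (Pi.single 1 1) = 0 := by rw [dotProduct_single, mul_one, hg1]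
    set D₁ := dil (Pi.single 0 1) (c⁻¹ • g) h₁ t with hD₁
    set D₂ := dil (Pi.single 1 1) (Pi.single 1 1) h₂ t⁻¹ with hD₂
    have hB1 : (D₁ * D₂).1 *ᵥ (Pi.single 0 1) = (t : F) • (Pi.single 0 1 : Fin (m + 3) → F) := by
      have e1 : D₂.1 *ᵥ (Pi.single 0 1) = (Pi.single 0 1 : Fin (m + 3) → F) := by
        rw [hD₂, dil_val, pert_mulVec, single_dot_single_ne, mul_zero, zero_smul, add_zero]
      have e2 : D₁.1 *ᵥ (Pi.single 0 1) = (t : F) • (Pi.single 0 1 : Fin (m + 3) → F) := by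
        rw [hD₁, dil_val, pert_mulVec, h₁, mul_one]
        funext i
        simp only [Pi.add_apply, Pi.smul_apply, smul_eq_mul]
        ring
      rw [Units.val_mul, ← mulVec_mulVec, e1, e2]
    have hB2 : (Pi.single 1 1) ᵥ* (D₁ * D₂).1 = ((t⁻¹ : Fˣ) : F) • (Pi.single 1 1 : Fin (m + 3) → F) := by
      have e1 : (Pi.single 1 1) ᵥ* D₁.1 = (Pi.single 1 1 : Fin (m + 3) → F) := by
        rw [hD₁, dil_val, pert_vecMul, single_dot_single_ne, mul_zero, zero_smul, add_zero]
      have e2 : (Pi.single 1 1) ᵥ* D₂.1 = ((t⁻¹ : Fˣ) : F) • (Pi.single 1 1 : Fin (m + 3) → F) := by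
        rw [hD₂, dil_val, pert_vecMul, h₂, mul_one]
        funext i
        simp only [Pi.add_apply, Pi.smul_apply, smul_eq_mul]
        ring
      rw [Units.val_mul, ← vecMul_vecMul, e1, e2]
    have hB3 : g ᵥ* (D₁ * D₂).1 = (t : F) • g := by
      have e1 : g ᵥ* D₁.1 = (t : F) • g := by
        rw [hD₁, dil_val, pert_vecMul, hg0', smul_smul, mul_assoc, mul_inv_cancel₀ hc, mul_one]
        funext i
        simp only [Pi.add_apply, Pi.smul_apply, smul_eq_mul]
        ring
      have e2 : ((t : F) • g) ᵥ* D₂.1 = (t : F) • g := by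
        rw [hD₂, dil_val, pert_vecMul, smul_dotProduct, hg1', smul_zero, mul_zero, zero_smul, add_zero]
      rw [Units.val_mul, ← vecMul_vecMul, e1, e2]
    have hs := scale_of_vecs m _ _ _ hB1 hB2
    have hne : (t : F) ≠ ((t⁻¹ : Fˣ) : F) := by
      intro h
      apply ht
      rw [pow_two]
      nth_rewrite 2 [h]
      exact htt
    refine ⟨D₁ * D₂, tv m (((t⁻¹ : Fˣ) : F) / ((t : F) - ((t⁻¹ : Fˣ) : F))), ?_, tv_mem_sqGL _ _, ?_,
      htv _, comm_of_scale m _ _ _ (Units.ne_zero _) hne hs.1 hs.2⟩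
    · rw [mem_sqGL, map_mul, hD₁, hD₂, det_dil, det_dil, mul_inv_cancel]
      exact ⟨1, one_pow 2⟩
    · have h : (D₁ * D₂).1ᵀ * (vecMulVec g (Pi.single 1 1) - vecMulVec (Pi.single 1 1) g) * (D₁ * D₂).1 =
          vecMulVec g (Pi.single 1 1) - vecMulVec (Pi.single 1 1) g := by
        rw [Matrix.mul_sub, Matrix.sub_mul, cong_vmv, cong_vmv, hB2, hB3, smul_vecMulVec, vecMulVec_smul,
          smul_vecMulVec, vecMulVec_smul, smul_smul, smul_smul, htt, mul_comm, htt, one_smul, one_smul]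
      rw [← hTform] at h
      exact h

end Cfsg.Agent.Lib.H28.OPMin
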