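/-
Phase 2 of the S5630 project (helper28), task P2-E8, part a: a field subalgebra `K` of degree 3 of `M_3(F)`,
`|F| = 4`: basic facts (no zero divisors, `x^64 = x`, Frobenius `x ↦ x^8`, the decomposition `K = E ⊕ ωE`).
-/
import Mathlib
import Cfsg.Prelude.Def_GeometricClasses

set_option autoImplicit false

namespace Cfsg.Agent.Lib.H28.AschP2E8

open Cfsg Cfsg.Geo
open scoped MatrixGroups Matrix

variable {F : Type*} [Field F] [Fintype F]


/-! ### The field with four elements -/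

theorem two_eq_zero (hq : Fintype.card F = 4) : (2 : F) = 0 := by
  obtain ⟨p, hp⟩ := CharP.exists F
  have hpp : p.Prime := by
    haveI := hp
    exact CharP.char_is_prime F p
  have := hp
  have : Fact p.Prime := ⟨hpp⟩
  obtain ⟨k, hk⟩ := FiniteField.card F p
  rw [hq] at hk
  have hp2 : p = 2 := by
    have h1 : p ∣ 4 := by rw [hk.2]; exact dvd_pow_self p k.ne_zero
    have h2 : p ∣ 2 ^ 2 := by simpa using h1
    exact (Nat.prime_dvd_prime_iff_eq hpp Nat.prime_two).1 (hpp.dvd_of_dvd_pow h2)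
  subst hp2
  exact_mod_cast CharP.cast_eq_zero F 2

theorem pow_four (hq : Fintype.card F = 4) (a : F) : a ^ 4 = a := by
  have := FiniteField.pow_card a
  rwa [hq] at this

theorem pow_three (hq : Fintype.card F = 4) {a : F} (ha : a ≠ 0) : a ^ 3 = 1 := by
  have := FiniteField.pow_card_sub_one_eq_one a ha
  rwa [hq] at this

theorem exists_omega (hq : Fintype.card F = 4) : ∃ ω : F, ω ≠ 0 ∧ ω ≠ 1 ∧ ω ^ 2 + ω + 1 = 0 := by
  classical
  obtain ⟨ω, h0, h1⟩ : ∃ ω : F, ω ≠ 0 ∧ ω ≠ 1 := by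
    by_contra hcon
    push Not at hcon
    have hsub : (Finset.univ : Finset F) ⊆ {0, 1} := by
      intro a _
      by_cases ha : a = 0
      · simp [ha]
      · simp [hcon a ha]
    have := Finset.card_le_card hsub
    rw [Finset.card_univ, hq] at this
    have h2 : ({0, 1} : Finset F).card ≤ 2 := Finset.card_insert_le _ _
    omega
  refine ⟨ω, h0, h1, ?_⟩
  have h3 := pow_three hq h0
  have hfac : (ω - 1) * (ω ^ 2 + ω + 1) = 0 := by ring_nf; rw [h3]; ring
  rcases mul_eq_zero.1 hfac with h | h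
  · exact absurd (sub_eq_zero.1 h) h1
  · exact h

/-! ### The field subalgebra `K` -/

variable {K : Subalgebra F (Matrix (Fin 3) (Fin 3) F)}

theorem charP_two (hq : Fintype.card F = 4) : CharP F 2 :=
  CharTwo.of_one_ne_zero_of_two_eq_zero one_ne_zero (two_eq_zero hq)

theorem charP_two_mat (hq : Fintype.card F = 4) : CharP (Matrix (Fin 3) (Fin 3) F) 2 := by
  have := charP_two hq
  infer_instance

theorem comm_of_mem (hK : IsFieldSubalgebra 3 K) {x y : (Matrix (Fin 3) (Fin 3) F)} (hx : x ∈ K) (hy : y ∈ K) : Commute x y :=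
  hK.comm x hx y hy

/-- `K` has no zero divisors. -/
theorem eq_zero_or_eq_zero (hK : IsFieldSubalgebra 3 K) {x y : (Matrix (Fin 3) (Fin 3) F)} (hx : x ∈ K) (_hy : y ∈ K)
    (h : x * y = 0) : x = 0 ∨ y = 0 := by
  by_cases hx0 : x = 0
  · exact Or.inl hx0
  · right
    obtain ⟨x', hx', hxx'⟩ := hK.inv x hx hx0
    have h1 : x' * x = 1 := by rw [← hK.comm x hx x' hx', hxx']
    calc y = (x' * x) * y := by rw [h1, one_mul]
      _ = x' * (x * y) := by rw [mul_assoc]
      _ = 0 := by rw [h, mul_zero]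

/-- `K` as a field. -/
@[reducible]
noncomputable def fieldK (hK : IsFieldSubalgebra 3 K) : Field K :=
  IsField.toField
    { exists_pair_ne := ⟨0, 1, fun h => by
        have := congrArg (fun x : K => (x : (Matrix (Fin 3) (Fin 3) F))) h
        simp at this⟩
      mul_comm := fun a b => Subtype.ext (hK.comm a a.2 b b.2)
      mul_inv_cancel := fun {a} ha => by
        have ha' : (a : (Matrix (Fin 3) (Fin 3) F)) ≠ 0 := fun h => ha (Subtype.ext h)
        obtain ⟨y, hy, hay⟩ := hK.inv a a.2 ha'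
        exact ⟨⟨y, hy⟩, Subtype.ext hay⟩ }

theorem natCard_K (hq : Fintype.card F = 4) (hK : IsFieldSubalgebra 3 K) : Nat.card K = 64 := by
  have : Module.Finite F K := Module.finite_of_finrank_pos (by rw [hK.finrank_eq]; norm_num)
  rw [Module.natCard_eq_pow_finrank (K := F) (V := K), hK.finrank_eq, Nat.card_eq_fintype_card, hq]
  norm_num

theorem pow_64 (hq : Fintype.card F = 4) (hK : IsFieldSubalgebra 3 K) {x : (Matrix (Fin 3) (Fin 3) F)} (hx : x ∈ K) :
    x ^ 64 = x := by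
  letI := fieldK hK
  have : Finite K := Nat.finite_of_card_ne_zero (by rw [natCard_K hq hK]; norm_num)
  letI : Fintype K := Fintype.ofFinite K
  have h := FiniteField.pow_card (⟨x, hx⟩ : K)
  rw [← Nat.card_eq_fintype_card, natCard_K hq hK] at h
  exact congrArg (fun y : K => (y : (Matrix (Fin 3) (Fin 3) F))) h

/-- The Frobenius `x ↦ x^8` is additive on `K`. -/
theorem frob_add (hq : Fintype.card F = 4) (hK : IsFieldSubalgebra 3 K) {x y : (Matrix (Fin 3) (Fin 3) F)} (hx : x ∈ K) (hy : y ∈ K) :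
    (x + y) ^ 8 = x ^ 8 + y ^ 8 := by
  have := charP_two_mat (F := F) hq
  have : Fact (Nat.Prime 2) := ⟨Nat.prime_two⟩
  have := add_pow_char_pow_of_commute (p := 2) (n := 3) (comm_of_mem hK hx hy)
  simpa using this

theorem frob_smul (hq : Fintype.card F = 4) (c : F) (x : (Matrix (Fin 3) (Fin 3) F)) : (c • x) ^ 8 = c ^ 2 • x ^ 8 := by
  rw [smul_pow]
  congr 1
  calc c ^ 8 = (c ^ 4) ^ 2 := by ring
    _ = c ^ 2 := by rw [pow_four hq]

theorem frob_mul (hK : IsFieldSubalgebra 3 K) {x y : (Matrix (Fin 3) (Fin 3) F)} (hx : x ∈ K) (hy : y ∈ K) :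
    (x * y) ^ 8 = x ^ 8 * y ^ 8 :=
  (comm_of_mem hK hx hy).mul_pow 8

theorem frob_frob (hq : Fintype.card F = 4) (hK : IsFieldSubalgebra 3 K) {x : (Matrix (Fin 3) (Fin 3) F)} (hx : x ∈ K) :
    (x ^ 8) ^ 8 = x := by
  rw [← pow_mul]
  exact pow_64 hq hK hx

/-- Every element of `K` is `a + ω • b` with `a, b` fixed by the Frobenius `x ↦ x^8`. -/
theorem exists_decomp (hq : Fintype.card F = 4) (hK : IsFieldSubalgebra 3 K) {ω : F}
    (hω : ω ^ 2 + ω + 1 = 0) {x : (Matrix (Fin 3) (Fin 3) F)} (hx : x ∈ K) :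
    ∃ a b : (Matrix (Fin 3) (Fin 3) F), a ∈ K ∧ a ^ 8 = a ∧ b ∈ K ∧ b ^ 8 = b ∧ x = a + ω • b := by
  have h2 := two_eq_zero hq
  have hx8 : x ^ 8 ∈ K := K.pow_mem hx 8
  have hω4 : ω ^ 4 = ω := pow_four hq ω
  refine ⟨ω ^ 2 • x + ω • x ^ 8, x + x ^ 8, ?_, ?_, ?_, ?_, ?_⟩
  · exact K.add_mem (K.smul_mem hx _) (K.smul_mem hx8 _)
  · rw [frob_add hq hK (K.smul_mem hx _) (K.smul_mem hx8 _), frob_smul hq, frob_smul hq,
      frob_frob hq hK hx, add_comm]
    congr 1
    rw [← pow_mul, hω4]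
  · exact K.add_mem hx hx8
  · rw [frob_add hq hK hx hx8, frob_frob hq hK hx, add_comm]
  · have h1 : ω ^ 2 + ω = 1 := by
      have : ω ^ 2 + ω = -1 := by linear_combination hω
      rw [this]
      linear_combination -h2
    have h3 : ω + ω = 0 := by linear_combination ω * h2
    calc x = (ω ^ 2 + ω) • x + (ω + ω) • x ^ 8 := by rw [h1, h3, one_smul, zero_smul, add_zero]
      _ = ω ^ 2 • x + ω • x ^ 8 + ω • (x + x ^ 8) := by
        rw [add_smul, add_smul, smul_add]; abel

end Cfsg.Agent.Lib.H28.AschP2E8
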