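/-
Phase 2 of the S5630 project (helper28), task P2-E8, part e: the prime subfield of a field with 4 elements,
cube roots of unity in `K`, determinants of matrices over the prime subfield.
-/
import Cfsg.Agent.Lib.H28.AschP2E8a

set_option autoImplicit false

namespace Cfsg.Agent.Lib.H28.AschP2E8

open Cfsg Cfsg.Geo Module Polynomial
open scoped MatrixGroups Matrix

variable {F : Type*} [Field F] [Fintype F] {K : Subalgebra F (Matrix (Fin 3) (Fin 3) F)}

/-- The prime subfield `{a | a² = a}` of a field with four elements. -/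
def primeSub (hq : Fintype.card F = 4) : Subfield F where
  carrier := {a | a ^ 2 = a}
  mul_mem' := by
    intro a b ha hb
    simp only [Set.mem_ofPred_eq] at *
    rw [mul_pow, ha, hb]
  one_mem' := by simp
  add_mem' := by
    intro a b ha hb
    simp only [Set.mem_ofPred_eq] at *
    have h2 := two_eq_zero hq
    calc (a + b) ^ 2 = a ^ 2 + b ^ 2 + 2 * (a * b) := by ring
      _ = a + b := by rw [ha, hb, h2, zero_mul, add_zero]
  zero_mem' := by simp
  neg_mem' := by
    intro a ha
    simp only [Set.mem_ofPred_eq] at *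
    have h2 := two_eq_zero hq
    have h3 : -a = a := by linear_combination (-a) * h2
    rw [h3, ha]
  inv_mem' := by
    intro a ha
    simp only [Set.mem_ofPred_eq] at *
    rw [inv_pow, ha]

theorem mem_primeSub (hq : Fintype.card F = 4) (a : F) : a ∈ primeSub hq ↔ a ^ 2 = a := Iff.rfl

theorem eq_zero_or_one_of_sq {a : F} (ha : a ^ 2 = a) : a = 0 ∨ a = 1 := by
  have : a * (a - 1) = 0 := by linear_combination ha
  rcases mul_eq_zero.1 this with h | h
  · exact Or.inl h
  · exact Or.inr (sub_eq_zero.1 h)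

theorem natCard_primeSub (hq : Fintype.card F = 4) : Nat.card (primeSub hq) = 2 := by
  rw [Nat.card_eq_two_iff]
  refine ⟨0, 1, ?_, ?_⟩
  · intro h
    have := congrArg (fun x : primeSub hq => (x : F)) h
    simp at this
  · ext x
    simp only [Set.mem_insert_iff, Set.mem_singleton_iff, Set.mem_univ, iff_true]
    rcases eq_zero_or_one_of_sq x.2 with h | h
    · left; exact Subtype.ext h
    · right; exact Subtype.ext h

/-- The determinant of a matrix with idempotent entries is idempotent. -/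
theorem det_sq_of_entries (hq : Fintype.card F = 4) (A : Matrix (Fin 3) (Fin 3) F)
    (hA : ∀ i j, (A i j) ^ 2 = A i j) : A.det ^ 2 = A.det := by
  set A₀ : Matrix (Fin 3) (Fin 3) (primeSub hq) := Matrix.of fun i j => ⟨A i j, hA i j⟩ with hA₀
  have h1 : A₀.map (primeSub hq).subtype = A := by
    ext i j
    simp [hA₀]
  have h2 := RingHom.map_det (primeSub hq).subtype A₀
  rw [RingHom.mapMatrix_apply, h1] at h2
  rw [← h2]
  exact (A₀.det).2

/-- A cube root of unity in `K` is a scalar matrix. -/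
theorem scalar_of_cube (hq : Fintype.card F = 4) (hK : IsFieldSubalgebra 3 K)
    {y : Matrix (Fin 3) (Fin 3) F} (hy : y ∈ K) (hy3 : y ^ 3 = 1) :
    ∃ c : F, c ≠ 0 ∧ y = c • (1 : Matrix (Fin 3) (Fin 3) F) := by
  obtain ⟨ω, hω0, -, hω⟩ := exists_omega hq
  have hC : (C ω : F[X]) ^ 2 + C ω + 1 = 0 := by
    rw [← C_pow, ← C_add, ← C_1, ← C_add, hω, C_0]
  have hpoly : (X ^ 3 - 1 : F[X]) = (X - 1) * ((X - C ω) * (X - C (ω ^ 2))) := by
    rw [C_pow]
    linear_combination ((X - 1) * (X + 1 - C ω)) * hC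
  have h0 : aeval y (X ^ 3 - 1 : F[X]) = 0 := by
    simp [hy3]
  rw [hpoly, map_mul, map_mul] at h0
  have e1 : aeval y (X - 1 : F[X]) = y - 1 := by simp
  have e2 : aeval y (X - C ω : F[X]) = y - ω • 1 := by
    simp [Algebra.algebraMap_eq_smul_one]
  have e3 : aeval y (X - C (ω ^ 2) : F[X]) = y - ω ^ 2 • 1 := by
    rw [map_sub, aeval_X, aeval_C, Algebra.algebraMap_eq_smul_one]
  rw [e1, e2, e3] at h0
  have m1 : y - 1 ∈ K := K.sub_mem hy K.one_mem
  have m2 : y - ω • 1 ∈ K := K.sub_mem hy (K.smul_mem K.one_mem _)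
  have m3 : y - ω ^ 2 • 1 ∈ K := K.sub_mem hy (K.smul_mem K.one_mem _)
  rcases eq_zero_or_eq_zero hK m1 (K.mul_mem m2 m3) h0 with h | h
  · exact ⟨1, one_ne_zero, by rw [one_smul]; exact sub_eq_zero.1 h⟩
  · rcases eq_zero_or_eq_zero hK m2 m3 h with h | h
    · exact ⟨ω, hω0, sub_eq_zero.1 h⟩
    · exact ⟨ω ^ 2, pow_ne_zero 2 hω0, sub_eq_zero.1 h⟩

end Cfsg.Agent.Lib.H28.AschP2E8
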