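/-
Phase 2 of the S5630 project (helper28): the arithmetic of the class-6 field conditions.
-/
import Cfsg.Agent.Lib.Lead.AschDefs2

set_option autoImplicit false

namespace Cfsg.Agent.Lib.H28.AschP2

open Cfsg Cfsg.Geo
open scoped MatrixGroups

/-- If `e` is the least positive exponent with `r ∣ p^e - 1` then `e ∣ r - 1`. -/
theorem ord_dvd {r p e : ℕ} (hr : r.Prime) (hp : p.Prime) (hrp : r ≠ p) (he : 0 < e) (h1 : r ∣ p ^ e - 1)
    (hmin : ∀ d, 0 < d → d < e → ¬ r ∣ p ^ d - 1) : e ∣ r - 1 := by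
  have : Fact r.Prime := ⟨hr⟩
  have hpos : ∀ d : ℕ, 1 ≤ p ^ d := fun d => Nat.one_le_pow _ _ hp.pos
  have key : ∀ d : ℕ, r ∣ p ^ d - 1 ↔ ((p : ZMod r)) ^ d = 1 := by
    intro d
    rw [← ZMod.natCast_eq_zero_iff, Nat.cast_sub (hpos d), sub_eq_zero]
    push_cast
    rfl
  have ha0 : (p : ZMod r) ≠ 0 := by
    rw [Ne, ZMod.natCast_eq_zero_iff]
    intro h
    exact hrp ((Nat.prime_dvd_prime_iff_eq hr hp).1 h)
  have hfer : (p : ZMod r) ^ (r - 1) = 1 := ZMod.pow_card_sub_one_eq_one ha0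
  have hord : orderOf (p : ZMod r) = e := by
    have hd : orderOf (p : ZMod r) ∣ e := orderOf_dvd_of_pow_eq_one ((key e).1 h1)
    have hle : orderOf (p : ZMod r) ≤ e := Nat.le_of_dvd he hd
    rcases lt_or_eq_of_le hle with hlt | heq
    · exfalso
      have hpos' : 0 < orderOf (p : ZMod r) := by
        rcases Nat.eq_zero_or_pos (orderOf (p : ZMod r)) with h0 | h0
        · rw [h0] at hd
          have := Nat.eq_zero_of_zero_dvd hd
          omega
        · exact h0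
      exact hmin _ hpos' hlt ((key _).2 (pow_orderOf_eq_one _))
    · exact heq
  rw [← hord]
  exact orderOf_dvd_of_pow_eq_one hfer

theorem mod7_cases {p : ℕ} (h1 : p ^ 3 % 7 = 1) (h3 : p % 7 ≠ 1) : p % 7 = 2 ∨ p % 7 = 4 := by
  rw [Nat.pow_mod] at h1
  have hlt : p % 7 < 7 := Nat.mod_lt _ (by norm_num)
  generalize p % 7 = a at h1 h3 hlt
  interval_cases a <;> simp_all

theorem mod11_cases {p : ℕ} (h1 : p ^ 5 % 11 = 1) (h3 : p % 11 ≠ 1) :
    p % 11 = 3 ∨ p % 11 = 4 ∨ p % 11 = 5 ∨ p % 11 = 9 := by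
  rw [Nat.pow_mod] at h1
  have hlt : p % 11 < 11 := Nat.mod_lt _ (by norm_num)
  generalize p % 11 = a at h1 h3 hlt
  interval_cases a <;> simp_all

variable {F : Type*} [Field F] [Fintype F] {n : ℕ}

/-- The field condition of class 6 for odd `r`. -/
theorem c6_field_odd {r : ℕ} {R : Subgroup (GL (Fin n) F)}
    (hR : IsLinearSymplecticTypeData r R) (hr2 : r ≠ 2) :
    ∃ p e : ℕ, p.Prime ∧ CharP F p ∧ Fintype.card F = p ^ e ∧ Odd e ∧ e ∣ r - 1 ∧ r ∣ p ^ e - 1 ∧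
      (∀ d, 0 < d → d < e → ¬ r ∣ p ^ d - 1) := by
  obtain ⟨p, e, hrp, ⟨hp, hchar, hcard, hdvd, hmin⟩, hcase⟩ := hR.field
  rcases hcase with ⟨_, heodd, hz, _⟩ | ⟨h2, _⟩ | ⟨h2, _⟩
  · rw [hz] at hdvd hmin
    have he : 0 < e := heodd.pos
    exact ⟨p, e, hp, hchar, hcard, heodd, ord_dvd hR.symplecticType.prime hp hrp he hdvd hmin, hdvd, hmin⟩
  · exact absurd h2 hr2
  · exact absurd h2 hr2

/-- The field condition of class 6 for `r = 2` (dimension at least 3). -/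
theorem c6_field_two (hn : 3 ≤ n) {R : Subgroup (GL (Fin n) F)} (hR : IsLinearSymplecticTypeData 2 R) :
    ∃ p : ℕ, p.Prime ∧ Fintype.card F = p ∧ p % 4 = 1 := by
  obtain ⟨p, e, hrp, ⟨hp, hchar, hcard, hdvd, hmin⟩, hcase⟩ := hR.field
  rcases hcase with ⟨h2, _⟩ | ⟨_, he, hz, _⟩ | ⟨_, _, hc, _⟩
  · exact absurd h2 (by decide)
  · subst he
    rw [hz, pow_one] at hdvd
    rw [pow_one] at hcard
    have := hp.two_le
    exact ⟨p, hp, hcard, by omega⟩
  · rw [Fintype.card_fin] at hc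
    omega

/-- A finite field does not have 6 elements. -/
theorem card_ne_six : Fintype.card F ≠ 6 := by
  intro h
  have hpp : IsPrimePow (Fintype.card F) := FiniteField.isPrimePow_card F
  rw [h, isPrimePow_nat_iff_bounded] at hpp
  revert hpp
  decide

end Cfsg.Agent.Lib.H28.AschP2
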