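/-
S5634 farm-out (architect helper14), task E3, part a (helper28): the Levi quotient of the
stabiliser of a coordinate line.  Restriction of matrices to the complement of an index,
extension of monomial matrices, and the determinant of a matrix whose rows off `i` are those
of the identity.
-/
import Cfsg.Agent.Lib.H14.C2Defs

set_option autoImplicit false
set_option linter.unusedSectionVars false
set_option linter.unusedVariables false

namespace Cfsg.Agent.Lib.H28.C2

open Matrix Cfsg.Agent.Lib.H14.C2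

variable {ι : Type} [Fintype ι] [DecidableEq ι] {F : Type*} [Field F]

/-- restriction of a matrix to the complement of the index `i` -/
def resM (i : ι) (z : Matrix ι ι F) : Matrix {j : ι // j ≠ i} {j : ι // j ≠ i} F :=
  fun a b => z a.1 b.1

theorem resM_apply (i : ι) (z : Matrix ι ι F) (a b : {j : ι // j ≠ i}) :
    resM i z a b = z a.1 b.1 := rfl

theorem resM_one (i : ι) : resM i (1 : Matrix ι ι F) = 1 := by
  ext a b
  rw [resM_apply, Matrix.one_apply, Matrix.one_apply]
  by_cases h : a = b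
  · rw [if_pos h, if_pos (congrArg Subtype.val h)]
  · rw [if_neg h, if_neg (fun h' => h (Subtype.ext h'))]

theorem resM_mul (i : ι) (z z' : Matrix ι ι F) (hz : ∀ j, j ≠ i → z j i = 0) :
    resM i (z * z') = resM i z * resM i z' := by
  ext a b
  rw [resM_apply, Matrix.mul_apply, Matrix.mul_apply, Fintype.sum_eq_add_sum_subtype_ne _ i,
    hz a.1 a.2, zero_mul, zero_add]
  rfl

theorem colFix_mul (i : ι) (z z' : Matrix ι ι F) (hz : ∀ j, j ≠ i → z j i = 0)
    (hz' : ∀ j, j ≠ i → z' j i = 0) : ∀ j, j ≠ i → (z * z') j i = 0 := by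
  intro j hj
  rw [Matrix.mul_apply]
  apply Finset.sum_eq_zero
  intro k _
  by_cases hk : k = i
  · rw [hk, hz j hj, zero_mul]
  · rw [hz' k hk, mul_zero]

theorem colFix_inv (i : ι) (g : GL ι F) (hg : ∀ j, j ≠ i → (g : Matrix ι ι F) j i = 0) :
    ∀ j, j ≠ i → ((g⁻¹ : GL ι F) : Matrix ι ι F) j i = 0 := by
  have hinv : ((g⁻¹ : GL ι F) : Matrix ι ι F) * (g : Matrix ι ι F) = 1 := by
    rw [← Units.val_mul, inv_mul_cancel, Units.val_one]
  have key : ∀ j, ((g⁻¹ : GL ι F) : Matrix ι ι F) j i * (g : Matrix ι ι F) i i =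
      (1 : Matrix ι ι F) j i := by
    intro j
    rw [← hinv, Matrix.mul_apply, Finset.sum_eq_single i]
    · intro k _ hk
      rw [hg k hk, mul_zero]
    · intro h; exact absurd (Finset.mem_univ _) h
  have hii : (g : Matrix ι ι F) i i ≠ 0 := by
    intro h
    have := key i
    rw [h, mul_zero, Matrix.one_apply_eq] at this
    exact zero_ne_one this
  intro j hj
  have := key j
  rw [Matrix.one_apply_ne hj] at this
  exact (mul_eq_zero.1 this).resolve_right hii

/-- restriction as an element of the general linear group -/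
def resGL (i : ι) (z : GL ι F) (hz : ∀ j, j ≠ i → (z : Matrix ι ι F) j i = 0) :
    GL {j : ι // j ≠ i} F :=
  ⟨resM i (z : Matrix ι ι F), resM i ((z⁻¹ : GL ι F) : Matrix ι ι F),
    by rw [← resM_mul i _ _ hz, ← Units.val_mul, mul_inv_cancel, Units.val_one, resM_one],
    by rw [← resM_mul i _ _ (colFix_inv i z hz), ← Units.val_mul, inv_mul_cancel, Units.val_one,
      resM_one]⟩

theorem resGL_val (i : ι) (z : GL ι F) (hz : ∀ j, j ≠ i → (z : Matrix ι ι F) j i = 0) :
    ((resGL i z hz : GL {j : ι // j ≠ i} F) : Matrix {j : ι // j ≠ i} {j : ι // j ≠ i} F) =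
      resM i (z : Matrix ι ι F) := rfl

/-- the image of the line stabiliser of `M` in the general linear group of the complement -/
def Kbar (M : Subgroup (GL ι F)) (i : ι) : Subgroup (GL {j : ι // j ≠ i} F) where
  carrier := {k | ∃ z ∈ M, (∀ j, j ≠ i → (z : Matrix ι ι F) j i = 0) ∧
    resM i (z : Matrix ι ι F) = (k : Matrix {j : ι // j ≠ i} {j : ι // j ≠ i} F)}
  one_mem' := ⟨1, M.one_mem, fun j hj => by rw [Units.val_one, Matrix.one_apply_ne hj],
    by rw [Units.val_one, Units.val_one, resM_one]⟩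
  mul_mem' := by
    rintro k k' ⟨z, hz, hzc, hzk⟩ ⟨z', hz', hzc', hzk'⟩
    refine ⟨z * z', M.mul_mem hz hz', ?_, ?_⟩
    · rw [Units.val_mul]; exact colFix_mul i _ _ hzc hzc'
    · rw [Units.val_mul, Units.val_mul, resM_mul i _ _ hzc, hzk, hzk']
  inv_mem' := by
    rintro k ⟨z, hz, hzc, hzk⟩
    refine ⟨z⁻¹, M.inv_mem hz, colFix_inv i z hzc, ?_⟩
    have h1 : resM i ((z⁻¹ : GL ι F) : Matrix ι ι F) *
        (k : Matrix {j : ι // j ≠ i} {j : ι // j ≠ i} F) = 1 := by
      rw [← hzk, ← resM_mul i _ _ (colFix_inv i z hzc), ← Units.val_mul, inv_mul_cancel,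
        Units.val_one, resM_one]
    have h3 := congrArg
      (fun X => X * ((k⁻¹ : GL {j : ι // j ≠ i} F) : Matrix {j : ι // j ≠ i} {j : ι // j ≠ i} F)) h1
    simp only [Matrix.mul_assoc] at h3
    rw [← Units.val_mul, mul_inv_cancel, Units.val_one, Matrix.mul_one, Matrix.one_mul] at h3
    exact h3

theorem mem_Kbar {M : Subgroup (GL ι F)} {i : ι} {k : GL {j : ι // j ≠ i} F} :
    k ∈ Kbar M i ↔ ∃ z ∈ M, (∀ j, j ≠ i → (z : Matrix ι ι F) j i = 0) ∧
      resM i (z : Matrix ι ι F) = (k : Matrix {j : ι // j ≠ i} {j : ι // j ≠ i} F) := Iff.rfl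

theorem resGL_mem_Kbar {M : Subgroup (GL ι F)} (i : ι) {z : GL ι F} (hz : z ∈ M)
    (hzc : ∀ j, j ≠ i → (z : Matrix ι ι F) j i = 0) : resGL i z hzc ∈ Kbar M i :=
  ⟨z, hz, hzc, rfl⟩

/-! ### extension of monomial matrices -/

/-- extension of a family of units by the value `d` at `i` -/
def extC (i : ι) (c : {j : ι // j ≠ i} → Fˣ) (d : Fˣ) : ι → Fˣ :=
  fun j => if h : j ≠ i then c ⟨j, h⟩ else d

theorem extC_self (i : ι) (c : {j : ι // j ≠ i} → Fˣ) (d : Fˣ) : extC i c d i = d := by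
  unfold extC
  rw [dif_neg (fun h => h rfl)]

theorem extC_coe (i : ι) (c : {j : ι // j ≠ i} → Fˣ) (d : Fˣ) (b : {j : ι // j ≠ i}) :
    extC i c d b.1 = c b := by
  unfold extC
  rw [dif_pos b.2]

/-- the monomial matrix extending `monGL σ c` by the entry `d` at `(i, i)` -/
noncomputable def extMon (i : ι) (σ : Equiv.Perm {j : ι // j ≠ i}) (c : {j : ι // j ≠ i} → Fˣ)
    (d : Fˣ) : GL ι F :=
  monGL (Equiv.Perm.ofSubtype σ) (extC i c d)

theorem extMon_col (i : ι) (σ : Equiv.Perm {j : ι // j ≠ i}) (c : {j : ι // j ≠ i} → Fˣ)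
    (d : Fˣ) : ∀ j, j ≠ i → ((extMon i σ c d : GL ι F) : Matrix ι ι F) j i = 0 := by
  intro j hj
  unfold extMon
  rw [monGL_apply, Equiv.Perm.ofSubtype_apply_of_not_mem σ (fun h : i ≠ i => h rfl), if_neg hj]

theorem resM_extMon (i : ι) (σ : Equiv.Perm {j : ι // j ≠ i}) (c : {j : ι // j ≠ i} → Fˣ)
    (d : Fˣ) : resM i ((extMon i σ c d : GL ι F) : Matrix ι ι F) =
      ((monGL σ c : GL {j : ι // j ≠ i} F) : Matrix {j : ι // j ≠ i} {j : ι // j ≠ i} F) := by
  ext a b
  unfold extMon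
  rw [resM_apply, monGL_apply, monGL_apply, Equiv.Perm.ofSubtype_apply_coe, extC_coe]
  by_cases h : a = σ b
  · rw [if_pos h, if_pos (congrArg Subtype.val h)]
  · rw [if_neg h, if_neg (fun h' => h (Subtype.ext h'))]

theorem isMono_extMon (i : ι) (σ : Equiv.Perm {j : ι // j ≠ i}) (c : {j : ι // j ≠ i} → Fˣ)
    (d : Fˣ) : IsMono ((extMon i σ c d : GL ι F) : Matrix ι ι F) := isMono_monGL _ _

/-- every monomial matrix on the complement extends to a monomial matrix of determinant one -/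
theorem exists_ext {M : Subgroup (GL ι F)} (hM : HasMonP M) (i : ι)
    (σ : Equiv.Perm {j : ι // j ≠ i}) (c : {j : ι // j ≠ i} → Fˣ) :
    ∃ ν : GL ι F, ν ∈ M ∧ IsMono (ν : Matrix ι ι F) ∧
      (∀ j, j ≠ i → (ν : Matrix ι ι F) j i = 0) ∧
      resM i (ν : Matrix ι ι F) =
        ((monGL σ c : GL {j : ι // j ≠ i} F) : Matrix {j : ι // j ≠ i} {j : ι // j ≠ i} F) := by
  have hs : (((Equiv.Perm.sign σ : ℤˣ) : ℤ) : F) ≠ 0 := by
    rcases Int.units_eq_one_or (Equiv.Perm.sign σ) with h | h <;> simp [h]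
  have hp : (∏ j, (c j : F)) ≠ 0 := Finset.prod_ne_zero_iff.mpr fun j _ => (c j).ne_zero
  obtain ⟨d, hd⟩ : ∃ d : Fˣ, (d : F) = ((((Equiv.Perm.sign σ : ℤˣ) : ℤ) : F) * ∏ j, (c j : F))⁻¹ :=
    ⟨Units.mk0 _ (inv_ne_zero (mul_ne_zero hs hp)), rfl⟩
  refine ⟨extMon i σ c d, ?_, isMono_extMon i σ c d, extMon_col i σ c d, resM_extMon i σ c d⟩
  unfold extMon
  apply monGL_mem_of_hasMonP hM
  rw [Equiv.Perm.sign_ofSubtype, Fintype.prod_eq_mul_prod_subtype_ne _ i, extC_self]
  have : (∏ j : {j : ι // j ≠ i}, ((extC i c d j.1 : Fˣ) : F)) = ∏ j, (c j : F) :=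
    Finset.prod_congr rfl fun j _ => by rw [extC_coe]
  rw [this, hd]
  field_simp

/-- the image of the line stabiliser contains all monomial matrices -/
theorem hasMon_Kbar {M : Subgroup (GL ι F)} (hM : HasMonP M) (i : ι) : HasMon (Kbar M i) := by
  intro k hk
  obtain ⟨σ, c, rfl⟩ := exists_eq_monGL k hk
  obtain ⟨ν, hν, -, hνc, hνr⟩ := exists_ext hM i σ c
  exact ⟨ν, hν, hνc, hνr⟩

/-! ### matrices whose rows off `i` are those of the identity -/

theorem det_of_rows (i : ι) (x : Matrix ι ι F)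
    (hrow : ∀ a b, a ≠ i → x a b = if a = b then 1 else 0) : x.det = x i i := by
  have hx : x = 1 + Matrix.vecMulVec (Pi.single i (1 : F))
      (fun b => x i b - (1 : Matrix ι ι F) i b) := by
    ext a b
    rw [Matrix.add_apply, Matrix.vecMulVec_apply]
    by_cases ha : a = i
    · subst ha; rw [Pi.single_eq_same, one_mul]; ring
    · rw [Pi.single_eq_of_ne ha, zero_mul, add_zero, hrow a b ha, Matrix.one_apply]
  calc x.det = (1 + Matrix.vecMulVec (Pi.single i (1 : F))
        (fun b => x i b - (1 : Matrix ι ι F) i b)).det := congrArg Matrix.det hx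
    _ = 1 + (fun b => x i b - (1 : Matrix ι ι F) i b) ⬝ᵥ Pi.single i (1 : F) := by
        rw [Matrix.vecMulVec_eq Unit, Matrix.det_one_add_replicateCol_mul_replicateRow]
    _ = x i i := by
        rw [dotProduct_single, mul_one, Matrix.one_apply_eq]; ring

/-- a matrix fixing the line `F e_i` whose restriction is the identity has the rows of the
identity off `i` -/
theorem rows_of_res (i : ι) (x : Matrix ι ι F) (hcol : ∀ j, j ≠ i → x j i = 0)
    (hres : resM i x = 1) : ∀ a b, a ≠ i → x a b = if a = b then 1 else 0 := by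
  intro a b ha
  by_cases hb : b = i
  · subst hb
    rw [hcol a ha, if_neg ha]
  · have := congrFun (congrFun hres ⟨a, ha⟩) ⟨b, hb⟩
    rw [resM_apply, Matrix.one_apply] at this
    rw [this]
    by_cases hab : a = b
    · rw [if_pos hab, if_pos (Subtype.ext hab)]
    · rw [if_neg hab, if_neg (fun h => hab (congrArg Subtype.val h))]

/-! ### diagonal matrices -/

theorem monGL_one_val (d : ι → Fˣ) :
    ((monGL (1 : Equiv.Perm ι) d : GL ι F) : Matrix ι ι F) = Matrix.diagonal fun j => (d j : F) := by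
  ext a b
  rw [monGL_apply, Equiv.Perm.one_apply, Matrix.diagonal_apply]
  by_cases h : a = b
  · rw [if_pos h, if_pos h, h]
  · rw [if_neg h, if_neg h]

theorem monGL_one_inv (d : ι → Fˣ) :
    (monGL (1 : Equiv.Perm ι) d)⁻¹ = monGL (1 : Equiv.Perm ι) fun j => (d j)⁻¹ := by
  rw [monGL_inv]
  simp

/-- `h_{uj}(η)`: the diagonal matrix with `η` at `u`, `η⁻¹` at `j` and `1` elsewhere -/
def hd (u j : ι) (η : Fˣ) : ι → Fˣ := fun l => if l = u then η else if l = j then η⁻¹ else 1

theorem hd_u (u j : ι) (η : Fˣ) : hd u j η u = η := by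
  unfold hd; rw [if_pos rfl]

theorem hd_other (u j : ι) (η : Fˣ) {l : ι} (hu : l ≠ u) (hj : l ≠ j) : hd u j η l = 1 := by
  unfold hd; rw [if_neg hu, if_neg hj]

theorem hd_prod (u j : ι) (η : Fˣ) (huj : u ≠ j) : ∏ l, ((hd u j η l : Fˣ) : F) = 1 := by
  have h1 : ∀ l, ((hd u j η l : Fˣ) : F) =
      (if l = u then (η : F) else 1) * (if l = j then ((η⁻¹ : Fˣ) : F) else 1) := by
    intro l
    unfold hd
    by_cases hu : l = u
    · rw [if_pos hu, if_pos hu, if_neg (fun h => huj (hu.symm.trans h)), mul_one]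
    · rw [if_neg hu, if_neg hu, one_mul]
      by_cases hj : l = j
      · rw [if_pos hj, if_pos hj]
      · rw [if_neg hj, if_neg hj, Units.val_one]
  rw [Finset.prod_congr rfl fun l _ => h1 l, Finset.prod_mul_distrib, Finset.prod_ite_eq',
    Finset.prod_ite_eq', if_pos (Finset.mem_univ _), if_pos (Finset.mem_univ _), ← Units.val_mul,
    mul_inv_cancel, Units.val_one]

theorem hd_mem {M : Subgroup (GL ι F)} (hM : HasMonP M) (u j : ι) (η : Fˣ) (huj : u ≠ j) :
    monGL (1 : Equiv.Perm ι) (hd u j η) ∈ M := by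
  apply monGL_mem_of_hasMonP hM
  rw [Equiv.Perm.sign_one, hd_prod u j η huj]
  simp

end Cfsg.Agent.Lib.H28.C2
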