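/-
S5634 farm-out (architect helper14), task E3 (helper28): lifting from the Levi quotient of the
stabiliser of a coordinate line.  Exact signature of `tools/blueprints/S5634_sigs.lean`.
-/
import Cfsg.Agent.Lib.H28.C2E3a

set_option autoImplicit false
set_option linter.unusedSectionVars false
set_option linter.unusedVariables false

namespace Cfsg.Agent.Lib.H28.C2

open Matrix Cfsg.Agent.Lib.H14.C2

variable {ι : Type} [Fintype ι] [DecidableEq ι] {F : Type*} [Field F] [Fintype F]

/-- case 1: the restriction of `y` is monomial -/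
theorem e3_case1 (M : Subgroup (GL ι F)) (hM : HasMonP M)
    (hSL : M ≤ Cfsg.Geo.specialLinear ι F) (i : ι)
    (hE1 : ∀ x : GL ι F, x ∈ M →
      (∀ a b, a ≠ i → (x : Matrix ι ι F) a b = if a = b then 1 else 0) →
      (x : Matrix ι ι F) i i = 1 → x ≠ 1 → HasElem M)
    (y : GL ι F) (hy : y ∈ M) (hcol : ∀ j, j ≠ i → (y : Matrix ι ι F) j i = 0)
    (hmono : ¬ IsMono (y : Matrix ι ι F))
    (hm : IsMono ((resGL i y hcol : GL {j : ι // j ≠ i} F) :
      Matrix {j : ι // j ≠ i} {j : ι // j ≠ i} F)) : HasElem M := by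
  obtain ⟨σ, c, hσc⟩ := exists_eq_monGL _ hm
  obtain ⟨ν, hνM, hνmono, hνcol, hνres⟩ := exists_ext hM i σ c
  have hres_eq : resM i (y : Matrix ι ι F) = resM i (ν : Matrix ι ι F) := by
    rw [hνres, ← hσc, resGL_val]
  have hνinv := colFix_inv i ν hνcol
  have hxM : y * ν⁻¹ ∈ M := M.mul_mem hy (M.inv_mem hνM)
  have hxcol : ∀ j, j ≠ i → ((y * ν⁻¹ : GL ι F) : Matrix ι ι F) j i = 0 := by
    rw [Units.val_mul]; exact colFix_mul i _ _ hcol hνinv
  have hxres : resM i ((y * ν⁻¹ : GL ι F) : Matrix ι ι F) = 1 := by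
    rw [Units.val_mul, resM_mul i _ _ hcol, hres_eq, ← resM_mul i _ _ hνcol, ← Units.val_mul,
      mul_inv_cancel, Units.val_one, resM_one]
  have hrows := rows_of_res i _ hxcol hxres
  have hdet : ((y * ν⁻¹ : GL ι F) : Matrix ι ι F).det = 1 := (mem_sl_iff _).mp (hSL hxM)
  have hii : ((y * ν⁻¹ : GL ι F) : Matrix ι ι F) i i = 1 := by
    rw [← det_of_rows i _ hrows, hdet]
  refine hE1 _ hxM hrows hii ?_
  intro h1
  have : y = ν := mul_inv_eq_one.mp h1
  exact hmono (this ▸ hνmono)

omit [Fintype F] in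
/-- the final commutator computation -/
theorem e3_finish (M : Subgroup (GL ι F)) (i : ι)
    (hE1 : ∀ x : GL ι F, x ∈ M →
      (∀ a b, a ≠ i → (x : Matrix ι ι F) a b = if a = b then 1 else 0) →
      (x : Matrix ι ι F) i i = 1 → x ≠ 1 → HasElem M)
    (a b : ι) (hab : a ≠ b) (c : F) (x : GL ι F) (hxM : x ∈ M)
    (hxcol : ∀ j, j ≠ i → (x : Matrix ι ι F) j i = 0)
    (hR1 : ∀ p r, p ≠ i → r ≠ i → (x : Matrix ι ι F) p r =
      (if p = r then 1 else 0) + (if a = p ∧ b = r then c else 0))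
    (hii : (x : Matrix ι ι F) i i = 1) (k : ι) (hk : k ≠ i) (hXk : (x : Matrix ι ι F) i k ≠ 0)
    (d : ι → Fˣ) (hdM : monGL (1 : Equiv.Perm ι) d ∈ M) (hdab : d a = d b) (hdik : d i ≠ d k) :
    HasElem M := by
  set X : Matrix ι ι F := (x : Matrix ι ι F) with hX
  obtain ⟨δ, hδ⟩ : ∃ δ : ι → F, δ = fun r =>
      if r = i then 0 else ((d i : F) / (d r : F) - 1) * X i r := ⟨_, rfl⟩
  have hδi : δ i = 0 := by rw [hδ]; exact if_pos rfl
  have hδr : ∀ r, r ≠ i → δ r = ((d i : F) / (d r : F) - 1) * X i r := by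
    intro r hr; rw [hδ]; exact if_neg hr
  have hd0 : ∀ l, (d l : F) ≠ 0 := fun l => (d l).ne_zero
  -- the key identity
  have hkey : X * (1 + Matrix.vecMulVec (Pi.single i (1 : F)) δ) =
      Matrix.diagonal (fun l => (d l : F)) * X * Matrix.diagonal (fun l => (((d l)⁻¹ : Fˣ) : F)) := by
    ext p r
    rw [Matrix.mul_add, Matrix.mul_one, Matrix.mul_vecMulVec, Matrix.add_apply,
      Matrix.vecMulVec_apply, Matrix.mul_diagonal, Matrix.diagonal_mul, Units.val_inv_eq_inv_val]
    have hcolp : (X *ᵥ Pi.single i (1 : F)) p = X p i := by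
      rw [Matrix.mulVec, dotProduct_single, mul_one]
    rw [hcolp]
    by_cases hp : p = i
    · subst hp
      rw [hii, one_mul]
      by_cases hr : r = p
      · subst hr
        rw [hδi, hii, add_zero, mul_one, mul_inv_cancel₀ (hd0 r)]
      · rw [hδr r hr]
        have := hd0 r
        field_simp
        ring
    · rw [hxcol p hp, zero_mul, add_zero]
      by_cases hr : r = i
      · subst hr
        rw [hxcol p hp, mul_zero, zero_mul]
      · rw [hR1 p r hp hr]
        by_cases hpr : p = r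
        · subst hpr
          have hnab : ¬ (a = p ∧ b = p) := fun h => hab (h.1.trans h.2.symm)
          rw [if_pos rfl, if_neg hnab, add_zero, mul_one, mul_inv_cancel₀ (hd0 p)]
        · rw [if_neg hpr, zero_add]
          by_cases habpr : a = p ∧ b = r
          · obtain ⟨rfl, rfl⟩ := habpr
            rw [if_pos ⟨rfl, rfl⟩, hdab]
            have := hd0 b
            field_simp
          · rw [if_neg habpr, mul_zero, zero_mul]
  -- the commutator
  have hx'M : x⁻¹ * (monGL (1 : Equiv.Perm ι) d * x * (monGL (1 : Equiv.Perm ι) d)⁻¹) ∈ M :=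
    M.mul_mem (M.inv_mem hxM) (M.mul_mem (M.mul_mem hdM hxM) (M.inv_mem hdM))
  have hx' : ((x⁻¹ * (monGL (1 : Equiv.Perm ι) d * x * (monGL (1 : Equiv.Perm ι) d)⁻¹) :
      GL ι F) : Matrix ι ι F) = 1 + Matrix.vecMulVec (Pi.single i (1 : F)) δ := by
    rw [Units.val_mul, Units.val_mul, Units.val_mul, monGL_one_inv, monGL_one_val, monGL_one_val,
      ← hX, ← hkey, ← Matrix.mul_assoc, ← Units.val_mul, inv_mul_cancel, Units.val_one,
      Matrix.one_mul]
  refine hE1 _ hx'M ?_ ?_ ?_
  · intro p r hp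
    rw [hx', Matrix.add_apply, Matrix.vecMulVec_apply, Pi.single_eq_of_ne hp, zero_mul, add_zero,
      Matrix.one_apply]
  · rw [hx', Matrix.add_apply, Matrix.vecMulVec_apply, hδi, mul_zero, add_zero,
      Matrix.one_apply_eq]
  · intro h1
    have h2 : ((x⁻¹ * (monGL (1 : Equiv.Perm ι) d * x * (monGL (1 : Equiv.Perm ι) d)⁻¹) :
        GL ι F) : Matrix ι ι F) i k = ((1 : GL ι F) : Matrix ι ι F) i k := by rw [h1]
    rw [hx', Matrix.add_apply, Matrix.vecMulVec_apply, Pi.single_eq_same, one_mul,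
      Units.val_one, Matrix.one_apply_ne (Ne.symm hk), zero_add, hδr k hk] at h2
    rcases mul_eq_zero.1 h2 with h3 | h3
    · apply hdik
      apply Units.ext
      have h4 : (d i : F) / (d k : F) = 1 := sub_eq_zero.1 h3
      have := hd0 k
      field_simp at h4
      exact h4
    · exact hXk h3

/-- case 2: an elementary transvection of the Levi quotient lifts -/
theorem e3_case2 (hq : 5 ≤ Fintype.card F) (hn : 8 ≤ Fintype.card ι)
    (M : Subgroup (GL ι F)) (hM : HasMonP M)
    (hSL : M ≤ Cfsg.Geo.specialLinear ι F) (i : ι)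
    (hE1 : ∀ x : GL ι F, x ∈ M →
      (∀ a b, a ≠ i → (x : Matrix ι ι F) a b = if a = b then 1 else 0) →
      (x : Matrix ι ι F) i i = 1 → x ≠ 1 → HasElem M)
    (a b : {j : ι // j ≠ i}) (hab : a ≠ b) (c : F) (hc : c ≠ 0) (x : GL ι F) (hxM : x ∈ M)
    (hxcol : ∀ j, j ≠ i → (x : Matrix ι ι F) j i = 0)
    (hxres : resM i (x : Matrix ι ι F) = ((elemGL hab c : GL {j : ι // j ≠ i} F) :
      Matrix {j : ι // j ≠ i} {j : ι // j ≠ i} F)) : HasElem M := by
  classical
  have hab' : a.1 ≠ b.1 := fun h => hab (Subtype.ext h)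
  set X : Matrix ι ι F := (x : Matrix ι ι F) with hX
  -- the entries off row and column `i`
  have hR1 : ∀ p r, p ≠ i → r ≠ i → X p r =
      (if p = r then 1 else 0) + (if a.1 = p ∧ b.1 = r then c else 0) := by
    intro p r hp hr
    have h := congrFun (congrFun hxres ⟨p, hp⟩) ⟨r, hr⟩
    rw [resM_apply, elemGL_val, Matrix.add_apply, Matrix.one_apply, Matrix.single_apply] at h
    rw [h]
    congr 1
    · by_cases hpr : p = r
      · rw [if_pos hpr, if_pos (Subtype.ext hpr)]
      · rw [if_neg hpr, if_neg (fun h' => hpr (congrArg Subtype.val h'))]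
    · by_cases h2 : a.1 = p ∧ b.1 = r
      · rw [if_pos h2, if_pos ⟨Subtype.ext h2.1, Subtype.ext h2.2⟩]
      · rw [if_neg h2, if_neg (fun h' => h2 ⟨congrArg Subtype.val h'.1, congrArg Subtype.val h'.2⟩)]
  -- the entry at `(i, i)` is one
  have hii : X i i = 1 := by
    have hrows : ∀ p r, p ≠ i → (X * (1 + Matrix.single a.1 b.1 (-c))) p r =
        if p = r then 1 else 0 := by
      intro p r hp
      rw [Matrix.mul_add, Matrix.mul_one, Matrix.add_apply]
      by_cases hrb : r = b.1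
      · subst hrb
        rw [Matrix.mul_single_apply_same, hR1 p b.1 hp b.2, hR1 p a.1 hp a.2]
        have h1 : ¬ (a.1 = p ∧ b.1 = a.1) := fun h => hab' h.2.symm
        rw [if_neg h1, add_zero]
        by_cases hpa : p = a.1
        · have hpb : p ≠ b.1 := fun h => hab' (hpa.symm.trans h)
          rw [if_neg hpb, if_pos ⟨hpa.symm, rfl⟩, if_pos hpa]
          ring
        · have h2 : ¬ (a.1 = p ∧ b.1 = b.1) := fun h => hpa h.1.symm
          rw [if_neg h2, if_neg hpa]
          ring
      · rw [Matrix.mul_single_apply_of_ne (-c) a.1 b.1 p r hrb X, add_zero]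
        by_cases hri : r = i
        · subst hri
          rw [hxcol p hp, if_neg hp]
        · rw [hR1 p r hp hri]
          have h2 : ¬ (a.1 = p ∧ b.1 = r) := fun h => hrb h.2.symm
          rw [if_neg h2, add_zero]
    have hdet2 : (X * (1 + Matrix.single a.1 b.1 (-c))).det = 1 := by
      rw [Matrix.det_mul, (mem_sl_iff x).mp (hSL hxM)]
      have := Matrix.det_transvection_of_ne a.1 b.1 hab' (-c)
      unfold Matrix.transvection at this
      rw [this, mul_one]
    have h3 := det_of_rows i _ hrows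
    rw [hdet2] at h3
    rw [h3, Matrix.mul_add, Matrix.mul_one, Matrix.add_apply,
      Matrix.mul_single_apply_of_ne (-c) a.1 b.1 i i (Ne.symm b.2) X, add_zero]
  by_cases hρ : ∀ k, k ≠ i → X i k = 0
  · -- `x` is the elementary transvection
    have hx : x = elemGL hab' c := by
      apply Units.ext
      ext p r
      rw [elemGL_val, Matrix.add_apply, Matrix.one_apply, Matrix.single_apply]
      by_cases hp : p = i
      · subst hp
        have h1 : ¬ (a.1 = p ∧ b.1 = r) := fun h => a.2 h.1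
        rw [if_neg h1, add_zero]
        by_cases hr : r = p
        · subst hr; rw [if_pos rfl]; exact hii
        · rw [if_neg (Ne.symm hr)]; exact hρ r hr
      · by_cases hr : r = i
        · subst hr
          have h1 : ¬ (a.1 = p ∧ b.1 = r) := fun h => b.2 h.2
          rw [if_neg h1, add_zero, if_neg hp]
          exact hxcol p hp
        · exact hR1 p r hp hr
    exact ⟨a.1, b.1, hab', c, hc, hx ▸ hxM⟩
  · push Not at hρ
    obtain ⟨k, hk, hXk⟩ := hρ
    -- a spare index
    obtain ⟨j, -, hj⟩ : ∃ j, j ∈ (Finset.univ : Finset ι) ∧ j ∉ ({i, a.1, b.1, k} : Finset ι) := by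
      apply Finset.exists_mem_notMem_of_card_lt_card
      have := Finset.card_le_four (a := i) (b := a.1) (c := b.1) (d := k)
      rw [Finset.card_univ]
      omega
    simp only [Finset.mem_insert, Finset.mem_singleton, not_or] at hj
    obtain ⟨hji, hja, hjb, hjk⟩ := hj
    -- a scalar different from 0 and 1
    obtain ⟨η₀, -, hη₀⟩ : ∃ e, e ∈ (Finset.univ : Finset F) ∧ e ∉ ({0, 1} : Finset F) := by
      apply Finset.exists_mem_notMem_of_card_lt_card
      have := Finset.card_le_two (a := (0 : F)) (b := 1)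
      rw [Finset.card_univ]
      omega
    simp only [Finset.mem_insert, Finset.mem_singleton, not_or] at hη₀
    obtain ⟨hη0, hη1⟩ := hη₀
    have hη1' : Units.mk0 η₀ hη0 ≠ 1 := fun h => hη1 (congrArg Units.val h)
    by_cases hkab : k = a.1 ∨ k = b.1
    · -- `t = h_{ij}(η)`
      refine e3_finish M i hE1 a.1 b.1 hab' c x hxM hxcol hR1 hii k hk hXk
        (hd i j (Units.mk0 η₀ hη0)) (hd_mem hM i j _ (Ne.symm hji)) ?_ ?_
      · rw [hd_other i j _ a.2 (Ne.symm hja), hd_other i j _ b.2 (Ne.symm hjb)]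
      · rw [hd_u, hd_other i j _ hk (Ne.symm hjk)]
        exact hη1'
    · -- `t = h_{kj}(η)`
      push Not at hkab
      refine e3_finish M i hE1 a.1 b.1 hab' c x hxM hxcol hR1 hii k hk hXk
        (hd k j (Units.mk0 η₀ hη0)) (hd_mem hM k j _ (Ne.symm hjk)) ?_ ?_
      · rw [hd_other k j _ (Ne.symm hkab.1) (Ne.symm hja),
          hd_other k j _ (Ne.symm hkab.2) (Ne.symm hjb)]
      · rw [hd_u, hd_other k j _ (Ne.symm hk) (Ne.symm hji)]
        exact fun h => hη1' h.symm

/-- **E3** (lifting from the Levi quotient of a coordinate-line stabiliser). -/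
theorem hasElem_of_col (hq : 5 ≤ Fintype.card F) (hn : 8 ≤ Fintype.card ι)
    (M : Subgroup (GL ι F)) (hM : HasMonP M) (hSL : M ≤ Cfsg.Geo.specialLinear ι F)
    (i : ι)
    (hA : ∀ G : Subgroup (GL {j : ι // j ≠ i} F), HasMonP G → NT G →
      ∀ g ∈ G, IsMono (g : Matrix {j : ι // j ≠ i} {j : ι // j ≠ i} F))
    (hE2 : ∀ G : Subgroup (GL {j : ι // j ≠ i} F), HasMon G → ¬ NT G → HasElem G)
    (hE1 : ∀ x : GL ι F, x ∈ M →
      (∀ a b, a ≠ i → (x : Matrix ι ι F) a b = if a = b then 1 else 0) →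
      (x : Matrix ι ι F) i i = 1 → x ≠ 1 → HasElem M)
    (y : GL ι F) (hy : y ∈ M) (hcol : ∀ j, j ≠ i → (y : Matrix ι ι F) j i = 0)
    (hmono : ¬ IsMono (y : Matrix ι ι F)) : HasElem M := by
  by_cases hm : IsMono ((resGL i y hcol : GL {j : ι // j ≠ i} F) :
      Matrix {j : ι // j ≠ i} {j : ι // j ≠ i} F)
  · exact e3_case1 M hM hSL i hE1 y hy hcol hmono hm
  · have hMon : HasMon (Kbar M i) := hasMon_Kbar hM i
    have hNT : ¬ NT (Kbar M i) := fun h =>
      hm (hA _ hMon.hasMonP h _ (resGL_mem_Kbar i hy hcol))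
    obtain ⟨a, b, hab, c, hc, x, hxM, hxcol, hxres⟩ := hE2 _ hMon hNT
    exact e3_case2 hq hn M hM hSL i hE1 a b hab c hc x hxM hxcol hxres

end Cfsg.Agent.Lib.H28.C2
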