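/-
helper28 library: the rank 3 actions of `M23` and `M22` on the octads through one or two points: suborbit counts and
transitivity of the flag stabilizers on suborbits (for arbitrary flags).
-/
import Cfsg.Agent.Lib.H28.M23M22Simple

set_option autoImplicit false

namespace Cfsg.Agent.Lib.H28

open Cfsg
open scoped Pointwise

section Generic

variable {L : List ℕ}

/-- Base case: the stabilizer of the base octad in `G_L` is transitive on the octads through `L` meeting the base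
octad in a given number of points. -/
theorem oct0_rank3_thru (hL : inOct L) (hlen : 1 ≤ L.length) (D : IwCert L) (hD : D.ok)
    {y' y'' : Finset GolayPt} (hy' : y' ∈ octads) (hy'' : y'' ∈ octads)
    (hL' : ∀ j ∈ L, gPt j ∈ y') (hL'' : ∀ j ∈ L, gPt j ∈ y'')
    (h : (oct0 ∩ y').card = (oct0 ∩ y'').card) :
    ∃ g ∈ M24, (∀ j ∈ L, g (gPt j) = gPt j) ∧ g • oct0 = oct0 ∧ g • y' = y'' := by
  classical
  obtain ⟨-, -, -, -, -, h6, h7, h8⟩ := hD
  have hC := golayCode_isAbsGolay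
  have h8c : oct0.card = 8 := oct0_mem_octads.2
  have hpos : 1 ≤ (oct0 ∩ y').card := by
    obtain ⟨j, hj⟩ := List.exists_mem_of_length_pos (by omega : 0 < L.length)
    exact Finset.card_pos.2 ⟨gPt j, Finset.mem_inter.2 ⟨gPt_mem_oct0 hL hj, hL' j hj⟩⟩
  rcases octad_inter_cases hC oct0_mem_octads hy' with h0 | h2 | h4 | h8'
  · omega
  · obtain ⟨g, hg, e⟩ := oct0_orbits_thru hL h6 h7 h8 hy' hy'' hL' hL'' h (Or.inl h2)
    rw [mem_fixSub, mem_stabMask_iff_smul] at hg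
    exact ⟨g, hg.1.1, hg.2, hg.1.2, e⟩
  · obtain ⟨g, hg, e⟩ := oct0_orbits_thru hL h6 h7 h8 hy' hy'' hL' hL'' h (Or.inr h4)
    rw [mem_fixSub, mem_stabMask_iff_smul] at hg
    exact ⟨g, hg.1.1, hg.2, hg.1.2, e⟩
  · have e1 : oct0 ∩ y' = oct0 := Finset.eq_of_subset_of_card_le Finset.inter_subset_left (by omega)
    have e2 : oct0 ∩ y' = y' :=
      Finset.eq_of_subset_of_card_le Finset.inter_subset_right (by rw [h8', hy'.2])
    have h' : (oct0 ∩ y'').card = 8 := by rw [← h, h8']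
    have e1' : oct0 ∩ y'' = oct0 :=
      Finset.eq_of_subset_of_card_le Finset.inter_subset_left (by omega)
    have e2' : oct0 ∩ y'' = y'' :=
      Finset.eq_of_subset_of_card_le Finset.inter_subset_right (by rw [h', hy''.2])
    refine ⟨1, M24.one_mem, fun _ _ => rfl, one_smul _ _, ?_⟩
    rw [one_smul, ← e2, e1, ← e2', e1']

/-- Every flag (points in an octad) is the image of the base flag. -/
theorem exists_flag_map (hL : inOct L) (D : IwCert L) (hD : D.ok) {g1 : Equiv.Perm GolayPt}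
    (hg1 : g1 ∈ M24) {o : Finset GolayPt} (ho : o ∈ octads) (h : ∀ j ∈ L, g1 (gPt j) ∈ o) :
    ∃ g0 ∈ M24, (∀ j ∈ L, g0 (gPt j) = g1 (gPt j)) ∧ g0 • oct0 = o := by
  obtain ⟨h1, -, -, -, h5, -, -, -⟩ := hD
  have hy : (g1⁻¹ • o : Finset GolayPt) ∈ octads := smul_mem_octads (M24.inv_mem hg1) ho
  obtain ⟨g2, hg2, e⟩ := exists_fixSub_smul_oct0 hL h1 h5 hy (by
    intro j hj
    rw [Finset.mem_inv_smul_finset_iff, Equiv.Perm.smul_def]
    exact h j hj)
  rw [mem_fixSub] at hg2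
  refine ⟨g1 * g2, M24.mul_mem hg1 hg2.1, ?_, ?_⟩
  · intro j hj
    rw [Equiv.Perm.mul_apply, hg2.2 j hj]
  · rw [mul_smul, e, smul_inv_smul]

/-- Rank 3 for an arbitrary flag, given as the image of the base flag under `g0`. -/
theorem rank3_thru (hL : inOct L) (hlen : 1 ≤ L.length) (D : IwCert L) (hD : D.ok)
    {g0 : Equiv.Perm GolayPt} (hg0 : g0 ∈ M24) {o' o'' : Finset GolayPt} (ho' : o' ∈ octads)
    (ho'' : o'' ∈ octads) (h' : ∀ j ∈ L, g0 (gPt j) ∈ o') (h'' : ∀ j ∈ L, g0 (gPt j) ∈ o'')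
    (hc : (g0 • oct0 ∩ o').card = (g0 • oct0 ∩ o'').card) :
    ∃ g ∈ M24, (∀ j ∈ L, g (g0 (gPt j)) = g0 (gPt j)) ∧ g • (g0 • oct0) = g0 • oct0 ∧ g • o' = o'' := by
  have hcard : ∀ x : Finset GolayPt, (oct0 ∩ g0⁻¹ • x).card = (g0 • oct0 ∩ x).card := by
    intro x
    have : g0 • oct0 ∩ x = g0 • (oct0 ∩ g0⁻¹ • x) := by
      rw [Finset.smul_finset_inter, smul_inv_smul]
    rw [this, Finset.card_smul_finset]
  have hmem : ∀ x : Finset GolayPt, (∀ j ∈ L, g0 (gPt j) ∈ x) → ∀ j ∈ L, gPt j ∈ g0⁻¹ • x := by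
    intro x hx j hj
    rw [Finset.mem_inv_smul_finset_iff, Equiv.Perm.smul_def]
    exact hx j hj
  obtain ⟨k, hk, hkL, hko, e⟩ := oct0_rank3_thru hL hlen D hD
    (smul_mem_octads (M24.inv_mem hg0) ho') (smul_mem_octads (M24.inv_mem hg0) ho'')
    (hmem o' h') (hmem o'' h'') (by rw [hcard, hcard, hc])
  refine ⟨g0 * k * g0⁻¹, M24.mul_mem (M24.mul_mem hg0 hk) (M24.inv_mem hg0), ?_, ?_, ?_⟩
  · intro j hj
    rw [Equiv.Perm.mul_apply, Equiv.Perm.mul_apply, Equiv.Perm.inv_def, Equiv.symm_apply_apply, hkL j hj]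
  · rw [mul_smul, mul_smul, inv_smul_smul, hko]
  · rw [mul_smul, mul_smul, e, smul_inv_smul]

end Generic

/-- Counting the octads through a subset `P` of an octad `o` meeting `o` in 2 or 4 points. -/
theorem ncard_octads_thru_meet {o P : Finset GolayPt} (ho : o ∈ octads) (hP : P ⊆ o) (k m : ℕ)
    (hPk : P.card ≤ k)
    (hm : ∀ s ⊆ o, s.card = k → ((blocksF octads).filter (fun o' => o ∩ o' = s)).card = m) :
    {o' : Finset GolayPt | o' ∈ octads ∧ (P ⊆ o' ∧ (o ∩ o').card = k)}.ncard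
      = Nat.choose (8 - P.card) (k - P.card) * m := by
  classical
  rw [ncard_eq_card_filter]
  exact card_octads_thru_meet_card golayCode_isAbsGolay ho hP k m hPk hm

theorem ncard_octads_thru_meet_two {o P : Finset GolayPt} (ho : o ∈ octads) (hP : P ⊆ o)
    (hPk : P.card ≤ 2) :
    {o' : Finset GolayPt | o' ∈ octads ∧ (P ⊆ o' ∧ (o ∩ o').card = 2)}.ncard
      = Nat.choose (8 - P.card) (2 - P.card) * 16 :=
  ncard_octads_thru_meet ho hP 2 16 hPk
    (fun _ hs h2 => card_octads_meet_two golayCode_isAbsGolay ho hs h2)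

theorem ncard_octads_thru_meet_four {o P : Finset GolayPt} (ho : o ∈ octads) (hP : P ⊆ o)
    (hPk : P.card ≤ 4) :
    {o' : Finset GolayPt | o' ∈ octads ∧ (P ⊆ o' ∧ (o ∩ o').card = 4)}.ncard
      = Nat.choose (8 - P.card) (4 - P.card) * 4 :=
  ncard_octads_thru_meet ho hP 4 4 hPk
    (fun _ hs h4 => card_octads_meet_four golayCode_isAbsGolay ho hs h4)

end Cfsg.Agent.Lib.H28
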