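/-
helper28 library: counting octads by mask predicates, orbit certificates for classes of octad masks, and flags
(octad, points inside, a point outside): the stabilizers `A8` (octad and an outside point) and `A7` (octad, a point
inside and a point outside) and their orbits on octads.
-/
import Cfsg.Agent.Lib.H28.OctadThruRank3
import Cfsg.Agent.Lib.H28.M24OctadA8
import Cfsg.Agent.Lib.H28.M24Six

set_option autoImplicit false

namespace Cfsg.Agent.Lib.H28

open Cfsg
open scoped Pointwise

/-! ### Masks and octads -/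

theorem ptsMask_inj {m m' : ℕ} (hm : m < 2 ^ 24) (hm' : m' < 2 ^ 24) (h : ptsMask m = ptsMask m') :
    m = m' := by
  apply Nat.eq_of_testBit_eq
  intro i
  by_cases hi : i < 24
  · have h1 : gPt i ∈ ptsMask m ↔ gPt i ∈ ptsMask m' := by rw [h]
    rw [gPt_mem_ptsMask hi, gPt_mem_ptsMask hi] at h1
    exact Bool.eq_iff_iff.2 h1
  · have hle : 2 ^ 24 ≤ 2 ^ i := Nat.pow_le_pow_right (by norm_num) (by omega)
    rw [Nat.testBit_lt_two_pow (lt_of_lt_of_le hm hle), Nat.testBit_lt_two_pow (lt_of_lt_of_le hm' hle)]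

theorem octMasks_lt_nodup : octMasks.all (fun m => decide (m < 2 ^ 24)) = true ∧ nodupB octMasks = true := by
  decide +kernel

theorem ptsMask_mem_octads {m : ℕ} (hm : m ∈ octMasks) : ptsMask m ∈ octads := by
  unfold octMasks at hm
  rw [List.mem_filter, beq_iff_eq] at hm
  refine ⟨⟨W m, W_mem_golayCode_of_mem_combos hm.1, (ptsMask_eq_support₂ m).symm⟩, ?_⟩
  rw [card_ptsMask]
  exact hm.2

/-- Counting octads with a property decided on masks. -/
theorem ncard_octads_filter (P : Finset GolayPt → Prop) (cls : ℕ → Bool)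
    (h : ∀ m ∈ octMasks, P (ptsMask m) ↔ cls m = true) :
    {o : Finset GolayPt | o ∈ octads ∧ P o}.ncard = (octMasks.filter cls).length := by
  classical
  have hset : {o : Finset GolayPt | o ∈ octads ∧ P o}
      = (((octMasks.filter cls).map ptsMask).toFinset : Set (Finset GolayPt)) := by
    ext o
    rw [Set.mem_ofPred_eq, Finset.mem_coe, List.mem_toFinset, List.mem_map]
    constructor
    · rintro ⟨ho, hP⟩
      obtain ⟨m, hm, rfl⟩ := exists_octMask ho
      exact ⟨m, List.mem_filter.2 ⟨hm, (h m hm).1 hP⟩, rfl⟩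
    · rintro ⟨m, hm, rfl⟩
      rw [List.mem_filter] at hm
      exact ⟨ptsMask_mem_octads hm.1, (h m hm.1).2 hm.2⟩
  rw [hset, Set.ncard_coe_finset, List.toFinset_card_of_nodup, List.length_map]
  apply List.Nodup.map_on
  · intro a ha b hb hab
    rw [List.mem_filter] at ha hb
    have h1 := List.all_eq_true.1 octMasks_lt_nodup.1 a ha.1
    have h2 := List.all_eq_true.1 octMasks_lt_nodup.1 b hb.1
    rw [decide_eq_true_eq] at h1 h2
    exact ptsMask_inj h1 h2 hab
  · exact (nodupB_sound octMasks_lt_nodup.2).filter _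

/-- Transitivity on a class of octads from an orbit certificate on masks. -/
theorem exists_smul_of_orbCert (K : Subgroup (Equiv.Perm GolayPt)) (hs : List (List ℕ))
    (hhs : ∀ w ∈ hs, wordPerm w ∈ K) (cls : ℕ → Bool) {start : ℕ} {cert : List (ℕ × ℕ)}
    (hcert : orbCheck (wordTis hs) start cert (octMasks.filter cls) = true)
    {y' y'' : Finset GolayPt} (hy' : y' ∈ octads) (hy'' : y'' ∈ octads)
    (h' : ∀ m ∈ octMasks, ptsMask m = y' → cls m = true)
    (h'' : ∀ m ∈ octMasks, ptsMask m = y'' → cls m = true) :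
    ∃ g ∈ K, g • y' = y'' := by
  obtain ⟨m', hm', rfl⟩ := exists_octMask hy'
  obtain ⟨m'', hm'', rfl⟩ := exists_octMask hy''
  have hsd := orbCheck_words_sound K hs hhs hcert
  obtain ⟨g', hg', e'⟩ := reach_smul (hsd m' (List.mem_filter.2 ⟨hm', h' m' hm' rfl⟩))
  obtain ⟨g'', hg'', e''⟩ := reach_smul (hsd m'' (List.mem_filter.2 ⟨hm'', h'' m'' hm'' rfl⟩))
  refine ⟨g'' * g'⁻¹, K.mul_mem hg'' (K.inv_mem hg'), ?_⟩
  rw [← e', mul_smul, inv_smul_smul, e'']

/-! ### Flags with a point outside the octad -/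

theorem gPt4_notMem_oct0 : gPt 4 ∉ oct0 := by
  rw [mem_oct0_iff, gIdx_gPt (by norm_num)]
  decide

/-- Adjusting a map of the base octad so that the outside point `4` goes to a given outside point. -/
theorem exists_flag_map_out {g1 : Equiv.Perm GolayPt} (hg1 : g1 ∈ M24) {o : Finset GolayPt}
    (ho : o ∈ octads) (hgo : g1 • oct0 = o) {x : GolayPt} (hx : x ∉ o) :
    ∃ g0 ∈ M24, g0 • oct0 = o ∧ (∀ p ∈ oct0, g0 p = g1 p) ∧ g0 (gPt 4) = x := by
  have h4 : g1 (gPt 4) ∉ o := by
    rw [← hgo]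
    intro h
    rw [← Equiv.Perm.smul_def, Finset.smul_mem_smul_finset_iff] at h
    exact gPt4_notMem_oct0 h
  obtain ⟨k, hk, hkx⟩ := octad_K_trans ho h4 hx
  rw [Subgroup.mem_inf, mem_fixingSubgroup_iff] at hk
  have hkfix : ∀ p ∈ o, k p = p := fun p hp => hk.2 p (Finset.mem_coe.2 hp)
  refine ⟨k * g1, M24.mul_mem hk.1 hg1, ?_, ?_, ?_⟩
  · rw [mul_smul, hgo]
    apply Finset.eq_of_subset_of_card_le
    · intro q hq
      rw [Finset.mem_smul_finset] at hq
      obtain ⟨p, hp, rfl⟩ := hq
      rw [Equiv.Perm.smul_def, hkfix p hp]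
      exact hp
    · rw [Finset.card_smul_finset]
  · intro p hp
    rw [Equiv.Perm.mul_apply]
    apply hkfix
    rw [← hgo, ← Equiv.Perm.smul_def]
    exact Finset.smul_mem_smul_finset hp
  · rw [Equiv.Perm.mul_apply, hkx]

end Cfsg.Agent.Lib.H28
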