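/-
helper28 library: families of sets of point sets (sextets, trios) represented by keys (lists of masks):
decoding, action of permutations on keys, verified orbit certificates indexed by positions in a chunked key
table, injectivity of decoding on sorted keys, and counting by key predicates.
-/
import Cfsg.Agent.Lib.H28.OctadFlags

set_option autoImplicit false

namespace Cfsg.Agent.Lib.H28

open Cfsg
open scoped Pointwise

/-! ### Keys -/

/-- The set of point sets with the given list of masks. -/
def decL (l : List ℕ) : Finset (Finset GolayPt) := (l.map ptsMask).toFinset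

theorem mem_decL {l : List ℕ} {s : Finset GolayPt} : s ∈ decL l ↔ ∃ m ∈ l, ptsMask m = s := by
  unfold decL
  rw [List.mem_toFinset, List.mem_map]

theorem smul_ptsMask (π : Equiv.Perm GolayPt) (ti : List ℕ)
    (hti : ∀ p, gIdx (π.symm p) = ti.getD (gIdx p) 0) (m : ℕ) :
    π • ptsMask m = ptsMask (pullMask ti m) := by
  rw [ptsMask_eq_support₂, ptsMask_eq_support₂, smul_support₂, W_comp_symm π ti hti]

theorem smul_decL (π : Equiv.Perm GolayPt) (ti : List ℕ)
    (hti : ∀ p, gIdx (π.symm p) = ti.getD (gIdx p) 0) (l : List ℕ) :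
    π • decL l = decL (l.map (pullMask ti)) := by
  ext s
  rw [Finset.mem_smul_finset, mem_decL]
  constructor
  · rintro ⟨t, ht, rfl⟩
    obtain ⟨m, hm, rfl⟩ := mem_decL.1 ht
    exact ⟨pullMask ti m, List.mem_map_of_mem hm, (smul_ptsMask π ti hti m).symm⟩
  · rintro ⟨m', hm', rfl⟩
    obtain ⟨m, hm, rfl⟩ := List.mem_map.1 hm'
    exact ⟨ptsMask m, mem_decL.2 ⟨m, hm, rfl⟩, smul_ptsMask π ti hti m⟩

/-- Two keys with the same masks. -/
def sameL (l l' : List ℕ) : Bool := l.all (fun m => l'.contains m) && l'.all (fun m => l.contains m)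

theorem decL_eq_of_sameL {l l' : List ℕ} (h : sameL l l' = true) : decL l = decL l' := by
  unfold sameL at h
  rw [Bool.and_eq_true, List.all_eq_true, List.all_eq_true] at h
  ext s
  rw [mem_decL, mem_decL]
  constructor
  · rintro ⟨m, hm, rfl⟩
    have := h.1 m hm
    rw [List.contains_iff_mem] at this
    exact ⟨m, this, rfl⟩
  · rintro ⟨m, hm, rfl⟩
    have := h.2 m hm
    rw [List.contains_iff_mem] at this
    exact ⟨m, this, rfl⟩

/-! ### Orbit certificates on a chunked key table -/

/-- The key at position `i` of a table in chunks of 64. -/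
def getK (Ks : List (List (List ℕ))) (i : ℕ) : List ℕ := (Ks.getD (i / 64) []).getD (i % 64) []

/-- One step of a certificate: `e = (source position, generator, target position)`. -/
def stepK (tis : List (List ℕ)) (Ks : List (List (List ℕ))) (vis : ℕ) (e : ℕ × ℕ × ℕ) : Option ℕ :=
  if vis.testBit e.1 && sameL ((getK Ks e.1).map (pullMask (tis.getD e.2.1 []))) (getK Ks e.2.2) then
    some (vis ||| 2 ^ e.2.2)
  else none

def runK (tis : List (List ℕ)) (Ks : List (List (List ℕ))) : ℕ → List (ℕ × ℕ × ℕ) → Option ℕ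
  | vis, [] => some vis
  | vis, e :: es => match stepK tis Ks vis e with
    | some vis' => runK tis Ks vis' es
    | none => none

/-- The key `k` is reachable from `k0` under `K`. -/
def ReachK (K : Subgroup (Equiv.Perm GolayPt)) (k0 k : List ℕ) : Prop :=
  ∃ g ∈ K, g • decL k0 = decL k

theorem stepK_sound (K : Subgroup (Equiv.Perm GolayPt)) (gs : List (Equiv.Perm GolayPt))
    (tis : List (List ℕ)) (Ks : List (List (List ℕ)))
    (hK : ∀ g ∈ gs, g ∈ K)
    (hti : ∀ i (hi : i < gs.length), ∀ p, gIdx ((gs[i]).symm p) = (tis.getD i []).getD (gIdx p) 0)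
    (k0 : List ℕ) {vis vis' : ℕ} {e : ℕ × ℕ × ℕ} (he2 : e.2.1 < gs.length) (h : stepK tis Ks vis e = some vis')
    (hinv : ∀ i, vis.testBit i = true → ReachK K k0 (getK Ks i)) :
    ∀ i, vis'.testBit i = true → ReachK K k0 (getK Ks i) := by
  unfold stepK at h
  split_ifs at h with h1
  rw [Option.some.injEq] at h
  rw [Bool.and_eq_true] at h1
  intro i hi
  rw [← h, Nat.testBit_or, Bool.or_eq_true, Nat.testBit_two_pow, decide_eq_true_eq] at hi
  rcases hi with hi | hi
  · exact hinv i hi
  · obtain ⟨g, hg, hgm⟩ := hinv e.1 h1.1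
    rw [← hi]
    refine ⟨gs[e.2.1] * g, K.mul_mem (hK _ (List.getElem_mem he2)) hg, ?_⟩
    rw [mul_smul, hgm, smul_decL _ _ (hti e.2.1 he2)]
    exact decL_eq_of_sameL h1.2

theorem runK_sound (K : Subgroup (Equiv.Perm GolayPt)) (gs : List (Equiv.Perm GolayPt))
    (tis : List (List ℕ)) (Ks : List (List (List ℕ)))
    (hK : ∀ g ∈ gs, g ∈ K)
    (hti : ∀ i (hi : i < gs.length), ∀ p, gIdx ((gs[i]).symm p) = (tis.getD i []).getD (gIdx p) 0)
    (k0 : List ℕ) : ∀ (es : List (ℕ × ℕ × ℕ)) (vis vis' : ℕ), (∀ e ∈ es, e.2.1 < gs.length) →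
      runK tis Ks vis es = some vis' →
      (∀ i, vis.testBit i = true → ReachK K k0 (getK Ks i)) →
      ∀ i, vis'.testBit i = true → ReachK K k0 (getK Ks i) := by
  intro es
  induction es with
  | nil =>
    intro vis vis' _ h hinv
    simp only [runK, Option.some.injEq] at h
    rw [← h]; exact hinv
  | cons e es ih =>
    intro vis vis' hes h hinv
    unfold runK at h
    split at h
    · rename_i vis'' hstep
      exact ih vis'' vis' (fun e' he' => hes e' (List.mem_cons_of_mem _ he')) h
        (stepK_sound K gs tis Ks hK hti k0 (hes e (by simp)) hstep hinv)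
    · exact absurd h (by simp)

/-- Checker: run the certificate from position `start` and test that all `targets` are reached. -/
def checkK (tis : List (List ℕ)) (Ks : List (List (List ℕ))) (start : ℕ) (cert : List (ℕ × ℕ × ℕ))
    (targets : List ℕ) : Bool :=
  cert.all (fun e => decide (e.2.1 < tis.length)) &&
  match runK tis Ks (2 ^ start) cert with
  | some V => targets.all (fun i => V.testBit i)
  | none => false

theorem checkK_sound (K : Subgroup (Equiv.Perm GolayPt)) (gs : List (Equiv.Perm GolayPt))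
    (tis : List (List ℕ)) (Ks : List (List (List ℕ))) (hlen : gs.length = tis.length) (hK : ∀ g ∈ gs, g ∈ K)
    (hti : ∀ i (hi : i < gs.length), ∀ p, gIdx ((gs[i]).symm p) = (tis.getD i []).getD (gIdx p) 0)
    {start : ℕ} {cert : List (ℕ × ℕ × ℕ)} {targets : List ℕ} (h : checkK tis Ks start cert targets = true) :
    ∀ i ∈ targets, ReachK K (getK Ks start) (getK Ks i) := by
  unfold checkK at h
  rw [Bool.and_eq_true, List.all_eq_true] at h
  obtain ⟨h2, h3⟩ := h
  split at h3
  · rename_i V hV
    rw [List.all_eq_true] at h3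
    intro i hi
    exact runK_sound K gs tis Ks hK hti (getK Ks start) cert _ V
      (fun e he => by
        have := h2 e he
        rw [decide_eq_true_eq] at this
        rw [hlen]; exact this) hV
      (fun s hs => by
        rw [Nat.testBit_two_pow, decide_eq_true_eq] at hs
        rw [← hs]
        exact ⟨1, K.one_mem, one_smul _ _⟩)
      i (h3 i hi)
  · exact absurd h3 (by simp)

/-- Orbit certificates for a subgroup containing the permutations of a list of words. -/
theorem checkK_words_sound (K : Subgroup (Equiv.Perm GolayPt)) (ws : List (List ℕ))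
    (hK : ∀ w ∈ ws, wordPerm w ∈ K) (Ks : List (List (List ℕ))) {start : ℕ} {cert : List (ℕ × ℕ × ℕ)}
    {targets : List ℕ} (h : checkK (wordTis ws) Ks start cert targets = true) :
    ∀ i ∈ targets, ReachK K (getK Ks start) (getK Ks i) := by
  apply checkK_sound K (ws.map wordPerm) (wordTis ws) Ks _ _ (wordTis_spec ws) h
  · unfold wordTis; rw [List.length_map, List.length_map]
  · intro g hg
    rw [List.mem_map] at hg
    obtain ⟨w, hw, rfl⟩ := hg
    exact hK w hw

/-- A word fixes the decoded key. -/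
theorem wordPerm_smul_decL_of_sameL {w : List ℕ} {k : List ℕ}
    (h : sameL (k.map (pullMask (wordTab (invWord w)))) k = true) : wordPerm w • decL k = decL k := by
  rw [smul_decL (wordPerm w) (wordTab (invWord w)) (fun p => by
    rw [← wordTab_spec, wordPerm_invWord, Equiv.Perm.inv_def])]
  exact decL_eq_of_sameL h

/-! ### Sorted keys -/

/-- Strictly increasing list of numbers. -/
def incr : List ℕ → Bool
  | [] => true
  | [_] => true
  | a :: b :: l => decide (a < b) && incr (b :: l)

theorem pairwise_of_incr : ∀ (l : List ℕ), incr l = true → l.Pairwise (· < ·)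
  | [], _ => List.Pairwise.nil
  | [a], _ => List.pairwise_singleton _ a
  | a :: b :: l, h => by
    unfold incr at h
    rw [Bool.and_eq_true, decide_eq_true_eq] at h
    have ih := pairwise_of_incr (b :: l) h.2
    rw [List.pairwise_cons]
    refine ⟨?_, ih⟩
    rw [List.pairwise_cons] at ih
    intro x hx
    rcases List.mem_cons.1 hx with rfl | hx
    · exact h.1
    · exact lt_trans h.1 (ih.1 x hx)

/-- A valid key: masks below `2 ^ 24`, strictly increasing. -/
def keyOK (k : List ℕ) : Bool := k.all (fun m => decide (m < 2 ^ 24)) && incr k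

theorem eq_of_decL_eq {k k' : List ℕ} (hk : keyOK k = true) (hk' : keyOK k' = true) (h : decL k = decL k') :
    k = k' := by
  unfold keyOK at hk hk'
  rw [Bool.and_eq_true, List.all_eq_true] at hk hk'
  have hmem : ∀ (a b : List ℕ), (∀ m ∈ a, decide (m < 2 ^ 24) = true) → (∀ m ∈ b, decide (m < 2 ^ 24) = true) →
      decL a = decL b → ∀ m ∈ a, m ∈ b := by
    intro a b ha hb hab m hm
    have h1 : ptsMask m ∈ decL b := by rw [← hab]; exact mem_decL.2 ⟨m, hm, rfl⟩
    obtain ⟨m', hm', e⟩ := mem_decL.1 h1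
    have h2 := ha m hm
    have h3 := hb m' hm'
    rw [decide_eq_true_eq] at h2 h3
    rw [← ptsMask_inj h3 h2 e]
    exact hm'
  exact List.Pairwise.eq_of_mem_iff (pairwise_of_incr k hk.2) (pairwise_of_incr k' hk'.2)
    (fun m => ⟨hmem k k' hk.1 hk'.1 h m, hmem k' k hk'.1 hk.1 h.symm m⟩)

theorem card_decL {k : List ℕ} (hk : keyOK k = true) : (decL k).card = k.length := by
  unfold keyOK at hk
  rw [Bool.and_eq_true, List.all_eq_true] at hk
  unfold decL
  rw [List.toFinset_card_of_nodup, List.length_map]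
  apply List.Nodup.map_on
  · intro a ha b hb hab
    have h1 := hk.1 a ha
    have h2 := hk.1 b hb
    rw [decide_eq_true_eq] at h1 h2
    exact ptsMask_inj h1 h2 hab
  · exact (pairwise_of_incr k hk.2).imp (fun h => ne_of_lt h)

/-- The first two entries of a key as one number. -/
def hash2 (k : List ℕ) : ℕ := k.headD 0 * 2 ^ 24 + k.tail.headD 0

/-- The flat list of the first `n` keys of a table. -/
def flatK (Ks : List (List (List ℕ))) (n : ℕ) : List (List ℕ) := (List.range n).map (getK Ks)

theorem mem_flatK {Ks : List (List (List ℕ))} {n : ℕ} {k : List ℕ} :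
    k ∈ flatK Ks n ↔ ∃ i < n, getK Ks i = k := by
  unfold flatK
  rw [List.mem_map]
  constructor
  · rintro ⟨i, hi, rfl⟩; exact ⟨i, List.mem_range.1 hi, rfl⟩
  · rintro ⟨i, hi, rfl⟩; exact ⟨i, List.mem_range.2 hi, rfl⟩

theorem nodup_of_incr_hash2 {L : List (List ℕ)} (h : incr (L.map hash2) = true) : L.Nodup :=
  List.Nodup.of_map hash2 ((pairwise_of_incr _ h).imp (fun h => ne_of_lt h))

/-! ### Counting by key predicates -/

theorem ncard_filter_keys {X κ : Type*} (F : Set X) (dec : κ → X) (Ks : List κ)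
    (hex : ∀ y ∈ F, ∃ k ∈ Ks, dec k = y) (hmem : ∀ k ∈ Ks, dec k ∈ F)
    (hinj : ∀ k ∈ Ks, ∀ k' ∈ Ks, dec k = dec k' → k = k') (hnd : Ks.Nodup)
    (P : X → Prop) (cls : κ → Bool) (h : ∀ k ∈ Ks, P (dec k) ↔ cls k = true) :
    {o : X | o ∈ F ∧ P o}.ncard = (Ks.filter cls).length := by
  classical
  have hset : {o : X | o ∈ F ∧ P o} = (((Ks.filter cls).map dec).toFinset : Set X) := by
    ext o
    rw [Set.mem_ofPred_eq, Finset.mem_coe, List.mem_toFinset, List.mem_map]
    constructor
    · rintro ⟨ho, hP⟩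
      obtain ⟨k, hk, rfl⟩ := hex o ho
      exact ⟨k, List.mem_filter.2 ⟨hk, (h k hk).1 hP⟩, rfl⟩
    · rintro ⟨k, hk, rfl⟩
      rw [List.mem_filter] at hk
      exact ⟨hmem k hk.1, (h k hk.1).2 hk.2⟩
  rw [hset, Set.ncard_coe_finset, List.toFinset_card_of_nodup, List.length_map]
  apply List.Nodup.map_on
  · intro a ha b hb hab
    rw [List.mem_filter] at ha hb
    exact hinj a ha.1 b hb.1 hab
  · exact hnd.filter _

/-- Transitivity on a class of a family of keys from an orbit certificate. -/
theorem exists_smul_of_checkK (F : Set (Finset (Finset GolayPt))) (Ks : List (List (List ℕ))) (n : ℕ)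
    (hex : ∀ y ∈ F, ∃ k ∈ flatK Ks n, decL k = y)
    (K : Subgroup (Equiv.Perm GolayPt)) (ws : List (List ℕ)) (hws : ∀ w ∈ ws, wordPerm w ∈ K)
    (cls : List ℕ → Bool) {start : ℕ} {cert : List (ℕ × ℕ × ℕ)}
    (hcert : checkK (wordTis ws) Ks start cert ((List.range n).filter (fun i => cls (getK Ks i))) = true)
    {y' y'' : Finset (Finset GolayPt)} (hy' : y' ∈ F) (hy'' : y'' ∈ F)
    (h' : ∀ k ∈ flatK Ks n, decL k = y' → cls k = true)
    (h'' : ∀ k ∈ flatK Ks n, decL k = y'' → cls k = true) :
    ∃ g ∈ K, g • y' = y'' := by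
  obtain ⟨k', hk', rfl⟩ := hex y' hy'
  obtain ⟨k'', hk'', rfl⟩ := hex y'' hy''
  have hc' := h' k' hk' rfl
  have hc'' := h'' k'' hk'' rfl
  obtain ⟨i', hi', rfl⟩ := mem_flatK.1 hk'
  obtain ⟨i'', hi'', rfl⟩ := mem_flatK.1 hk''
  have hsd := checkK_words_sound K ws hws Ks hcert
  obtain ⟨g', hg', e'⟩ := hsd i' (List.mem_filter.2 ⟨List.mem_range.2 hi', hc'⟩)
  obtain ⟨g'', hg'', e''⟩ := hsd i'' (List.mem_filter.2 ⟨List.mem_range.2 hi'', hc''⟩)
  refine ⟨g'' * g'⁻¹, K.mul_mem hg'' (K.inv_mem hg'), ?_⟩
  rw [← e', mul_smul, inv_smul_smul, e'']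

end Cfsg.Agent.Lib.H28
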