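/-
helper28 library: a fast population count for 24-bit masks, equal to `popc`.
-/
import Cfsg.Agent.Lib.H28.GolayConcrete

set_option autoImplicit false

namespace Cfsg.Agent.Lib.H28

/-- Population count of a byte by parallel addition. -/
def pop8 (b : ℕ) : ℕ :=
  (((b - ((b >>> 1) &&& 85)) &&& 51) + (((b - ((b >>> 1) &&& 85)) >>> 2) &&& 51) +
    ((((b - ((b >>> 1) &&& 85)) &&& 51) + (((b - ((b >>> 1) &&& 85)) >>> 2) &&& 51)) >>> 4)) &&& 15

/-- Fast population count of the low 24 bits. -/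
def popF (m : ℕ) : ℕ := pop8 (m % 256) + pop8 (m / 256 % 256) + pop8 (m / 65536 % 256)

theorem pop8_eq : ∀ b < 256, pop8 b = Nat.count (fun k => b.testBit k = true) 8 := by decide +kernel

theorem count_congr_lt {p q : ℕ → Prop} [DecidablePred p] [DecidablePred q] {n : ℕ}
    (h : ∀ k < n, p k ↔ q k) : Nat.count p n = Nat.count q n :=
  le_antisymm (Nat.count_mono_left (fun k hk => (h k hk).1)) (Nat.count_mono_left (fun k hk => (h k hk).2))

theorem pop8_chunk (m c : ℕ) :
    pop8 (m / 2 ^ c % 256) = Nat.count (fun k => m.testBit (c + k) = true) 8 := by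
  rw [pop8_eq _ (Nat.mod_lt _ (by norm_num))]
  apply count_congr_lt
  intro k hk
  have h256 : (256 : ℕ) = 2 ^ 8 := by norm_num
  rw [h256, Nat.testBit_mod_two_pow, Nat.testBit_div_two_pow, decide_eq_true hk, Bool.true_and, Nat.add_comm]

theorem popF_eq_popc (m : ℕ) : popF m = popc m := by
  unfold popF popc
  have h24 : (24 : ℕ) = 8 + 8 + 8 := rfl
  rw [h24, Nat.count_add, Nat.count_add]
  have h0 := pop8_chunk m 0
  have h8 := pop8_chunk m 8
  have h16 := pop8_chunk m 16
  rw [pow_zero, Nat.div_one] at h0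
  simp only [zero_add] at h0
  rw [show (2 : ℕ) ^ 8 = 256 from rfl] at h8
  rw [show (2 : ℕ) ^ 16 = 65536 from rfl] at h16
  rw [h0, h8, h16]

end Cfsg.Agent.Lib.H28
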