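/-
helper28 library: the stabilizers `A8` (of the base octad and the outside point `4`) and `A7` (moreover fixing the
inside point `∞`): orbit certificates on octads, counts, transport to arbitrary flags.
-/
import Cfsg.Agent.Lib.H28.OctadFlags

set_option autoImplicit false

namespace Cfsg.Agent.Lib.H28

open Cfsg
open scoped Pointwise

def a8Gens : List (List ℕ) := [[0, 0, 2, 3, 0, 4, 0, 0, 2, 3], [0, 3, 1, 3, 3, 1, 3]]

def a8Start0 : ℕ := 337856

set_option maxRecDepth 1000000 in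
def a8Cert0 : List (ℕ × ℕ) := [(1984, 0), (1984, 1), (2880, 0), (2880, 1), (640, 0), (640, 1), (2240, 0), (256, 0), (1088, 0), (3456, 0), (2496, 0), (1344, 0), (1728, 0), (3200, 0)]

def a8Start2 : ℕ := 15777

set_option maxRecDepth 1000000 in
def a8Cert2 : List (ℕ × ℕ) := [(3489, 0), (3489, 1), (900, 0), (900, 1), (2564, 0), (2564, 1), (2, 0), (2, 1), (385, 0), (385, 1), (130, 0), (130, 1), (2177, 0), (2177, 1), (321, 0), (321, 1), (2848, 0), (2848, 1), (1284, 0), (1664, 0), (1664, 1), (329, 0), (329, 1), (744, 0), (744, 1), (1420, 0), (1420, 1), (2316, 0), (2316, 1), (2760, 0), (2760, 1), (456, 0), (456, 1), (588, 0), (588, 1), (514, 0), (514, 1), (512, 0), (192, 0), (192, 1), (3108, 0), (3108, 1), (1090, 0), (1090, 1), (2144, 0), (2144, 1), (70, 0), (70, 1), (1826, 0), (1826, 1), (1539, 0), (1539, 1), (1186, 0), (1186, 1), (1411, 0), (1411, 1), (2208, 0), (2208, 1), (386, 0), (386, 1), (3168, 0), (3168, 1), (1282, 0), (1282, 1), (3170,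 0), (3170, 1), (1155, 1), (1289, 0), (1289, 1), (3944, 0), (3944, 1), (1096, 1), (3080, 0), (3080, 1), (3144, 1), (1922, 0), (1922, 1), (1861, 0), (1861, 1), (2817, 0), (992, 0), (3264, 0), (3264, 1), (1092, 0), (3139, 0), (1377, 0), (1377, 1), (769, 1), (773, 1), (2720, 0), (2720, 1), (513, 0), (2404, 0), (2404, 1), (517, 0), (517, 1), (224, 0), (224, 1), (200, 0), (200, 1), (2060, 0), (2060, 1), (1320, 0), (1320, 1), (2688, 0), (2688, 1), (2308, 0), (2308, 1), (577, 0), (577, 1), (416, 0), (416, 1), (3009, 0), (548, 0), (548, 1), (1824, 0), (1636, 0), (1636, 1), (3202, 0), (3744, 0), (3744, 1), (1610, 0), (1610, 1), (1696, 0), (1696, 1), (1218, 1), (322, 1), (1537, 0), (1537, 1), (3104, 1), (2566, 0), (2566, 1), (2049, 0), (1164, 0), (2056, 1), (3968, 0), (3968, 1), (1536, 0), (1536, 1), (2882, 0), (2882, 1), (3717, 0), (3717, 1), (2628, 1), (324, 0), (2816, 0), (1152, 1), (3140, 0), (1028, 0), (1028, 1), (2178, 1), (2117, 0), (2117,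 1), (1286, 0), (1793, 0), (1793, 1), (2304, 0), (2692, 0), (2336, 0), (2336, 1), (706, 0), (579, 1), (800, 0), (800, 1), (710, 0), (710, 1), (392, 0), (2696, 0), (2696, 1), (394, 0), (394, 1), (2825, 0), (2825, 1), (2052, 0), (2052, 1), (2368, 0), (2368, 1), (64, 0), (2244, 0), (2244, 1), (2180, 1), (66, 0), (2373, 0), (576, 0), (704, 0), (704, 1), (260, 1), (2338, 0), (2338, 1), (1548, 0), (2600, 1), (2400, 0), (580, 0), (580, 1), (384, 1), (3204, 1), (451, 1), (1412, 0), (1412, 1), (2434, 1), (648, 0), (648, 1), (520, 0), (520, 1), (2312, 0), (2312, 1), (2433, 0), (1670, 1), (3329, 0), (3329, 1), (2114, 1), (1216, 0), (1216, 1), (1160, 0), (1858, 1), (1504, 0), (1504, 1), (2182, 1), (449, 1), (835, 0), (136, 0), (138, 0), (1408, 0), (1408, 1), (1540, 1), (2305, 0), (608, 0), (1348, 0), (2051, 0), (96, 1), (1184, 0), (1026, 1), (289, 1), (2978, 1), (3273, 0), (3208, 0), (3208, 1), (3072, 0), (129, 0), (129, 1), (3393, 1), (3526, 0), (2120,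 0), (2120, 1), (2112, 0), (2048, 0), (3073, 0), (3364, 1), (1570, 0), (1570, 1), (2378, 1), (2569, 1), (2080, 1), (544, 1), (2754, 1), (3650, 0), (3650, 1), (204, 0), (204, 1), (33, 1), (1668, 0), (2472, 1), (2632, 0), (2632, 1), (4, 0), (1312, 0), (1312, 1), (1121, 0), (776, 0), (776, 1), (196, 1), (832, 0), (3338, 0), (68, 1), (964, 1), (452, 1), (3652, 1), (3844, 0), (1056, 1)]

def a8Start4 : ℕ := 18147

set_option maxRecDepth 1000000 in
def a8Cert4 : List (ℕ × ℕ) := [(1763, 0), (1763, 1), (2565, 0), (2565, 1), (36, 0), (36, 1), (206, 0), (206, 1), (9, 0), (9, 1), (1034, 0), (1034, 1), (3341, 0), (3341, 1), (2403, 0), (2403, 1), (547, 0), (547, 1), (1380, 0), (1380, 1), (1538, 0), (1538, 1), (553, 0), (553, 1), (2282, 0), (2282, 1), (686, 0), (686, 1), (75, 0), (75, 1), (2189, 0), (2189, 1), (44, 0), (44, 1), (77, 0), (77, 1), (300, 0), (300, 1), (2826, 0), (2826, 1), (525, 0), (525, 1), (841, 0), (841, 1), (552, 0), (552, 1), (1060,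 0), (1158, 0), (1158, 1), (2209, 0), (2086, 0), (2086, 1), (1059, 0), (1059, 1), (1319, 0), (1319, 1), (2085, 0), (2085, 1), (2210, 0), (2210, 1), (422, 0), (771, 0), (771, 1), (290, 0), (290, 1), (903, 0), (2150, 0), (2150, 1), (2115, 0), (2115, 1), (1122, 0), (1122, 1), (1095, 0), (169, 0), (169, 1), (298, 0), (298, 1), (46, 0), (46, 1), (2443, 1), (10, 1), (1128, 0), (1128, 1), (586, 0), (1547, 0), (1547, 1), (1129, 1), (132, 0), (132, 1), (131, 0), (293, 0), (581, 1), (2084, 0), (1543, 0), (1543, 1), (1061, 0), (398, 0), (653, 0), (653, 1), (393, 1), (812, 0), (812, 1), (3, 0), (3, 1), (5, 0), (32, 0), (32, 1), (2604, 0), (2604, 1), (271, 0), (271, 1), (3203, 1), (1189, 0), (2245, 0), (2245, 1), (288, 0), (288, 1), (3593, 0), (3593, 1), (1324, 0), (1324, 1), (2310, 0), (2310, 1), (1057, 0), (1190, 1), (99, 0), (99, 1), (2215, 1), (1058, 1), (1450, 0), (2656, 0), (2656, 1), (134, 1), (3105, 1), (1581, 0), (1066, 0), (1066, 1), (2062,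 0), (266, 0), (266, 1), (261, 0), (261, 1), (262, 0), (450, 1), (353, 0), (518, 0), (518, 1), (35, 0), (38, 0), (67, 1), (2058, 0), (2058, 1), (269, 0), (269, 1), (334, 0), (1740, 0), (1740, 1), (162, 0), (199, 0), (103, 1), (291, 0), (40, 1), (526, 1), (2190, 0), (72, 0), (268, 0), (268, 1), (676, 0), (676, 1), (2050, 1), (546, 0), (546, 1), (2311, 0), (203, 0), (41, 0), (772, 1), (677, 0), (2184, 0), (1036, 1), (870, 1), (1825, 0), (1825, 1), (163, 0), (163, 1), (297, 1), (1038, 0), (1161, 1), (1035, 0), (1035, 1), (1193, 0), (1193, 1), (417, 1), (294, 1), (2602, 0), (11, 1), (1089, 0), (3079, 1), (2595, 0), (171, 1), (362, 0), (74, 0), (141, 0), (2468, 0), (135, 0), (524, 1), (650, 1), (613, 1), (225, 0), (1413, 0)]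

def a7Gens : List (List ℕ) := [[4, 0, 4, 4, 0, 4, 1], [4, 4, 1, 4, 0, 0, 4, 1]]

def a7Start2 : ℕ := 8490656

set_option maxRecDepth 1000000 in
def a7Cert2 : List (ℕ × ℕ) := [(3744, 0), (3744, 1), (66, 0), (66, 1), (1504, 0), (1504, 1), (1800, 0), (1800, 1), (2312, 0), (2312, 1), (2178, 0), (2178, 1), (544, 0), (544, 1), (2048, 0), (2048, 1), (900, 0), (900, 1), (1536, 0), (1536, 1), (2628, 0), (840, 0), (840, 1), (3144, 0), (3144, 1), (2434, 0), (416, 0), (416, 1), (704, 0), (704, 1), (3392, 0), (3392, 1), (2400, 0), (1664, 1), (3264, 0), (3264, 1), (1152, 0), (1152, 1), (1632, 0), (1632, 1), (1408, 0), (644, 1), (1092, 0), (1092, 1), (2056, 1), (1282, 0), (800, 0), (3073, 0), (385, 1), (1024, 0), (1024, 1), (832, 0), (832, 1), (322, 1), (129, 0), (513, 0), (2113, 0), (2816, 0), (2816, 1), (2304, 1), (1026, 0), (160, 0), (160, 1), (2432, 0), (706, 0), (706, 1), (2244, 1), (769, 1), (3009, 0)]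

def a7Start4 : ℕ := 8394986

set_option maxRecDepth 1000000 in
def a7Cert4 : List (ℕ × ℕ) := [(2282, 0), (2282, 1), (1034, 0), (1034, 1), (108, 0), (108, 1), (1288, 0), (1288, 1), (12, 0), (12, 1), (674, 0), (674, 1), (2084, 0), (2084, 1), (641, 0), (641, 1), (2565, 1), (2656, 0), (2656, 1), (3076, 1), (2058, 0), (2058, 1), (168, 1), (1059, 0), (1059, 1), (353, 0), (353, 1), (581, 0), (3203, 0), (3203, 1), (450, 0), (450, 1), (131, 0), (131, 1), (225, 0), (225, 1), (1089, 0), (1089, 1), (393, 1), (77, 1), (1060, 0), (1060, 1), (3086, 0), (3086, 1), (298, 0), (298, 1), (1543, 1), (2595, 0), (293, 0), (293, 1), (140, 0), (74, 0), (74, 1), (265, 0), (521, 0), (521, 1), (1037, 0), (11, 0), (6, 0), (2053, 0), (2053, 1), (518, 0), (262, 0), (262, 1), (162, 0), (552, 0), (2380, 0), (2826, 0), (2604, 1), (1162, 0), (526, 0), (2086, 1), (546, 0), (546, 1), (2184, 0), (268, 1), (132, 0), (1740, 0), (2345, 1), (677, 0), (617, 0), (3593, 0), (3593,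 1), (651, 1), (1538, 0), (2081, 0), (2081, 1), (228, 0), (228, 1), (3112, 0), (3112, 1), (1128, 0), (1, 0), (2209, 0), (32, 0), (870, 0), (1190, 1), (1029, 0), (398, 1), (1122, 0), (100, 0), (1413, 0), (2311, 0), (771, 0)]

/-- Class of octad masks: containing the indices of `Lin`, avoiding `4`, meeting the base octad in `k` points. -/
def flagCls (Lin : List ℕ) (k : ℕ) (m : ℕ) : Bool :=
  Lin.all (fun j => m.testBit j) && !(m.testBit 4) && (popc (m &&& baseOctad) == k)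

theorem flagCls_iff {Lin : List ℕ} (hL : inOct Lin) (k m : ℕ) :
    ((∀ j ∈ Lin, gPt j ∈ ptsMask m) ∧ gPt 4 ∉ ptsMask m ∧ (oct0 ∩ ptsMask m).card = k) ↔
      flagCls Lin k m = true := by
  unfold flagCls oct0
  rw [Bool.and_eq_true, Bool.and_eq_true, List.all_eq_true, Bool.not_eq_true', beq_iff_eq,
    card_ptsMask_inter, Nat.land_comm, gPt_mem_ptsMask (by norm_num), Bool.not_eq_true, and_assoc]
  constructor
  · rintro ⟨h1, h2, h3⟩
    exact ⟨fun j hj => (gPt_mem_ptsMask (lt_of_inOct hL hj)).1 (h1 j hj), h2, h3⟩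
  · rintro ⟨h1, h2, h3⟩
    exact ⟨fun j hj => (gPt_mem_ptsMask (lt_of_inOct hL hj)).2 (h1 j hj), h2, h3⟩

theorem inOct_nil : inOct [] := fun _ hj => absurd hj (List.not_mem_nil)

theorem a8Gens_mem : ∀ w ∈ a8Gens, wordPerm w ∈ fixSub (stabMask baseOctad) [4] := by
  intro w hw
  have h : ∀ w ∈ a8Gens, (presCheck w baseOctad && (evalPt w 4 == 4)) = true := by decide +kernel
  have := h w hw
  rw [Bool.and_eq_true, beq_iff_eq] at this
  rw [mem_fixSub]
  refine ⟨wordPerm_mem_stabMask this.1, ?_⟩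
  intro k hk
  rw [List.mem_singleton] at hk
  subst hk
  exact wordPerm_fix_of_evalPt (by norm_num) this.2

theorem a7Gens_mem : ∀ w ∈ a7Gens, wordPerm w ∈ fixSub (stabMask baseOctad) [4, 23] := by
  intro w hw
  have h : ∀ w ∈ a7Gens, (presCheck w baseOctad && (evalPt w 4 == 4) && (evalPt w 23 == 23)) = true := by
    decide +kernel
  have := h w hw
  rw [Bool.and_eq_true, Bool.and_eq_true, beq_iff_eq, beq_iff_eq] at this
  rw [mem_fixSub]
  refine ⟨wordPerm_mem_stabMask this.1.1, ?_⟩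
  intro k hk
  rw [List.mem_cons, List.mem_singleton] at hk
  rcases hk with rfl | rfl
  · exact wordPerm_fix_of_evalPt (by norm_num) this.1.2
  · exact wordPerm_fix_of_evalPt (by norm_num) this.2

theorem a8Cert0_ok : orbCheck (wordTis a8Gens) a8Start0 a8Cert0 (octMasks.filter (flagCls [] 0)) = true := by
  decide +kernel
theorem a8Cert2_ok : orbCheck (wordTis a8Gens) a8Start2 a8Cert2 (octMasks.filter (flagCls [] 2)) = true := by
  decide +kernel
theorem a8Cert4_ok : orbCheck (wordTis a8Gens) a8Start4 a8Cert4 (octMasks.filter (flagCls [] 4)) = true := by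
  decide +kernel
theorem a7Cert2_ok : orbCheck (wordTis a7Gens) a7Start2 a7Cert2 (octMasks.filter (flagCls [23] 2)) = true := by
  decide +kernel
theorem a7Cert4_ok : orbCheck (wordTis a7Gens) a7Start4 a7Cert4 (octMasks.filter (flagCls [23] 4)) = true := by
  decide +kernel

theorem flagCls_counts :
    (octMasks.filter (flagCls [] 0)).length = 15 ∧ (octMasks.filter (flagCls [] 2)).length = 280 ∧
    (octMasks.filter (flagCls [] 4)).length = 210 ∧ (octMasks.filter (flagCls [23] 2)).length = 70 ∧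
    (octMasks.filter (flagCls [23] 4)).length = 105 ∧
    (octMasks.filter (fun m => m.testBit 23 && !(m.testBit 4))).length = 176 := by
  decide +kernel

/-- An octad meeting the base octad in eight points is the base octad. -/
theorem eq_oct0_of_inter_card {y : Finset GolayPt} (hy : y ∈ octads) (h : (oct0 ∩ y).card = 8) : y = oct0 := by
  have h8 : oct0.card = 8 := oct0_mem_octads.2
  have e1 : oct0 ∩ y = oct0 := Finset.eq_of_subset_of_card_le Finset.inter_subset_left (by omega)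
  have e2 : oct0 ∩ y = y := Finset.eq_of_subset_of_card_le Finset.inter_subset_right (by rw [h, hy.2])
  rw [← e2, e1]

/-- Orbits of `A8` (stabilizer of the base octad and of the outside point `4`) on the octads avoiding `4`. -/
theorem a8_orbits {y' y'' : Finset GolayPt} (hy' : y' ∈ octads) (hy'' : y'' ∈ octads)
    (h4' : gPt 4 ∉ y') (h4'' : gPt 4 ∉ y'') (h : (oct0 ∩ y').card = (oct0 ∩ y'').card) :
    ∃ g ∈ M24, g (gPt 4) = gPt 4 ∧ g • oct0 = oct0 ∧ g • y' = y'' := by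
  have hC := golayCode_isAbsGolay
  have key : ∀ (k start : ℕ) (cert : List (ℕ × ℕ)),
      orbCheck (wordTis a8Gens) start cert (octMasks.filter (flagCls [] k)) = true →
      (oct0 ∩ y').card = k → ∃ g ∈ M24, g (gPt 4) = gPt 4 ∧ g • oct0 = oct0 ∧ g • y' = y'' := by
    intro k start cert hcert hk
    obtain ⟨g, hg, e⟩ := exists_smul_of_orbCert _ a8Gens a8Gens_mem (flagCls [] k) hcert hy' hy''
      (fun m _ hm => (flagCls_iff inOct_nil k m).1 ⟨fun _ hj => absurd hj List.not_mem_nil,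
        by rw [hm]; exact h4', by rw [hm]; exact hk⟩)
      (fun m _ hm => (flagCls_iff inOct_nil k m).1 ⟨fun _ hj => absurd hj List.not_mem_nil,
        by rw [hm]; exact h4'', by rw [hm, ← h]; exact hk⟩)
    rw [mem_fixSub, mem_stabMask_iff_smul] at hg
    exact ⟨g, hg.1.1, hg.2 4 (by simp), hg.1.2, e⟩
  rcases octad_inter_cases hC oct0_mem_octads hy' with h0 | h2 | h4 | h8
  · exact key 0 _ _ a8Cert0_ok h0
  · exact key 2 _ _ a8Cert2_ok h2
  · exact key 4 _ _ a8Cert4_ok h4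
  · refine ⟨1, M24.one_mem, rfl, one_smul _ _, ?_⟩
    rw [one_smul, eq_oct0_of_inter_card hy' h8, eq_oct0_of_inter_card hy'' (by rw [← h, h8])]

/-- Orbits of `A7` (stabilizer of the base octad, its point `∞` and the outside point `4`). -/
theorem a7_orbits {y' y'' : Finset GolayPt} (hy' : y' ∈ octads) (hy'' : y'' ∈ octads)
    (h23' : gPt 23 ∈ y') (h23'' : gPt 23 ∈ y'')
    (h4' : gPt 4 ∉ y') (h4'' : gPt 4 ∉ y'') (h : (oct0 ∩ y').card = (oct0 ∩ y'').card) :
    ∃ g ∈ M24, g (gPt 23) = gPt 23 ∧ g (gPt 4) = gPt 4 ∧ g • oct0 = oct0 ∧ g • y' = y'' := by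
  have hC := golayCode_isAbsGolay
  have hin : ∀ j ∈ [23], ∀ y : Finset GolayPt, gPt 23 ∈ y → gPt j ∈ y := by
    intro j hj y hy
    rw [List.mem_singleton] at hj
    subst hj
    exact hy
  have key : ∀ (k start : ℕ) (cert : List (ℕ × ℕ)),
      orbCheck (wordTis a7Gens) start cert (octMasks.filter (flagCls [23] k)) = true →
      (oct0 ∩ y').card = k →
      ∃ g ∈ M24, g (gPt 23) = gPt 23 ∧ g (gPt 4) = gPt 4 ∧ g • oct0 = oct0 ∧ g • y' = y'' := by
    intro k start cert hcert hk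
    obtain ⟨g, hg, e⟩ := exists_smul_of_orbCert _ a7Gens a7Gens_mem (flagCls [23] k) hcert hy' hy''
      (fun m _ hm => (flagCls_iff inOct_23 k m).1 ⟨fun j hj => by rw [hm]; exact hin j hj y' h23',
        by rw [hm]; exact h4', by rw [hm]; exact hk⟩)
      (fun m _ hm => (flagCls_iff inOct_23 k m).1 ⟨fun j hj => by rw [hm]; exact hin j hj y'' h23'',
        by rw [hm]; exact h4'', by rw [hm, ← h]; exact hk⟩)
    rw [mem_fixSub, mem_stabMask_iff_smul] at hg
    exact ⟨g, hg.1.1, hg.2 23 (by simp), hg.2 4 (by simp), hg.1.2, e⟩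
  have hpos : 1 ≤ (oct0 ∩ y').card :=
    Finset.card_pos.2 ⟨gPt 23, Finset.mem_inter.2 ⟨gPt_mem_oct0 inOct_23 (by simp), h23'⟩⟩
  rcases octad_inter_cases hC oct0_mem_octads hy' with h0 | h2 | h4 | h8
  · omega
  · exact key 2 _ _ a7Cert2_ok h2
  · exact key 4 _ _ a7Cert4_ok h4
  · refine ⟨1, M24.one_mem, rfl, rfl, one_smul _ _, ?_⟩
    rw [one_smul, eq_oct0_of_inter_card hy' h8, eq_oct0_of_inter_card hy'' (by rw [← h, h8])]

/-! ### Transport to arbitrary flags -/

theorem ncard_octads_smul {g0 : Equiv.Perm GolayPt} (hg0 : g0 ∈ M24) (P : Finset GolayPt → Prop) :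
    {o' : Finset GolayPt | o' ∈ octads ∧ P o'}.ncard
      = {y : Finset GolayPt | y ∈ octads ∧ P (g0 • y)}.ncard := by
  have himg : {o' : Finset GolayPt | o' ∈ octads ∧ P o'}
      = (fun y : Finset GolayPt => g0 • y) '' {y : Finset GolayPt | y ∈ octads ∧ P (g0 • y)} := by
    ext o'
    rw [Set.mem_image]
    constructor
    · rintro ⟨ho', hP⟩
      refine ⟨g0⁻¹ • o', ⟨smul_mem_octads (M24.inv_mem hg0) ho', ?_⟩, smul_inv_smul _ _⟩
      rw [smul_inv_smul]; exact hP
    · rintro ⟨y, ⟨hy, hP⟩, rfl⟩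
      exact ⟨smul_mem_octads hg0 hy, hP⟩
  rw [himg]
  exact Set.ncard_image_of_injective _ (MulAction.injective g0)

theorem smul_mem_smul_iff (g0 : Equiv.Perm GolayPt) (p : GolayPt) (y : Finset GolayPt) :
    g0 p ∈ g0 • y ↔ p ∈ y := by
  rw [← Equiv.Perm.smul_def, Finset.smul_mem_smul_finset_iff]

theorem card_smul_inter_smul (g0 : Equiv.Perm GolayPt) (a y : Finset GolayPt) :
    (g0 • a ∩ g0 • y).card = (a ∩ y).card := by
  rw [← Finset.smul_finset_inter, Finset.card_smul_finset]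

/-- The number of octads in a class relative to an arbitrary flag. -/
theorem ncard_flag_class {Lin : List ℕ} (hL : inOct Lin) {g0 : Equiv.Perm GolayPt} (hg0 : g0 ∈ M24) (k : ℕ) :
    {o' : Finset GolayPt | o' ∈ octads ∧ ((∀ j ∈ Lin, g0 (gPt j) ∈ o') ∧ g0 (gPt 4) ∉ o' ∧
      (g0 • oct0 ∩ o').card = k)}.ncard = (octMasks.filter (flagCls Lin k)).length := by
  rw [ncard_octads_smul hg0]
  rw [← ncard_octads_filter (fun y => (∀ j ∈ Lin, gPt j ∈ y) ∧ gPt 4 ∉ y ∧ (oct0 ∩ y).card = k)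
    (flagCls Lin k) (fun m _ => flagCls_iff hL k m)]
  congr 1
  ext y
  simp only [Set.mem_ofPred_eq, smul_mem_smul_iff, card_smul_inter_smul]

theorem a8_orbits_flag {g0 : Equiv.Perm GolayPt} (hg0 : g0 ∈ M24) {o' o'' : Finset GolayPt}
    (ho' : o' ∈ octads) (ho'' : o'' ∈ octads) (h4' : g0 (gPt 4) ∉ o') (h4'' : g0 (gPt 4) ∉ o'')
    (h : (g0 • oct0 ∩ o').card = (g0 • oct0 ∩ o'').card) :
    ∃ g ∈ M24, g (g0 (gPt 4)) = g0 (gPt 4) ∧ g • (g0 • oct0) = g0 • oct0 ∧ g • o' = o'' := by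
  have hcard : ∀ x : Finset GolayPt, (oct0 ∩ g0⁻¹ • x).card = (g0 • oct0 ∩ x).card := by
    intro x
    rw [← card_smul_inter_smul g0, smul_inv_smul]
  have hmem : ∀ (p : GolayPt) (x : Finset GolayPt), p ∈ g0⁻¹ • x ↔ g0 p ∈ x := by
    intro p x
    rw [Finset.mem_inv_smul_finset_iff, Equiv.Perm.smul_def]
  obtain ⟨k, hk, hk4, hko, e⟩ := a8_orbits (smul_mem_octads (M24.inv_mem hg0) ho')
    (smul_mem_octads (M24.inv_mem hg0) ho'') (by rw [hmem]; exact h4') (by rw [hmem]; exact h4'')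
    (by rw [hcard, hcard, h])
  refine ⟨g0 * k * g0⁻¹, M24.mul_mem (M24.mul_mem hg0 hk) (M24.inv_mem hg0), ?_, ?_, ?_⟩
  · rw [Equiv.Perm.mul_apply, Equiv.Perm.mul_apply, Equiv.Perm.inv_def, Equiv.symm_apply_apply, hk4]
  · rw [mul_smul, mul_smul, inv_smul_smul, hko]
  · rw [mul_smul, mul_smul, e, smul_inv_smul]

theorem a7_orbits_flag {g0 : Equiv.Perm GolayPt} (hg0 : g0 ∈ M24) {o' o'' : Finset GolayPt}
    (ho' : o' ∈ octads) (ho'' : o'' ∈ octads) (h23' : g0 (gPt 23) ∈ o') (h23'' : g0 (gPt 23) ∈ o'')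
    (h4' : g0 (gPt 4) ∉ o') (h4'' : g0 (gPt 4) ∉ o'')
    (h : (g0 • oct0 ∩ o').card = (g0 • oct0 ∩ o'').card) :
    ∃ g ∈ M24, g (g0 (gPt 23)) = g0 (gPt 23) ∧ g (g0 (gPt 4)) = g0 (gPt 4) ∧
      g • (g0 • oct0) = g0 • oct0 ∧ g • o' = o'' := by
  have hcard : ∀ x : Finset GolayPt, (oct0 ∩ g0⁻¹ • x).card = (g0 • oct0 ∩ x).card := by
    intro x
    rw [← card_smul_inter_smul g0, smul_inv_smul]
  have hmem : ∀ (p : GolayPt) (x : Finset GolayPt), p ∈ g0⁻¹ • x ↔ g0 p ∈ x := by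
    intro p x
    rw [Finset.mem_inv_smul_finset_iff, Equiv.Perm.smul_def]
  obtain ⟨k, hk, hk23, hk4, hko, e⟩ := a7_orbits (smul_mem_octads (M24.inv_mem hg0) ho')
    (smul_mem_octads (M24.inv_mem hg0) ho'') (by rw [hmem]; exact h23') (by rw [hmem]; exact h23'')
    (by rw [hmem]; exact h4') (by rw [hmem]; exact h4'') (by rw [hcard, hcard, h])
  refine ⟨g0 * k * g0⁻¹, M24.mul_mem (M24.mul_mem hg0 hk) (M24.inv_mem hg0), ?_, ?_, ?_, ?_⟩
  · rw [Equiv.Perm.mul_apply, Equiv.Perm.mul_apply, Equiv.Perm.inv_def, Equiv.symm_apply_apply, hk23]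
  · rw [Equiv.Perm.mul_apply, Equiv.Perm.mul_apply, Equiv.Perm.inv_def, Equiv.symm_apply_apply, hk4]
  · rw [mul_smul, mul_smul, inv_smul_smul, hko]
  · rw [mul_smul, mul_smul, e, smul_inv_smul]

/-- Existence of flags: an octad and a point outside. -/
theorem exists_flag_out {o : Finset GolayPt} (ho : o ∈ octads) {x : GolayPt} (hx : x ∉ o) :
    ∃ g0 ∈ M24, g0 • oct0 = o ∧ g0 (gPt 4) = x := by
  obtain ⟨g1, hg1, hgo⟩ := exists_M24_smul_octad oct0_mem_octads ho
  obtain ⟨g0, hg0, h1, -, h3⟩ := exists_flag_map_out hg1 ho hgo hx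
  exact ⟨g0, hg0, h1, h3⟩

/-- Existence of flags: an octad, a point inside and a point outside. -/
theorem exists_flag_in_out {o : Finset GolayPt} (ho : o ∈ octads) {p x : GolayPt} (hp : p ∈ o)
    (hx : x ∉ o) : ∃ g0 ∈ M24, g0 • oct0 = o ∧ g0 (gPt 23) = p ∧ g0 (gPt 4) = x := by
  obtain ⟨g1, hg1, hgp⟩ := exists_M24_map (n := 1) (by norm_num) ![gPt 23] ![p]
    (Function.injective_of_subsingleton _) (Function.injective_of_subsingleton _)
  have hgp' : g1 (gPt 23) = p := hgp 0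
  obtain ⟨g2, hg2, hg2L, hg2o⟩ := exists_flag_map inOct_23 m23Cert m23Cert_ok hg1 ho (by
    intro j hj
    rw [List.mem_singleton] at hj
    subst hj
    rw [hgp']; exact hp)
  obtain ⟨g0, hg0, h1, h2, h3⟩ := exists_flag_map_out hg2 ho hg2o hx
  refine ⟨g0, hg0, h1, ?_, h3⟩
  rw [h2 _ (gPt_mem_oct0 inOct_23 (by simp)), hg2L 23 (by simp), hgp']

end Cfsg.Agent.Lib.H28
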