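/-
helper28 library: orbits of a stabilizer described by an invariant; transport along the group.
-/
import Mathlib

set_option autoImplicit false

namespace Cfsg.Agent.Lib.H28

section
variable {G α β : Type*} [Group G] [MulAction G α] [MulAction G β]

/-- If the stabilizer of `a` is transitive on each class of an invariant, its orbits on an invariant family are the
classes. -/
theorem orbit_stabilizer_eq_class (F : Set β) (hF : ∀ (g : G), ∀ x ∈ F, g • x ∈ F)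
    (inv : α → β → ℕ) (hinv : ∀ (g : G) (a : α) (x : β), inv (g • a) (g • x) = inv a x) (a : α)
    (htrans : ∀ x ∈ F, ∀ y ∈ F, inv a x = inv a y → ∃ g : G, g • a = a ∧ g • x = y)
    (x : β) (hx : x ∈ F) :
    MulAction.orbit ↥(MulAction.stabilizer G a) x = {y | y ∈ F ∧ inv a y = inv a x} := by
  ext y
  rw [Set.mem_ofPred_eq]
  constructor
  · rintro ⟨⟨h, hh⟩, rfl⟩
    rw [MulAction.mem_stabilizer_iff] at hh
    refine ⟨hF h x hx, ?_⟩
    show inv a (h • x) = inv a x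
    conv_lhs => rw [← hh]
    exact hinv h a x
  · rintro ⟨hy, hxy⟩
    obtain ⟨g, hga, hgx⟩ := htrans x hx y hy hxy.symm
    exact ⟨⟨g, MulAction.mem_stabilizer_iff.2 hga⟩, hgx⟩

/-- Transport of transitivity on classes along the group. -/
theorem class_trans_smul (F : Set β) (hF : ∀ (g : G), ∀ x ∈ F, g • x ∈ F)
    (inv : α → β → ℕ) (hinv : ∀ (g : G) (a : α) (x : β), inv (g • a) (g • x) = inv a x) (a0 : α)
    (htrans : ∀ x ∈ F, ∀ y ∈ F, inv a0 x = inv a0 y → ∃ g : G, g • a0 = a0 ∧ g • x = y) (g0 : G) :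
    ∀ x ∈ F, ∀ y ∈ F, inv (g0 • a0) x = inv (g0 • a0) y → ∃ g : G, g • (g0 • a0) = g0 • a0 ∧ g • x = y := by
  intro x hx y hy hxy
  have h1 : ∀ z : β, inv a0 (g0⁻¹ • z) = inv (g0 • a0) z := by
    intro z
    have := hinv g0 a0 (g0⁻¹ • z)
    rw [smul_inv_smul] at this
    exact this.symm
  obtain ⟨g, hga, hgx⟩ := htrans (g0⁻¹ • x) (hF _ x hx) (g0⁻¹ • y) (hF _ y hy) (by rw [h1, h1, hxy])
  refine ⟨g0 * g * g0⁻¹, ?_, ?_⟩
  · rw [mul_smul, mul_smul, inv_smul_smul, hga]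
  · rw [mul_smul, mul_smul, hgx, smul_inv_smul]

theorem inv_smul_left (inv : α → β → ℕ) (hinv : ∀ (g : G) (a : α) (x : β), inv (g • a) (g • x) = inv a x)
    (a0 : α) (g0 : G) (z : β) : inv (g0 • a0) z = inv a0 (g0⁻¹ • z) := by
  have := hinv g0 a0 (g0⁻¹ • z)
  rw [smul_inv_smul] at this
  exact this

/-- Transport of class sizes along the group. -/
theorem ncard_class_smul (F : Set β) (hF : ∀ (g : G), ∀ x ∈ F, g • x ∈ F)
    (inv : α → β → ℕ) (hinv : ∀ (g : G) (a : α) (x : β), inv (g • a) (g • x) = inv a x) (a0 : α) (g0 : G)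
    (j : ℕ) : {y | y ∈ F ∧ inv (g0 • a0) y = j}.ncard = {y | y ∈ F ∧ inv a0 y = j}.ncard := by
  have himg : {y | y ∈ F ∧ inv (g0 • a0) y = j} = (fun y : β => g0 • y) '' {y | y ∈ F ∧ inv a0 y = j} := by
    ext y
    rw [Set.mem_image, Set.mem_ofPred_eq]
    constructor
    · rintro ⟨hy, hj⟩
      refine ⟨g0⁻¹ • y, ⟨hF _ y hy, ?_⟩, smul_inv_smul _ _⟩
      rw [← inv_smul_left inv hinv]; exact hj
    · rintro ⟨z, ⟨hz, hj⟩, rfl⟩
      exact ⟨hF _ z hz, by rw [hinv]; exact hj⟩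
  rw [himg]
  exact Set.ncard_image_of_injective _ (MulAction.injective g0)

/-- The class structure at `g0 • a0` from the class structure at `a0`: orbits are classes, with the same sizes,
every class value occurs, and every member of the family has one of the class values. -/
theorem class_structure_smul (F : Set β) (hF : ∀ (g : G), ∀ x ∈ F, g • x ∈ F)
    (inv : α → β → ℕ) (hinv : ∀ (g : G) (a : α) (x : β), inv (g • a) (g • x) = inv a x) (a0 : α)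
    (htrans : ∀ x ∈ F, ∀ y ∈ F, inv a0 x = inv a0 y → ∃ g : G, g • a0 = a0 ∧ g • x = y)
    (J : List ℕ) (n : ℕ → ℕ) (hn : ∀ j ∈ J, {y | y ∈ F ∧ inv a0 y = j}.ncard = n j) (hpos : ∀ j ∈ J, 0 < n j)
    (hall : ∀ y ∈ F, inv a0 y ∈ J) (g0 : G) :
    (∀ j ∈ J, ∃ X ∈ F, inv (g0 • a0) X = j ∧
      (MulAction.orbit ↥(MulAction.stabilizer G (g0 • a0)) X).ncard = n j) ∧
    (∀ X ∈ F, MulAction.orbit ↥(MulAction.stabilizer G (g0 • a0)) X
      = {y | y ∈ F ∧ inv (g0 • a0) y = inv (g0 • a0) X}) ∧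
    (∀ y ∈ F, inv (g0 • a0) y ∈ J) := by
  have hT := class_trans_smul F hF inv hinv a0 htrans g0
  have hO := orbit_stabilizer_eq_class F hF inv hinv (g0 • a0) hT
  refine ⟨?_, hO, ?_⟩
  · intro j hj
    have hc := ncard_class_smul F hF inv hinv a0 g0 j
    rw [hn j hj] at hc
    have hne : {y | y ∈ F ∧ inv (g0 • a0) y = j}.Nonempty := by
      apply Set.nonempty_of_ncard_ne_zero
      rw [hc]; exact (hpos j hj).ne'
    obtain ⟨X, hX, hXj⟩ := hne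
    refine ⟨X, hX, hXj, ?_⟩
    rw [hO X hX, hXj, hc]
  · intro y hy
    rw [inv_smul_left inv hinv]
    exact hall _ (hF _ y hy)

/-- Packaging three classes. -/
theorem pack3 (F : Set β) (inv : α → β → ℕ) (a : α) (j1 j2 j3 : ℕ) (n : ℕ → ℕ)
    (h1 : ∀ j ∈ [j1, j2, j3], ∃ X ∈ F, inv a X = j ∧
      (MulAction.orbit ↥(MulAction.stabilizer G a) X).ncard = n j)
    (h2 : ∀ X ∈ F, MulAction.orbit ↥(MulAction.stabilizer G a) X = {y | y ∈ F ∧ inv a y = inv a X})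
    (h3 : ∀ y ∈ F, inv a y ∈ [j1, j2, j3]) :
    ∃ X₁ ∈ F, ∃ X₂ ∈ F, ∃ X₃ ∈ F,
      (MulAction.orbit ↥(MulAction.stabilizer G a) X₁).ncard = n j1 ∧
      (MulAction.orbit ↥(MulAction.stabilizer G a) X₂).ncard = n j2 ∧
      (MulAction.orbit ↥(MulAction.stabilizer G a) X₃).ncard = n j3 ∧
      F = MulAction.orbit ↥(MulAction.stabilizer G a) X₁ ∪ MulAction.orbit ↥(MulAction.stabilizer G a) X₂ ∪
        MulAction.orbit ↥(MulAction.stabilizer G a) X₃ := by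
  obtain ⟨X₁, hX₁, e₁, c₁⟩ := h1 j1 (by simp)
  obtain ⟨X₂, hX₂, e₂, c₂⟩ := h1 j2 (by simp)
  obtain ⟨X₃, hX₃, e₃, c₃⟩ := h1 j3 (by simp)
  refine ⟨X₁, hX₁, X₂, hX₂, X₃, hX₃, c₁, c₂, c₃, ?_⟩
  ext y
  rw [Set.mem_union, Set.mem_union, h2 X₁ hX₁, h2 X₂ hX₂, h2 X₃ hX₃, e₁, e₂, e₃]
  simp only [Set.mem_ofPred_eq]
  constructor
  · intro hy
    have := h3 y hy
    simp only [List.mem_cons, List.not_mem_nil, or_false] at this
    rcases this with h | h | h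
    · exact Or.inl (Or.inl ⟨hy, h⟩)
    · exact Or.inl (Or.inr ⟨hy, h⟩)
    · exact Or.inr ⟨hy, h⟩
  · rintro ((h | h) | h) <;> exact h.1

/-- Packaging four classes. -/
theorem pack4 (F : Set β) (inv : α → β → ℕ) (a : α) (j1 j2 j3 j4 : ℕ) (n : ℕ → ℕ)
    (h1 : ∀ j ∈ [j1, j2, j3, j4], ∃ X ∈ F, inv a X = j ∧
      (MulAction.orbit ↥(MulAction.stabilizer G a) X).ncard = n j)
    (h2 : ∀ X ∈ F, MulAction.orbit ↥(MulAction.stabilizer G a) X = {y | y ∈ F ∧ inv a y = inv a X})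
    (h3 : ∀ y ∈ F, inv a y ∈ [j1, j2, j3, j4]) :
    ∃ X₁ ∈ F, ∃ X₂ ∈ F, ∃ X₃ ∈ F, ∃ X₄ ∈ F,
      (MulAction.orbit ↥(MulAction.stabilizer G a) X₁).ncard = n j1 ∧
      (MulAction.orbit ↥(MulAction.stabilizer G a) X₂).ncard = n j2 ∧
      (MulAction.orbit ↥(MulAction.stabilizer G a) X₃).ncard = n j3 ∧
      (MulAction.orbit ↥(MulAction.stabilizer G a) X₄).ncard = n j4 ∧
      F = MulAction.orbit ↥(MulAction.stabilizer G a) X₁ ∪ MulAction.orbit ↥(MulAction.stabilizer G a) X₂ ∪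
        MulAction.orbit ↥(MulAction.stabilizer G a) X₃ ∪ MulAction.orbit ↥(MulAction.stabilizer G a) X₄ := by
  obtain ⟨X₁, hX₁, e₁, c₁⟩ := h1 j1 (by simp)
  obtain ⟨X₂, hX₂, e₂, c₂⟩ := h1 j2 (by simp)
  obtain ⟨X₃, hX₃, e₃, c₃⟩ := h1 j3 (by simp)
  obtain ⟨X₄, hX₄, e₄, c₄⟩ := h1 j4 (by simp)
  refine ⟨X₁, hX₁, X₂, hX₂, X₃, hX₃, X₄, hX₄, c₁, c₂, c₃, c₄, ?_⟩
  ext y
  rw [Set.mem_union, Set.mem_union, Set.mem_union, h2 X₁ hX₁, h2 X₂ hX₂, h2 X₃ hX₃, h2 X₄ hX₄, e₁, e₂, e₃, e₄]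
  simp only [Set.mem_ofPred_eq]
  constructor
  · intro hy
    have := h3 y hy
    simp only [List.mem_cons, List.not_mem_nil, or_false] at this
    rcases this with h | h | h | h
    · exact Or.inl (Or.inl (Or.inl ⟨hy, h⟩))
    · exact Or.inl (Or.inl (Or.inr ⟨hy, h⟩))
    · exact Or.inl (Or.inr ⟨hy, h⟩)
    · exact Or.inr ⟨hy, h⟩
  · rintro (((h | h) | h) | h) <;> exact h.1

end

end Cfsg.Agent.Lib.H28
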