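/-
helper28 library: intersection invariants of families of point sets, their computation on keys, and the bridge
from orbit certificates on key tables to the class structure of stabilizers in `M24`.
-/
import Cfsg.Agent.Lib.H28.KeyOrbit
import Cfsg.Agent.Lib.H28.SuborbitClasses
import Cfsg.Agent.Lib.H28.OctadFlagOrbits
import Cfsg.Agent.Lib.H28.FastPop

set_option autoImplicit false

namespace Cfsg.Agent.Lib.H28

open Cfsg
open scoped Pointwise

/-! ### Invariants -/

/-- The intersection pattern of a point set with a family of point sets, as a number. -/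
def setInv (o : Finset GolayPt) (B : Finset (Finset GolayPt)) : ℕ := ∑ b ∈ B, 10 ^ (o ∩ b).card

/-- The intersection pattern of two families of point sets, as a number. -/
def pairInv (A B : Finset (Finset GolayPt)) : ℕ := ∑ a ∈ A, setInv a B

/-- The intersection pattern of a family with a point set. -/
def famInv (A : Finset (Finset GolayPt)) (o : Finset GolayPt) : ℕ := ∑ a ∈ A, 10 ^ (a ∩ o).card

theorem smul_family_eq_image (g : Equiv.Perm GolayPt) (B : Finset (Finset GolayPt)) :
    g • B = B.image (fun b => g • b) := rfl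

theorem setInv_smul (g : Equiv.Perm GolayPt) (o : Finset GolayPt) (B : Finset (Finset GolayPt)) :
    setInv (g • o) (g • B) = setInv o B := by
  unfold setInv
  rw [smul_family_eq_image, Finset.sum_image (fun x _ y _ h => MulAction.injective g h)]
  refine Finset.sum_congr rfl (fun b _ => ?_)
  rw [card_smul_inter_smul]

theorem pairInv_smul (g : Equiv.Perm GolayPt) (A B : Finset (Finset GolayPt)) :
    pairInv (g • A) (g • B) = pairInv A B := by
  unfold pairInv
  rw [smul_family_eq_image g A, Finset.sum_image (fun x _ y _ h => MulAction.injective g h)]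
  refine Finset.sum_congr rfl (fun a _ => ?_)
  exact setInv_smul g a B

theorem famInv_smul (g : Equiv.Perm GolayPt) (A : Finset (Finset GolayPt)) (o : Finset GolayPt) :
    famInv (g • A) (g • o) = famInv A o := by
  unfold famInv
  rw [smul_family_eq_image g A, Finset.sum_image (fun x _ y _ h => MulAction.injective g h)]
  refine Finset.sum_congr rfl (fun a _ => ?_)
  rw [card_smul_inter_smul]

/-! ### Invariants on keys -/

def setInvK (mo : ℕ) (k : List ℕ) : ℕ := (k.map (fun b => 10 ^ popF (mo &&& b))).sum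

def pairInvK (k0 k : List ℕ) : ℕ := (k0.map (fun a => setInvK a k)).sum

theorem nodup_map_ptsMask {k : List ℕ} (hk : keyOK k = true) : (k.map ptsMask).Nodup := by
  unfold keyOK at hk
  rw [Bool.and_eq_true, List.all_eq_true] at hk
  apply List.Nodup.map_on
  · intro a ha b hb hab
    have h1 := hk.1 a ha
    have h2 := hk.1 b hb
    rw [decide_eq_true_eq] at h1 h2
    exact ptsMask_inj h1 h2 hab
  · exact (pairwise_of_incr k hk.2).imp (fun h => ne_of_lt h)

theorem sum_decL {k : List ℕ} (hk : keyOK k = true) (f : Finset GolayPt → ℕ) :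
    ∑ b ∈ decL k, f b = (k.map (fun m => f (ptsMask m))).sum := by
  unfold decL
  rw [List.sum_toFinset f (nodup_map_ptsMask hk), List.map_map]
  rfl

theorem setInv_decL (mo : ℕ) {k : List ℕ} (hk : keyOK k = true) :
    setInv (ptsMask mo) (decL k) = setInvK mo k := by
  unfold setInv setInvK
  rw [sum_decL hk]
  congr 1
  apply List.map_congr_left
  intro b _
  rw [card_ptsMask_inter, popF_eq_popc]

theorem pairInv_decL {k0 k : List ℕ} (hk0 : keyOK k0 = true) (hk : keyOK k = true) :
    pairInv (decL k0) (decL k) = pairInvK k0 k := by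
  unfold pairInv pairInvK
  rw [sum_decL hk0]
  congr 1
  apply List.map_congr_left
  intro a _
  exact setInv_decL a hk

theorem famInv_decL {k : List ℕ} (hk : keyOK k = true) (mo : ℕ) :
    famInv (decL k) (ptsMask mo) = setInvK mo k := by
  unfold famInv setInvK
  rw [sum_decL hk]
  congr 1
  apply List.map_congr_left
  intro b _
  rw [card_ptsMask_inter, Nat.land_comm, popF_eq_popc]

/-! ### From certificates to class structure -/

section Bridge

variable {α : Type*} [MulAction (Equiv.Perm GolayPt) α]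

/-- Transitivity of the stabilizer of `a0` in `M24` on the classes of an invariant, from orbit certificates. -/
theorem class_trans_of_certs (a0 : α)
    (F : Set (Finset (Finset GolayPt))) (Ks : List (List (List ℕ))) (n : ℕ)
    (hex : ∀ y ∈ F, ∃ k ∈ flatK Ks n, decL k = y)
    (inv : α → Finset (Finset GolayPt) → ℕ) (invK : List ℕ → ℕ)
    (hinvK : ∀ k ∈ flatK Ks n, inv a0 (decL k) = invK k)
    (ws : List (List ℕ)) (hws : ∀ w ∈ ws, wordPerm w • a0 = a0)
    (J : List ℕ) (hall : (flatK Ks n).all (fun k => J.contains (invK k)) = true)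
    (hcerts : ∀ j ∈ J, ∃ (start : ℕ) (cert : List (ℕ × ℕ × ℕ)),
      checkK (wordTis ws) Ks start cert ((List.range n).filter (fun i => invK (getK Ks i) == j)) = true) :
    ∀ x ∈ F, ∀ y ∈ F, inv a0 x = inv a0 y → ∃ g : ↥M24, g • a0 = a0 ∧ g • x = y := by
  intro x hx y hy hxy
  obtain ⟨kx, hkx, ekx⟩ := hex x hx
  have hj : invK kx ∈ J := by
    have := List.all_eq_true.1 hall kx hkx
    rwa [List.contains_iff_mem] at this
  obtain ⟨start, cert, hcert⟩ := hcerts _ hj
  set K : Subgroup (Equiv.Perm GolayPt) := M24 ⊓ MulAction.stabilizer (Equiv.Perm GolayPt) a0 with hK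
  have hwsK : ∀ w ∈ ws, wordPerm w ∈ K := by
    intro w hw
    rw [hK, Subgroup.mem_inf, MulAction.mem_stabilizer_iff]
    exact ⟨wordPerm_mem_M24 w, hws w hw⟩
  obtain ⟨g, hg, e⟩ := exists_smul_of_checkK F Ks n hex K ws hwsK (fun k => invK k == invK kx) hcert hx hy
    (fun k hk hkx' => by
      rw [beq_iff_eq, ← hinvK k hk, hkx', ← ekx, hinvK kx hkx])
    (fun k hk hky => by
      rw [beq_iff_eq, ← hinvK k hk, hky, ← hxy, ← ekx, hinvK kx hkx])
  rw [hK, Subgroup.mem_inf, MulAction.mem_stabilizer_iff] at hg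
  exact ⟨⟨g, hg.1⟩, hg.2, e⟩

omit [MulAction (Equiv.Perm GolayPt) α] in
theorem class_mem_of_keys (a0 : α)
    (F : Set (Finset (Finset GolayPt))) (Ks : List (List (List ℕ))) (n : ℕ)
    (hex : ∀ y ∈ F, ∃ k ∈ flatK Ks n, decL k = y)
    (inv : α → Finset (Finset GolayPt) → ℕ) (invK : List ℕ → ℕ)
    (hinvK : ∀ k ∈ flatK Ks n, inv a0 (decL k) = invK k)
    (J : List ℕ) (hall : (flatK Ks n).all (fun k => J.contains (invK k)) = true) :
    ∀ y ∈ F, inv a0 y ∈ J := by
  intro y hy
  obtain ⟨k, hk, rfl⟩ := hex y hy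
  rw [hinvK k hk]
  have := List.all_eq_true.1 hall k hk
  rwa [List.contains_iff_mem] at this

omit [MulAction (Equiv.Perm GolayPt) α] in
theorem class_ncard_of_keys (a0 : α)
    (F : Set (Finset (Finset GolayPt))) (Ks : List (List (List ℕ))) (n : ℕ)
    (hex : ∀ y ∈ F, ∃ k ∈ flatK Ks n, decL k = y) (hmem : ∀ k ∈ flatK Ks n, decL k ∈ F)
    (hinj : ∀ k ∈ flatK Ks n, ∀ k' ∈ flatK Ks n, decL k = decL k' → k = k') (hnd : (flatK Ks n).Nodup)
    (inv : α → Finset (Finset GolayPt) → ℕ) (invK : List ℕ → ℕ)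
    (hinvK : ∀ k ∈ flatK Ks n, inv a0 (decL k) = invK k) (j : ℕ) :
    {y | y ∈ F ∧ inv a0 y = j}.ncard = ((flatK Ks n).filter (fun k => invK k == j)).length :=
  ncard_filter_keys F decL (flatK Ks n) hex hmem hinj hnd (fun y => inv a0 y = j) (fun k => invK k == j)
    (fun k hk => by rw [beq_iff_eq, hinvK k hk])

/-- The class structure of the stabilizer of `g0 • a0` in `M24` on a family given by a key table, from orbit
certificates, counts and the list of class values. -/
theorem key_class_structure (a0 : α)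
    (F : Set (Finset (Finset GolayPt))) (hF : ∀ (g : ↥M24), ∀ x ∈ F, g • x ∈ F)
    (Ks : List (List (List ℕ))) (n : ℕ)
    (hex : ∀ y ∈ F, ∃ k ∈ flatK Ks n, decL k = y) (hmem : ∀ k ∈ flatK Ks n, decL k ∈ F)
    (hinj : ∀ k ∈ flatK Ks n, ∀ k' ∈ flatK Ks n, decL k = decL k' → k = k') (hnd : (flatK Ks n).Nodup)
    (inv : α → Finset (Finset GolayPt) → ℕ)
    (hinv : ∀ (g : ↥M24) (a : α) (x : Finset (Finset GolayPt)), inv (g • a) (g • x) = inv a x)
    (invK : List ℕ → ℕ) (hinvK : ∀ k ∈ flatK Ks n, inv a0 (decL k) = invK k)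
    (ws : List (List ℕ)) (hws : ∀ w ∈ ws, wordPerm w • a0 = a0)
    (J : List ℕ) (N : ℕ → ℕ) (hall : (flatK Ks n).all (fun k => J.contains (invK k)) = true)
    (hcerts : ∀ j ∈ J, ∃ (start : ℕ) (cert : List (ℕ × ℕ × ℕ)),
      checkK (wordTis ws) Ks start cert ((List.range n).filter (fun i => invK (getK Ks i) == j)) = true)
    (hcounts : ∀ j ∈ J, ((flatK Ks n).filter (fun k => invK k == j)).length = N j)
    (hpos : ∀ j ∈ J, 0 < N j) (g0 : ↥M24) :
    (∀ j ∈ J, ∃ X ∈ F, inv (g0 • a0) X = j ∧
      (MulAction.orbit ↥(MulAction.stabilizer ↥M24 (g0 • a0)) X).ncard = N j) ∧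
    (∀ X ∈ F, MulAction.orbit ↥(MulAction.stabilizer ↥M24 (g0 • a0)) X
      = {y | y ∈ F ∧ inv (g0 • a0) y = inv (g0 • a0) X}) ∧
    (∀ y ∈ F, inv (g0 • a0) y ∈ J) := by
  apply class_structure_smul F hF inv hinv a0 _ J N _ hpos _ g0
  · exact class_trans_of_certs a0 F Ks n hex inv invK hinvK ws hws J hall hcerts
  · intro j hj
    rw [class_ncard_of_keys a0 F Ks n hex hmem hinj hnd inv invK hinvK j]
    exact hcounts j hj
  · exact class_mem_of_keys a0 F Ks n hex inv invK hinvK J hall

end Bridge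

end Cfsg.Agent.Lib.H28
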