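/-
helper28 library: sextets and trios are permuted by `M24`.
-/
import Cfsg.Agent.Lib.H28.KeyClasses

set_option autoImplicit false

namespace Cfsg.Agent.Lib.H28

open Cfsg
open scoped Pointwise

theorem smul_mem_sextets {g : Equiv.Perm GolayPt} (hg : g ∈ M24) {S : Finset (Finset GolayPt)}
    (hS : S ∈ sextets) : g • S ∈ sextets := by
  obtain ⟨h6, h4, hu⟩ := hS
  refine ⟨?_, ?_, ?_⟩
  · rw [Finset.card_smul_finset]; exact h6
  · intro t ht
    obtain ⟨t', ht', rfl⟩ := Finset.mem_smul_finset.1 ht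
    rw [Finset.card_smul_finset]; exact h4 t' ht'
  · intro t ht u hu' hne
    obtain ⟨t', ht', rfl⟩ := Finset.mem_smul_finset.1 ht
    obtain ⟨u', hu'', rfl⟩ := Finset.mem_smul_finset.1 hu'
    rw [← Finset.smul_finset_union]
    exact smul_mem_octads hg (hu t' ht' u' hu'' (fun h => hne (by rw [h])))

theorem smul_mem_trios {g : Equiv.Perm GolayPt} (hg : g ∈ M24) {T : Finset (Finset GolayPt)}
    (hT : T ∈ trios) : g • T ∈ trios := by
  obtain ⟨h3, ho, hd⟩ := hT
  refine ⟨?_, ?_, ?_⟩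
  · rw [Finset.card_smul_finset]; exact h3
  · intro t ht
    obtain ⟨t', ht', rfl⟩ := Finset.mem_smul_finset.1 ht
    exact smul_mem_octads hg (ho t' ht')
  · intro t ht u hu' hne
    obtain ⟨t', ht', rfl⟩ := Finset.mem_smul_finset.1 ht
    obtain ⟨u', hu'', rfl⟩ := Finset.mem_smul_finset.1 hu'
    have := hd t' ht' u' hu'' (fun h => hne (by rw [h]))
    rw [Finset.disjoint_iff_inter_eq_empty] at this ⊢
    rw [← Finset.smul_finset_inter, this, Finset.smul_finset_empty]

theorem smul_mem_sextets' (g : ↥M24) {S : Finset (Finset GolayPt)} (hS : S ∈ sextets) : g • S ∈ sextets :=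
  smul_mem_sextets g.2 hS

theorem smul_mem_trios' (g : ↥M24) {T : Finset (Finset GolayPt)} (hT : T ∈ trios) : g • T ∈ trios :=
  smul_mem_trios g.2 hT

theorem smul_mem_octads' (g : ↥M24) {o : Finset GolayPt} (ho : o ∈ octads) : g • o ∈ octads :=
  smul_mem_octads g.2 ho

end Cfsg.Agent.Lib.H28
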