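/-
helper28 library: the base sextet and the base trio, generators of their stabilizers in `M24`.
-/
import Cfsg.Agent.Lib.H28.KeyClasses
import Cfsg.Agent.Lib.H28.SextetKeys
import Cfsg.Agent.Lib.H28.TrioKeys
import Cfsg.Agent.Lib.H28.FamilySmul

set_option autoImplicit false

namespace Cfsg.Agent.Lib.H28

open Cfsg
open scoped Pointwise

/-- The base sextet: the sextet of the tetrad `{∞, 0, 1, 2}`. -/
def sext0Key : List ℕ := [147496, 268544, 1082880, 2621632, 4268048, 8388615]

/-- The base trio, containing the base octad. -/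
def trio0Key : List ℕ := [2702848, 5538256, 8536111]

def sextGenWords : List (List ℕ) := [[3, 0, 4, 0, 3, 1, 1, 3], [1, 2, 4, 4, 0, 0, 4]]

def trioGenWords : List (List ℕ) := [[3, 3, 1, 4, 4, 0, 3, 0, 0], [4, 1, 3, 2, 0, 4, 0, 2]]

def m24GenWords : List (List ℕ) := [[0], [2], [3]]

theorem sext0Key_eq : getK sextKs 1660 = sext0Key := by decide +kernel

theorem trio0Key_eq : getK trioKs 3329 = trio0Key := by decide +kernel

theorem sext0Key_mem : sext0Key ∈ flatK sextKs 1771 := mem_flatK.2 ⟨1660, by norm_num, sext0Key_eq⟩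

theorem trio0Key_mem : trio0Key ∈ flatK trioKs 3795 := mem_flatK.2 ⟨3329, by norm_num, trio0Key_eq⟩

theorem sext0_mem_sextets : decL sext0Key ∈ sextets := decL_mem_sextets (sextKey_ok sext0Key_mem)

theorem trio0_mem_trios : decL trio0Key ∈ trios := trioKey_mem trio0Key_mem

theorem sextGenWords_smul : ∀ w ∈ sextGenWords, wordPerm w • decL sext0Key = decL sext0Key := by
  have h : sextGenWords.all (fun w => sameL (sext0Key.map (pullMask (wordTab (invWord w)))) sext0Key) = true := by
    decide +kernel
  intro w hw
  exact wordPerm_smul_decL_of_sameL (List.all_eq_true.1 h w hw)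

theorem trioGenWords_smul : ∀ w ∈ trioGenWords, wordPerm w • decL trio0Key = decL trio0Key := by
  have h : trioGenWords.all (fun w => sameL (trio0Key.map (pullMask (wordTab (invWord w)))) trio0Key) = true := by
    decide +kernel
  intro w hw
  exact wordPerm_smul_decL_of_sameL (List.all_eq_true.1 h w hw)

theorem pairInv_smul' (g : ↥M24) (a x : Finset (Finset GolayPt)) :
    pairInv (g • a) (g • x) = pairInv a x := pairInv_smul (g : Equiv.Perm GolayPt) a x

theorem famInv_smul' (g : ↥M24) (a : Finset (Finset GolayPt)) (x : Finset GolayPt) :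
    famInv (g • a) (g • x) = famInv a x := famInv_smul (g : Equiv.Perm GolayPt) a x

end Cfsg.Agent.Lib.H28
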