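import Mathlib
import Cfsg.Prelude.Def_KGroupFacts

/-!
# Tools for stem extensions: transfer of central elements, subgroups of index two, quotients (helper28)
-/

set_option autoImplicit false

namespace Cfsg.Agent.Lib.H28.StemTools

open scoped commutatorElement

universe u v

/-- Bezout in a subgroup. -/
theorem mem_of_pow_mem_of_pow_eq_one {G : Type*} [Group G] {K : Subgroup G} {g : G} {a b : ℕ}
    (hab : Nat.Coprime a b) (ha : g ^ a ∈ K) (hb : g ^ b = 1) : g ∈ K := by
  have h1 : ((Nat.gcd a b : ℕ) : ℤ) = a * Nat.gcdA a b + b * Nat.gcdB a b := Nat.gcd_eq_gcd_ab a b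
  rw [hab.gcd_eq_one] at h1
  have h2 : g = (g ^ a) ^ (Nat.gcdA a b) * (g ^ b) ^ (Nat.gcdB a b) := by
    rw [← zpow_natCast g a, ← zpow_natCast g b, ← zpow_mul, ← zpow_mul, ← zpow_add, ← h1]
    simp
  rw [h2, hb, one_zpow, mul_one]
  exact K.zpow_mem ha _

/-- Transfer: a central element of `G` lying in the commutator subgroup of `G` lies in the commutator
subgroup of every subgroup containing it whose index is prime to its order. -/
theorem mem_commutator_of_central {G : Type*} [Group G] (H : Subgroup G) [H.FiniteIndex] {z : G}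
    (hzc : z ∈ Subgroup.center G) (hzH : z ∈ H) (hzG : z ∈ commutator G) {n : ℕ} (hn : z ^ n = 1)
    (hcop : Nat.Coprime H.index n) : z ∈ ⁅H, H⁆ := by
  let ϕ : H →* Abelianization H := Abelianization.of
  have key : ∀ (k : ℕ) (g₀ : G), g₀⁻¹ * z ^ k * g₀ ∈ H → g₀⁻¹ * z ^ k * g₀ = z ^ k := by
    intro k g₀ _
    have h1 : z ^ k ∈ Subgroup.center G := pow_mem hzc k
    rw [Subgroup.mem_center_iff] at h1
    rw [mul_assoc, ← h1 g₀, inv_mul_cancel_left]
  have h1 := MonoidHom.transfer_eq_pow ϕ z key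
  have h2 : MonoidHom.transfer ϕ z = 1 :=
    Abelianization.commutator_subset_ker (MonoidHom.transfer ϕ) hzG
  rw [h2] at h1
  have h3 : (⟨z, hzH⟩ : H) ^ H.index ∈ commutator H := by
    rw [← Abelianization.ker_of, MonoidHom.mem_ker]
    exact h1.symm
  have h4 : (⟨z, hzH⟩ : H) ^ n = 1 := by
    apply Subtype.ext
    rw [Subgroup.coe_pow]
    exact hn
  have h5 : (⟨z, hzH⟩ : H) ∈ commutator H := mem_of_pow_mem_of_pow_eq_one hcop h3 h4
  rw [← Subgroup.map_subtype_commutator]
  exact ⟨⟨z, hzH⟩, h5, rfl⟩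

/-- A subgroup of index two contains all commutators. -/
theorem commutator_le_of_index_two {T : Type*} [Group T] {D : Subgroup T} (h : D.index = 2)
    (H : Subgroup T) : ⁅H, H⁆ ≤ D := by
  rw [Subgroup.commutator_le]
  intro a _ b _
  rw [commutatorElement_def, mul_assoc, Subgroup.mul_mem_iff_of_index_two h,
    Subgroup.mul_mem_iff_of_index_two h, Subgroup.mul_mem_iff_of_index_two h, inv_mem_iff, inv_mem_iff]

/-- The order of a finite extension. -/
theorem card_eq_card_ker_mul {Γ G : Type*} [Group Γ] [Group G] (σ : Γ →* G)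
    (hs : Function.Surjective σ) : Nat.card Γ = Nat.card σ.ker * Nat.card G := by
  rw [← Subgroup.card_mul_index σ.ker, Subgroup.index_ker, MonoidHom.range_eq_top.2 hs,
    Subgroup.card_top]

/-- Passing to a quotient by a central subgroup of the kernel. -/
theorem exists_stem_quotient {G : Type u} [Group G] {Γ : Type u} [Group Γ] [Finite Γ] (σ : Γ →* G)
    (hσ : Cfsg.IsStemExtension σ) (Z0 : Subgroup Γ) (hZ0 : Z0 ≤ σ.ker) :
    ∃ (Γ' : Type u) (_ : Group Γ') (_ : Finite Γ') (σ' : Γ' →* G), Cfsg.IsStemExtension σ' ∧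
      Nat.card σ'.ker * Nat.card Z0 = Nat.card σ.ker := by
  obtain ⟨hs, hc, hd⟩ := hσ
  have hn : Z0.Normal := by
    constructor
    intro n hn g
    have h1 := Subgroup.mem_center_iff.1 (hc (hZ0 hn)) g
    rw [h1, mul_inv_cancel_right]
    exact hn
  let σ' : Γ ⧸ Z0 →* G := QuotientGroup.lift Z0 σ (fun x hx => MonoidHom.mem_ker.1 (hZ0 hx))
  have hσ' : ∀ x : Γ, σ' (QuotientGroup.mk x) = σ x := fun x => rfl
  have hs' : Function.Surjective σ' := by
    intro g
    obtain ⟨x, rfl⟩ := hs g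
    exact ⟨QuotientGroup.mk x, rfl⟩
  refine ⟨Γ ⧸ Z0, inferInstance, inferInstance, σ', ⟨hs', ?_, ?_⟩, ?_⟩
  · intro x hx
    obtain ⟨g, rfl⟩ := QuotientGroup.mk_surjective x
    have hg : g ∈ σ.ker := by
      rw [MonoidHom.mem_ker, ← hσ']
      exact MonoidHom.mem_ker.1 hx
    rw [Subgroup.mem_center_iff]
    intro y
    obtain ⟨k, rfl⟩ := QuotientGroup.mk_surjective y
    have h1 := Subgroup.mem_center_iff.1 (hc hg) k
    rw [← QuotientGroup.mk_mul, ← QuotientGroup.mk_mul, h1]
  · intro x hx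
    obtain ⟨g, rfl⟩ := QuotientGroup.mk_surjective x
    have hg : g ∈ σ.ker := by
      rw [MonoidHom.mem_ker, ← hσ']
      exact MonoidHom.mem_ker.1 hx
    have h1 : (commutator Γ).map (QuotientGroup.mk' Z0) = commutator (Γ ⧸ Z0) := by
      rw [commutator_def, Subgroup.map_commutator,
        Subgroup.map_top_of_surjective _ (QuotientGroup.mk'_surjective Z0), ← commutator_def]
    rw [← h1]
    exact ⟨g, hd hg, rfl⟩
  · have e1 := card_eq_card_ker_mul σ hs
    have e2 := card_eq_card_ker_mul σ' hs'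
    have e3 : Nat.card Γ = Nat.card (Γ ⧸ Z0) * Nat.card Z0 :=
      Subgroup.card_eq_card_quotient_mul_card_subgroup Z0
    have : Finite G := Finite.of_surjective σ hs
    have hpos : 0 < Nat.card G := Nat.card_pos
    have h4 : Nat.card σ'.ker * Nat.card Z0 * Nat.card G = Nat.card σ.ker * Nat.card G := by
      rw [← e1, e3, e2]
      ring
    exact Nat.eq_of_mul_eq_mul_right hpos h4

/-- A nontrivial `2`-group kernel can be cut down to order two. -/
theorem exists_stem_card_two {G : Type u} [Group G] {Γ : Type u} [Group Γ] [Finite Γ] (σ : Γ →* G)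
    (hσ : Cfsg.IsStemExtension σ) (hne : σ.ker ≠ ⊥) (h2 : IsPGroup 2 σ.ker) :
    ∃ (Γ' : Type u) (_ : Group Γ') (_ : Finite Γ') (σ' : Γ' →* G), Cfsg.IsStemExtension σ' ∧
      Nat.card σ'.ker = 2 := by
  have : Fact (Nat.Prime 2) := ⟨Nat.prime_two⟩
  obtain ⟨n, hn⟩ := IsPGroup.iff_card.1 h2
  have hn0 : n ≠ 0 := by
    rintro rfl
    apply hne
    rw [pow_zero] at hn
    exact (Subgroup.card_eq_one).1 hn
  obtain ⟨m, rfl⟩ := Nat.exists_eq_succ_of_ne_zero hn0
  obtain ⟨Z1, hZ1⟩ := Sylow.exists_subgroup_card_pow_prime (G := ↥σ.ker) 2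
    (n := m) (by rw [hn]; exact pow_dvd_pow 2 (Nat.le_succ m))
  have hcard : Nat.card (Z1.map σ.ker.subtype) = 2 ^ m := by
    rw [Subgroup.card_map_of_injective (Subgroup.subtype_injective _)]
    exact hZ1
  obtain ⟨Γ', i1, i2, σ', hσ', hc⟩ := exists_stem_quotient σ hσ (Z1.map σ.ker.subtype) (by
    rintro _ ⟨x, -, rfl⟩
    exact x.2)
  refine ⟨Γ', i1, i2, σ', hσ', ?_⟩
  rw [hcard, hn, pow_succ] at hc
  have hpos : 0 < 2 ^ m := pow_pos (by norm_num) m
  have : Nat.card σ'.ker * 2 ^ m = 2 * 2 ^ m := by rw [hc, mul_comm]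
  exact Nat.eq_of_mul_eq_mul_right hpos this

end Cfsg.Agent.Lib.H28.StemTools
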