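/-
helper28 library: joint stabilizers of two finsets in M24 (stab2, conjugation transport); the joint stabilizer of two
octads meeting in two points is the symmetric group of degree 6.
-/
import Cfsg.Agent.Lib.H28.M24OctadA8

set_option autoImplicit false

namespace Cfsg.Agent.Lib.H28

open scoped Pointwise
open Cfsg

/-- Conjugation between two subgroups. -/
def conjSubgroupEquiv {G : Type*} [Group G] (g : G) (A B : Subgroup G)
    (h : ∀ x, x ∈ B ↔ g⁻¹ * x * g ∈ A) : ↥A ≃* ↥B where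
  toFun a := ⟨g * a.1 * g⁻¹, by
    rw [h]
    have : g⁻¹ * (g * a.1 * g⁻¹) * g = a.1 := by group
    rw [this]; exact a.2⟩
  invFun b := ⟨g⁻¹ * b.1 * g, (h b.1).1 b.2⟩
  left_inv a := by
    apply Subtype.ext
    show g⁻¹ * (g * a.1 * g⁻¹) * g = a.1
    group
  right_inv b := by
    apply Subtype.ext
    show g * (g⁻¹ * b.1 * g) * g⁻¹ = b.1
    group
  map_mul' a b := by
    apply Subtype.ext
    show g * (a.1 * b.1) * g⁻¹ = (g * a.1 * g⁻¹) * (g * b.1 * g⁻¹)
    group

/-- The joint stabilizer of two finsets in `M24`, as a subgroup of the symmetric group. -/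
def stab2 (a b : Finset GolayPt) : Subgroup (Equiv.Perm GolayPt) :=
  M24 ⊓ MulAction.stabilizer (Equiv.Perm GolayPt) a ⊓ MulAction.stabilizer (Equiv.Perm GolayPt) b

theorem mem_stab2 {a b : Finset GolayPt} {g : Equiv.Perm GolayPt} :
    g ∈ stab2 a b ↔ g ∈ M24 ∧ g • a = a ∧ g • b = b := by
  unfold stab2
  rw [Subgroup.mem_inf, Subgroup.mem_inf]
  exact ⟨fun ⟨⟨h1, h2⟩, h3⟩ => ⟨h1, h2, h3⟩, fun ⟨h1, h2, h3⟩ => ⟨⟨h1, h2⟩, h3⟩⟩

/-- The joint stabilizer inside `M24` is isomorphic to the joint stabilizer as a subgroup of permutations. -/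
def stab2Equiv (a b : Finset GolayPt) :
    ↥(MulAction.stabilizer M24 a ⊓ MulAction.stabilizer M24 b) ≃* ↥(stab2 a b) where
  toFun g := ⟨g.1.1, by
    rw [mem_stab2]
    have h := Subgroup.mem_inf.1 g.2
    exact ⟨g.1.2, MulAction.mem_stabilizer_iff.1 h.1, MulAction.mem_stabilizer_iff.1 h.2⟩⟩
  invFun g := ⟨⟨g.1, (mem_stab2.1 g.2).1⟩, by
    rw [Subgroup.mem_inf]
    exact ⟨(mem_stab2.1 g.2).2.1, (mem_stab2.1 g.2).2.2⟩⟩
  left_inv g := rfl
  right_inv g := rfl
  map_mul' g h := rfl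

theorem stab2_smul {g0 : Equiv.Perm GolayPt} (hg0 : g0 ∈ M24) (a b : Finset GolayPt) (x : Equiv.Perm GolayPt) :
    x ∈ stab2 (g0 • a) (g0 • b) ↔ g0⁻¹ * x * g0 ∈ stab2 a b := by
  rw [mem_stab2, mem_stab2]
  constructor
  · rintro ⟨h1, h2, h3⟩
    refine ⟨M24.mul_mem (M24.mul_mem (M24.inv_mem hg0) h1) hg0, ?_, ?_⟩
    · rw [mul_smul, mul_smul, h2, inv_smul_smul]
    · rw [mul_smul, mul_smul, h3, inv_smul_smul]
  · rintro ⟨h1, h2, h3⟩
    refine ⟨?_, ?_, ?_⟩
    · have := M24.mul_mem (M24.mul_mem hg0 h1) (M24.inv_mem hg0)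
      simpa [mul_assoc] using this
    · have : x • g0 • a = g0 • (g0⁻¹ * x * g0) • a := by
        rw [← mul_smul, ← mul_smul]; congr 1; group
      rw [this, h2]
    · have : x • g0 • b = g0 • (g0⁻¹ * x * g0) • b := by
        rw [← mul_smul, ← mul_smul]; congr 1; group
      rw [this, h3]

/-! ### Two octads meeting in two points -/

/-- An octad meeting the base octad in the points `14, 17`. -/
def oct2 : ℕ := 2019456

theorem oct2_facts : inC oct2 = true ∧ popc oct2 = 8 ∧ popc (oct2 &&& baseOctad) = 2 := by decide +kernel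

theorem oct2_mem_octads : ptsMask oct2 ∈ octads := by
  rw [ptsMask_eq_support₂]
  refine ⟨⟨W oct2, W_mem_of_inC oct2_facts.1, rfl⟩, ?_⟩
  rw [← supp_eq_support₂, ← hammingNorm_eq_card_supp, hammingNorm_W]
  exact oct2_facts.2.1

theorem card_oct0_inter_oct2 : (oct0 ∩ ptsMask oct2).card = 2 := by
  unfold oct0
  rw [card_ptsMask_inter, Nat.land_comm]
  exact oct2_facts.2.2

theorem mem_sdiff_oct2_iff {p : GolayPt} : p ∈ oct0 \ ptsMask oct2 ↔ gIdx p ∈ [5, 3, 2, 1, 0, 23] := by
  rw [Finset.mem_sdiff, mem_oct0_iff, mem_ptsMask]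
  have : ∀ z < 24, (z ∈ octPts ∧ ¬ oct2.testBit z = true) ↔ z ∈ [5, 3, 2, 1, 0, 23] := by decide +kernel
  exact this _ (gIdx_lt p)

theorem card_sdiff_oct2 : (oct0 \ ptsMask oct2).card = 6 := by
  have h1 := Finset.card_sdiff_add_card_inter oct0 (ptsMask oct2)
  rw [card_oct0_inter_oct2, oct0_mem_octads.2] at h1
  omega

/-- Only the trivial element of `K0` preserves `oct2`. -/
theorem k0_oct2_check : (List.range 24).all (fun z => baseOctad.testBit z || z == 4 ||
    !(presCheck (k0Tab.getD z []) oct2)) = true := by decide +kernel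

theorem presCheck_of_mem_stabMask {w : List ℕ} {m : ℕ} (h : wordPerm w ∈ stabMask m) : presCheck w m = true := by
  rw [mem_stabMask] at h
  unfold presCheck
  rw [List.all_eq_true]
  intro k hk
  rw [List.mem_range] at hk
  rw [beq_iff_eq]
  have := h.2 (gPt k)
  rw [gIdx_wordPerm, gIdx_gPt hk] at this
  exact this

theorem stab2_base_restrict_injective :
    Function.Injective ((restrictHom M24 (oct0 \ ptsMask oct2)).comp
      (Subgroup.inclusion (show stab2 oct0 (ptsMask oct2) ≤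
        M24 ⊓ MulAction.stabilizer (Equiv.Perm GolayPt) (oct0 \ ptsMask oct2) by
          intro g hg
          rw [mem_stab2] at hg
          rw [Subgroup.mem_inf]
          refine ⟨hg.1, ?_⟩
          show g • (oct0 \ ptsMask oct2) = oct0 \ ptsMask oct2
          rw [Finset.smul_finset_sdiff, hg.2.1, hg.2.2]))) := by
  rw [injective_iff_map_eq_one]
  intro x hx
  have hker : Subgroup.inclusion _ x ∈ (restrictHom M24 (oct0 \ ptsMask oct2)).ker := hx
  rw [mem_ker_restrictHom] at hker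
  have hx2 := mem_stab2.1 x.2
  -- x lies in K0
  have hK0 : (x : Equiv.Perm GolayPt) ∈ K0 := by
    unfold K0
    rw [mem_fixSub]
    refine ⟨hx2.1, ?_⟩
    intro k hk
    apply hker
    rw [mem_sdiff_oct2_iff]
    have : ∀ k ∈ [5, 3, 2, 1, 0, 23], gIdx (gPt k) ∈ [5, 3, 2, 1, 0, 23] := by decide
    exact this k hk
  have hout := K0_outside hK0
  have hword := K0_eq_word hK0
  set z := gIdx ((x : Equiv.Perm GolayPt) (gPt 4)) with hz
  have hz24 : z < 24 := gIdx_lt _
  have hpres : presCheck (k0Tab.getD z []) oct2 = true := by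
    apply presCheck_of_mem_stabMask
    rw [← hword, mem_stabMask_iff_smul]
    exact ⟨hx2.1, hx2.2.2⟩
  have hchk := List.all_eq_true.1 k0_oct2_check z (List.mem_range.2 hz24)
  rw [hout, hpres] at hchk
  have hz4 : z = 4 := by simpa using hchk
  rw [hz4] at hword
  have h2 : k0Tab.getD 4 [] = [] := rfl
  rw [h2, wordPerm_nil] at hword
  exact Subtype.ext hword

theorem card_stab2_base : Nat.card (stab2 oct0 (ptsMask oct2)) = 720 := by
  rw [← Nat.card_congr (stab2Equiv oct0 (ptsMask oct2)).toEquiv]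
  exact (card_stabilizer_two_octads oct0_mem_octads oct2_mem_octads).2.2 card_oct0_inter_oct2

/-- The joint stabilizer of the two base octads is the symmetric group of degree 6. -/
theorem stab2_base_equiv : Nonempty (↥(stab2 oct0 (ptsMask oct2)) ≃* Equiv.Perm (Fin 6)) := by
  have hinj := stab2_base_restrict_injective
  have hcard : Nat.card (Equiv.Perm ↥(oct0 \ ptsMask oct2)) = 720 := by
    rw [Nat.card_eq_fintype_card, Fintype.card_perm, Fintype.card_coe, card_sdiff_oct2]
    decide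
  have hbij : Function.Bijective ((restrictHom M24 (oct0 \ ptsMask oct2)).comp (Subgroup.inclusion _)) :=
    (Nat.bijective_iff_injective_and_card _).2 ⟨hinj, by rw [card_stab2_base, hcard]⟩
  have e1 := MulEquiv.ofBijective _ hbij
  have e2 : Equiv.Perm ↥(oct0 \ ptsMask oct2) ≃* Equiv.Perm (Fin 6) :=
    (Finset.equivFinOfCardEq card_sdiff_oct2).permCongrHom
  exact ⟨e1.trans e2⟩

/-- The joint stabiliser of two octads meeting in exactly two points is the symmetric group of degree 6. -/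
theorem two_octads_stabilizer_sym6 {o o' : Finset GolayPt} (ho : o ∈ octads) (ho' : o' ∈ octads)
    (h₂ : (o ∩ o').card = 2) :
    Nonempty (↥(MulAction.stabilizer M24 o ⊓ MulAction.stabilizer M24 o') ≃* Equiv.Perm (Fin 6)) := by
  obtain ⟨g0, hg0, rfl⟩ := exists_M24_smul_octad oct0_mem_octads ho
  have hc : (oct0 ∩ g0⁻¹ • o').card = 2 := by
    have : g0 • oct0 ∩ o' = g0 • (oct0 ∩ g0⁻¹ • o') := by
      rw [Finset.smul_finset_inter, smul_inv_smul]
    rw [this, Finset.card_smul_finset] at h₂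
    exact h₂
  obtain ⟨k, hk, e⟩ := oct0_orbits oct2_mem_octads (smul_mem_octads (M24.inv_mem hg0) ho')
    (by rw [hc, card_oct0_inter_oct2])
  rw [mem_stabMask_iff_smul] at hk
  have hg1 : g0 * k ∈ M24 := M24.mul_mem hg0 hk.1
  have e1 : g0 • oct0 = (g0 * k) • oct0 := by
    rw [mul_smul]
    show g0 • oct0 = g0 • k • ptsMask baseOctad
    rw [hk.2]; rfl
  have e2 : o' = (g0 * k) • ptsMask oct2 := by
    rw [mul_smul, e, smul_inv_smul]
  obtain ⟨f⟩ := stab2_base_equiv
  refine ⟨(stab2Equiv _ _).trans (MulEquiv.trans ?_ f)⟩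
  rw [e1, e2]
  exact (conjSubgroupEquiv (g0 * k) _ _ (stab2_smul hg1 _ _)).symm

end Cfsg.Agent.Lib.H28
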