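import Cfsg.Agent.Lib.H15.S3814C2Defs
import Cfsg.Agent.Lib.H16.S3814AutCyc
import Cfsg.Agent.Lib.H19.HallPi

/-!
# S3814, Case 2', piece (12) EData (helper28)

`eData : EDataStmt`.  `E = ⟨e₁, e₂⟩` from `Rank2 K a`; helper16's `exists_orderOf_eq_commute` gives
`u1 ∈ E` of order `a` centralising `mc` and `u2 ∈ E` of order `a` centralising `mb`; `u2` cannot
centralise `mc` (`u2 * mb * mc` would have order `a * b * c`); so `E ⊓ C(mc)` has order `a`.
-/

set_option autoImplicit false

namespace Cfsg.Agent.Lib.H28.S3814C2EData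

open Cfsg.Agent.H7.S3814Defs Cfsg.Agent.H15.S3814C2

universe u

variable {G : Type u} [Group G]

/-- the subgroup generated by two commuting elements is commutative -/
theorem pair_comm {y y' : G} (hyy' : Commute y y') :
    ∀ a ∈ Subgroup.closure ({y, y'} : Set G), ∀ b ∈ Subgroup.closure ({y, y'} : Set G),
      a * b = b * a := by
  have hgen : ∀ a ∈ ({y, y'} : Set G), ∀ b ∈ ({y, y'} : Set G), a * b = b * a := by
    intro a ha b hb
    rcases ha with ha | ha <;> rcases hb with hb | hb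
    · rw [ha, hb]
    · rw [ha, Set.mem_singleton_iff.1 hb]; exact hyy'
    · rw [Set.mem_singleton_iff.1 ha, hb]; exact hyy'.symm
    · rw [Set.mem_singleton_iff.1 ha, Set.mem_singleton_iff.1 hb]
  intro a ha b hb
  have hle : Subgroup.closure ({y, y'} : Set G) ≤ Subgroup.centralizer {a} := by
    rw [Subgroup.closure_le]
    intro c hc
    rw [SetLike.mem_coe, Subgroup.mem_centralizer_iff]
    intro d hd
    rw [Set.mem_singleton_iff] at hd
    rw [hd]
    -- `a * c = c * a` for the generator `c`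
    have hle2 : Subgroup.closure ({y, y'} : Set G) ≤ Subgroup.centralizer {c} := by
      rw [Subgroup.closure_le]
      intro e he
      rw [SetLike.mem_coe, Subgroup.mem_centralizer_iff]
      intro f hf
      rw [Set.mem_singleton_iff] at hf
      rw [hf]
      exact hgen c hc e he
    have := hle2 ha
    rw [Subgroup.mem_centralizer_iff] at this
    exact (this c rfl).symm
  have := hle hb
  rw [Subgroup.mem_centralizer_iff] at this
  exact this a rfl

/-- ... and of exponent `t` if the generators are -/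
theorem pair_exp {t : ℕ} {y y' : G} (hy : y ^ t = 1) (hy' : y' ^ t = 1) (hyy' : Commute y y') :
    ∀ a ∈ Subgroup.closure ({y, y'} : Set G), a ^ t = 1 := by
  intro a ha
  induction ha using Subgroup.closure_induction with
  | mem x hx =>
    rcases hx with hx | hx
    · rw [hx]; exact hy
    · rw [Set.mem_singleton_iff.1 hx]; exact hy'
  | one => exact one_pow _
  | mul a b ha hb iha ihb =>
    rw [(show Commute a b from pair_comm hyy' a ha b hb).mul_pow, iha, ihb, one_mul]
  | inv a ha iha => rw [inv_pow, iha, inv_one]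

/-- PIECE (12) EData. -/
theorem eData : EDataStmt.{u} := by
  intro G _ σ p V K hctx a b c mb mc hT
  have hfin := hctx.cex.fin
  have haP := hctx.cex.prime a hT.ha.1
  have hbP := hctx.cex.prime b hT.hb.1
  have hcP := hctx.cex.prime c hT.hc.1
  obtain ⟨e₁, he₁K, e₂, he₂K, he₁a, he₂a, hcomm, hnot⟩ := hctx.facts.f2 a hT.ha.1 hT.ha.2
  obtain ⟨_, hmbK, hmbo, hmbn⟩ := hT.npb
  obtain ⟨_, hmcK, hmco, hmcn⟩ := hT.npc
  have hcomm' : Commute e₁ e₂ := hcomm
  let E : Subgroup G := Subgroup.closure {e₁, e₂}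
  have he₁E : e₁ ∈ E := Subgroup.subset_closure (Set.mem_insert _ _)
  have he₂E : e₂ ∈ E := Subgroup.subset_closure (Set.mem_insert_of_mem _ rfl)
  have hEK : E ≤ K := by
    rw [Subgroup.closure_le]
    intro x hx
    rcases hx with hx | hx
    · rw [hx]; exact he₁K
    · rw [Set.mem_singleton_iff.1 hx]; exact he₂K
  have hEab : ∀ x ∈ E, ∀ y ∈ E, x * y = y * x := pair_comm hcomm'
  -- normalising
  have hnorm : ∀ (m : G), (∀ k ∈ K, k⁻¹ * m * k ∈ Subgroup.zpowers m) →
      ∀ x ∈ K, x * m * x⁻¹ ∈ Subgroup.zpowers m := by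
    intro m hm x hx
    have := hm x⁻¹ (K.inv_mem hx)
    rwa [inv_inv] at this
  obtain ⟨u1, ⟨s, k, hu1⟩, hu1a, hu1c⟩ :=
    Cfsg.Agent.Lib.H16.S3814AutCyc.exists_orderOf_eq_commute haP hcP mc e₂ e₁ hmco he₂a he₁a
      hcomm'.symm hnot (hnorm mc hmcn e₂ he₂K) (hnorm mc hmcn e₁ he₁K)
  obtain ⟨u2, ⟨s', k', hu2⟩, hu2a, hu2b⟩ :=
    Cfsg.Agent.Lib.H16.S3814AutCyc.exists_orderOf_eq_commute haP hbP mb e₂ e₁ hmbo he₂a he₁a
      hcomm'.symm hnot (hnorm mb hmbn e₂ he₂K) (hnorm mb hmbn e₁ he₁K)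
  have hu1E : u1 ∈ E := by
    rw [hu1]; exact E.mul_mem (E.pow_mem he₂E _) (E.pow_mem he₁E _)
  have hu2E : u2 ∈ E := by
    rw [hu2]; exact E.mul_mem (E.pow_mem he₂E _) (E.pow_mem he₁E _)
  -- `u2` does not centralise `mc`
  have hu2c : ¬ Commute u2 mc := by
    intro h
    have hab' : (orderOf u2).Coprime (orderOf mb) := by
      rw [hu2a, hmbo]; exact (Nat.coprime_primes haP hbP).2 hT.hab
    have h1 : orderOf (u2 * mb) = a * b := by
      rw [hu2b.orderOf_mul_eq_mul_orderOf_of_coprime hab', hu2a, hmbo]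
    have h2 : Commute (u2 * mb) mc := h.mul_left hT.comm
    have habc : (orderOf (u2 * mb)).Coprime (orderOf mc) := by
      rw [h1, hmco]
      exact Nat.Coprime.mul_left ((Nat.coprime_primes haP hcP).2 hT.hac)
        ((Nat.coprime_primes hbP hcP).2 hT.hbc)
    have h3 : orderOf (u2 * mb * mc) = a * b * c := by
      rw [h2.orderOf_mul_eq_mul_orderOf_of_coprime habc, h1, hmco]
    exact hctx.cex.notriple a hT.ha.1 b hT.hb.1 c hT.hc.1 hT.hab hT.hbc hT.hac _ h3
  -- the order of `E`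
  have hEsup : E = Subgroup.zpowers e₁ ⊔ Subgroup.zpowers e₂ := by
    apply le_antisymm
    · rw [Subgroup.closure_le]
      intro x hx
      rcases hx with hx | hx
      · rw [hx]
        exact (le_sup_left : Subgroup.zpowers e₁ ≤ _) (Subgroup.mem_zpowers e₁)
      · rw [Set.mem_singleton_iff.1 hx]
        exact (le_sup_right : Subgroup.zpowers e₂ ≤ _) (Subgroup.mem_zpowers e₂)
    · exact sup_le (Subgroup.zpowers_le.2 he₁E) (Subgroup.zpowers_le.2 he₂E)
  have hnz : Subgroup.zpowers e₁ ≤ Subgroup.normalizer ((Subgroup.zpowers e₂ : Subgroup G) : Set G) := by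
    refine le_trans ?_ (Subgroup.centralizer_le_normalizer _)
    rw [Subgroup.zpowers_le, Subgroup.mem_centralizer_iff]
    intro h hh
    exact hEab h (Subgroup.zpowers_le.2 he₂E hh) e₁ he₁E
  have hEdvd : Nat.card E ∣ a ^ 2 := by
    have := Cfsg.Agent.Lib.H19.card_sup_dvd_mul_of_le_normalizer hnz
    rw [← hEsup, Nat.card_zpowers, Nat.card_zpowers, he₁a, he₂a] at this
    rwa [pow_two]
  have hz1 : Nat.card (Subgroup.zpowers e₁) = a := by rw [Nat.card_zpowers, he₁a]
  have hEcard : Nat.card E = a ^ 2 := by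
    obtain ⟨i, hi2, hi⟩ := (Nat.dvd_prime_pow haP).1 hEdvd
    have hle1 : Subgroup.zpowers e₁ ≤ E := Subgroup.zpowers_le.2 he₁E
    have hi0 : i ≠ 0 := by
      intro h0
      rw [h0, pow_zero] at hi
      have := Subgroup.card_le_of_le hle1
      rw [hi, hz1] at this
      exact absurd this (not_le.2 haP.one_lt)
    have hi1 : i ≠ 1 := by
      intro h1
      rw [h1, pow_one] at hi
      have heq : Subgroup.zpowers e₁ = E :=
        Subgroup.eq_of_le_of_card_ge hle1 (by rw [hi, hz1])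
      exact hnot (heq ▸ he₂E)
    have : i = 2 := by omega
    rw [hi, this]
  have he₁pow : e₁ ^ a = 1 := by rw [← he₁a]; exact pow_orderOf_eq_one _
  have he₂pow : e₂ ^ a = 1 := by rw [← he₂a]; exact pow_orderOf_eq_one _
  have hEexp : ∀ x ∈ E, x ^ a = 1 := pair_exp he₁pow he₂pow hcomm'
  have hEnc : ¬ IsCyclic E := by
    intro hcyc
    obtain ⟨g, hg⟩ := hcyc.exists_generator
    have h1 : orderOf g = Nat.card E := orderOf_eq_card_of_forall_mem_zpowers hg
    have h2 : (g : G) ^ a = 1 := hEexp g g.2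
    have h3 : orderOf (g : G) ∣ a := orderOf_dvd_of_pow_eq_one h2
    rw [Subgroup.orderOf_coe, h1, hEcard] at h3
    have h4 := Nat.le_of_dvd haP.pos h3
    have h5 : a < a ^ 2 := by
      rw [pow_two]; exact lt_mul_of_one_lt_left haP.pos haP.one_lt
    omega
  -- the centraliser of `mc` in `E`
  refine ⟨E, u1, hEK, hEab, hEnc, hEcard, hu1E, hu1a, hu1c, ?_⟩
  let Z : Subgroup G := E ⊓ Subgroup.centralizer {mc}
  have hmemZ : ∀ x : G, x ∈ E → Commute x mc → x ∈ Z := by
    intro x hx hc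
    refine Subgroup.mem_inf.2 ⟨hx, ?_⟩
    rw [Subgroup.mem_centralizer_iff]
    intro h hh
    rw [Set.mem_singleton_iff] at hh
    rw [hh]; exact hc.symm
  have hZE : Z ≤ E := inf_le_left
  have hu1Z : Subgroup.zpowers u1 ≤ Z := Subgroup.zpowers_le.2 (hmemZ u1 hu1E hu1c)
  have hzu1 : Nat.card (Subgroup.zpowers u1) = a := by rw [Nat.card_zpowers, hu1a]
  have hZdvd : Nat.card Z ∣ a ^ 2 := hEcard ▸ Subgroup.card_dvd_of_le hZE
  obtain ⟨i, hi2, hi⟩ := (Nat.dvd_prime_pow haP).1 hZdvd
  have hi0 : i ≠ 0 := by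
    intro h0
    rw [h0, pow_zero] at hi
    have := Subgroup.card_le_of_le hu1Z
    rw [hi, hzu1] at this
    exact absurd this (not_le.2 haP.one_lt)
  have hi2' : i ≠ 2 := by
    intro h2
    rw [h2] at hi
    have heq : Z = E := Subgroup.eq_of_le_of_card_ge hZE (by rw [hi, hEcard])
    have hu2Z : u2 ∈ Z := heq ▸ hu2E
    have := (Subgroup.mem_inf.1 hu2Z).2
    rw [Subgroup.mem_centralizer_iff] at this
    exact hu2c (this mc rfl).symm
  have hi1 : i = 1 := by omega
  rw [hi1, pow_one] at hi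
  have heq : Subgroup.zpowers u1 = Z := Subgroup.eq_of_le_of_card_ge hu1Z (by rw [hi, hzu1])
  intro e he hec
  rw [heq]
  exact hmemZ e he hec

example : EDataStmt.{0} := eData

end Cfsg.Agent.Lib.H28.S3814C2EData
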