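import Cfsg.Agent.Lib.H15.S3814C2Defs
import Cfsg.Agent.Lib.H19.HallPi
import Cfsg.Agent.Lib.H1.SolvableBasic
import Cfsg.Agent.Lib.H6.FrobActG

/-!
# S3814, Case 2', piece (7) Label (helper28)

`label : LabelStmt`.  `C = K ⊓ C(m)` is solvable; a Hall `{a,b}`-subgroup `Y` of `C` containing a bad `u0` of
order `a`, a bad `w0` of order `b` conjugated into `Y`; a nontrivial normal `t`-subgroup `N0` of `Y`
(`t ∈ {a,b}`); the bad element of the other order acts fixed-point-freely on `N0` (NPMixed), so T1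
(`FrobActG.t1_group`) makes `N0` centralise `V`, against `ShapeI.faithful`.
-/

set_option autoImplicit false

namespace Cfsg.Agent.Lib.H28.S3814C2Label

open Cfsg.Agent.H7.S3814Defs Cfsg.Agent.H15.S3814C2

universe u

variable {G : Type u} [Group G]

/-- badness is invariant under conjugation (`V` normal). -/
theorem fpf_conj {x : G} {V : Subgroup G} (hV : V.Normal) (g : G) (h : Fpf x V) :
    Fpf (g * x * g⁻¹) V := by
  intro v hv hc
  have hv' : g⁻¹ * v * g ∈ V := by
    have := hV.conj_mem v hv g⁻¹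
    simpa using this
  have h1 : x * (g⁻¹ * v * g) = (g⁻¹ * v * g) * x := by
    have e : x * (g⁻¹ * v * g) = g⁻¹ * ((g * x * g⁻¹) * v) * g := by group
    rw [e, hc]; group
  have h2 := h _ hv' h1
  have e2 : v = g * (g⁻¹ * v * g) * g⁻¹ := by group
  rw [e2, h2]; group

/-- T1 core: a nontrivial `t`-subgroup `N0 ≤ K` normalised by an element `u` of prime order which
commutes with no element of order `t` of `N0`: then `u` is good. -/
theorem good_of_normal_tgroup [Finite G] {σ : Finset ℕ} {p : ℕ} {V K : Subgroup G}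
    (hS : ShapeI σ p V K) (N0 : Subgroup G) (hN0K : N0 ≤ K) (hN0 : N0 ≠ ⊥) (t : ℕ) (ht : t.Prime)
    (hN0t : IsPGroup t N0) (u : G) (s : ℕ) (hs : s.Prime) (hu : orderOf u = s)
    (hun : ∀ k ∈ N0, u * k * u⁻¹ ∈ N0)
    (hno : ∀ k ∈ N0, orderOf k = t → ¬ Commute u k) : ¬ Fpf u V := by
  intro hfpf
  have hVn := hS.normal
  have key := Cfsg.Agent.Lib.H6.FrobActG.t1_group N0 V u hs hu hun
    (fun v hv => hVn.conj_mem v hv u)
    (fun k _ v hv => hVn.conj_mem v hv k)
    (fun x hx y hy => hS.elem.1 x hx y hy)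
    (by
      intro k hk hck
      by_contra hk1
      have hcomm : Commute u k := by
        have : u * k = k * u := mul_inv_eq_iff_eq_mul.1 hck
        exact this
      obtain ⟨j, hj⟩ := hN0t ⟨k, hk⟩
      have hj' : k ^ (t ^ j) = 1 := by
        have := congrArg (fun z : N0 => (z : G)) hj
        simpa using this
      have hdvd : orderOf k ∣ t ^ j := orderOf_dvd_of_pow_eq_one hj'
      obtain ⟨i, _, hi⟩ := (Nat.dvd_prime_pow ht).1 hdvd
      have hi0 : i ≠ 0 := by
        intro h0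
        rw [h0, pow_zero] at hi
        exact hk1 (orderOf_eq_one_iff.1 hi)
      have htd : t ∣ orderOf k := by
        rw [hi]; exact dvd_pow_self t hi0
      have hk0 : orderOf k ≠ 0 := (orderOf_pos k).ne'
      have hord : orderOf (k ^ (orderOf k / t)) = t := orderOf_pow_orderOf_div hk0 htd
      exact hno _ (N0.pow_mem hk _) hord (hcomm.pow_right _))
    (by
      intro v hv hvN
      have h1 : orderOf v ∣ p := orderOf_dvd_of_pow_eq_one (hS.elem.2 v hv)
      have h2 : orderOf v ∣ Nat.card N0 := orderOf_dvd_of_pow_eq_one hvN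
      have h3 : (Nat.card N0).Coprime p :=
        Nat.Coprime.coprime_dvd_left (Subgroup.card_dvd_of_le hN0K) hS.coprime
      have h4 : orderOf v ∣ 1 := by
        have := Nat.dvd_gcd h2 h1
        rwa [h3] at this
      exact orderOf_eq_one_iff.1 (Nat.dvd_one.1 h4))
    (by
      intro v hv hcv
      exact hfpf v hv (mul_inv_eq_iff_eq_mul.1 hcv))
  apply hN0
  rw [Subgroup.eq_bot_iff_forall]
  intro k hk
  apply hS.faithful k (hN0K hk)
  intro v hv
  have := key k hk v hv
  exact mul_inv_eq_iff_eq_mul.1 this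

/-- PIECE (7) Label. -/
theorem label : LabelStmt.{u} := by
  intro hMixed G _ σ p V K hctx c m hnp a b ha hb hap hbp hac hbc hab
  by_contra hcon
  push Not at hcon
  obtain ⟨⟨u0, hu0K, hu0a, hu0m, hu0f⟩, ⟨w0, hw0K, hw0b, hw0m, hw0f⟩⟩ := hcon
  have hfin := hctx.cex.fin
  have hsol := hctx.cex.sol
  have haP := hctx.cex.prime a ha
  have hbP := hctx.cex.prime b hb
  have hVn := hctx.shape.normal
  -- the centraliser of `m` in `K`
  let C : Subgroup G := K ⊓ Subgroup.centralizer {m}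
  have hmemC : ∀ x : G, x ∈ K → Commute x m → x ∈ C := by
    intro x hx hc
    refine Subgroup.mem_inf.2 ⟨hx, ?_⟩
    rw [Subgroup.mem_centralizer_iff]
    intro h hh
    rw [Set.mem_singleton_iff] at hh
    rw [hh]; exact hc.symm
  have hCK : C ≤ K := inf_le_left
  have hCm : ∀ x ∈ C, Commute x m := by
    intro x hx
    have := (Subgroup.mem_inf.1 hx).2
    rw [Subgroup.mem_centralizer_iff] at this
    exact (this m rfl).symm
  -- no commuting pair of orders `a`, `b` in `C`
  have hnopair : ∀ x ∈ C, ∀ y ∈ C, orderOf x = a → orderOf y = b → ¬ Commute x y := by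
    intro x hx y hy hxa hyb hxy
    rcases hMixed G σ p V K hctx c m hnp a b ha hb hap hbp hac hbc hab x (hCK hx) y (hCK hy)
      hxa hyb hxy with ⟨_, h2, _⟩ | ⟨h1, _, _⟩
    · exact h2 (hCm y hy)
    · exact h1 (hCm x hx)
  let π : Set ℕ := {a, b}
  have hCsol : Group.IsSolvable C := inferInstance
  -- Hall subgroups
  have hu0C : u0 ∈ C := hmemC u0 hu0K hu0m
  have hw0C : w0 ∈ C := hmemC w0 hw0K hw0m
  have hcardu : Cfsg.Agent.Lib.H19.IsPiCard π (Nat.card (Subgroup.zpowers u0)) := by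
    intro q hq hqd
    rw [Nat.card_zpowers, hu0a] at hqd
    have : q = a := (Nat.prime_dvd_prime_iff_eq hq haP).1 hqd
    rw [this]; exact Set.mem_insert _ _
  have hcardw : Cfsg.Agent.Lib.H19.IsPiCard π (Nat.card (Subgroup.zpowers w0)) := by
    intro q hq hqd
    rw [Nat.card_zpowers, hw0b] at hqd
    have : q = b := (Nat.prime_dvd_prime_iff_eq hq hbP).1 hqd
    rw [this]; exact Set.mem_insert_of_mem _ rfl
  obtain ⟨Y, hY, hu0Y⟩ := Cfsg.Agent.Lib.H19.exists_isPiHallOf_ge (π := π) (G := C)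
    (U := Subgroup.zpowers u0) (Subgroup.zpowers_le.2 hu0C) hcardu
  obtain ⟨Y', hY', hw0Y'⟩ := Cfsg.Agent.Lib.H19.exists_isPiHallOf_ge (π := π) (G := C)
    (U := Subgroup.zpowers w0) (Subgroup.zpowers_le.2 hw0C) hcardw
  obtain ⟨g, hgC, hg⟩ := Cfsg.Agent.Lib.H19.isPiHallOf_exists_conj hY' hY
  have hu0Y' : u0 ∈ Y := hu0Y (Subgroup.mem_zpowers u0)
  -- the conjugate of `w0` in `Y`
  have hw1Y : g * w0 * g⁻¹ ∈ Y := by
    rw [← hg]
    have := Subgroup.smul_mem_pointwise_smul w0 (MulAut.conj g) Y' (hw0Y' (Subgroup.mem_zpowers w0))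
    simpa [MulAut.smul_def, MulAut.conj_apply] using this
  have hw1b : orderOf (g * w0 * g⁻¹) = b := by
    rw [← hw0b]
    exact (MulAut.conj g).orderOf_eq w0
  have hw1f : Fpf (g * w0 * g⁻¹) V := fpf_conj hVn g hw0f
  have hYC : Y ≤ C := hY.1
  -- a nontrivial normal `t`-subgroup of `Y`
  have hu01 : u0 ≠ 1 := by
    intro h1
    rw [h1, orderOf_one] at hu0a
    exact haP.one_lt.ne' hu0a.symm
  have hYnt : Nontrivial Y := ⟨⟨⟨u0, hu0Y'⟩, 1, fun h => hu01 (congrArg (fun z : Y => (z : G)) h)⟩⟩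
  obtain ⟨t, htF, R, hRn, hRt, hRne⟩ :=
    Cfsg.Agent.Lib.H1.exists_normal_isPGroup_ne_bot_of_isSolvable (G := Y)
  have htP : t.Prime := htF.out
  let N0 : Subgroup G := R.map Y.subtype
  have hN0Y : N0 ≤ Y := Subgroup.map_subtype_le _
  have hN0ne : N0 ≠ ⊥ := by
    intro h
    rw [Subgroup.map_eq_bot_iff_of_injective _ Y.subtype_injective] at h
    exact hRne h
  have hN0t : IsPGroup t N0 := hRt.map _
  have hN0n : ∀ y ∈ Y, ∀ k ∈ N0, y * k * y⁻¹ ∈ N0 := by
    intro y hy k hk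
    obtain ⟨r, hr, rfl⟩ := hk
    exact ⟨⟨y, hy⟩ * r * ⟨y, hy⟩⁻¹, hRn.conj_mem r hr ⟨y, hy⟩, rfl⟩
  have htπ : t ∈ π := by
    apply hY.2.1 t htP
    obtain ⟨n, hn⟩ := IsPGroup.iff_card.1 hN0t
    have hn0 : n ≠ 0 := by
      intro h0
      rw [h0, pow_zero] at hn
      exact hN0ne (Subgroup.card_eq_one.1 hn)
    have h1 : t ∣ Nat.card N0 := by rw [hn]; exact dvd_pow_self t hn0
    exact h1.trans (Subgroup.card_dvd_of_le hN0Y)
  have hN0K : N0 ≤ K := hN0Y.trans (hYC.trans hCK)
  rcases htπ with hta | htb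
  · -- `t = a`: the bad `w1` of order `b` is good
    refine good_of_normal_tgroup hctx.shape N0 hN0K hN0ne t htP hN0t (g * w0 * g⁻¹) b hbP hw1b
      (hN0n _ hw1Y) ?_ hw1f
    intro k hk hkt hc
    exact hnopair k (hYC (hN0Y hk)) _ (hYC hw1Y) (hkt.trans hta) hw1b hc.symm
  · -- `t = b`: the bad `u0` of order `a` is good
    rw [Set.mem_singleton_iff] at htb
    refine good_of_normal_tgroup hctx.shape N0 hN0K hN0ne t htP hN0t u0 a haP hu0a
      (hN0n _ hu0Y') ?_ hu0f
    intro k hk hkt hc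
    exact hnopair u0 hu0C k (hYC (hN0Y hk)) hu0a (hkt.trans htb) hc

example : LabelStmt.{0} := label

end Cfsg.Agent.Lib.H28.S3814C2Label
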