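import Mathlib
import Cfsg.Agent.Lib.H9.CoprimeGeneration

/-!
# S3814 pre-built brick [4] (helper28): the centraliser of a GOOD element

Group form (everything inside an ambient finite group `G`, as in S0058 / S3765).
`V` is a `p`-subgroup, `g` has prime order `t` and is GOOD (`V ⊓ C(g) ≠ ⊥`); no element of `G` has
order `p * t * t'`.  Then the elements of order `t'` of `C(g) ∩ N(V)` are fixed-point-free on
`V ⊓ C(g)` (`fix_eq_bot`) and two commuting ones generate the same subgroup (`mem_zpowers`), i.e.
the Sylow `t'`-subgroups of `C_K(g)` have only one subgroup of order `t'`.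
-/

set_option autoImplicit false

namespace Cfsg.Agent.Lib.H28.S3814CentGood

variable {G : Type*} [Group G]

/-- the order of a product of three pairwise commuting elements of distinct prime orders -/
theorem orderOf_mul_mul {x y z : G} {p q r : ℕ} (hp : p.Prime) (hq : q.Prime) (hr : r.Prime)
    (hpq : p ≠ q) (hpr : p ≠ r) (hqr : q ≠ r) (hx : orderOf x = p) (hy : orderOf y = q)
    (hz : orderOf z = r) (hxy : Commute x y) (hxz : Commute x z) (hyz : Commute y z) :
    orderOf (x * y * z) = p * q * r := by
  have h1 : orderOf (x * y) = p * q := by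
    rw [hxy.orderOf_mul_eq_mul_orderOf_of_coprime (by rw [hx, hy]; exact (Nat.coprime_primes hp hq).mpr hpq),
      hx, hy]
  have h2 : Commute (x * y) z := Commute.mul_left hxz hyz
  rw [h2.orderOf_mul_eq_mul_orderOf_of_coprime, h1, hz]
  rw [h1, hz]
  exact Nat.Coprime.mul_left ((Nat.coprime_primes hp hr).mpr hpr) ((Nat.coprime_primes hq hr).mpr hqr)

/-- a nontrivial element of a `p`-subgroup has a power of order `p` -/
theorem exists_pow_orderOf_eq {p : ℕ} (hp : p.Prime) [Finite G] (V : Subgroup G) (hV : IsPGroup p V)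
    {v : G} (hv : v ∈ V) (hv1 : v ≠ 1) : ∃ n : ℕ, orderOf (v ^ n) = p := by
  obtain ⟨k, hk⟩ := hV ⟨v, hv⟩
  have hk' : v ^ (p ^ k) = 1 := by
    have := congrArg Subtype.val hk
    simpa using this
  have hdvd : orderOf v ∣ p ^ k := orderOf_dvd_of_pow_eq_one hk'
  obtain ⟨j, _, hj⟩ := (Nat.dvd_prime_pow hp).mp hdvd
  have hj0 : j ≠ 0 := by
    rintro rfl
    rw [pow_zero, orderOf_eq_one_iff] at hj
    exact hv1 hj
  have hpd : p ∣ orderOf v := by rw [hj]; exact dvd_pow_self p hj0
  exact ⟨orderOf v / p, orderOf_pow_orderOf_div (orderOf_pos v).ne' hpd⟩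

variable [Finite G]

/-- **[4a]** an element `y` of prime order `t'` commuting with the element `g` of prime order `t`
has no nontrivial fixed point on `V ⊓ C(g)`, when no element has order `p t t'`. -/
theorem fix_eq_bot {p t t' : ℕ} (hp : p.Prime) (ht : t.Prime) (ht' : t'.Prime) (hpt : p ≠ t)
    (hpt' : p ≠ t') (htt' : t ≠ t') (V : Subgroup G) (hV : IsPGroup p V) (g y : G)
    (hg : orderOf g = t) (hy : orderOf y = t') (hgy : Commute g y)
    (hN : ∀ x : G, orderOf x ≠ p * t * t') :
    V ⊓ Subgroup.centralizer {g} ⊓ Subgroup.centralizer {y} = ⊥ := by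
  rw [Subgroup.eq_bot_iff_forall]
  intro v hv
  by_contra hv1
  obtain ⟨⟨hvV, hvg⟩, hvy⟩ := hv
  have hvg' : Commute g v := Subgroup.mem_centralizer_iff.mp hvg g (Set.mem_singleton g)
  have hvy' : Commute y v := Subgroup.mem_centralizer_iff.mp hvy y (Set.mem_singleton y)
  obtain ⟨n, hn⟩ := exists_pow_orderOf_eq hp V hV hvV hv1
  have h1 : Commute (v ^ n) g := (hvg'.pow_right n).symm
  have h2 : Commute (v ^ n) y := (hvy'.pow_right n).symm
  exact hN _ (orderOf_mul_mul hp ht ht' hpt hpt' htt' hn hg hy h1 h2 hgy)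

/-- **[4b]** two commuting elements `y, y'` of prime order `t'` of `C(g) ∩ N(V)`, `g` GOOD of prime
order `t`: then `y' ∈ ⟨y⟩` (no `C_t' × C_t'` in `C_K(g)`). -/
theorem mem_zpowers {p t t' : ℕ} (hp : p.Prime) (ht : t.Prime) (ht' : t'.Prime) (hpt : p ≠ t)
    (hpt' : p ≠ t') (htt' : t ≠ t') (V : Subgroup G) (hV : IsPGroup p V) (g y y' : G)
    (hg : orderOf g = t) (hy : orderOf y = t') (hy' : orderOf y' = t')
    (hgy : Commute g y) (hgy' : Commute g y') (hyy' : Commute y y')
    (hyV : y ∈ Subgroup.normalizer (V : Set G))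
    (hy'V : y' ∈ Subgroup.normalizer (V : Set G))
    (hgood : V ⊓ Subgroup.centralizer {g} ≠ ⊥)
    (hN : ∀ x : G, orderOf x ≠ p * t * t') : y' ∈ Subgroup.zpowers y := by
  classical
  by_contra hnot
  have : Fact t'.Prime := ⟨ht'⟩
  have : Fact p.Prime := ⟨hp⟩
  set W : Subgroup G := V ⊓ Subgroup.centralizer {g} with hW
  -- the acting group
  let A : Subgroup G := Subgroup.closure {y, y'}
  have hyA : y ∈ A := Subgroup.subset_closure (by simp)
  have hy'A : y' ∈ A := Subgroup.subset_closure (by simp)
  have hAcomm : ∀ a ∈ A, ∀ b ∈ A, a * b = b * a := by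
    have hgen : ∀ a ∈ ({y, y'} : Set G), ∀ b ∈ ({y, y'} : Set G), a * b = b * a := by
      intro a ha b hb
      rcases ha with rfl | rfl <;> rcases hb with rfl | rfl
      · rfl
      · exact hyy'
      · exact hyy'.symm
      · rfl
    intro a ha b hb
    have hle : A ≤ Subgroup.centralizer (A : Set G) := by
      rw [Subgroup.closure_le]
      intro a ha
      rw [SetLike.mem_coe, Subgroup.mem_centralizer_iff]
      intro b hb
      have hle2 : A ≤ Subgroup.centralizer {a} := by
        rw [Subgroup.closure_le]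
        intro c hc
        rw [SetLike.mem_coe, Subgroup.mem_centralizer_iff]
        intro d hd
        rw [Set.mem_singleton_iff] at hd
        rw [hd]
        exact hgen a ha c hc
      exact (Subgroup.mem_centralizer_iff.mp (hle2 hb) a (Set.mem_singleton a)).symm
    exact (Subgroup.mem_centralizer_iff.mp (hle ha) b hb).symm
  have hApow : ∀ a ∈ A, a ^ t' = 1 := by
    intro a ha
    induction ha using Subgroup.closure_induction with
    | mem x hx =>
      rcases hx with rfl | rfl
      · rw [← hy]; exact pow_orderOf_eq_one _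
      · rw [← hy']; exact pow_orderOf_eq_one _
    | one => exact one_pow _
    | mul a b ha hb iha ihb =>
      rw [(show Commute a b from hAcomm a ha b hb).mul_pow, iha, ihb, one_mul]
    | inv a ha iha => rw [inv_pow, iha, inv_one]
  have hAp : IsPGroup t' A := by
    intro a
    refine ⟨1, ?_⟩
    apply Subtype.ext
    rw [pow_one]
    simpa using hApow a a.2
  have hAg : ∀ a ∈ A, Commute g a := by
    intro a ha
    have hle : A ≤ Subgroup.centralizer {g} := by
      rw [Subgroup.closure_le]
      intro c hc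
      rw [SetLike.mem_coe, Subgroup.mem_centralizer_iff]
      intro d hd
      rw [Set.mem_singleton_iff] at hd
      rw [hd]
      rcases hc with rfl | rfl
      · exact hgy
      · exact hgy'
    exact Subgroup.mem_centralizer_iff.mp (hle ha) g (Set.mem_singleton g)
  have hAV : A ≤ Subgroup.normalizer (V : Set G) := by
    rw [Subgroup.closure_le]
    intro c hc
    rcases hc with rfl | rfl
    · exact hyV
    · exact hy'V
  have hcg : ∀ w : G, w ∈ Subgroup.centralizer {g} ↔ Commute g w := by
    intro w
    rw [Subgroup.mem_centralizer_iff]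
    constructor
    · intro h; exact h g (Set.mem_singleton g)
    · intro h d hd
      rw [Set.mem_singleton_iff] at hd
      rw [hd]; exact h
  have hAW : A ≤ Subgroup.normalizer (W : Set G) := by
    intro a ha
    have haV := hAV ha
    rw [Subgroup.mem_normalizer_iff] at haV ⊢
    intro w
    have hag := hAg a ha
    have key : Commute g (a * w * a⁻¹) ↔ Commute g w := by
      constructor
      · intro h
        have h2 : Commute g (a⁻¹ * (a * w * a⁻¹) * a) :=
          (hag.inv_right.mul_right h).mul_right hag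
        have e : a⁻¹ * (a * w * a⁻¹) * a = w := by group
        rwa [e] at h2
      · intro h
        exact (hag.mul_right h).mul_right hag.inv_right
    rw [hW, Subgroup.mem_inf, Subgroup.mem_inf, hcg, hcg, key, ← haV w]
  have hWp : IsPGroup p W := hV.to_le inf_le_left
  have hcop : (Nat.card A).Coprime (Nat.card W) := by
    obtain ⟨i, hi⟩ := IsPGroup.iff_card.mp hAp
    obtain ⟨j, hj⟩ := IsPGroup.iff_card.mp hWp
    rw [hi, hj]
    exact Nat.Coprime.pow _ _ ((Nat.coprime_primes ht' hp).mpr (Ne.symm hpt'))
  have hca : Cfsg.Agent.Lib.H1.CoprimeAction A W :=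
    ⟨hAW, hcop, Or.inr (IsNilpotent.to_isSolvable (h := hWp.isNilpotent))⟩
  have hWt : (Nat.card W).Coprime t' := by
    obtain ⟨j, hj⟩ := IsPGroup.iff_card.mp hWp
    rw [hj]
    exact Nat.Coprime.pow_left _ ((Nat.coprime_primes hp ht').mpr hpt')
  have hle : W ≤ ⊥ := by
    apply Cfsg.Agent.Lib.H9.le_of_centralizers_le (p := t') hca hWt hyA hy'A hyy'.eq
      (by rw [← hy]; exact pow_orderOf_eq_one _) (by rw [← hy']; exact pow_orderOf_eq_one _)
    · rw [hW, fix_eq_bot hp ht ht' hpt hpt' htt' V hV g y hg hy hgy hN]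
    · intro i
      have hmem : y ^ i * y' ∈ A := A.mul_mem (A.pow_mem hyA i) hy'A
      have hne : y ^ i * y' ≠ 1 := by
        intro h
        apply hnot
        have : y' = (y ^ i)⁻¹ := by rw [← mul_one (y ^ i)⁻¹, ← h]; group
        rw [this]
        exact (Subgroup.zpowers y).inv_mem (Subgroup.npow_mem_zpowers y i)
      have hord : orderOf (y ^ i * y') = t' :=
        orderOf_eq_prime (hApow _ hmem) hne
      rw [hW, fix_eq_bot hp ht ht' hpt hpt' htt' V hV g (y ^ i * y') hg hord (hAg _ hmem) hN]
  exact hgood (le_bot_iff.mp hle)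

end Cfsg.Agent.Lib.H28.S3814CentGood
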