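import Mathlib
import Cfsg.Agent.Lib.H1.CoprimeSylow
import Cfsg.Agent.Lib.H9.CoprimeGeneration

/-!
# S3814, Case 2': the END block (helper28)

`pair_closure`: the subgroup generated by two commuting elements of prime order `t`.
`end_block`: the last step of Case 2' ((12) of helper28's board proof = (F4) of helper15's):
`E = ⟨u1, u2⟩ = C_a × C_a` acts coprimely on `D`; no element `u1 ^ i * u2` centralises an element
of order `c` of `D`; two commuting elements of order `c` of `C_D(u1)` generate the same subgroup;
then an `E`-invariant Sylow `c`-subgroup of `D` cannot contain `C_c × C_c`.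
-/

set_option autoImplicit false

namespace Cfsg.Agent.Lib.H28.S3814End

variable {G : Type*} [Group G]

/-- the subgroup generated by two commuting elements of exponent `t` is abelian of exponent `t` -/
theorem pair_closure {t : ℕ} {y y' : G} (hy : y ^ t = 1) (hy' : y' ^ t = 1) (hyy' : Commute y y') :
    (∀ a ∈ Subgroup.closure ({y, y'} : Set G), ∀ b ∈ Subgroup.closure ({y, y'} : Set G),
      a * b = b * a) ∧ ∀ a ∈ Subgroup.closure ({y, y'} : Set G), a ^ t = 1 := by
  have hgen : ∀ a ∈ ({y, y'} : Set G), ∀ b ∈ ({y, y'} : Set G), a * b = b * a := by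
    intro a ha b hb
    rcases ha with rfl | rfl <;> rcases hb with rfl | rfl
    · rfl
    · exact hyy'
    · exact hyy'.symm
    · rfl
  have hAcomm : ∀ a ∈ Subgroup.closure ({y, y'} : Set G),
      ∀ b ∈ Subgroup.closure ({y, y'} : Set G), a * b = b * a := by
    intro a ha b hb
    have hle : Subgroup.closure ({y, y'} : Set G) ≤
        Subgroup.centralizer (Subgroup.closure ({y, y'} : Set G) : Set G) := by
      rw [Subgroup.closure_le]
      intro a ha
      rw [SetLike.mem_coe, Subgroup.mem_centralizer_iff]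
      intro b hb
      have hle2 : Subgroup.closure ({y, y'} : Set G) ≤ Subgroup.centralizer {a} := by
        rw [Subgroup.closure_le]
        intro c hc
        rw [SetLike.mem_coe, Subgroup.mem_centralizer_iff]
        intro d hd
        rw [Set.mem_singleton_iff] at hd
        rw [hd]
        exact hgen a ha c hc
      exact (Subgroup.mem_centralizer_iff.mp (hle2 hb) a (Set.mem_singleton a)).symm
    exact (Subgroup.mem_centralizer_iff.mp (hle ha) b hb).symm
  refine ⟨hAcomm, ?_⟩
  intro a ha
  induction ha using Subgroup.closure_induction with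
  | mem x hx =>
    rcases hx with rfl | rfl
    · exact hy
    · exact hy'
  | one => exact one_pow _
  | mul a b ha hb iha ihb =>
    rw [(show Commute a b from hAcomm a ha b hb).mul_pow, iha, ihb, one_mul]
  | inv a ha iha => rw [inv_pow, iha, inv_one]

/-- membership in a closure of a pair, for a property closed under the group operations -/
theorem pair_closure_le {y y' : G} {H : Subgroup G} (hy : y ∈ H) (hy' : y' ∈ H) :
    Subgroup.closure ({y, y'} : Set G) ≤ H := by
  rw [Subgroup.closure_le]
  intro c hc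
  rcases hc with rfl | rfl
  · exact hy
  · exact hy'

variable [Finite G]

/-- **END block of Case 2'.** -/
theorem end_block {a c : ℕ} (ha : a.Prime) (hc : c.Prime) (hac : a ≠ c) (D : Subgroup G)
    (u1 u2 : G) (hu1 : u1 ^ a = 1) (hu2 : u2 ^ a = 1) (hu : Commute u1 u2)
    (hu1D : u1 ∈ Subgroup.normalizer (D : Set G)) (hu2D : u2 ∈ Subgroup.normalizer (D : Set G))
    (hcop : (Nat.card D).Coprime a)
    (hR2 : ∀ P : Subgroup G, P ≤ D → Nat.card P = c ^ (Nat.card D).factorization c →
      ∃ z ∈ P, ∃ z' ∈ P, orderOf z = c ∧ orderOf z' = c ∧ z * z' = z' * z ∧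
        z' ∉ Subgroup.zpowers z)
    (hbad : ∀ i : ℕ, ∀ z ∈ D, orderOf z = c → Commute (u1 ^ i * u2) z → False)
    (hone : ∀ z ∈ D, ∀ z' ∈ D, orderOf z = c → orderOf z' = c → z * z' = z' * z →
      Commute u1 z → Commute u1 z' → z' ∈ Subgroup.zpowers z) : False := by
  classical
  have : Fact a.Prime := ⟨ha⟩
  have : Fact c.Prime := ⟨hc⟩
  obtain ⟨hAcomm, hApow⟩ := pair_closure hu1 hu2 hu
  set A : Subgroup G := Subgroup.closure ({u1, u2} : Set G) with hA
  have hu1A : u1 ∈ A := Subgroup.subset_closure (by simp)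
  have hu2A : u2 ∈ A := Subgroup.subset_closure (by simp)
  have hAp : IsPGroup a A := by
    intro x
    refine ⟨1, ?_⟩
    apply Subtype.ext
    rw [pow_one]
    simpa using hApow x x.2
  have hAD : A ≤ Subgroup.normalizer (D : Set G) := pair_closure_le hu1D hu2D
  have hcopAD : (Nat.card A).Coprime (Nat.card D) := by
    obtain ⟨i, hi⟩ := IsPGroup.iff_card.mp hAp
    rw [hi]
    exact Nat.Coprime.pow_left _ hcop.symm
  have hAsolv : Group.IsSolvable A := IsNilpotent.to_isSolvable (h := hAp.isNilpotent)
  have hcaD : Cfsg.Agent.Lib.H1.CoprimeAction A D := ⟨hAD, hcopAD, Or.inl hAsolv⟩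
  obtain ⟨P, hP, hAP⟩ := Cfsg.Agent.Lib.H1.coprime_exists_invariant_sylow hcaD c
  have hPD : P ≤ D := hP.1
  have hPcard : Nat.card P = c ^ (Nat.card D).factorization c := hP.2
  have hPp : IsPGroup c P := IsPGroup.of_card hPcard
  have hcopAP : (Nat.card A).Coprime (Nat.card P) :=
    Nat.Coprime.coprime_dvd_right (Subgroup.card_dvd_of_le hPD) hcopAD
  have hcaP : Cfsg.Agent.Lib.H1.CoprimeAction A P := ⟨hAP, hcopAP, Or.inl hAsolv⟩
  have hPa : (Nat.card P).Coprime a := by
    rw [hPcard]
    exact Nat.Coprime.pow_left _ ((Nat.coprime_primes hc ha).mpr (Ne.symm hac))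
  -- coprime generation: `P ≤ C(u1)`
  have hPle : P ≤ Subgroup.centralizer {u1} := by
    apply Cfsg.Agent.Lib.H9.le_of_centralizers_le (p := a) hcaP hPa hu1A hu2A hu.eq hu1 hu2
    · exact inf_le_right
    · intro i
      have hbot : P ⊓ Subgroup.centralizer {u1 ^ i * u2} = ⊥ := by
        rw [Subgroup.eq_bot_iff_forall]
        intro z hz
        by_contra hz1
        obtain ⟨hzP, hzc⟩ := hz
        -- a power of `z` of order `c`
        obtain ⟨k, hk⟩ := hPp ⟨z, hzP⟩
        have hk' : z ^ (c ^ k) = 1 := by
          have := congrArg Subtype.val hk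
          simpa using this
        have hdvd : orderOf z ∣ c ^ k := orderOf_dvd_of_pow_eq_one hk'
        obtain ⟨j, _, hj⟩ := (Nat.dvd_prime_pow hc).mp hdvd
        have hj0 : j ≠ 0 := by
          rintro rfl
          rw [pow_zero, orderOf_eq_one_iff] at hj
          exact hz1 hj
        have hcd : c ∣ orderOf z := by rw [hj]; exact dvd_pow_self c hj0
        have hord : orderOf (z ^ (orderOf z / c)) = c :=
          orderOf_pow_orderOf_div (orderOf_pos z).ne' hcd
        have hcomm : Commute (u1 ^ i * u2) z :=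
          Subgroup.mem_centralizer_iff.mp hzc _ (Set.mem_singleton _)
        exact hbad i (z ^ (orderOf z / c)) (D.pow_mem (hPD hzP) _) hord (hcomm.pow_right _)
      rw [hbot]
      exact bot_le
  obtain ⟨z, hzP, z', hz'P, hz, hz', hzz', hnot⟩ := hR2 P hPD hPcard
  have h1 : Commute u1 z := Subgroup.mem_centralizer_iff.mp (hPle hzP) u1 (Set.mem_singleton _)
  have h2 : Commute u1 z' := Subgroup.mem_centralizer_iff.mp (hPle hz'P) u1 (Set.mem_singleton _)
  exact hnot (hone z (hPD hzP) z' (hPD hz'P) hz hz' hzz' h1 h2)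

end Cfsg.Agent.Lib.H28.S3814End
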