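/-
helper28 library: a 2-transitive faithful permutation group whose point stabilizer is simple and whose degree is not a
prime power is simple (stated relative to an invariant finite subset).
-/
import Mathlib.GroupTheory.Perm.Cycle.Type
import Mathlib.GroupTheory.Subgroup.Simple
import Mathlib.Tactic.Group

set_option autoImplicit false

namespace Cfsg.Agent.Lib.H28

open scoped Pointwise

theorem isSimpleGroup_of_two_trans {G α : Type*} [Group G] [Finite G] [MulAction G α] [DecidableEq α]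
    (D : Finset α) (hinv : ∀ g : G, ∀ p ∈ D, g • p ∈ D)
    (hfaith : ∀ g : G, (∀ p ∈ D, g • p = p) → g = 1)
    (h2 : ∀ a ∈ D, ∀ b ∈ D, ∀ c ∈ D, ∀ d ∈ D, a ≠ b → c ≠ d → ∃ g : G, g • a = c ∧ g • b = d)
    (a : α) (ha : a ∈ D) (hsimple : IsSimpleGroup ↥(MulAction.stabilizer G a))
    (p q : ℕ) (hp : p.Prime) (hq : q.Prime) (hpq : p ≠ q) (hpD : p ∣ D.card) (hqD : q ∣ D.card) :
    IsSimpleGroup G := by
  classical
  have hnt : Nontrivial G := by
    obtain ⟨x, y, hxy⟩ := hsimple.toNontrivial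
    exact ⟨⟨x.1, y.1, fun h => hxy (Subtype.ext h)⟩⟩
  refine ⟨fun N hN => ?_⟩
  by_cases hbot : N = ⊥
  · exact Or.inl hbot
  right
  -- `N` is transitive on `D`
  obtain ⟨n, hnN, hn1⟩ : ∃ n ∈ N, n ≠ 1 := by
    by_contra hcon
    push Not at hcon
    exact hbot ((Subgroup.eq_bot_iff_forall N).2 hcon)
  obtain ⟨p0, hp0D, hp0⟩ : ∃ p0 ∈ D, n • p0 ≠ p0 := by
    by_contra hcon
    push Not at hcon
    exact hn1 (hfaith n hcon)
  have hNtrans : ∀ c ∈ D, ∀ d ∈ D, ∃ m ∈ N, m • c = d := by
    intro c hc d hd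
    by_cases hcd : c = d
    · exact ⟨1, N.one_mem, by rw [one_smul, hcd]⟩
    · obtain ⟨g, hg1, hg2⟩ := h2 p0 hp0D (n • p0) (hinv n p0 hp0D) c hc d hd (Ne.symm hp0) hcd
      refine ⟨g * n * g⁻¹, hN.conj_mem n hnN g, ?_⟩
      rw [mul_smul, mul_smul, ← hg1, inv_smul_smul, hg2]
  -- the intersection with the point stabilizer
  have hNa : (N.subgroupOf (MulAction.stabilizer G a)).Normal := hN.subgroupOf _
  rcases hsimple.eq_bot_or_eq_top_of_normal _ hNa with hb | ht
  · -- regular case: contradiction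
    exfalso
    have hreg : ∀ m ∈ N, m • a = a → m = 1 := by
      intro m hm hma
      have : (⟨m, MulAction.mem_stabilizer_iff.2 hma⟩ : ↥(MulAction.stabilizer G a))
          ∈ N.subgroupOf (MulAction.stabilizer G a) := Subgroup.mem_subgroupOf.2 hm
      rw [hb, Subgroup.mem_bot] at this
      exact congrArg Subtype.val this
    have hcard : Nat.card N = D.card := by
      rw [← Nat.card_eq_finsetCard]
      apply Nat.card_congr
      refine Equiv.ofBijective (fun m : N => (⟨m.1 • a, hinv m.1 a ha⟩ : ↥D)) ⟨?_, ?_⟩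
      · intro m m' h
        have h' : m.1 • a = m'.1 • a := congrArg Subtype.val h
        have h1 : (m'.1⁻¹ * m.1) • a = a := by rw [mul_smul, h', inv_smul_smul]
        have := hreg _ (N.mul_mem (N.inv_mem m'.2) m.2) h1
        apply Subtype.ext
        have e : m.1 = m'.1 * (m'.1⁻¹ * m.1) := by group
        rw [e, this, mul_one]
      · rintro ⟨d, hd⟩
        obtain ⟨m, hm, hmd⟩ := hNtrans a ha d hd
        exact ⟨⟨m, hm⟩, Subtype.ext hmd⟩
    have : Fact p.Prime := ⟨hp⟩
    have : Fact q.Prime := ⟨hq⟩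
    obtain ⟨x, hx⟩ := exists_prime_orderOf_dvd_card' (G := ↥N) p (by rw [hcard]; exact hpD)
    obtain ⟨y, hy⟩ := exists_prime_orderOf_dvd_card' (G := ↥N) q (by rw [hcard]; exact hqD)
    have hxa : x.1 • a ≠ a := by
      intro h
      have := hreg x.1 x.2 h
      have hx1 : x = 1 := Subtype.ext this
      rw [hx1, orderOf_one] at hx
      exact hp.one_lt.ne hx
    have hya : y.1 • a ≠ a := by
      intro h
      have := hreg y.1 y.2 h
      have hy1 : y = 1 := Subtype.ext this
      rw [hy1, orderOf_one] at hy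
      exact hq.one_lt.ne hy
    obtain ⟨g, hg1, hg2⟩ := h2 a ha (x.1 • a) (hinv x.1 a ha) a ha (y.1 • a) (hinv y.1 a ha)
      (Ne.symm hxa) (Ne.symm hya)
    have hconj : g * x.1 * g⁻¹ = y.1 := by
      have hmem : y.1⁻¹ * (g * x.1 * g⁻¹) ∈ N := N.mul_mem (N.inv_mem y.2) (hN.conj_mem x.1 x.2 g)
      have hfix : (y.1⁻¹ * (g * x.1 * g⁻¹)) • a = a := by
        rw [mul_smul, mul_smul, mul_smul]
        have : g⁻¹ • a = a := by rw [inv_smul_eq_iff, hg1]
        rw [this, hg2, inv_smul_smul]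
      have := hreg _ hmem hfix
      have e : g * x.1 * g⁻¹ = y.1 * (y.1⁻¹ * (g * x.1 * g⁻¹)) := by group
      rw [e, this, mul_one]
    have hord : orderOf x.1 = orderOf y.1 := by
      apply SemiconjBy.orderOf_eq g
      show g * x.1 = y.1 * g
      rw [← hconj]; group
    rw [Subgroup.orderOf_coe, Subgroup.orderOf_coe, hx, hy] at hord
    exact hpq hord
  · -- `N` contains the point stabilizer, hence everything
    rw [eq_top_iff]
    intro g _
    obtain ⟨m, hm, hmg⟩ := hNtrans a ha (g • a) (hinv g a ha)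
    have hfix : (m⁻¹ * g) • a = a := by rw [mul_smul, ← hmg, inv_smul_smul]
    have hmem : (⟨m⁻¹ * g, MulAction.mem_stabilizer_iff.2 hfix⟩ : ↥(MulAction.stabilizer G a))
        ∈ N.subgroupOf (MulAction.stabilizer G a) := by rw [ht]; trivial
    rw [Subgroup.mem_subgroupOf] at hmem
    have e : g = m * (m⁻¹ * g) := by group
    rw [e]
    exact N.mul_mem hm hmem

end Cfsg.Agent.Lib.H28
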