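/-
helper28 library: simplicity of `M12` (the stabilizer of the dodecad of squares) from that of `M11`; transport to all
dodecads (and points of them).
-/
import Cfsg.Agent.Lib.H28.M11Simple
import Cfsg.Agent.Lib.H28.TwoTransSimple

set_option autoImplicit false

namespace Cfsg.Agent.Lib.H28

open Cfsg
open scoped Pointwise

/-- Conjugation by an element of `M24` identifies a subgroup of `↥M24` with a group of permutations. -/
noncomputable def subgroupConjEquiv {g : Equiv.Perm GolayPt} (hg : g ∈ M24) (B : Subgroup ↥M24)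
    (A : Subgroup (Equiv.Perm GolayPt)) (hA : A ≤ M24)
    (hB : ∀ x : ↥M24, x ∈ B ↔ g⁻¹ * x.1 * g ∈ A) : ↥B ≃* ↥A where
  toFun x := ⟨g⁻¹ * x.1.1 * g, (hB x.1).1 x.2⟩
  invFun y := ⟨⟨g * y.1 * g⁻¹, M24.mul_mem (M24.mul_mem hg (hA y.2)) (M24.inv_mem hg)⟩, by
    rw [hB]
    have e : g⁻¹ * (g * y.1 * g⁻¹) * g = y.1 := by group
    show g⁻¹ * (g * y.1 * g⁻¹) * g ∈ A
    rw [e]
    exact y.2⟩
  left_inv x := by
    apply Subtype.ext
    apply Subtype.ext
    show g * (g⁻¹ * x.1.1 * g) * g⁻¹ = x.1.1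
    group
  right_inv y := by
    apply Subtype.ext
    show g⁻¹ * (g * y.1 * g⁻¹) * g = y.1
    group
  map_mul' x y := by
    apply Subtype.ext
    show g⁻¹ * (x.1.1 * y.1.1) * g = (g⁻¹ * x.1.1 * g) * (g⁻¹ * y.1.1 * g)
    group

theorem stabMask_le_M24 (m : ℕ) : stabMask m ≤ M24 := fun _ hg => (mem_stabMask_iff_smul.1 hg).1

theorem G11_le_M24 : G11 ≤ M24 := fun _ hg => (mem_G11.1 hg).1

/-- The point stabilizer in `M12` is `M11`. -/
noncomputable def stabilizerG12Equiv :
    ↥(MulAction.stabilizer ↥(stabMask dod0) (gPt 0)) ≃* ↥G11 where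
  toFun x := ⟨x.1.1, by
    rw [mem_fixSub]
    refine ⟨x.1.2, ?_⟩
    intro k hk
    rw [List.mem_singleton] at hk
    subst hk
    exact MulAction.mem_stabilizer_iff.1 x.2⟩
  invFun y := ⟨⟨y.1, (mem_fixSub.1 y.2).1⟩, by
    rw [MulAction.mem_stabilizer_iff]
    exact (mem_fixSub.1 y.2).2 0 (by simp)⟩
  left_inv x := rfl
  right_inv y := rfl
  map_mul' x y := rfl

/-- `M12` is simple. -/
theorem isSimpleGroup_stabMask_dod0 : IsSimpleGroup ↥(stabMask dod0) := by
  have h11 := isSimpleGroup_G11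
  have hs : IsSimpleGroup ↥(MulAction.stabilizer ↥(stabMask dod0) (gPt 0)) :=
    stabilizerG12Equiv.isSimpleGroup
  have hsmul : ∀ (g : ↥(stabMask dod0)) (p : GolayPt), g • p = g.1 p := fun _ _ => rfl
  apply isSimpleGroup_of_two_trans (G := ↥(stabMask dod0)) (ptsMask dod0) ?_ ?_ ?_ (gPt 0) gPt0_mem_dod0 hs
    2 3 (by norm_num) (by norm_num) (by norm_num) ?_ ?_
  · intro g p hp
    rw [hsmul]
    have := (mem_stabMask_iff_smul.1 g.2).2
    rw [← this, ← Equiv.Perm.smul_def]
    exact Finset.smul_mem_smul_finset hp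
  · intro g hg
    obtain ⟨hgM, hgd⟩ := mem_stabMask_iff_smul.1 g.2
    apply Subtype.ext
    refine dodSharp_dod0 g.1 hgM hgd (fun i : Fin 5 => gPt i.val) ?_ ?_ ?_
    · intro i j hij
      have := congrArg gIdx hij
      rw [gIdx_gPt (by omega), gIdx_gPt (by omega)] at this
      exact Fin.ext this
    · intro i
      rw [mem_ptsMask, gIdx_gPt (by omega)]
      have : ∀ i : Fin 5, dod0.testBit i.val = true := by decide
      exact this i
    · intro i
      apply hg
      rw [mem_ptsMask, gIdx_gPt (by omega)]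
      have : ∀ i : Fin 5, dod0.testBit i.val = true := by decide
      exact this i
  · intro a ha b hb c hc d hd hab hcd
    obtain ⟨g, hg, hgd, hmap⟩ := dodTrans_dod0 2 (by norm_num) ![a, b] ![c, d]
      (injective_pair hab) (injective_pair hcd)
      (by
        intro i
        fin_cases i
        · exact ha
        · exact hb)
      (by
        intro i
        fin_cases i
        · exact hc
        · exact hd)
    exact ⟨⟨g, mem_stabMask_iff_smul.2 ⟨hg, hgd⟩⟩, hmap 0, hmap 1⟩
  · rw [card_ptsMask]; decide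
  · rw [card_ptsMask]; decide

/-- Transport: for every dodecad there is an element of `M24` mapping the dodecad of squares to it. -/
theorem exists_M24_smul_ptsMask_dod0 {d : Finset GolayPt} (hd : d ∈ dodecads) :
    ∃ g ∈ M24, g • ptsMask dod0 = d := by
  obtain ⟨g, hg, h⟩ := exists_M24_smul_dod0 hd
  exact ⟨g, hg, by rw [ptsMask_eq_support₂]; exact h⟩

/-- ... and moreover the point `0` to a given point of it. -/
theorem exists_M24_smul_ptsMask_dod0_point {d : Finset GolayPt} (hd : d ∈ dodecads) {p : GolayPt}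
    (hp : p ∈ d) : ∃ g ∈ M24, g • ptsMask dod0 = d ∧ g (gPt 0) = p := by
  obtain ⟨g0, hg0, hd0⟩ := exists_M24_smul_ptsMask_dod0 hd
  have h0 : g0 (gPt 0) ∈ d := by
    rw [← hd0, ← Equiv.Perm.smul_def]
    exact Finset.smul_mem_smul_finset gPt0_mem_dod0
  obtain ⟨k, hk, hkd, hmap⟩ := dodTrans_of_mem hd 1 (by norm_num) (fun _ => g0 (gPt 0)) (fun _ => p)
    (Function.injective_of_subsingleton _) (Function.injective_of_subsingleton _)
    (fun _ => h0) (fun _ => hp)
  refine ⟨k * g0, M24.mul_mem hk hg0, ?_, ?_⟩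
  · rw [mul_smul, hd0, hkd]
  · rw [Equiv.Perm.mul_apply]
    exact hmap 0

theorem isSimpleGroup_stabilizer_dodecad {d : Finset GolayPt} (hd : d ∈ dodecads) :
    IsSimpleGroup (MulAction.stabilizer M24 d) := by
  obtain ⟨g, hg, hgd⟩ := exists_M24_smul_ptsMask_dod0 hd
  have := isSimpleGroup_stabMask_dod0
  refine (subgroupConjEquiv hg (MulAction.stabilizer M24 d) (stabMask dod0) (stabMask_le_M24 _) ?_).isSimpleGroup
  intro x
  rw [MulAction.mem_stabilizer_iff, mem_stabMask_iff_smul]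
  constructor
  · intro hx
    refine ⟨M24.mul_mem (M24.mul_mem (M24.inv_mem hg) x.2) hg, ?_⟩
    rw [mul_smul, mul_smul, hgd]
    have hx' : x.1 • d = d := hx
    rw [hx', ← hgd, inv_smul_smul]
  · rintro ⟨-, hx⟩
    show x.1 • d = d
    rw [mul_smul, mul_smul, hgd, inv_smul_eq_iff, hgd] at hx
    exact hx

theorem isSimpleGroup_stabilizer_dodecad_point {d : Finset GolayPt} (hd : d ∈ dodecads) {p : GolayPt}
    (hp : p ∈ d) : IsSimpleGroup ↥(MulAction.stabilizer M24 d ⊓ MulAction.stabilizer M24 p) := by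
  obtain ⟨g, hg, hgd, hgp⟩ := exists_M24_smul_ptsMask_dod0_point hd hp
  have := isSimpleGroup_G11
  refine (subgroupConjEquiv hg (MulAction.stabilizer M24 d ⊓ MulAction.stabilizer M24 p) G11 G11_le_M24
    ?_).isSimpleGroup
  intro x
  rw [Subgroup.mem_inf, MulAction.mem_stabilizer_iff, MulAction.mem_stabilizer_iff, mem_G11]
  constructor
  · rintro ⟨hx1, hx2⟩
    have hx1' : x.1 • d = d := hx1
    have hx2' : x.1 p = p := hx2
    refine ⟨M24.mul_mem (M24.mul_mem (M24.inv_mem hg) x.2) hg, ?_, ?_⟩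
    · rw [mul_smul, mul_smul, hgd, hx1', ← hgd, inv_smul_smul]
    · rw [Equiv.Perm.mul_apply, Equiv.Perm.mul_apply, hgp, hx2', ← hgp, Equiv.Perm.inv_def,
        Equiv.symm_apply_apply]
  · rintro ⟨-, hx1, hx2⟩
    constructor
    · show x.1 • d = d
      rw [mul_smul, mul_smul, hgd, inv_smul_eq_iff, hgd] at hx1
      exact hx1
    · show x.1 p = p
      rw [Equiv.Perm.mul_apply, Equiv.Perm.mul_apply, hgp, Equiv.Perm.inv_def, Equiv.symm_apply_eq, hgp] at hx2
      exact hx2

end Cfsg.Agent.Lib.H28
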