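import Mathlib
import Cfsg.Agent.S0992
import Cfsg.Agent.Lib.H5.Ord.GenTests3
import Cfsg.Agent.Lib.H5.Ord.SylPrime2
import Cfsg.Agent.Lib.H5.Ord.NCInv
import Cfsg.Agent.Lib.H5.Ord.Ord4080b
import Cfsg.Agent.Lib.H5.OrderCount
import Cfsg.Agent.Lib.H5.KleinSylow
import Cfsg.Agent.Lib.H16.ThompsonTransfer

/-! # Tools for S4274 (orders `19 d`, `d ∣ 9240`) -/

set_option autoImplicit false

namespace Cfsg.Agent.Lib.H28.J1Ord

open Subgroup

variable {G : Type*} [Group G] [Finite G]

/-- Sylow subgroups for the same prime have the same order. -/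
theorem card_sylow_eq {p : ℕ} [Fact p.Prime] (P Q : Sylow p G) :
    Nat.card (P : Subgroup G) = Nat.card (Q : Subgroup G) := by
  rw [Sylow.card_eq_multiplicity, Sylow.card_eq_multiplicity]

/-- conjugation of a subgroup into another subgroup -/
theorem card_dvd_of_conj_le {P H : Subgroup G} (g : G)
    (h : ∀ x ∈ P, g * x * g⁻¹ ∈ H) : Nat.card P ∣ Nat.card H := by
  have hle : P.map (MulAut.conj g).toMonoidHom ≤ H := by
    rintro _ ⟨x, hx, rfl⟩
    simpa using h x hx
  have := Subgroup.card_dvd_of_le hle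
  rwa [Subgroup.card_map_of_injective (MulAut.conj g).injective] at this

/-- (X) cross-prime symmetry. -/
theorem dvd_card_centralizer_symm {p q : ℕ} [Fact p.Prime] [Fact q.Prime]
    (P : Sylow p G) (Q : Sylow q G) (hQ : Nat.card (Q : Subgroup G) = q)
    (h : q ∣ Nat.card (centralizer ((P : Subgroup G) : Set G))) :
    Nat.card (P : Subgroup G) ∣ Nat.card (centralizer ((Q : Subgroup G) : Set G)) := by
  obtain ⟨y, hy⟩ := exists_prime_orderOf_dvd_card' (G := centralizer ((P : Subgroup G) : Set G)) q h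
  have hyo : orderOf (y : G) = q := by rw [Subgroup.orderOf_coe]; exact hy
  have hyC : (y : G) ∈ centralizer ((P : Subgroup G) : Set G) := y.2
  obtain ⟨Q', hQ'⟩ := Cfsg.Agent.Lib.H5.exists_sylow_mem_of_orderOf_eq (y : G) hyo
  have hQ'c : Nat.card (Q' : Subgroup G) = q := by rw [card_sylow_eq Q' Q, hQ]
  have hz := Cfsg.Agent.Lib.H5.zpowers_eq_sylow_of_mem Q' hQ'c (y : G) hyo hQ'
  obtain ⟨g, hg⟩ := MulAction.exists_smul_eq G Q' Q
  apply card_dvd_of_conj_le g
  intro x hx
  rw [mem_centralizer_iff]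
  intro w hw
  have hw2 : w ∈ (g • Q' : Sylow q G) := by rw [hg]; exact hw
  have hw' : g⁻¹ * w * g ∈ (Q' : Subgroup G) :=
    (Cfsg.Agent.Lib.H5.sylow_mem_smul_iff g Q' w).mp hw2
  rw [← hz] at hw'
  -- x commutes with every power of y
  have hxy : ∀ v ∈ zpowers (y : G), v * x = x * v := by
    intro v hv
    obtain ⟨k, rfl⟩ := mem_zpowers_iff.mp hv
    have hc : Commute (y : G) x := (mem_centralizer_iff.mp hyC x hx).symm
    exact (hc.zpow_left k).eq
  have := hxy _ hw'
  calc w * (g * x * g⁻¹) = g * ((g⁻¹ * w * g) * x) * g⁻¹ := by group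
    _ = g * (x * (g⁻¹ * w * g)) * g⁻¹ := by rw [this]
    _ = g * x * g⁻¹ * w := by group

/-- (NS) normal Sylow subgroup of `C(P)` forced by numerology. -/
theorem exists_sylow_normalizer_le {p q : ℕ} [Fact p.Prime] [Fact q.Prime] (hpq : p ≠ q)
    (P : Sylow p G) (hP : Nat.card (P : Subgroup G) = p) (hq2 : ¬ q ^ 2 ∣ Nat.card G)
    (hq : q ∣ Nat.card (centralizer ((P : Subgroup G) : Set G)))
    (hnum : ∀ n : ℕ, n ∣ Nat.card (centralizer ((P : Subgroup G) : Set G)) / (p * q) →
      n % q = 1 → n = 1) :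
    ∃ Q : Sylow q G, normalizer ((P : Subgroup G) : Set G) ≤ normalizer ((Q : Subgroup G) : Set G) := by
  have hp : p.Prime := Fact.out
  have hqp : q.Prime := Fact.out
  set C := centralizer ((P : Subgroup G) : Set G) with hC
  have hPC : (P : Subgroup G) ≤ C := Cfsg.Agent.Lib.H5.SylPrime.le_centralizer_of_card_prime _ hP
  -- a Sylow q-subgroup of C
  let Q₀ : Sylow q C := default
  -- its order is q
  have hQ₀dvd : q ∣ Nat.card (Q₀ : Subgroup C) := Q₀.dvd_card_of_dvd_card hq
  have hQ₀c : Nat.card (Q₀ : Subgroup C) = q := by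
    obtain ⟨a, ha⟩ := IsPGroup.iff_card.mp Q₀.2
    have ha1 : a ≠ 0 := by
      rintro rfl
      rw [ha, pow_zero] at hQ₀dvd
      exact hqp.one_lt.ne' (Nat.dvd_one.mp hQ₀dvd)
    have ha2 : a < 2 := by
      by_contra hcon
      push Not at hcon
      apply hq2
      have h1 : q ^ 2 ∣ q ^ a := pow_dvd_pow q hcon
      have h2 : Nat.card (Q₀ : Subgroup C) ∣ Nat.card C := Subgroup.card_subgroup_dvd_card _
      have h3 : Nat.card C ∣ Nat.card G := Subgroup.card_subgroup_dvd_card _
      exact h1.trans (ha ▸ h2.trans h3)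
    have : a = 1 := by omega
    rw [ha, this, pow_one]
  -- number of Sylow q-subgroups of C
  have hn1 : Nat.card (Sylow q C) % q = 1 := by
    have := card_sylow_modEq_one q C
    rw [Nat.ModEq, Nat.mod_eq_of_lt hqp.one_lt] at this
    exact this
  have hidx : Nat.card (Sylow q C) = (normalizer ((Q₀ : Subgroup C) : Set C)).index :=
    Sylow.card_eq_index_normalizer Q₀
  -- p q ∣ |N_C(Q₀)|
  have hPN : (P : Subgroup G).subgroupOf C ≤ normalizer ((Q₀ : Subgroup C) : Set C) := by
    intro x hx
    rw [mem_subgroupOf] at hx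
    rw [mem_normalizer_iff]
    intro h
    -- x is central in C
    have hcomm : x * h * x⁻¹ = h := by
      have := (mem_centralizer_iff.mp h.2 (x : G) hx)
      apply Subtype.ext
      push_cast
      calc (x : G) * h * (x : G)⁻¹ = (h * x) * (x : G)⁻¹ := by rw [this]
        _ = h := by group
    rw [hcomm]
  have hpN : p ∣ Nat.card (normalizer ((Q₀ : Subgroup C) : Set C)) := by
    have h1 := Subgroup.card_dvd_of_le hPN
    have h2 : Nat.card ((P : Subgroup G).subgroupOf C) = p :=
      (Nat.card_congr (Subgroup.subgroupOfEquivOfLe hPC).toEquiv).trans hP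
    rwa [h2] at h1
  have hqN : q ∣ Nat.card (normalizer ((Q₀ : Subgroup C) : Set C)) := by
    have h1 := Subgroup.card_dvd_of_le (le_normalizer (H := (Q₀ : Subgroup C)))
    rwa [hQ₀c] at h1
  have hpqN : p * q ∣ Nat.card (normalizer ((Q₀ : Subgroup C) : Set C)) :=
    Nat.Coprime.mul_dvd_of_dvd_of_dvd ((Nat.coprime_primes hp hqp).mpr hpq) hpN hqN
  have hcm := (normalizer ((Q₀ : Subgroup C) : Set C)).card_mul_index
  have hdiv : Nat.card (Sylow q C) ∣ Nat.card C / (p * q) := by
    obtain ⟨t, ht⟩ := hpqN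
    rw [hidx]
    rw [ht] at hcm
    have hpos : 0 < p * q := Nat.mul_pos hp.pos hqp.pos
    have : Nat.card C / (p * q) = t * (normalizer ((Q₀ : Subgroup C) : Set C)).index := by
      rw [← hcm, mul_assoc, Nat.mul_div_cancel_left _ hpos]
    rw [this]
    exact Dvd.intro_left _ rfl
  have hone : Nat.card (Sylow q C) = 1 := hnum _ hdiv hn1
  have hsub : Subsingleton (Sylow q C) := (Nat.card_eq_one_iff_unique.mp hone).1
  -- the subgroup Q of G
  set Qg : Subgroup G := (Q₀ : Subgroup C).map C.subtype with hQg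
  have hQgc : Nat.card Qg = q := by
    rw [hQg, Subgroup.card_subtype, hQ₀c]
  have hQgp : IsPGroup q Qg := IsPGroup.of_card (n := 1) (by rw [hQgc, pow_one])
  obtain ⟨Q, hQ⟩ := hQgp.exists_le_sylow
  have hQc : Nat.card (Q : Subgroup G) = q := by
    have hqG : q ∣ Nat.card G := hq.trans (Subgroup.card_subgroup_dvd_card _)
    obtain ⟨a, ha⟩ := IsPGroup.iff_card.mp Q.2
    have ha1 : a ≠ 0 := by
      rintro rfl
      have h1 := Q.dvd_card_of_dvd_card hqG
      rw [ha, pow_zero] at h1
      exact hqp.one_lt.ne' (Nat.dvd_one.mp h1)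
    have ha2 : a < 2 := by
      by_contra hcon
      push Not at hcon
      apply hq2
      have h1 : q ^ 2 ∣ q ^ a := pow_dvd_pow q hcon
      exact h1.trans (ha ▸ Subgroup.card_subgroup_dvd_card _)
    have : a = 1 := by omega
    rw [ha, this, pow_one]
  have hQeq : Qg = (Q : Subgroup G) := Subgroup.eq_of_le_of_card_ge hQ (by rw [hQc, hQgc])
  refine ⟨Q, ?_⟩
  -- every q-subgroup of C lies in Q₀
  have huniq : ∀ R : Subgroup C, IsPGroup q R → R ≤ (Q₀ : Subgroup C) := by
    intro R hR
    obtain ⟨S, hS⟩ := hR.exists_le_sylow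
    rwa [Subsingleton.elim S Q₀] at hS
  -- g ∈ N(P) maps Qg into Qg
  have key : ∀ g ∈ normalizer ((P : Subgroup G) : Set G), ∀ x ∈ Qg, g * x * g⁻¹ ∈ Qg := by
    intro g hg x hx
    -- the conjugate subgroup
    have hxC : x ∈ C := by
      rw [hQg] at hx
      obtain ⟨x', -, rfl⟩ := hx
      exact x'.2
    have hconjC : ∀ y ∈ Qg, g * y * g⁻¹ ∈ C := by
      intro y hy
      have hyC : y ∈ C := by
        rw [hQg] at hy
        obtain ⟨y', -, rfl⟩ := hy
        exact y'.2
      exact Cfsg.Agent.Lib.H5.SylPrime.conj_mem_centralizer_of_mem_normalizer _ hg hyC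
    set R' : Subgroup G := Qg.map (MulAut.conj g).toMonoidHom with hR'
    have hR'C : R' ≤ C := by
      rintro _ ⟨y, hy, rfl⟩
      simpa using hconjC y hy
    have hR'c : Nat.card R' = q := by
      rw [hR', Subgroup.card_map_of_injective (MulAut.conj g).injective, hQgc]
    have hRp : IsPGroup q (R'.subgroupOf C) := by
      apply IsPGroup.of_card (n := 1)
      rw [pow_one, ← hR'c]
      exact Nat.card_congr (Subgroup.subgroupOfEquivOfLe hR'C).toEquiv
    have hle := huniq _ hRp
    have hmem : g * x * g⁻¹ ∈ R' := ⟨x, hx, by simp⟩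
    have h1 : (⟨g * x * g⁻¹, hR'C hmem⟩ : C) ∈ R'.subgroupOf C := by
      rw [mem_subgroupOf]; exact hmem
    have h2 := hle h1
    rw [hQg]
    exact ⟨_, h2, rfl⟩
  intro g hg
  rw [← hQeq]
  rw [mem_normalizer_iff]
  intro h
  constructor
  · intro hh
    exact key g hg h hh
  · intro hh
    have := key g⁻¹ (inv_mem hg) _ hh
    rw [inv_inv] at this
    have e : g⁻¹ * (g * h * g⁻¹) * g = h := by group
    rwa [e] at this

/-- (NS), numerical form. -/
theorem ns_numeric {p q : ℕ} [Fact p.Prime] [Fact q.Prime] (hpq : p ≠ q)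
    (P : Sylow p G) (hP : Nat.card (P : Subgroup G) = p) (hq2 : ¬ q ^ 2 ∣ Nat.card G)
    (hq : q ∣ Nat.card (centralizer ((P : Subgroup G) : Set G)))
    (hnum : ∀ n : ℕ, n ∣ Nat.card (centralizer ((P : Subgroup G) : Set G)) / (p * q) →
      n % q = 1 → n = 1) :
    ∃ k : ℕ, Nat.card (Sylow p G) = Nat.card (Sylow q G) * k ∧ k % p = 1 := by
  have hp : p.Prime := Fact.out
  obtain ⟨Q, hQ⟩ := exists_sylow_normalizer_le hpq P hP hq2 hq hnum
  set L := normalizer ((Q : Subgroup G) : Set G) with hL
  set N := normalizer ((P : Subgroup G) : Set G) with hN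
  have hPL : (P : Subgroup G) ≤ L := le_normalizer.trans hQ
  have hmod := Cfsg.Agent.Lib.H5.SylPrime.relIndex_normalizer_modEq_one' P hPL
  refine ⟨N.relIndex L, ?_, ?_⟩
  · have h1 := Cfsg.Agent.Lib.H5.card_normalizer_mul_card_sylow P
    have h2 := Cfsg.Agent.Lib.H5.card_normalizer_mul_card_sylow Q
    have h3 : Nat.card N * N.relIndex L = Nat.card L :=
      Cfsg.Agent.Lib.H5.SylPrime.card_mul_relIndex_of_le hQ
    have hNpos : 0 < Nat.card N := Nat.card_pos
    apply Nat.eq_of_mul_eq_mul_left hNpos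
    rw [h1, ← h2, ← h3]
    ring
  · rw [Nat.ModEq, Nat.mod_eq_of_lt hp.one_lt] at hmod
    exact hmod


/-- an element of order dividing 2 and an odd prime `p` is trivial -/
theorem eq_one_of_sq_of_mem {p : ℕ} [Fact p.Prime] (hp2 : p ≠ 2) (P : Subgroup G)
    (hP : Nat.card P = p) {x : G} (hx : x ∈ P) (hx2 : x * x = 1) : x = 1 := by
  have hp : p.Prime := Fact.out
  by_contra h1
  have ho := Cfsg.Agent.Lib.H5.orderOf_eq_of_mem_of_card_prime P hP x hx h1
  have h2 : orderOf x ∣ 2 := orderOf_dvd_of_pow_eq_one (by rw [pow_two]; exact hx2)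
  rw [ho] at h2
  have := (Nat.prime_dvd_prime_iff_eq hp Nat.prime_two).mp h2
  exact hp2 this

/-- (CZ) -/
theorem exists_invol_of_card_centralizer {p : ℕ} [Fact p.Prime] (hp2 : p ≠ 2)
    (P : Sylow p G) (hP : Nat.card (P : Subgroup G) = p)
    (hC : Nat.card (centralizer ((P : Subgroup G) : Set G)) = 2 * p) :
    ∃ (z : G) (k : ℕ), orderOf z = 2 ∧
      normalizer ((P : Subgroup G) : Set G) ≤ centralizer ({z} : Set G) ∧
      Nat.card (centralizer ({z} : Set G)) =
        Nat.card (normalizer ((P : Subgroup G) : Set G)) * k ∧ k % p = 1 := by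
  have hp : p.Prime := Fact.out
  have : Fact (Nat.Prime 2) := ⟨Nat.prime_two⟩
  set C := centralizer ((P : Subgroup G) : Set G) with hCdef
  have hPC : (P : Subgroup G) ≤ C := Cfsg.Agent.Lib.H5.SylPrime.le_centralizer_of_card_prime _ hP
  obtain ⟨z', hz'⟩ := exists_prime_orderOf_dvd_card' (G := C) 2 (by rw [hC]; exact Dvd.intro _ rfl)
  set z : G := (z' : G) with hz
  have hzo : orderOf z = 2 := by rw [hz, Subgroup.orderOf_coe]; exact hz'
  have hzC : z ∈ C := z'.2
  have hz2 : z * z = 1 := by
    have := pow_orderOf_eq_one z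
    rwa [hzo, pow_two] at this
  have hz1 : z ≠ 1 := by
    intro h; rw [h, orderOf_one] at hzo; omega
  -- index of P in C is 2
  have hrel : (P : Subgroup G).relIndex C = 2 := by
    have := Cfsg.Agent.Lib.H5.SylPrime.card_mul_relIndex_of_le hPC
    rw [hP, hC] at this
    have hpos : 0 < p := hp.pos
    nlinarith
  -- uniqueness of the involution in C
  have huniq : ∀ w ∈ C, w * w = 1 → w ≠ 1 → w = z := by
    intro w hwC hw2 hw1
    have hzP : z ∉ (P : Subgroup G) := fun h => hz1 (eq_one_of_sq_of_mem hp2 _ hP h hz2)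
    have hwP : w ∉ (P : Subgroup G) := fun h => hw1 (eq_one_of_sq_of_mem hp2 _ hP h hw2)
    -- z⁻¹ * w ∈ P
    have hmem : (⟨z, hzC⟩ : C)⁻¹ * ⟨w, hwC⟩ ∈ (P : Subgroup G).subgroupOf C := by
      have hidx : ((P : Subgroup G).subgroupOf C).index = 2 := hrel
      rw [Subgroup.mul_mem_iff_of_index_two hidx]
      constructor
      · intro h
        exfalso
        apply hzP
        have := inv_mem h
        rw [inv_inv, mem_subgroupOf] at this
        exact this
      · intro h
        exfalso
        rw [mem_subgroupOf] at h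
        exact hwP h
    rw [mem_subgroupOf] at hmem
    have hx : z⁻¹ * w ∈ (P : Subgroup G) := by simpa using hmem
    -- z commutes with x := z⁻¹ w
    have hcomm : (z⁻¹ * w) * z = z * (z⁻¹ * w) := (mem_centralizer_iff.mp hzC _ hx)
    have hzinv : z⁻¹ = z := inv_eq_of_mul_eq_one_left hz2
    have hxx : (z⁻¹ * w) * (z⁻¹ * w) = 1 := by
      have e : z⁻¹ * w = z * w := by rw [hzinv]
      calc (z⁻¹ * w) * (z⁻¹ * w) = ((z⁻¹ * w) * z) * w := by rw [e]; group
        _ = (z * (z⁻¹ * w)) * w := by rw [hcomm]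
        _ = w * w := by group
        _ = 1 := hw2
    have := eq_one_of_sq_of_mem hp2 _ hP hx hxx
    have : w = z := by
      have e : w = z * (z⁻¹ * w) := by group
      rw [e, this, mul_one]
    exact this
  have hNle : normalizer ((P : Subgroup G) : Set G) ≤ centralizer ({z} : Set G) := by
    intro g hg
    rw [mem_centralizer_singleton_iff]
    have hc := Cfsg.Agent.Lib.H5.SylPrime.conj_mem_centralizer_of_mem_normalizer _ hg hzC
    have h2 : (g * z * g⁻¹) * (g * z * g⁻¹) = 1 := by
      calc (g * z * g⁻¹) * (g * z * g⁻¹) = g * (z * z) * g⁻¹ := by group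
        _ = 1 := by rw [hz2]; group
    have h1 : g * z * g⁻¹ ≠ 1 := by
      intro h
      apply hz1
      have e : z = g⁻¹ * (g * z * g⁻¹) * g := by group
      rw [e, h]; group
    have := huniq _ hc h2 h1
    calc g * z = (g * z * g⁻¹) * g := by group
      _ = z * g := by rw [this]
  set L := centralizer ({z} : Set G) with hL
  have hPL : (P : Subgroup G) ≤ L := le_normalizer.trans hNle
  have hmod := Cfsg.Agent.Lib.H5.SylPrime.relIndex_normalizer_modEq_one' P hPL
  refine ⟨z, (normalizer ((P : Subgroup G) : Set G)).relIndex L, hzo, hNle, ?_, ?_⟩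
  · exact (Cfsg.Agent.Lib.H5.SylPrime.card_mul_relIndex_of_le hNle).symm
  · rw [Nat.ModEq, Nat.mod_eq_of_lt hp.one_lt] at hmod
    exact hmod


/-- conjugation preserves the order -/
theorem orderOf_conj_eq (g x : G) : orderOf (g * x * g⁻¹) = orderOf x := by
  have := orderOf_injective (MulAut.conj g).toMonoidHom (MulAut.conj g).injective x
  simpa using this

/-- the only involution of a cyclic group of order four is the square of the generator -/
theorem eq_sq_of_mem_zpowers {r w : G} (hr : orderOf r = 4) (hw : w ∈ zpowers r)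
    (hw2 : orderOf w = 2) : w = r * r := by
  obtain ⟨k, rfl⟩ := mem_zpowers_iff.mp hw
  have h1 : r ^ k = r ^ (k % 4) := by
    have := zpow_mod_orderOf r k
    rw [hr] at this
    exact this.symm
  have hj : k % 4 = 0 ∨ k % 4 = 1 ∨ k % 4 = 2 ∨ k % 4 = 3 := by omega
  rw [h1] at hw2 ⊢
  rcases hj with h | h | h | h <;> rw [h] at hw2 ⊢
  · rw [zpow_zero, orderOf_one] at hw2; omega
  · rw [zpow_one, hr] at hw2; omega
  · exact zpow_two r
  · exfalso
    have e : r ^ (3 : ℤ) = r ^ (3 : ℕ) := zpow_ofNat r 3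
    rw [e, orderOf_pow' r (by norm_num : (3 : ℕ) ≠ 0), hr] at hw2
    norm_num at hw2

/-- (TT8) Thompson transfer: in a simple group with Sylow 2-subgroups of order 8 the
centralizer of every involution has order divisible by 8. -/
theorem eight_dvd_card_centralizer_invol [IsSimpleGroup G] (hnc : ¬ IsMulCommutative G)
    (S : Sylow 2 G) (hS : Nat.card (S : Subgroup G) = 8) (z : G) (hz : orderOf z = 2) :
    8 ∣ Nat.card (centralizer ({z} : Set G)) := by
  have : Fact (Nat.Prime 2) := ⟨Nat.prime_two⟩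
  obtain ⟨S', hzS'⟩ := Cfsg.Agent.Lib.H5.exists_sylow_mem_of_orderOf_eq z hz
  have hS' : Nat.card (S' : Subgroup G) = 8 := by rw [card_sylow_eq S' S, hS]
  have h8G : 8 ∣ Nat.card G := hS' ▸ Subgroup.card_subgroup_dvd_card _
  by_cases h4 : ∃ r ∈ (S' : Subgroup G), orderOf r = 4
  · -- Thompson transfer
    obtain ⟨r, hrS, hr⟩ := h4
    by_contra hcon8
    set M : Subgroup G := zpowers r with hM
    have hMS : M ≤ (S' : Subgroup G) := by rw [hM, zpowers_le]; exact hrS
    have hMc : Nat.card M = 4 := by rw [hM, Nat.card_zpowers, hr]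
    have hM2 : M.relIndex (S' : Subgroup G) = 2 := by
      have := Cfsg.Agent.Lib.H5.SylPrime.card_mul_relIndex_of_le hMS
      rw [hMc, hS'] at this
      omega
    have hnorm : (M.subgroupOf (S' : Subgroup G)).Normal := Subgroup.normal_of_index_eq_two hM2
    set c : G := r * r with hc
    have hcM : c ∈ M := mul_mem (mem_zpowers r) (mem_zpowers r)
    have hco : orderOf c = 2 := by
      have e : c = r ^ 2 := (pow_two r).symm
      rw [e, orderOf_pow' r (by norm_num : (2 : ℕ) ≠ 0), hr]
      decide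
    -- c is central in S'
    have hcent : (S' : Subgroup G) ≤ centralizer ({c} : Set G) := by
      intro s hs
      rw [mem_centralizer_singleton_iff]
      have h1 : (⟨s, hs⟩ : (S' : Subgroup G)) * ⟨c, hMS hcM⟩ * (⟨s, hs⟩ : (S' : Subgroup G))⁻¹ ∈
          M.subgroupOf (S' : Subgroup G) := by
        apply hnorm.conj_mem
        rw [mem_subgroupOf]
        exact hcM
      rw [mem_subgroupOf] at h1
      have h2 : s * c * s⁻¹ ∈ M := by simpa using h1
      have h3 := eq_sq_of_mem_zpowers hr h2 (by rw [orderOf_conj_eq, hco])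
      calc s * c = (s * c * s⁻¹) * s := by group
        _ = c * s := by rw [h3]
    have hconM : ∀ g : G, g * z * g⁻¹ ∉ M := by
      intro g hg
      have h3 := eq_sq_of_mem_zpowers hr hg (by rw [orderOf_conj_eq, hz])
      apply hcon8
      rw [← Cfsg.Agent.Lib.H5.Ord4080.card_centralizer_conj g z, h3, ← hS']
      exact Subgroup.card_dvd_of_le hcent
    obtain ⟨K, hKn, hKi, -⟩ := Cfsg.Agent.Lib.H16.exists_normal_index_two_not_mem S' M hM2 1
      (by
        intro y hy hyM
        rw [Nat.sub_self, pow_zero]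
        have hy1 : y ≠ 1 := fun h => hyM (h ▸ M.one_mem)
        have := orderOf_pos y
        have h1 : orderOf y ≠ 1 := fun h => hy1 (orderOf_eq_one_iff.mp h)
        omega)
      z (by rw [hz, pow_one]) hconM
    rcases hKn.eq_bot_or_eq_top with hb | ht
    · rw [hb, Subgroup.index_bot] at hKi
      omega
    · rw [ht, Subgroup.index_top] at hKi
      omega
  · -- exponent two, hence abelian
    push Not at h4
    have hsq : ∀ a ∈ (S' : Subgroup G), a * a = 1 := by
      intro a ha
      have hd : orderOf a ∣ 8 := hS' ▸ Subgroup.orderOf_dvd_natCard _ ha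
      have hle : orderOf a ≤ 8 := Nat.le_of_dvd (by norm_num) hd
      have hpos := orderOf_pos a
      have h4a := h4 a ha
      have h8a : orderOf a ≠ 8 := by
        intro h8
        apply h4 (a ^ 2) (pow_mem ha 2)
        rw [orderOf_pow' a (by norm_num : (2 : ℕ) ≠ 0), h8]
        decide
      have h12 : orderOf a = 1 ∨ orderOf a = 2 := by
        interval_cases (orderOf a) <;> omega
      have : a ^ 2 = 1 := by
        rcases h12 with h | h
        · rw [orderOf_eq_one_iff.mp h, one_pow]
        · rw [← h]; exact pow_orderOf_eq_one a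
      rwa [pow_two] at this
    have hle : (S' : Subgroup G) ≤ centralizer ({z} : Set G) := by
      intro s hs
      rw [mem_centralizer_singleton_iff]
      have h1 := hsq (s * z) (mul_mem hs hzS')
      have h2 := hsq s hs
      have h3 := hsq z hzS'
      calc s * z = s * (s * z * (s * z)) * z := by rw [h1, mul_one]
        _ = (s * s) * z * s * (z * z) := by group
        _ = z * s := by rw [h2, h3, one_mul, mul_one]
    rw [← hS']
    exact Subgroup.card_dvd_of_le hle

/-- (V4) in a non-abelian simple group with Sylow 2-subgroups of order 4 all involutions are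
conjugate. -/
theorem isConj_invol_of_sylow_four [IsSimpleGroup G] (hnc : ¬ IsMulCommutative G)
    (S : Sylow 2 G) (hS : Nat.card (S : Subgroup G) = 4) (s t : G) (hs : orderOf s = 2)
    (ht : orderOf t = 2) : IsConj s t := by
  have : Fact (Nat.Prime 2) := ⟨Nat.prime_two⟩
  have h4G : 4 ∣ Nat.card G := hS ▸ Subgroup.card_subgroup_dvd_card _
  have h2 : Even (Nat.card G) := by
    rw [even_iff_two_dvd]; exact (by norm_num : 2 ∣ 4).trans h4G
  have h8 : ¬ 8 ∣ Nat.card G := by
    intro h
    have := S.pow_dvd_card_of_pow_dvd_card (n := 3) (by norm_num; exact h)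
    rw [hS] at this
    norm_num at this
  obtain ⟨hK, hrel⟩ := Cfsg.Agent.S0992.result hnc h2 h8 S
  -- an element of the normalizer not in the centralizer
  have hex : ∃ n ∈ normalizer ((S : Subgroup G) : Set G),
      n ∉ centralizer ((S : Subgroup G) : Set G) := by
    by_contra hcon
    push Not at hcon
    have : normalizer ((S : Subgroup G) : Set G) ≤ centralizer ((S : Subgroup G) : Set G) := hcon
    rw [Subgroup.relIndex_eq_one.mpr this] at hrel
    omega
  obtain ⟨n, hnN, hnC⟩ := hex
  rw [mem_centralizer_iff] at hnC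
  push Not at hnC
  obtain ⟨x, hxS, hxn⟩ := hnC
  have hxS' : x ∈ (S : Subgroup G) := hxS
  set y : G := n * x * n⁻¹ with hy
  have hyS : y ∈ (S : Subgroup G) := (mem_normalizer_iff.mp hnN x).mp hxS'
  have hx1 : x ≠ 1 := by
    rintro rfl
    exact hxn (by rw [one_mul, mul_one])
  have hy1 : y ≠ 1 := by
    intro h
    apply hx1
    have e : x = n⁻¹ * y * n := by rw [hy]; group
    rw [e, h]; group
  have hxy : x ≠ y := by
    intro h
    apply hxn
    calc x * n = y * n := by rw [← h]
      _ = n * x := by rw [hy]; group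
  have hcxy : IsConj x y := isConj_iff.mpr ⟨n, rfl⟩
  have hall : IsConj x y ∧ IsConj x (x * y) := by
    rcases Cfsg.Agent.Lib.H5.K4.dichotomy S hK hxS' hyS hx1 hy1 hxy with h | h
    · exact absurd hcxy h.1
    · exact h
  have key : ∀ u : G, orderOf u = 2 → IsConj x u := by
    intro u hu
    obtain ⟨g, hg⟩ := Cfsg.Agent.Lib.H5.K4.exists_conj_mem S u hu
    have hne : g⁻¹ * u * g ≠ 1 := by
      intro h
      have e : u = g * (g⁻¹ * u * g) * g⁻¹ := by group
      rw [h] at e
      rw [e] at hu
      simp at hu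
    have hcu : IsConj (g⁻¹ * u * g) u := by
      rw [isConj_iff]
      exact ⟨g, by group⟩
    rcases Cfsg.Agent.Lib.H5.K4.mem_cases hK hxS' hyS hg hx1 hy1 hxy with h | h | h | h
    · exact absurd h hne
    · rw [h] at hcu; exact hcu
    · rw [h] at hcu; exact hall.1.trans hcu
    · rw [h] at hcu; exact hall.2.trans hcu
  exact (key s hs).symm.trans (key t ht)

/-- (CNT) lower bound for the number of elements of order `p * q` when `q ∣ |C(P)|`. -/
theorem card_orderOf_mul_ge {p q : ℕ} [Fact p.Prime] [Fact q.Prime] (hpq : p ≠ q)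
    (P : Sylow p G) (hP : Nat.card (P : Subgroup G) = p)
    (hq : q ∣ Nat.card (centralizer ((P : Subgroup G) : Set G))) :
    Nat.card (Sylow p G) * ((p - 1) * (q - 1)) ≤ Nat.card {g : G // orderOf g = p * q} := by
  classical
  have hp : p.Prime := Fact.out
  have hqp : q.Prime := Fact.out
  have hcop : Nat.Coprime p q := (Nat.coprime_primes hp hqp).mpr hpq
  -- data attached to every Sylow p-subgroup
  have hdata : ∀ Q : Sylow p G, ∃ a b : G, a ∈ (Q : Subgroup G) ∧ orderOf a = p ∧ orderOf b = q ∧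
      a * b = b * a := by
    intro Q
    have hQc : Nat.card (Q : Subgroup G) = p := by rw [card_sylow_eq Q P, hP]
    have hqQ : q ∣ Nat.card (centralizer ((Q : Subgroup G) : Set G)) := by
      obtain ⟨g, hg⟩ := MulAction.exists_smul_eq G P Q
      have h1 : Nat.card (centralizer ((P : Subgroup G) : Set G)) ∣
          Nat.card (centralizer ((Q : Subgroup G) : Set G)) := by
        apply card_dvd_of_conj_le g
        intro x hx
        rw [mem_centralizer_iff]
        intro w hw
        have hw2 : w ∈ (g • P : Sylow p G) := by rw [hg]; exact hw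
        have hw' : g⁻¹ * w * g ∈ (P : Subgroup G) :=
          (Cfsg.Agent.Lib.H5.sylow_mem_smul_iff g P w).mp hw2
        have := mem_centralizer_iff.mp hx _ hw'
        calc w * (g * x * g⁻¹) = g * ((g⁻¹ * w * g) * x) * g⁻¹ := by group
          _ = g * (x * (g⁻¹ * w * g)) * g⁻¹ := by rw [this]
          _ = g * x * g⁻¹ * w := by group
      exact hq.trans h1
    obtain ⟨b', hb'⟩ := exists_prime_orderOf_dvd_card'
      (G := centralizer ((Q : Subgroup G) : Set G)) q hqQ
    have hbo : orderOf (b' : G) = q := by rw [Subgroup.orderOf_coe]; exact hb'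
    have hpQ : p ∣ Nat.card (Q : Subgroup G) := by rw [hQc]
    obtain ⟨a', ha'⟩ := exists_prime_orderOf_dvd_card' (G := (Q : Subgroup G)) p hpQ
    have hao : orderOf (a' : G) = p := by rw [Subgroup.orderOf_coe]; exact ha'
    exact ⟨a', b', a'.2, hao, hbo, mem_centralizer_iff.mp b'.2 _ a'.2⟩
  choose a b haQ hao hbo hab using hdata
  -- the injection
  let f : Sylow p G × Fin (p - 1) × Fin (q - 1) → {g : G // orderOf g = p * q} := fun x =>
    ⟨a x.1 ^ (x.2.1.1 + 1) * b x.1 ^ (x.2.2.1 + 1), by
      have hc : Commute (a x.1 ^ (x.2.1.1 + 1)) (b x.1 ^ (x.2.2.1 + 1)) :=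
        (Commute.pow_pow (hab x.1) _ _)
      have h1 : orderOf (a x.1 ^ (x.2.1.1 + 1)) = p := by
        have hc1 : Nat.Coprime (orderOf (a x.1)) (x.2.1.1 + 1) := by
          rw [hao]
          apply (Nat.Prime.coprime_iff_not_dvd hp).mpr
          intro hd
          have := Nat.le_of_dvd (Nat.succ_pos _) hd
          have := x.2.1.2
          omega
        rw [hc1.orderOf_pow, hao]
      have h2 : orderOf (b x.1 ^ (x.2.2.1 + 1)) = q := by
        have hc1 : Nat.Coprime (orderOf (b x.1)) (x.2.2.1 + 1) := by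
          rw [hbo]
          apply (Nat.Prime.coprime_iff_not_dvd hqp).mpr
          intro hd
          have := Nat.le_of_dvd (Nat.succ_pos _) hd
          have := x.2.2.2
          omega
        rw [hc1.orderOf_pow, hbo]
      rw [hc.orderOf_mul_eq_mul_orderOf_of_coprime (by rw [h1, h2]; exact hcop), h1, h2]⟩
  have hf : Function.Injective f := by
    rintro ⟨Q, i, j⟩ ⟨Q', i', j'⟩ h
    have hval : a Q ^ (i.1 + 1) * b Q ^ (j.1 + 1) = a Q' ^ (i'.1 + 1) * b Q' ^ (j'.1 + 1) :=
      congrArg Subtype.val h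
    -- q-th powers
    have hpowq : ∀ (Q : Sylow p G) (i j : ℕ),
        (a Q ^ (i + 1) * b Q ^ (j + 1)) ^ q = a Q ^ ((i + 1) * q) := by
      intro Q i j
      have hc : Commute (a Q ^ (i + 1)) (b Q ^ (j + 1)) := Commute.pow_pow (hab Q) _ _
      have hb1 : (b Q ^ (j + 1)) ^ q = 1 := by
        rw [← pow_mul, mul_comm, pow_mul]
        have := pow_orderOf_eq_one (b Q)
        rw [hbo] at this
        rw [this, one_pow]
      rw [hc.mul_pow, hb1, mul_one, ← pow_mul]
    have hpowp : ∀ (Q : Sylow p G) (i j : ℕ),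
        (a Q ^ (i + 1) * b Q ^ (j + 1)) ^ p = b Q ^ ((j + 1) * p) := by
      intro Q i j
      have hc : Commute (a Q ^ (i + 1)) (b Q ^ (j + 1)) := Commute.pow_pow (hab Q) _ _
      have ha1 : (a Q ^ (i + 1)) ^ p = 1 := by
        rw [← pow_mul, mul_comm, pow_mul]
        have := pow_orderOf_eq_one (a Q)
        rw [hao] at this
        rw [this, one_pow]
      rw [hc.mul_pow, ha1, one_mul, ← pow_mul]
    have hq1 : a Q ^ ((i.1 + 1) * q) = a Q' ^ ((i'.1 + 1) * q) := by
      rw [← hpowq Q i.1 j.1, ← hpowq Q' i'.1 j'.1, hval]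
    -- the element a Q ^ ((i+1) q) has order p and lies in both Q and Q'
    have hndvd : ∀ i : Fin (p - 1), Nat.Coprime p ((i.1 + 1) * q) := by
      intro i
      apply Nat.Coprime.mul_right _ hcop
      apply (Nat.Prime.coprime_iff_not_dvd hp).mpr
      intro hd
      have := Nat.le_of_dvd (Nat.succ_pos _) hd
      have := i.2
      omega
    have ho1 : orderOf (a Q ^ ((i.1 + 1) * q)) = p := by
      have hc1 : Nat.Coprime (orderOf (a Q)) ((i.1 + 1) * q) := by rw [hao]; exact hndvd i
      rw [hc1.orderOf_pow, hao]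
    have hQQ' : Q = Q' := by
      apply Sylow.ext
      have hQc : Nat.card (Q : Subgroup G) = p := by rw [card_sylow_eq Q P, hP]
      have hQ'c : Nat.card (Q' : Subgroup G) = p := by rw [card_sylow_eq Q' P, hP]
      rw [← Cfsg.Agent.Lib.H5.zpowers_eq_sylow_of_mem Q hQc _ ho1 (pow_mem (haQ Q) _),
        ← Cfsg.Agent.Lib.H5.zpowers_eq_sylow_of_mem Q' hQ'c _ ho1
          (by rw [hq1]; exact pow_mem (haQ Q') _)]
    subst hQQ'
    have hi : i = i' := by
      have h1 := pow_inj_mod.mp hq1
      rw [hao] at h1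
      have h2 : (i.1 + 1) ≡ (i'.1 + 1) [MOD p] :=
        Nat.ModEq.cancel_right_of_coprime (c := q) hcop h1
      have h3 := i.2
      have h4 := i'.2
      rw [Nat.ModEq, Nat.mod_eq_of_lt (by omega), Nat.mod_eq_of_lt (by omega)] at h2
      exact Fin.ext (by omega)
    have hj : j = j' := by
      have hp1 : b Q ^ ((j.1 + 1) * p) = b Q ^ ((j'.1 + 1) * p) := by
        rw [← hpowp Q i.1 j.1, ← hpowp Q i'.1 j'.1, hval]
      have h1 := pow_inj_mod.mp hp1
      rw [hbo] at h1
      have h2 : (j.1 + 1) ≡ (j'.1 + 1) [MOD q] :=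
        Nat.ModEq.cancel_right_of_coprime (c := p) hcop.symm h1
      have h3 := j.2
      have h4 := j'.2
      rw [Nat.ModEq, Nat.mod_eq_of_lt (by omega), Nat.mod_eq_of_lt (by omega)] at h2
      exact Fin.ext (by omega)
    rw [hi, hj]
  have := Nat.card_le_card_of_injective f hf
  rw [Nat.card_prod, Nat.card_prod, Nat.card_eq_fintype_card (α := Fin (p - 1)),
    Nat.card_eq_fintype_card (α := Fin (q - 1)), Fintype.card_fin, Fintype.card_fin] at this
  exact this

/-- (SUM) the sets of elements of pairwise distinct orders are disjoint. -/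
theorem sum_card_orderOf_le (l : List ℕ) (hl : l.Nodup) :
    (l.map fun k => Nat.card {g : G // orderOf g = k}).sum ≤ Nat.card G := by
  classical
  have : Fintype G := Fintype.ofFinite G
  rw [← List.sum_toFinset _ hl]
  have h1 : ∀ k : ℕ, Nat.card {g : G // orderOf g = k} =
      (Finset.univ.filter (fun g : G => orderOf g = k)).card := by
    intro k
    rw [Nat.card_eq_fintype_card, Fintype.card_subtype]
  simp only [h1]
  rw [Finset.sum_card_fiberwise_eq_card_filter, Nat.card_eq_fintype_card]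
  exact Finset.card_le_univ _

end Cfsg.Agent.Lib.H28.J1Ord
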