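/-
S2546 / S2547 pieces ROOT-S, ROOT-L, ROOT-M (architect helper8): the explicit root elements lie in `GS φ`.
-/
import Cfsg.Agent.Lib.H8.FBNRefl

set_option autoImplicit false

namespace Cfsg.Agent.Lib.H28.FBN

open Matrix Cfsg.Agent.Lib.H12.DCos Cfsg.Agent.Lib.H8.FBN

variable {F : Type*} [Field F] {n : ℕ} (φ : F →+* F)

theorem fstar_add (M N : Matrix (Fin n) (Fin n) F) : star φ (M + N) = star φ M + star φ N := by
  ext k l
  rw [Cfsg.Agent.Lib.H8.FBN.star_apply, Matrix.add_apply, Matrix.add_apply, map_add, Cfsg.Agent.Lib.H8.FBN.star_apply, Cfsg.Agent.Lib.H8.FBN.star_apply]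

theorem fstar_sub (M N : Matrix (Fin n) (Fin n) F) : star φ (M - N) = star φ M - star φ N := by
  ext k l
  rw [Cfsg.Agent.Lib.H8.FBN.star_apply, Matrix.sub_apply, Matrix.sub_apply, map_sub, Cfsg.Agent.Lib.H8.FBN.star_apply, Cfsg.Agent.Lib.H8.FBN.star_apply]

theorem fstar_single (a b : Fin n) (c : F) :
    star φ (Matrix.single a b c) = Matrix.single b.rev a.rev (φ c) := by
  ext k l
  rw [Cfsg.Agent.Lib.H8.FBN.star_apply, Matrix.single_apply, Matrix.single_apply]
  by_cases h : a = l.rev ∧ b = k.rev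
  · rw [if_pos h, if_pos ⟨by rw [h.2, Fin.rev_rev], by rw [h.1, Fin.rev_rev]⟩]
  · rw [if_neg h, map_zero, if_neg]
    rintro ⟨h1, h2⟩
    exact h ⟨by rw [← h2, Fin.rev_rev], by rw [← h1, Fin.rev_rev]⟩

/-- ROOT-S -/
theorem xSm_mul_star (hφ2 : ∀ x, φ (φ x) = x) (a b : Fin n) (hab : a ≠ b) (ha : a ≠ a.rev) (hb : b ≠ b.rev) (c : F) :
    xSm φ a b c * star φ (xSm φ a b c) = 1 := by
  unfold xSm
  rw [fstar_sub, fstar_add, Cfsg.Agent.Lib.H8.FBN.star_one, fstar_single, fstar_single, Fin.rev_rev, Fin.rev_rev, hφ2]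
  have hab' : b.rev ≠ a.rev := fun h => hab (Fin.rev_injective h).symm
  have PP : Matrix.single a b c * Matrix.single a b c = 0 :=
    Matrix.single_mul_single_of_ne _ _ _ _ hab.symm _
  have PQ : Matrix.single a b c * Matrix.single b.rev a.rev (φ c) = 0 :=
    Matrix.single_mul_single_of_ne _ _ _ _ hb _
  have QP : Matrix.single b.rev a.rev (φ c) * Matrix.single a b c = 0 :=
    Matrix.single_mul_single_of_ne _ _ _ _ ha.symm _
  have QQ : Matrix.single b.rev a.rev (φ c) * Matrix.single b.rev a.rev (φ c) = 0 :=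
    Matrix.single_mul_single_of_ne _ _ _ _ hab'.symm _
  simp only [Matrix.add_mul, Matrix.sub_mul, Matrix.mul_add, Matrix.mul_sub, Matrix.one_mul, Matrix.mul_one, PP, PQ,
    QP, QQ]
  abel

/-- ROOT-L -/
theorem xLm_mul_star (a : Fin n) (ha : a ≠ a.rev) (c : F) (hc : c + φ c = 0) :
    xLm a c * star φ (xLm a c) = 1 := by
  unfold xLm
  rw [fstar_add, Cfsg.Agent.Lib.H8.FBN.star_one, fstar_single, Fin.rev_rev]
  have PP : Matrix.single a a.rev c * Matrix.single a a.rev (φ c) = 0 :=
    Matrix.single_mul_single_of_ne _ _ _ _ ha.symm _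
  simp only [Matrix.add_mul, Matrix.mul_add, Matrix.one_mul, Matrix.mul_one, PP]
  have h : Matrix.single a a.rev c + Matrix.single a a.rev (φ c) = (0 : Matrix (Fin n) (Fin n) F) := by
    rw [← Matrix.single_add, hc, Matrix.single_zero]
  rw [add_zero, add_assoc, h, add_zero]

/-- ROOT-M -/
theorem xMm_mul_star (hφ2 : ∀ x, φ (φ x) = x) (a m : Fin n) (hm : m.rev = m) (ha : a ≠ a.rev) (α β : F)
    (h : β + φ β + α * φ α = 0) : xMm φ a m α β * star φ (xMm φ a m α β) = 1 := by
  unfold xMm
  rw [fstar_add, fstar_sub, fstar_add, Cfsg.Agent.Lib.H8.FBN.star_one, fstar_single, fstar_single, fstar_single, Fin.rev_rev, hm, hφ2]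
  have ham : a ≠ m := fun h' => ha (by rw [h', hm])
  have ham' : a.rev ≠ m := fun h' => ham (by rw [← Fin.rev_rev a, h', hm])
  have AA : ∀ x y : F, Matrix.single a m x * Matrix.single a m y = 0 := fun x y =>
    Matrix.single_mul_single_of_ne _ _ _ _ ham.symm _
  have AB : ∀ x y : F, Matrix.single a m x * Matrix.single m a.rev y = Matrix.single a a.rev (x * y) := fun x y =>
    Matrix.single_mul_single_same _ _ _ _ _
  have AC : ∀ x y : F, Matrix.single a m x * Matrix.single a a.rev y = 0 := fun x y =>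
    Matrix.single_mul_single_of_ne _ _ _ _ ham.symm _
  have BA : ∀ x y : F, Matrix.single m a.rev x * Matrix.single a m y = 0 := fun x y =>
    Matrix.single_mul_single_of_ne _ _ _ _ ha.symm _
  have BB : ∀ x y : F, Matrix.single m a.rev x * Matrix.single m a.rev y = 0 := fun x y =>
    Matrix.single_mul_single_of_ne _ _ _ _ ham' _
  have BC : ∀ x y : F, Matrix.single m a.rev x * Matrix.single a a.rev y = 0 := fun x y =>
    Matrix.single_mul_single_of_ne _ _ _ _ ha.symm _
  have CA : ∀ x y : F, Matrix.single a a.rev x * Matrix.single a m y = 0 := fun x y =>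
    Matrix.single_mul_single_of_ne _ _ _ _ ha.symm _
  have CB : ∀ x y : F, Matrix.single a a.rev x * Matrix.single m a.rev y = 0 := fun x y =>
    Matrix.single_mul_single_of_ne _ _ _ _ ham' _
  have CC : ∀ x y : F, Matrix.single a a.rev x * Matrix.single a a.rev y = 0 := fun x y =>
    Matrix.single_mul_single_of_ne _ _ _ _ ha.symm _
  simp only [Matrix.add_mul, Matrix.sub_mul, Matrix.mul_add, Matrix.mul_sub, Matrix.one_mul, Matrix.mul_one, AA, AB, AC,
    BA, BB, BC, CA, CB, CC]
  have h2 : Matrix.single a a.rev β + Matrix.single a a.rev (φ β) + Matrix.single a a.rev (α * φ α) =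
      (0 : Matrix (Fin n) (Fin n) F) := by
    rw [← Matrix.single_add, ← Matrix.single_add, h, Matrix.single_zero]
  have key : (1 : Matrix (Fin n) (Fin n) F) + Matrix.single a m α - Matrix.single m a.rev (φ α) +
        Matrix.single a a.rev β +
          (Matrix.single m a.rev (φ α) + Matrix.single a a.rev (α * φ α) - 0 + 0) -
        (Matrix.single a m α + 0 - 0 + 0) +
      (Matrix.single a a.rev (φ β) + 0 - 0 + 0) =
      1 + (Matrix.single a a.rev β + Matrix.single a a.rev (φ β) + Matrix.single a a.rev (α * φ α)) := by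
    abel
  rw [key, h2, add_zero]

end Cfsg.Agent.Lib.H28.FBN
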