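import Mathlib
import Cfsg.Prelude.Def_LieTwisted
import Cfsg.Agent.Lib.H29.ChevRee26
import Cfsg.Agent.Lib.H29.ChevRee21
import Cfsg.Agent.Lib.H28.PAutBruhat

/-!
# S4613, family `²G₂`: a `3'`-automorphism of a Ree group centralizing a Sylow 3-subgroup is trivial (helper28)

Rank one argument (`aut_eq_one_of_bruhat_sylow`) on helper29's Ree tower (`ChevRee1-26`).
-/

set_option autoImplicit false
set_option linter.unusedSectionVars false
set_option linter.unusedVariables false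

namespace Cfsg.Agent.Lib.H28.PAut

open Cfsg.Lie Cfsg.Agent.Lib.H29.Chev

section Ree

variable {K : Type*} [Field K] [CharP K 3] [Fintype K]

/-- the concrete Ree group -/
theorem aut_eq_one_twistedG2 (m : ℕ) (hm : 1 ≤ m) (hK : Fintype.card K = 3 ^ (2 * m + 1))
    (α : MulAut ↥(twistedG2 K (3 ^ m))) (hα : ¬ 3 ∣ orderOf α) (U : Sylow 3 ↥(twistedG2 K (3 ^ m)))
    (hfix : ∀ x ∈ (U : Subgroup ↥(twistedG2 K (3 ^ m))), α x = x) : α = 1 := by
  have : IsSimpleGroup ↥(twistedG2 K (3 ^ m)) := (tw_simple_G2 m hK hm).1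
  have : Fact (Nat.Prime 3) := ⟨Nat.prime_three⟩
  have hUB : chevG2.posUnipotent K ≤ chevG2.borelSubgroup K := le_sup_left
  have hHB : chevG2.diagonalSubgroup K ≤ chevG2.borelSubgroup K := le_sup_right
  refine aut_eq_one_of_bruhat_sylow 3 (reeU K m) (reeB K m) ?_ ?_ ?_ ?_ ?_ ?_ (reeN0 K m) ?_ ?_ α hα U hfix
  · -- `U¹` is a 3-group
    exact (reeSylow m hK).isPGroup'
  · -- `U¹ ≠ 1`
    intro h
    have h1 := card_reeU m hK
    rw [h, Subgroup.card_bot] at h1
    have : 1 < (3 ^ (2 * m + 1)) ^ 3 := by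
      apply Nat.one_lt_pow (by norm_num)
      exact Nat.one_lt_pow (by omega) (by norm_num)
    omega
  · -- `B¹ ≠ ⊤`
    intro h
    have : reeN0 K m ∈ reeB K m := by rw [h]; exact Subgroup.mem_top _
    rw [mem_reeB] at this
    exact n0R_not_mem_borel m this
  · -- `U¹ ≤ B¹`
    intro x hx
    rw [mem_reeU] at hx
    rw [mem_reeB]
    exact hUB hx
  · -- `B¹` normalizes `U¹`
    intro b hb s hs
    rw [mem_reeB] at hb
    rw [mem_reeU] at hs ⊢
    exact borel_conj_pos _ _ hb hs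
  · -- TI
    intro k hk a ha b hb hab
    rw [mem_reeB] at hk
    rw [mem_reeU] at ha hb
    apply Subtype.ext
    apply pos_inf_conj_trivial m hK (k : GL chevG2.Idx K) (a : GL chevG2.Idx K) (b : GL chevG2.Idx K) k.2 hk ha hb
    rw [hab]
    rfl
  · -- cover
    intro g hg
    rw [mem_reeB] at hg
    rcases fix_decomp m hK g (twistedG2_le_fix m hK g.2) with ⟨t, u, v, z, e⟩ | ⟨t, u, v, z, t', u', v', e⟩
    · exfalso
      apply hg
      rw [e]
      exact mul_mem (hUB (uR_mem_pos m _ _ _)) (hHB (hR_mem_diag m z))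
    · refine ⟨reeUel m t u v, ?_, reeHel m hK z * reeUel m t' u' v', ?_, ?_⟩
      · rw [mem_reeU]; exact uR_mem_pos m _ _ _
      · rw [mem_reeB]
        exact mul_mem (hHB (hR_mem_diag m z)) (hUB (uR_mem_pos m _ _ _))
      · apply Subtype.ext
        rw [e]
        show uR m t u v * (n0R K * hR K m z) * uR m t' u' v' =
          uR m t u v * n0R K * (hR K m z * uR m t' u' v')
        group
  · -- uniqueness
    intro s hs h
    rw [mem_reeU] at hs
    rw [mem_reeB] at h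
    obtain ⟨t, u, v, e⟩ := (mem_pos_inf_tw m hK _).mp ⟨hs, s.2⟩
    have h' : (n0R K)⁻¹ * uR m t u v * n0R K ∈ chevG2.borelSubgroup K := by
      rw [← e]; exact h
    obtain ⟨rfl, rfl, rfl⟩ := n0R_inv_conj_uR_not_mem m _ _ _ h'
    apply Subtype.ext
    rw [e, uR_zero]
    rfl

end Ree

/-- **S4613 for the family `²G₂`**. -/
theorem aut_eq_one_Ree {G : Type*} [Group G] (hG : Cfsg.Lie.IsoRee G) (α : MulAut G)
    (hα : ¬ 3 ∣ orderOf α) (U : Sylow 3 G) (hfix : ∀ x ∈ (U : Subgroup G), α x = x) : α = 1 := by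
  obtain ⟨K, _, _, m, hm, hK, ⟨e⟩⟩ := hG
  have : CharP K 3 := charP_of_card_pow 3 (2 * m + 1) (by norm_num) hK
  have : Fact (Nat.Prime 3) := ⟨Nat.prime_three⟩
  exact aut_eq_one_of_iso 3 e (fun α' hα' U' hfix' => aut_eq_one_twistedG2 m hm hK α' hα' U' hfix')
    α hα U hfix

end Cfsg.Agent.Lib.H28.PAut
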