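import Mathlib
import Cfsg.Prelude.Def_LieTypeChar
import Cfsg.Agent.Lib.H19.SRDefs
import Cfsg.Agent.Lib.H28.PAutRee

/-!
# S4613, piece REE (helper28): exact signature of `tools/blueprints/S4613_sigs.lean`
-/

set_option autoImplicit false

namespace Cfsg.Agent.Lib.H28.SR

open Cfsg Cfsg.Agent.Lib.H19.SR

/-- REE -/
theorem sylRigid_Ree (K : Type*) [Field K] [Fintype K] [Fact (Nat.Prime 3)] (m : ℕ) (hm : 1 ≤ m)
    (hK : Fintype.card K = 3 ^ (2 * m + 1)) (hs : IsSimpleGroup ↥(Lie.twistedG2 K (3 ^ m))) :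
    SylRigid 3 ↥(Lie.twistedG2 K (3 ^ m)) := by
  have : CharP K 3 := Cfsg.Agent.Lib.H29.Chev.charP_of_card_pow 3 (2 * m + 1) (by norm_num) hK
  intro α hα U hfix
  exact Cfsg.Agent.Lib.H28.PAut.aut_eq_one_twistedG2 m hm hK α hα U hfix

end Cfsg.Agent.Lib.H28.SR
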