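import Mathlib
import Cfsg.Agent.Lib.H10.S4415Defs

/-!
helper28: S4415, GOOD block, piece G1 (generic): sign-weight spaces of a finite commutative group
of involutions `A ≤ S` on an `A`-invariant submodule `W` of an `F_3`-module.
-/

set_option autoImplicit false

namespace Cfsg.Agent.Lib.H28.S4415G

variable {S E : Type*} [Group S] [AddCommGroup E] [Module (ZMod 3) E]

/-- The weight space of `χ : A → F_3` in `W`. -/
def wt (ρ : Representation (ZMod 3) S E) (A : Subgroup S) (W : Submodule (ZMod 3) E)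
    (χ : ↥A → ZMod 3) : Submodule (ZMod 3) E where
  carrier := {w | w ∈ W ∧ ∀ a : ↥A, ρ (a : S) w = χ a • w}
  add_mem' := by
    rintro x y ⟨hx, hx'⟩ ⟨hy, hy'⟩
    refine ⟨W.add_mem hx hy, fun a => ?_⟩
    rw [map_add, hx' a, hy' a, smul_add]
  zero_mem' := ⟨W.zero_mem, fun a => by simp⟩
  smul_mem' := by
    rintro c x ⟨hx, hx'⟩
    refine ⟨W.smul_mem c hx, fun a => ?_⟩
    rw [map_smul, hx' a, smul_comm]

theorem mem_wt {ρ : Representation (ZMod 3) S E} {A : Subgroup S} {W : Submodule (ZMod 3) E}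
    {χ : ↥A → ZMod 3} {w : E} :
    w ∈ wt ρ A W χ ↔ w ∈ W ∧ ∀ a : ↥A, ρ (a : S) w = χ a • w := Iff.rfl

theorem wt_le (ρ : Representation (ZMod 3) S E) (A : Subgroup S) (W : Submodule (ZMod 3) E)
    (χ : ↥A → ZMod 3) : wt ρ A W χ ≤ W := fun _ h => h.1

/-- The partial weight space: only the elements of the finset `s` are required to act by `χ`. -/
def wtF (ρ : Representation (ZMod 3) S E) (A : Subgroup S) (W : Submodule (ZMod 3) E)
    (s : Finset ↥A) (χ : ↥A → ZMod 3) : Submodule (ZMod 3) E where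
  carrier := {w | w ∈ W ∧ ∀ a ∈ s, ρ (a : S) w = χ a • w}
  add_mem' := by
    rintro x y ⟨hx, hx'⟩ ⟨hy, hy'⟩
    refine ⟨W.add_mem hx hy, fun a ha => ?_⟩
    rw [map_add, hx' a ha, hy' a ha, smul_add]
  zero_mem' := ⟨W.zero_mem, fun a _ => by simp⟩
  smul_mem' := by
    rintro c x ⟨hx, hx'⟩
    refine ⟨W.smul_mem c hx, fun a ha => ?_⟩
    rw [map_smul, hx' a ha, smul_comm]

section Decomp

variable (ρ : Representation (ZMod 3) S E) (A : Subgroup S) (W : Submodule (ZMod 3) E)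

theorem le_iSup_wtF [DecidableEq ↥A] (hcomm : ∀ a c : ↥A, (a : S) * c = c * a)
    (hsq : ∀ a : ↥A, (a : S) * a = 1) (hW : ∀ a : ↥A, ∀ w ∈ W, ρ (a : S) w ∈ W)
    (s : Finset ↥A) : W ≤ ⨆ χ : ↥A → ZMod 3, wtF ρ A W s χ := by
  induction s using Finset.induction_on with
  | empty =>
    intro w hw
    exact Submodule.mem_iSup_of_mem (fun _ => 0) ⟨hw, by simp⟩
  | insert a s ha ih =>
    refine ih.trans (iSup_le fun χ => ?_)
    rintro u ⟨huW, hu'⟩
    have h2 : (2 : ZMod 3) * 2 = 1 := by decide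
    have haa : ρ (a : S) (ρ (a : S) u) = u := by
      rw [← Module.End.mul_apply, ← map_mul, hsq a, map_one, Module.End.one_apply]
    have hcu : ∀ c ∈ s, ρ (c : S) (ρ (a : S) u) = χ c • ρ (a : S) u := by
      intro c hc
      rw [← Module.End.mul_apply, ← map_mul, hcomm c a, map_mul, Module.End.mul_apply, hu' c hc,
        map_smul]
    have hsum : u = (2 : ZMod 3) • (u + ρ (a : S) u) + (2 : ZMod 3) • (u - ρ (a : S) u) := by
      rw [← smul_add]
      have : u + ρ (a : S) u + (u - ρ (a : S) u) = (2 : ZMod 3) • u := by rw [two_smul]; abel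
      rw [this, smul_smul, h2, one_smul]
    have hup : (2 : ZMod 3) • (u + ρ (a : S) u) ∈
        wtF ρ A W (insert a s) (Function.update χ a 1) := by
      refine ⟨W.smul_mem _ (W.add_mem huW (hW a u huW)), fun c hc => ?_⟩
      rcases Finset.mem_insert.mp hc with rfl | hcs
      · rw [Function.update_self, one_smul, map_smul, map_add, haa, add_comm]
      · have hca : c ≠ a := fun h => ha (h ▸ hcs)
        rw [Function.update_of_ne hca, map_smul, map_add, hu' c hcs, hcu c hcs, ← smul_add,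
          smul_comm]
    have hum : (2 : ZMod 3) • (u - ρ (a : S) u) ∈
        wtF ρ A W (insert a s) (Function.update χ a (-1)) := by
      refine ⟨W.smul_mem _ (W.sub_mem huW (hW a u huW)), fun c hc => ?_⟩
      rcases Finset.mem_insert.mp hc with rfl | hcs
      · rw [Function.update_self, neg_one_smul, map_smul, map_sub, haa, ← smul_neg, neg_sub]
      · have hca : c ≠ a := fun h => ha (h ▸ hcs)
        rw [Function.update_of_ne hca, map_smul, map_sub, hu' c hcs, hcu c hcs, ← smul_sub,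
          smul_comm]
    rw [hsum]
    exact Submodule.add_mem _ (Submodule.mem_iSup_of_mem _ hup) (Submodule.mem_iSup_of_mem _ hum)

/-- `W` is the sum of the weight spaces. -/
theorem le_iSup_wt [Finite ↥A] (hcomm : ∀ a c : ↥A, (a : S) * c = c * a)
    (hsq : ∀ a : ↥A, (a : S) * a = 1) (hW : ∀ a : ↥A, ∀ w ∈ W, ρ (a : S) w ∈ W) :
    W ≤ ⨆ χ : ↥A → ZMod 3, wt ρ A W χ := by
  classical
  haveI := Fintype.ofFinite ↥A
  have h := le_iSup_wtF ρ A W hcomm hsq hW Finset.univ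
  refine h.trans (iSup_le fun χ => ?_)
  intro u hu
  exact Submodule.mem_iSup_of_mem χ ⟨hu.1, fun a => hu.2 a (Finset.mem_univ a)⟩

/-- Independence of the weight spaces (vector form). -/
theorem wt_indep [DecidableEq (↥A → ZMod 3)] (T : Finset (↥A → ZMod 3)) :
    ∀ w : (↥A → ZMod 3) → E, (∀ χ ∈ T, w χ ∈ wt ρ A W χ) → ∑ χ ∈ T, w χ = 0 →
      ∀ χ ∈ T, w χ = 0 := by
  induction T using Finset.induction_on with
  | empty => intro w _ _ χ hχ; simp at hχ
  | insert χ₀ T h₀ ih =>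
    intro w hw hsum
    rw [Finset.sum_insert h₀] at hsum
    have hT : ∀ χ ∈ T, w χ = 0 := by
      intro χ hχ
      have hne : χ ≠ χ₀ := fun h => h₀ (h ▸ hχ)
      obtain ⟨a, ha⟩ := Function.ne_iff.mp hne
      have h1 := ih (fun μ => (μ a - χ₀ a) • w μ)
        (fun μ hμ => Submodule.smul_mem _ _ (hw μ (Finset.mem_insert_of_mem hμ))) ?_ χ hχ
      · rcases smul_eq_zero.mp h1 with h | h
        · exact absurd (sub_eq_zero.mp h) ha
        · exact h
      · have h2 : ρ (a : S) (w χ₀ + ∑ μ ∈ T, w μ) - χ₀ a • (w χ₀ + ∑ μ ∈ T, w μ) = 0 := by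
          rw [hsum]; simp
        rw [map_add, (hw χ₀ (Finset.mem_insert_self _ _)).2 a, map_sum, smul_add,
          Finset.smul_sum] at h2
        have h3 : ∑ μ ∈ T, (μ a - χ₀ a) • w μ =
            ∑ μ ∈ T, ρ (a : S) (w μ) - ∑ μ ∈ T, χ₀ a • w μ := by
          rw [← Finset.sum_sub_distrib]
          refine Finset.sum_congr rfl fun μ hμ => ?_
          rw [sub_smul, (hw μ (Finset.mem_insert_of_mem hμ)).2 a]
        rw [h3]
        have : χ₀ a • w χ₀ + ∑ x ∈ T, (ρ ↑a) (w x) - (χ₀ a • w χ₀ + ∑ x ∈ T, χ₀ a • w x)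
            = ∑ μ ∈ T, ρ (a : S) (w μ) - ∑ μ ∈ T, χ₀ a • w μ := by abel
        rw [← this]; exact h2
    intro χ hχ
    rcases Finset.mem_insert.mp hχ with rfl | hχT
    · rw [Finset.sum_eq_zero hT, add_zero] at hsum
      exact hsum
    · exact hT χ hχT

/-- Distinct weights have disjoint weight spaces. -/
theorem wt_disjoint {χ μ : ↥A → ZMod 3} (h : χ ≠ μ) {w : E} (h1 : w ∈ wt ρ A W χ)
    (h2 : w ∈ wt ρ A W μ) : w = 0 := by
  obtain ⟨a, ha⟩ := Function.ne_iff.mp h
  have h3 : (χ a - μ a) • w = 0 := by rw [sub_smul, ← h1.2 a, ← h2.2 a, sub_self]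
  rcases smul_eq_zero.mp h3 with h | h
  · exact absurd (sub_eq_zero.mp h) ha
  · exact h

end Decomp

section Conj

variable (ρ : Representation (ZMod 3) S E) (A : Subgroup S) (W : Submodule (ZMod 3) E)

/-- The conjugate weight `g • χ = χ (g⁻¹ · g)`. -/
def conjW (g : S) (hg : ∀ a ∈ A, g⁻¹ * a * g ∈ A) (χ : ↥A → ZMod 3) : ↥A → ZMod 3 :=
  fun a => χ ⟨g⁻¹ * a * g, hg a a.2⟩

theorem map_mem_wt (g : S) (hg : ∀ a ∈ A, g⁻¹ * a * g ∈ A) (hgW : ∀ w ∈ W, ρ g w ∈ W)
    (χ : ↥A → ZMod 3) {w : E} (hw : w ∈ wt ρ A W χ) : ρ g w ∈ wt ρ A W (conjW A g hg χ) := by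
  refine ⟨hgW w hw.1, fun a => ?_⟩
  have h1 : (a : S) * g = g * (g⁻¹ * a * g) := by group
  have h2 := hw.2 ⟨g⁻¹ * a * g, hg a a.2⟩
  simp only at h2
  rw [← Module.End.mul_apply, ← map_mul, h1, map_mul, Module.End.mul_apply, h2, map_smul]
  rfl

end Conj

end Cfsg.Agent.Lib.H28.S4415G
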