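import Mathlib
import Cfsg.Agent.Lib.H10.S4415Defs
import Cfsg.Agent.Lib.H9.S4415B1
import Cfsg.Agent.Lib.H24.S4415GDefs
import Cfsg.Agent.Lib.H28.S4415G1

/-!
helper28: S4415, GOOD block, piece G2: from `¬ Bad` to the monomial frame (`FrameStmt` of helper24's
GOOD sub-cut).  Weight spaces of an `R<b>`-normal elementary abelian `2`-subgroup `A ≤ R` that does not
act by scalars; `R<b>` permutes them transitively (irreducibility), `b` moves one of them
(`R = [R,b]`), a moved weight space is a line (the image of `1 + b + b²` is the line `F_3 u`), and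
`b` moves exactly three of them.
-/

set_option autoImplicit false

namespace Cfsg.Agent.Lib.H28.S4415G

open Cfsg.Agent.Lib.H10.S4415 Cfsg.Agent.Lib.H24.S4415G

variable {S E : Type*} [Group S] [AddCommGroup E] [Module (ZMod 3) E]

/-! ### generic facts -/

theorem rho_inv_rho (ρ : Representation (ZMod 3) S E) (g : S) (w : E) : ρ g⁻¹ (ρ g w) = w := by
  rw [← Module.End.mul_apply, ← map_mul, inv_mul_cancel, map_one, Module.End.one_apply]

theorem rho_rho_inv (ρ : Representation (ZMod 3) S E) (g : S) (w : E) : ρ g (ρ g⁻¹ w) = w := by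
  rw [← Module.End.mul_apply, ← map_mul, mul_inv_cancel, map_one, Module.End.one_apply]

theorem zmod3_pm (c : ZMod 3) (h : c ≠ 0) : c = 1 ∨ c = -1 := by
  revert c; decide

theorem zmod3_sq (c : ZMod 3) (h : c * c = 1) : c = 1 ∨ c = -1 := by
  revert c; decide

/-- The weight spaces are independent. -/
theorem wt_iSupIndep (ρ : Representation (ZMod 3) S E) (A : Subgroup S)
    (W : Submodule (ZMod 3) E) (hcomm : ∀ a c : ↥A, (a : S) * c = c * a) :
    iSupIndep (fun χ : ↥A → ZMod 3 => wt ρ A W χ) := by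
  have h := Module.End.independent_iInf_maxGenEigenspace_of_forall_mapsTo
    (fun a : ↥A => (ρ (a : S) : Module.End (ZMod 3) E)) (fun i j φ =>
      Module.End.mapsTo_maxGenEigenspace_of_comm (by
        show Commute (ρ (j : S)) (ρ (i : S))
        rw [Commute, SemiconjBy, ← map_mul, ← map_mul, hcomm]) φ)
  refine h.mono fun χ w hw => ?_
  rw [Submodule.mem_iInf]
  intro a
  exact Module.End.eigenspace_le_maxGenEigenspace (Module.End.mem_eigenspace_iff.mpr (hw.2 a))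

/-- first-order description of a `3`-cycle -/
theorem isThreeCycle_of {α : Type*} [Fintype α] [DecidableEq α] (σ : Equiv.Perm α) (x : α)
    (h1 : σ x ≠ x) (h3 : ∀ y, σ (σ (σ y)) = y)
    (h2 : ∀ y, σ y ≠ y → y = x ∨ y = σ x ∨ y = σ (σ x)) : σ.IsThreeCycle := by
  rw [← card_support_eq_three_iff]
  have n1 : x ≠ σ x := fun h => h1 h.symm
  have n2 : x ≠ σ (σ x) := by
    intro h
    apply h1
    have := congrArg σ h
    rw [h3] at this
    exact this
  have n3 : σ x ≠ σ (σ x) := fun h => n1 (σ.injective h)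
  rw [Finset.card_eq_three]
  refine ⟨x, σ x, σ (σ x), n1, n2, n3, ?_⟩
  ext y
  simp only [Equiv.Perm.mem_support, Finset.mem_insert, Finset.mem_singleton]
  constructor
  · exact h2 y
  · rintro (rfl | rfl | rfl)
    · exact h1
    · exact fun h => h1 (σ.injective h)
    · exact fun h => h1 (σ.injective (σ.injective h))

theorem isThreeCycle_permCongr {α β : Type*} [Fintype α] [DecidableEq α] [Fintype β]
    [DecidableEq β] (e : α ≃ β) (σ : Equiv.Perm α) (h : σ.IsThreeCycle) :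
    (e.permCongr σ).IsThreeCycle := by
  rw [← card_support_eq_three_iff] at h ⊢
  have : (e.permCongr σ).support = σ.support.map e.toEmbedding := by
    ext y
    simp only [Equiv.Perm.mem_support, Equiv.permCongr_apply, Finset.mem_map,
      Equiv.coe_toEmbedding]
    constructor
    · intro hy
      refine ⟨e.symm y, fun h' => hy ?_, e.apply_symm_apply y⟩
      rw [h', e.apply_symm_apply]
    · rintro ⟨a, ha, rfl⟩
      rw [e.symm_apply_apply]
      exact fun h' => ha (e.injective h')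
  rw [this, Finset.card_map, h]

/-! ### the conjugation action of `R<b>` on the weights -/

section Act

variable {ρ : Representation (ZMod 3) S E} {R : Subgroup S} {b : S} {W : Submodule (ZMod 3) E}
  {A : Subgroup S}

theorem conj_mem (hN : NormBy (RB R b) A) (g : ↥(RB R b)) {a : S} (ha : a ∈ A) :
    (g : S)⁻¹ * a * g ∈ A := by
  have := hN (g : S)⁻¹ ((RB R b).inv_mem g.2) a ha
  rwa [inv_inv] at this

/-- `g • χ = χ (g⁻¹ · g)` -/
def cw (hN : NormBy (RB R b) A) (g : ↥(RB R b)) (χ : ↥A → ZMod 3) : ↥A → ZMod 3 :=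
  fun a => χ ⟨(g : S)⁻¹ * a * g, conj_mem hN g a.2⟩

theorem cw_one (hN : NormBy (RB R b) A) (χ : ↥A → ZMod 3) : cw hN 1 χ = χ := by
  funext a
  show χ ⟨((1 : ↥(RB R b)) : S)⁻¹ * a * ((1 : ↥(RB R b)) : S), _⟩ = χ a
  congr 1
  exact Subtype.ext (by simp)

theorem cw_mul (hN : NormBy (RB R b) A) (g h : ↥(RB R b)) (χ : ↥A → ZMod 3) :
    cw hN (g * h) χ = cw hN g (cw hN h χ) := by
  funext a
  show χ ⟨((g * h : ↥(RB R b)) : S)⁻¹ * a * ((g * h : ↥(RB R b)) : S), _⟩ =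
    χ ⟨(h : S)⁻¹ * ((g : S)⁻¹ * a * g) * h, _⟩
  congr 1
  exact Subtype.ext (by simp [mul_assoc])

theorem cw_inv_cw (hN : NormBy (RB R b) A) (g : ↥(RB R b)) (χ : ↥A → ZMod 3) :
    cw hN g⁻¹ (cw hN g χ) = χ := by
  rw [← cw_mul, inv_mul_cancel, cw_one]

theorem cw_cw_inv (hN : NormBy (RB R b) A) (g : ↥(RB R b)) (χ : ↥A → ZMod 3) :
    cw hN g (cw hN g⁻¹ χ) = χ := by
  rw [← cw_mul, mul_inv_cancel, cw_one]

theorem map_mem_wt' (hL : LinCtx ρ R b W) (hN : NormBy (RB R b) A) (g : ↥(RB R b))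
    {χ : ↥A → ZMod 3} {w : E} (hw : w ∈ wt ρ A W χ) : ρ (g : S) w ∈ wt ρ A W (cw hN g χ) :=
  map_mem_wt ρ A W (g : S) (fun _ ha => conj_mem hN g ha) (hL.W_inv g g.2) χ hw

theorem wt_cw_ne_bot (hL : LinCtx ρ R b W) (hN : NormBy (RB R b) A) (g : ↥(RB R b))
    {χ : ↥A → ZMod 3} (h : wt ρ A W χ ≠ ⊥) : wt ρ A W (cw hN g χ) ≠ ⊥ := by
  obtain ⟨w, hw, hw0⟩ := Submodule.exists_mem_ne_zero_of_ne_bot h
  rw [Submodule.ne_bot_iff]
  refine ⟨ρ (g : S) w, map_mem_wt' hL hN g hw, fun h0 => hw0 ?_⟩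
  rw [← rho_inv_rho ρ (g : S) w, h0, map_zero]

/-- a submodule that is a line -/
def IsLine (M : Submodule (ZMod 3) E) : Prop :=
  ∃ v ∈ M, v ≠ 0 ∧ ∀ w ∈ M, ∃ c : ZMod 3, w = c • v

theorem isLine_cw (hL : LinCtx ρ R b W) (hN : NormBy (RB R b) A) (g : ↥(RB R b))
    {χ : ↥A → ZMod 3} (h : IsLine (wt ρ A W χ)) : IsLine (wt ρ A W (cw hN g χ)) := by
  obtain ⟨v, hv, hv0, hall⟩ := h
  refine ⟨ρ (g : S) v, map_mem_wt' hL hN g hv, ?_, ?_⟩
  · intro h0
    apply hv0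
    rw [← rho_inv_rho ρ (g : S) v, h0, map_zero]
  · intro w hw
    have h1 : ρ ((g⁻¹ : ↥(RB R b)) : S) w ∈ wt ρ A W (cw hN g⁻¹ (cw hN g χ)) :=
      map_mem_wt' hL hN g⁻¹ hw
    rw [cw_inv_cw] at h1
    obtain ⟨c, hc⟩ := hall _ h1
    refine ⟨c, ?_⟩
    rw [← map_smul, ← hc, Subgroup.coe_inv, rho_rho_inv]

/-- values of a weight with nonzero weight space -/
theorem wt_val (hsq : ∀ a : ↥A, (a : S) * a = 1) {χ : ↥A → ZMod 3} (h : wt ρ A W χ ≠ ⊥)
    (a : ↥A) : χ a = 1 ∨ χ a = -1 := by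
  obtain ⟨w, hw, hw0⟩ := Submodule.exists_mem_ne_zero_of_ne_bot h
  apply zmod3_sq
  have h1 : ρ (a : S) (ρ (a : S) w) = w := by
    rw [← Module.End.mul_apply, ← map_mul, hsq a, map_one, Module.End.one_apply]
  rw [hw.2 a, map_smul, hw.2 a, smul_smul] at h1
  by_contra hne
  have h2 : (χ a * χ a - 1) • w = 0 := by rw [sub_smul, h1, one_smul, sub_self]
  rcases smul_eq_zero.mp h2 with h3 | h3
  · exact hne (sub_eq_zero.mp h3)
  · exact hw0 h3

/-- a weight with a prescribed value at `a`, unless `a` acts on `W` by the opposite scalar -/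
theorem exists_wt_val [Finite ↥A] (hcomm : ∀ a c : ↥A, (a : S) * c = c * a)
    (hsq : ∀ a : ↥A, (a : S) * a = 1) (hAW : ∀ a : ↥A, ∀ w ∈ W, ρ (a : S) w ∈ W) (a : ↥A)
    (c : ZMod 3) (hc : c = 1 ∨ c = -1) (hne : ¬ ∀ w ∈ W, ρ (a : S) w = (-c) • w) :
    ∃ χ : ↥A → ZMod 3, wt ρ A W χ ≠ ⊥ ∧ χ a = c := by
  by_contra hcon
  push Not at hcon
  apply hne
  have hle : W ≤ Module.End.eigenspace (ρ (a : S)) (-c) := by
    refine (le_iSup_wt ρ A W hcomm hsq hAW).trans (iSup_le fun χ => ?_)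
    by_cases hχ : wt ρ A W χ = ⊥
    · rw [hχ]; exact bot_le
    · intro w hw
      rw [Module.End.mem_eigenspace_iff, hw.2 a]
      have h1 := hcon χ hχ
      have h2 := wt_val hsq hχ a
      have : χ a = -c := by
        rcases hc with rfl | rfl <;> rcases h2 with h2 | h2
        · exact absurd h2 h1
        · exact h2
        · rw [h2, neg_neg]
        · exact absurd h2 h1
      rw [this]
  intro w hw
  exact Module.End.mem_eigenspace_iff.mp (hle hw)

/-- `R<b>` is transitive on the weights with nonzero weight space -/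
theorem trans_wt (hL : LinCtx ρ R b W) (hN : NormBy (RB R b) A)
    (hcomm : ∀ a c : ↥A, (a : S) * c = c * a) {χ₀ χ : ↥A → ZMod 3}
    (h₀ : wt ρ A W χ₀ ≠ ⊥) (h : wt ρ A W χ ≠ ⊥) : ∃ g : ↥(RB R b), cw hN g χ₀ = χ := by
  by_contra hcon
  push Not at hcon
  set N : Submodule (ZMod 3) E := ⨆ g : ↥(RB R b), wt ρ A W (cw hN g χ₀) with hNdef
  have hNW : N ≤ W := iSup_le fun g => wt_le ρ A W _
  have hNinv : InvBy ρ (RB R b) N := by
    intro k hk w hw
    have hle : N ≤ N.comap (ρ k) := iSup_le fun g => fun w hw => by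
      show ρ k w ∈ N
      have h1 := map_mem_wt' hL hN ⟨k, hk⟩ hw
      rw [← cw_mul] at h1
      exact Submodule.mem_iSup_of_mem _ h1
    exact hle hw
  rcases hL.irred N hNW hNinv with h0 | h1
  · apply h₀
    have h2 : wt ρ A W χ₀ ≤ N := by
      have h3 := le_iSup (fun g : ↥(RB R b) => wt ρ A W (cw hN g χ₀)) 1
      simp only [cw_one] at h3
      exact h3
    rw [h0] at h2
    exact le_bot_iff.mp h2
  · have hle : N ≤ ⨆ μ, ⨆ (_ : μ ≠ χ), wt ρ A W μ :=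
      iSup_le fun g => le_iSup₂_of_le (cw hN g χ₀) (hcon g) le_rfl
    have hd := wt_iSupIndep ρ A W hcomm χ
    apply h
    rw [eq_bot_iff]
    intro w hw
    have hwN : w ∈ N := h1 ▸ (wt_le ρ A W χ hw)
    exact (Submodule.mem_bot _).mpr ((Submodule.disjoint_def.mp hd) w hw (hle hwN))

end Act

/-! ### the element `b` -/

section B

variable {ρ : Representation (ZMod 3) S E} {R : Subgroup S} {b : S} {W : Submodule (ZMod 3) E}
  {x₁ x₂ x₃ : S} {e₁ e₂ e₃ : E} {A : Subgroup S}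

theorem b_cube (hL : LinCtx ρ R b W) : bRB R b * bRB R b * bRB R b = 1 := by
  apply Subtype.ext
  show b * b * b = 1
  have := pow_orderOf_eq_one b
  rw [hL.b_ord, pow_three, ← mul_assoc] at this
  exact this

theorem cw_b3 (hL : LinCtx ρ R b W) (hN : NormBy (RB R b) A) (χ : ↥A → ZMod 3) :
    cw hN (bRB R b) (cw hN (bRB R b) (cw hN (bRB R b) χ)) = χ := by
  rw [← cw_mul, ← cw_mul, b_cube hL, cw_one]

theorem cw_b2_ne (hL : LinCtx ρ R b W) (hN : NormBy (RB R b) A) {χ : ↥A → ZMod 3}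
    (hmv : cw hN (bRB R b) χ ≠ χ) : cw hN (bRB R b) (cw hN (bRB R b) χ) ≠ χ := by
  intro h
  apply hmv
  have := congrArg (cw hN (bRB R b)) h
  rw [cw_b3 hL] at this
  exact this.symm

/-- membership in the sum of the other weight spaces -/
theorem mem_others (ρ : Representation (ZMod 3) S E) (A : Subgroup S) (W : Submodule (ZMod 3) E)
    {χ ν : ↥A → ZMod 3} (hν : ν ≠ χ) {z : E} (hz : z ∈ wt ρ A W ν) :
    z ∈ ⨆ μ, ⨆ (_ : μ ≠ χ), wt ρ A W μ :=
  (le_iSup₂_of_le (f := fun μ (_ : μ ≠ χ) => wt ρ A W μ) ν hν le_rfl) hz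

/-- `1 + b + b²` is injective on a moved weight space -/
theorem nsq_inj (hL : LinCtx ρ R b W) (hN : NormBy (RB R b) A)
    (hcomm : ∀ a c : ↥A, (a : S) * c = c * a) {χ : ↥A → ZMod 3}
    (hmv : cw hN (bRB R b) χ ≠ χ) {w : E} (hw : w ∈ wt ρ A W χ)
    (h0 : ρ b (ρ b w) + ρ b w + w = 0) : w = 0 := by
  have h1 : ρ b w ∈ wt ρ A W (cw hN (bRB R b) χ) := map_mem_wt' hL hN (bRB R b) hw
  have h2 : ρ b (ρ b w) ∈ wt ρ A W (cw hN (bRB R b) (cw hN (bRB R b) χ)) :=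
    map_mem_wt' hL hN (bRB R b) h1
  have hd := wt_iSupIndep ρ A W hcomm χ
  have h3 : w = -(ρ b (ρ b w) + ρ b w) := by
    rw [eq_neg_iff_add_eq_zero, add_comm]; exact h0
  have h4 : w ∈ ⨆ μ, ⨆ (_ : μ ≠ χ), wt ρ A W μ := by
    rw [h3]
    exact Submodule.neg_mem _ (Submodule.add_mem _ (mem_others ρ A W (cw_b2_ne hL hN hmv) h2)
      (mem_others ρ A W hmv h1))
  exact (Submodule.disjoint_def.mp hd) w hw h4

/-- a moved weight space is a line -/
theorem isLine_of_moved (hL : LinCtx ρ R b W) (hQ : QData ρ R b W x₁ x₂ x₃ e₁ e₂ e₃)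
    (hN : NormBy (RB R b) A) (hcomm : ∀ a c : ↥A, (a : S) * c = c * a) {χ : ↥A → ZMod 3}
    (h : wt ρ A W χ ≠ ⊥) (hmv : cw hN (bRB R b) χ ≠ χ) : IsLine (wt ρ A W χ) := by
  obtain ⟨v, hv, hv0⟩ := Submodule.exists_mem_ne_zero_of_ne_bot h
  refine ⟨v, hv, hv0, ?_⟩
  obtain ⟨c, hc⟩ := Cfsg.Agent.Lib.H9.S4415.nsq_eq_smul hQ hv.1
  have hc0 : c ≠ 0 := by
    rintro rfl
    rw [zero_smul] at hc
    exact hv0 (nsq_inj hL hN hcomm hmv hv hc)
  intro w hw
  obtain ⟨c', hc'⟩ := Cfsg.Agent.Lib.H9.S4415.nsq_eq_smul hQ hw.1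
  refine ⟨c' * c⁻¹, ?_⟩
  have hu : w - (c' * c⁻¹) • v ∈ wt ρ A W χ :=
    Submodule.sub_mem _ hw (Submodule.smul_mem _ _ hv)
  have e : ρ b (ρ b (w - (c' * c⁻¹) • v)) + ρ b (w - (c' * c⁻¹) • v) + (w - (c' * c⁻¹) • v) =
      (ρ b (ρ b w) + ρ b w + w) - (c' * c⁻¹) • (ρ b (ρ b v) + ρ b v + v) := by
    simp only [map_sub, map_smul, smul_add]
    abel
  have h0 : ρ b (ρ b (w - (c' * c⁻¹) • v)) + ρ b (w - (c' * c⁻¹) • v) + (w - (c' * c⁻¹) • v)
      = 0 := by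
    rw [e, hc, hc', smul_smul, mul_assoc, inv_mul_cancel₀ hc0, mul_one, sub_self]
  exact sub_eq_zero.mp (nsq_inj hL hN hcomm hmv hu h0)

/-- two moved weights lie in the same `<b>`-orbit -/
theorem moved_same (hL : LinCtx ρ R b W) (hQ : QData ρ R b W x₁ x₂ x₃ e₁ e₂ e₃)
    (hN : NormBy (RB R b) A) (hcomm : ∀ a c : ↥A, (a : S) * c = c * a) {χ μ : ↥A → ZMod 3}
    (hχ : wt ρ A W χ ≠ ⊥) (hμ : wt ρ A W μ ≠ ⊥) (hmχ : cw hN (bRB R b) χ ≠ χ)
    (hmμ : cw hN (bRB R b) μ ≠ μ) :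
    μ = χ ∨ μ = cw hN (bRB R b) χ ∨ μ = cw hN (bRB R b) (cw hN (bRB R b) χ) := by
  by_contra hcon
  push Not at hcon
  obtain ⟨hn1, hn2, hn3⟩ := hcon
  obtain ⟨w, hw, hw0⟩ := Submodule.exists_mem_ne_zero_of_ne_bot hχ
  obtain ⟨w', hw', hw'0⟩ := Submodule.exists_mem_ne_zero_of_ne_bot hμ
  obtain ⟨c, hc⟩ := Cfsg.Agent.Lib.H9.S4415.nsq_eq_smul hQ hw.1
  obtain ⟨c', hc'⟩ := Cfsg.Agent.Lib.H9.S4415.nsq_eq_smul hQ hw'.1
  have hc'0 : c' ≠ 0 := by
    rintro rfl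
    rw [zero_smul] at hc'
    exact hw'0 (nsq_inj hL hN hcomm hmμ hw' hc')
  have h1 : ρ b w ∈ wt ρ A W (cw hN (bRB R b) χ) := map_mem_wt' hL hN (bRB R b) hw
  have h2 : ρ b (ρ b w) ∈ wt ρ A W (cw hN (bRB R b) (cw hN (bRB R b) χ)) :=
    map_mem_wt' hL hN (bRB R b) h1
  have h1' : ρ b w' ∈ wt ρ A W (cw hN (bRB R b) μ) := map_mem_wt' hL hN (bRB R b) hw'
  have h2' : ρ b (ρ b w') ∈ wt ρ A W (cw hN (bRB R b) (cw hN (bRB R b) μ)) :=
    map_mem_wt' hL hN (bRB R b) h1'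
  -- the five other weights differ from `χ`
  have m1 : cw hN (bRB R b) μ ≠ χ := by
    intro h
    apply hn3
    have := congrArg (fun ν => cw hN (bRB R b) (cw hN (bRB R b) ν)) h
    simp only [cw_b3 hL] at this
    exact this
  have m2 : cw hN (bRB R b) (cw hN (bRB R b) μ) ≠ χ := by
    intro h
    apply hn2
    have := congrArg (cw hN (bRB R b)) h
    rw [cw_b3 hL] at this
    exact this
  have hd := wt_iSupIndep ρ A W hcomm χ
  have key : c' • w = -(c' • ρ b (ρ b w) + c' • ρ b w) +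
      c • (ρ b (ρ b w') + ρ b w' + w') := by
    have e1 : c' • (ρ b (ρ b w) + ρ b w + w) = c • (ρ b (ρ b w') + ρ b w' + w') := by
      rw [hc, hc', smul_smul, smul_smul, mul_comm]
    rw [← e1]
    simp only [smul_add]
    abel
  have hmem : c' • w ∈ ⨆ ν, ⨆ (_ : ν ≠ χ), wt ρ A W ν := by
    rw [key]
    refine Submodule.add_mem _ (Submodule.neg_mem _ (Submodule.add_mem _
      (Submodule.smul_mem _ _ (mem_others ρ A W (cw_b2_ne hL hN hmχ) h2))
      (Submodule.smul_mem _ _ (mem_others ρ A W hmχ h1)))) (Submodule.smul_mem _ _ ?_)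
    exact Submodule.add_mem _ (Submodule.add_mem _ (mem_others ρ A W m2 h2')
      (mem_others ρ A W m1 h1')) (mem_others ρ A W hn1 hw')
  have h0 := (Submodule.disjoint_def.mp hd) (c' • w) (Submodule.smul_mem _ _ hw) hmem
  rcases smul_eq_zero.mp h0 with h | h
  · exact hc'0 h
  · exact hw0 h

/-- `b` moves some weight -/
theorem exists_moved (hL : LinCtx ρ R b W) (hN : NormBy (RB R b) A)
    (hcomm : ∀ a c : ↥A, (a : S) * c = c * a) {χ₁ χ₂ : ↥A → ZMod 3}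
    (h₁ : wt ρ A W χ₁ ≠ ⊥) (h₂ : wt ρ A W χ₂ ≠ ⊥) (h12 : χ₁ ≠ χ₂) :
    ∃ χ : ↥A → ZMod 3, wt ρ A W χ ≠ ⊥ ∧ cw hN (bRB R b) χ ≠ χ := by
  by_contra hcon
  push Not at hcon
  -- the kernel of the action on the weights
  let K : Subgroup S :=
    { carrier := {g | ∃ hg : g ∈ RB R b, ∀ χ, wt ρ A W χ ≠ ⊥ → cw hN ⟨g, hg⟩ χ = χ}
      mul_mem' := by
        rintro g h ⟨hg, hg'⟩ ⟨hh, hh'⟩
        refine ⟨(RB R b).mul_mem hg hh, fun χ hχ => ?_⟩
        have : (⟨g * h, (RB R b).mul_mem hg hh⟩ : ↥(RB R b)) = ⟨g, hg⟩ * ⟨h, hh⟩ := rfl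
        rw [this, cw_mul, hh' χ hχ, hg' χ hχ]
      one_mem' := ⟨(RB R b).one_mem, fun χ _ => cw_one hN χ⟩
      inv_mem' := by
        rintro g ⟨hg, hg'⟩
        refine ⟨(RB R b).inv_mem hg, fun χ hχ => ?_⟩
        have : (⟨g⁻¹, (RB R b).inv_mem hg⟩ : ↥(RB R b)) = (⟨g, hg⟩ : ↥(RB R b))⁻¹ := rfl
        rw [this]
        conv_lhs => rw [← hg' χ hχ]
        rw [cw_inv_cw] }
  have hKmem : ∀ g, g ∈ K ↔ ∃ hg : g ∈ RB R b, ∀ χ, wt ρ A W χ ≠ ⊥ → cw hN ⟨g, hg⟩ χ = χ :=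
    fun g => Iff.rfl
  have hbK : b ∈ K := ⟨b_mem_RB R b, fun χ hχ => hcon χ hχ⟩
  have hconj : ∀ g ∈ RB R b, ∀ k ∈ K, g * k * g⁻¹ ∈ K := by
    rintro g hg k ⟨hk, hk'⟩
    refine ⟨(RB R b).mul_mem ((RB R b).mul_mem hg hk) ((RB R b).inv_mem hg), fun χ hχ => ?_⟩
    have : (⟨g * k * g⁻¹, (RB R b).mul_mem ((RB R b).mul_mem hg hk) ((RB R b).inv_mem hg)⟩ :
        ↥(RB R b)) = ⟨g, hg⟩ * ⟨k, hk⟩ * (⟨g, hg⟩ : ↥(RB R b))⁻¹ := rfl
    rw [this, cw_mul, cw_mul, hk' _ (wt_cw_ne_bot hL hN _ hχ), cw_cw_inv]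
  have hRK : R ≤ K := by
    rw [← hL.R_comm, Subgroup.commutator_le]
    intro g₁ hg₁ g₂ hg₂
    have hg₂K : g₂ ∈ K := (Subgroup.zpowers_le.mpr hbK) hg₂
    rw [commutatorElement_def]
    exact K.mul_mem (hconj g₁ (R_le_RB R b hg₁) g₂ hg₂K) (K.inv_mem hg₂K)
  have hall : ∀ g : ↥(RB R b), ∀ χ, wt ρ A W χ ≠ ⊥ → cw hN g χ = χ := by
    intro g χ hχ
    have hgK : (g : S) ∈ K := (sup_le hRK (Subgroup.zpowers_le.mpr hbK) : RB R b ≤ K) g.2
    obtain ⟨_, hg'⟩ := hgK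
    exact hg' χ hχ
  obtain ⟨g, hg⟩ := trans_wt hL hN hcomm h₁ h₂
  exact h12 ((hall g χ₁ h₁).symm.trans hg)

end B

/-! ### the frame -/

section Frame

variable {ρ : Representation (ZMod 3) S E} {R : Subgroup S} {b : S} {W : Submodule (ZMod 3) E}
  {A : Subgroup S}

/-- the index type: weights with nonzero weight space -/
abbrev Idx (ρ : Representation (ZMod 3) S E) (A : Subgroup S) (W : Submodule (ZMod 3) E) : Type _ :=
  {χ : ↥A → ZMod 3 // wt ρ A W χ ≠ ⊥}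

/-- the permutation of the weights induced by `g` -/
def permT (hL : LinCtx ρ R b W) (hN : NormBy (RB R b) A) (g : ↥(RB R b)) :
    Equiv.Perm (Idx ρ A W) where
  toFun χ := ⟨cw hN g χ.1, wt_cw_ne_bot hL hN g χ.2⟩
  invFun χ := ⟨cw hN g⁻¹ χ.1, wt_cw_ne_bot hL hN g⁻¹ χ.2⟩
  left_inv χ := Subtype.ext (cw_inv_cw hN g χ.1)
  right_inv χ := Subtype.ext (cw_cw_inv hN g χ.1)

theorem permT_val (hL : LinCtx ρ R b W) (hN : NormBy (RB R b) A) (g : ↥(RB R b))
    (i : Idx ρ A W) : (permT hL hN g i).1 = cw hN g i.1 := rfl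

end Frame

universe u v

/-- **G1 + G2**: the monomial frame. -/
theorem frame : FrameStmt.{u, v} := by
  intro S _ _ E _ _ _ ρ R b W x₁ x₂ x₃ e₁ e₂ e₃ hL hQ hbad
  classical
  have hex : ∃ A : Subgroup S, A ≤ R ∧ NormBy (RB R b) A ∧ Cfsg.IsElementaryAbelian 2 A ∧
      ∃ a ∈ A, ¬ (∀ w ∈ W, ρ a w = w) ∧ ¬ (∀ w ∈ W, ρ a w = -w) := by
    by_contra hcon
    apply hbad
    intro A hAR hN hEA a ha
    by_contra h2
    exact hcon ⟨A, hAR, hN, hEA, a, ha, fun h => h2 (Or.inl h), fun h => h2 (Or.inr h)⟩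
  obtain ⟨A, hAR, hN, hEA, a, haA, hne1, hne2⟩ := hex
  have hcomm : ∀ a c : ↥A, (a : S) * c = c * a := fun a c => by
    have := hEA.1
    exact congrArg Subtype.val (mul_comm' a c)
  have hsq : ∀ a : ↥A, (a : S) * a = 1 := fun a => by
    have := hEA.2 a a.2
    rwa [pow_two] at this
  have hAW : ∀ a : ↥A, ∀ w ∈ W, ρ (a : S) w ∈ W := fun a =>
    hL.W_inv a (R_le_RB R b (hAR a.2))
  -- two weights separated by `a`
  obtain ⟨χp, hχp, hχpa⟩ := exists_wt_val hcomm hsq hAW ⟨a, haA⟩ 1 (Or.inl rfl) (by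
    intro h; apply hne2; intro w hw
    have := h w hw
    rwa [neg_one_smul] at this)
  obtain ⟨χm, hχm, hχma⟩ := exists_wt_val hcomm hsq hAW ⟨a, haA⟩ (-1) (Or.inr rfl) (by
    intro h; apply hne1; intro w hw
    have := h w hw
    rwa [neg_neg, one_smul] at this)
  have hpm : χp ≠ χm := by
    intro h
    rw [h, hχma] at hχpa
    exact absurd hχpa (by decide)
  -- a weight moved by `b`; all weight spaces are lines
  obtain ⟨χ₁, hχ₁, hmv⟩ := exists_moved hL hN hcomm hχp hχm hpm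
  have hline : ∀ i : Idx ρ A W, ∃ v : E, v ∈ wt ρ A W i.1 ∧ v ≠ 0 ∧
      ∀ w ∈ wt ρ A W i.1, ∃ c : ZMod 3, w = c • v := by
    intro i
    obtain ⟨g, hg⟩ := trans_wt hL hN hcomm hχ₁ i.2
    have := isLine_cw hL hN g (isLine_of_moved hL hQ hN hcomm hχ₁ hmv)
    rw [hg] at this
    exact this
  choose v hv hv0 hall using hline
  have hmono : ∀ (g : ↥(RB R b)) (i : Idx ρ A W),
      ρ (g : S) (v i) = v (permT hL hN g i) ∨ ρ (g : S) (v i) = -v (permT hL hN g i) := by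
    intro g i
    have h1 : ρ (g : S) (v i) ∈ wt ρ A W (permT hL hN g i).1 := map_mem_wt' hL hN g (hv i)
    obtain ⟨c, hc⟩ := hall (permT hL hN g i) _ h1
    have hc0 : c ≠ 0 := by
      rintro rfl
      rw [zero_smul] at hc
      apply hv0 i
      rw [← rho_inv_rho ρ (g : S) (v i), hc, map_zero]
    rcases zmod3_pm c hc0 with rfl | rfl
    · left; rw [hc, one_smul]
    · right; rw [hc, neg_one_smul]
  have hindep : LinearIndependent (ZMod 3) v :=
    iSupIndep.linearIndependent (fun i : Idx ρ A W => wt ρ A W i.1)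
      ((wt_iSupIndep ρ A W hcomm).comp Subtype.val_injective) hv hv0
  have hspan : ∀ w ∈ W, w ∈ Submodule.span (ZMod 3) (Set.range v) := by
    have hle : W ≤ Submodule.span (ZMod 3) (Set.range v) := by
      refine (le_iSup_wt ρ A W hcomm hsq hAW).trans (iSup_le fun χ => ?_)
      by_cases hχ : wt ρ A W χ = ⊥
      · rw [hχ]; exact bot_le
      · intro w hw
        obtain ⟨c, hc⟩ := hall ⟨χ, hχ⟩ w hw
        rw [hc]
        exact Submodule.smul_mem _ _ (Submodule.subset_span ⟨⟨χ, hχ⟩, rfl⟩)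
    exact fun w hw => hle hw
  have htrans : ∀ i j : Idx ρ A W, ∃ g, permT hL hN g i = j := by
    intro i j
    obtain ⟨g, hg⟩ := trans_wt hL hN hcomm i.2 j.2
    exact ⟨g, Subtype.ext hg⟩
  have : Fintype (Idx ρ A W) := Fintype.ofFinite _
  have hthree : (permT hL hN (bRB R b)).IsThreeCycle := by
    refine isThreeCycle_of _ ⟨χ₁, hχ₁⟩ ?_ ?_ ?_
    · intro h; exact hmv (congrArg Subtype.val h)
    · intro y; exact Subtype.ext (cw_b3 hL hN y.1)
    · intro y hy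
      have hy' : cw hN (bRB R b) y.1 ≠ y.1 := fun h => hy (Subtype.ext h)
      rcases moved_same hL hQ hN hcomm hχ₁ y.2 hmv hy' with h | h | h
      · exact Or.inl (Subtype.ext h)
      · exact Or.inr (Or.inl (Subtype.ext h))
      · exact Or.inr (Or.inr (Subtype.ext h))
  -- the non-scalar element
  have haRB : a ∈ RB R b := R_le_RB R b (hAR haA)
  have hperm1 : permT hL hN ⟨a, haRB⟩ = 1 := by
    refine Equiv.ext fun i => Subtype.ext ?_
    funext c
    have h := hcomm ⟨a, haA⟩ c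
    change a * (c : S) = c * a at h
    have hc : a⁻¹ * (c : S) * a = c := by rw [mul_assoc, ← h, inv_mul_cancel_left]
    exact congrArg i.1 (Subtype.ext hc)
  have hap : ρ a (v ⟨χp, hχp⟩) = v ⟨χp, hχp⟩ := by
    have h := (hv ⟨χp, hχp⟩).2 ⟨a, haA⟩
    change ρ a (v ⟨χp, hχp⟩) = χp ⟨a, haA⟩ • v ⟨χp, hχp⟩ at h
    rw [hχpa, one_smul] at h
    exact h
  have ham : ρ a (v ⟨χm, hχm⟩) = -v ⟨χm, hχm⟩ := by
    have h := (hv ⟨χm, hχm⟩).2 ⟨a, haA⟩
    change ρ a (v ⟨χm, hχm⟩) = χm ⟨a, haA⟩ • v ⟨χm, hχm⟩ at h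
    rw [hχma, neg_one_smul] at h
    exact h
  -- transfer to `Fin n`
  let e : Idx ρ A W ≃ Fin (Nat.card (Idx ρ A W)) := Finite.equivFin _
  refine ⟨Nat.card (Idx ρ A W), v ∘ e.symm, fun g => e.permCongr (permT hL hN g), ?_⟩
  exact
    { fW := fun k => wt_le ρ A W _ (hv (e.symm k))
      indep := hindep.comp e.symm e.symm.injective
      span := fun w hw => by
        rw [e.symm.surjective.range_comp v]
        exact hspan w hw
      mono := fun g k => by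
        have := hmono g (e.symm k)
        simp only [Function.comp_apply, Equiv.permCongr_apply, Equiv.symm_apply_apply]
        exact this
      trans := fun k l => by
        obtain ⟨g, hg⟩ := htrans (e.symm k) (e.symm l)
        exact ⟨g, by rw [Equiv.permCongr_apply, hg, Equiv.apply_symm_apply]⟩
      three := isThreeCycle_permCongr e _ hthree
      nonscalar := by
        refine ⟨⟨a, haRB⟩, hAR haA, ?_, e ⟨χp, hχp⟩, e ⟨χm, hχm⟩, ?_, ?_⟩
        · rw [hperm1]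
          refine Equiv.ext fun k => ?_
          simp [Equiv.permCongr_apply]
        · simp only [Function.comp_apply, Equiv.symm_apply_apply]
          exact hap
        · simp only [Function.comp_apply, Equiv.symm_apply_apply]
          exact ham }

end Cfsg.Agent.Lib.H28.S4415G
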