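import Mathlib
import Cfsg.Agent.Lib.H26.TMXDefs

/-! # S4383 piece FRAT : a normal subgroup inside the Frattini subgroup -/

set_option autoImplicit false
open Pointwise

namespace Cfsg.Agent.Lib.H28.TMX

open Cfsg.Agent.Lib.H26.TMX

universe u
variable {G : Type u} [Group G] [Finite G]

/-- FRAT: `N` in every maximal subgroup: lift solvability and the set of primes from `G ⧸ N`. -/
theorem solvable_two_primes_of_le_coatoms (N : Subgroup G) [N.Normal]
    (hN : ∀ M : Subgroup G, IsCoatom M → N ≤ M)
    (hq : Group.IsSolvable (G ⧸ N) ∧ (Nat.card (G ⧸ N)).primeFactors.card = 2) :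
    Group.IsSolvable G ∧ (Nat.card G).primeFactors.card = 2 := by
  obtain ⟨hsol, hcard⟩ := hq
  have hNfr : N ≤ frattini G := by
    rw [frattini, Order.radical]
    simp only [le_iInf_iff]
    exact hN
  -- solvability
  have hNsol : Group.IsSolvable N := by
    have : Group.IsNilpotent (frattini G) := frattini_nilpotent
    exact Group.isSolvable_of_isSolvable_injective (Subgroup.inclusion_injective hNfr)
  have hGsol : Group.IsSolvable G := by
    apply Group.isSolvable_of_ker_le_range N.subtype (QuotientGroup.mk' N)
    rw [QuotientGroup.ker_mk', Subgroup.range_subtype]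
  refine ⟨hGsol, ?_⟩
  -- primes
  have hmul : Nat.card G = Nat.card (G ⧸ N) * Nat.card N :=
    Subgroup.card_eq_card_quotient_mul_card_subgroup N
  have hsame : (Nat.card G).primeFactors = (Nat.card (G ⧸ N)).primeFactors := by
    apply Finset.Subset.antisymm
    · intro p hp
      have hpp : p.Prime := Nat.prime_of_mem_primeFactors hp
      have hpG : p ∣ Nat.card G := Nat.dvd_of_mem_primeFactors hp
      rw [Nat.mem_primeFactors]
      refine ⟨hpp, ?_, Nat.card_pos.ne'⟩
      by_contra hpQ
      have hpN : p ∣ Nat.card N := by
        rw [hmul] at hpG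
        exact ((Nat.Prime.dvd_mul hpp).mp hpG).resolve_left hpQ
      have : Fact p.Prime := ⟨hpp⟩
      let P : Sylow p N := default
      set R : Subgroup G := (P : Subgroup N).map N.subtype with hR
      have hRc : Nat.card R = Nat.card (P : Subgroup N) := by rw [hR, Subgroup.card_subtype]
      have hRN : R ≤ N := Subgroup.map_subtype_le _
      have hfr : Subgroup.normalizer (R : Set G) ⊔ N = ⊤ := Sylow.normalizer_sup_eq_top P
      have hfr2 : Subgroup.normalizer (R : Set G) ⊔ frattini G = ⊤ := by
        rw [eq_top_iff, ← hfr]; exact sup_le_sup_left hNfr _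
      have hnorm := frattini_nongenerating hfr2
      have hRn : R.Normal := Subgroup.normalizer_eq_top_iff.mp hnorm
      have hpR : p ∣ Nat.card R := by rw [hRc]; exact P.dvd_card_of_dvd_card hpN
      have hcop : Nat.Coprime (Nat.card R) R.index := by
        obtain ⟨k, hk⟩ := IsPGroup.iff_card.mp P.2
        rw [hRc, hk]
        apply Nat.Coprime.pow_left
        rw [Nat.Prime.coprime_iff_not_dvd hpp]
        intro hdi
        have hidx : R.index = (P : Subgroup N).index * N.index := by
          rw [hR]; exact Subgroup.index_map_subtype _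
        rw [hidx] at hdi
        rcases (Nat.Prime.dvd_mul hpp).mp hdi with h | h
        · exact P.not_dvd_index h
        · rw [Subgroup.index_eq_card] at h
          exact hpQ h
      obtain ⟨K, hK⟩ := Subgroup.exists_left_complement'_of_coprime hcop
      have hKtop : K ≠ ⊤ := by
        intro h
        have h1 := hK.card_mul_card
        rw [h, Subgroup.card_top] at h1
        have hR1 : Nat.card R = 1 := by
          have hpos : 0 < Nat.card G := Nat.card_pos
          exact Nat.eq_of_mul_eq_mul_left hpos (by rw [h1, mul_one])
        rw [hR1] at hpR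
        exact hpp.one_lt.ne' (Nat.dvd_one.mp hpR)
      obtain ⟨C, hC, hKC⟩ := (eq_top_or_exists_le_coatom K).resolve_left hKtop
      have hRC : R ≤ C := hRN.trans (hN C hC)
      have hle : K ⊔ R ≤ C := sup_le hKC hRC
      rw [hK.sup_eq_top] at hle
      exact hC.1 (eq_top_iff.mpr hle)
    · intro p hp
      have hpp := Nat.prime_of_mem_primeFactors hp
      have hpQ := Nat.dvd_of_mem_primeFactors hp
      rw [Nat.mem_primeFactors]
      exact ⟨hpp, hmul ▸ Dvd.dvd.mul_right hpQ _, Nat.card_pos.ne'⟩
  rw [hsame, hcard]

end Cfsg.Agent.Lib.H28.TMX
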