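import Mathlib
import Cfsg.Agent.Lib.H26.TMXDefs

/-! # S4383 pieces MIN and DICH : minimal normal subgroups -/

set_option autoImplicit false
open Pointwise

namespace Cfsg.Agent.Lib.H28.TMX

open Cfsg.Agent.Lib.H26.TMX

universe u
variable {G : Type u} [Group G] [Finite G]

/-- MIN: a nontrivial finite group has a minimal normal subgroup. -/
theorem exists_minimal_normal [Nontrivial G] :
    ∃ N : Subgroup G, N.Normal ∧ N ≠ ⊥ ∧
      ∀ K : Subgroup G, K.Normal → K ≠ ⊥ → K ≤ N → K = N := by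
  classical
  have hex : ∃ n : ℕ, ∃ N : Subgroup G, N.Normal ∧ N ≠ ⊥ ∧ Nat.card N = n :=
    ⟨_, ⊤, inferInstance, top_ne_bot, rfl⟩
  obtain ⟨N, hNn, hNb, hNc⟩ := Nat.find_spec hex
  refine ⟨N, hNn, hNb, ?_⟩
  intro K hKn hKb hKN
  apply Subgroup.eq_of_le_of_card_ge hKN
  rw [hNc]
  exact Nat.find_min' hex ⟨K, hKn, hKb, rfl⟩

/-- DICH: a minimal normal subgroup is a `p`-group or none of its nontrivial Sylow subgroups is
normal in `G`. -/
theorem minimal_normal_dichotomy (N : Subgroup G) [N.Normal]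
    (hmin : ∀ K : Subgroup G, K.Normal → K ≠ ⊥ → K ≤ N → K = N) :
    (∃ p : ℕ, p.Prime ∧ IsPGroup p N) ∨
      ∀ (p : ℕ) [Fact p.Prime] (P : Sylow p N), (P : Subgroup N) ≠ ⊥ →
        Subgroup.normalizer (((P : Subgroup N).map N.subtype : Subgroup G) : Set G) ≠ ⊤ := by
  classical
  by_cases h : ∀ (p : ℕ) [Fact p.Prime] (P : Sylow p N), (P : Subgroup N) ≠ ⊥ →
        Subgroup.normalizer (((P : Subgroup N).map N.subtype : Subgroup G) : Set G) ≠ ⊤
  · exact Or.inr h
  · left
    push Not at h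
    obtain ⟨p, hp, P, hPb, hnorm⟩ := h
    have hp' : p.Prime := hp.out
    set R : Subgroup G := (P : Subgroup N).map N.subtype with hR
    have hRn : R.Normal := Subgroup.normalizer_eq_top_iff.mp hnorm
    have hRb : R ≠ ⊥ := by
      intro h0
      apply hPb
      exact (Subgroup.map_eq_bot_iff_of_injective _ N.subtype_injective).mp h0
    have hRN : R ≤ N := Subgroup.map_subtype_le _
    have hReq := hmin R hRn hRb hRN
    refine ⟨p, hp', ?_⟩
    intro g
    have hg : (g : G) ∈ R := by rw [hReq]; exact g.2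
    obtain ⟨y, hy, hyg⟩ := hg
    have hyg' : y = g := Subtype.ext hyg
    subst hyg'
    obtain ⟨k, hk⟩ := P.2 ⟨y, hy⟩
    refine ⟨k, ?_⟩
    have := congrArg Subtype.val hk
    simpa using this

end Cfsg.Agent.Lib.H28.TMX
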