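import Mathlib
import Cfsg.Agent.Lib.H26.TMXDefs

/-! # S4383 piece NONP : the Frattini argument -/

set_option autoImplicit false
open Pointwise

namespace Cfsg.Agent.Lib.H28.TMX

open Cfsg.Agent.Lib.H26.TMX

universe u
variable {G : Type u} [Group G] [Finite G]

omit [Finite G] in
/-- membership in a conjugate subgroup -/
theorem mem_conj_smul_iff (g x : G) (M : Subgroup G) :
    x ∈ MulAut.conj g • M ↔ g⁻¹ * x * g ∈ M := by
  rw [Subgroup.mem_pointwise_smul_iff_inv_smul_mem, MulAut.smul_def, MulAut.conj_inv_apply]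

/-- NONP (Frattini argument): `N ≤ M₁`, `N ≰ M₂` and no nontrivial Sylow subgroup of `N` is normal
in `G`: impossible. -/
theorem frattini_arg_false (N : Subgroup G) [N.Normal] (M₁ M₂ : Subgroup G) (h1 : IsCoatom M₁)
    (hcov : Cover M₁ M₂) (hN1 : N ≤ M₁) (hN2 : ¬ N ≤ M₂)
    (hsyl : ∀ (p : ℕ) [Fact p.Prime] (P : Sylow p N), (P : Subgroup N) ≠ ⊥ →
      Subgroup.normalizer (((P : Subgroup N).map N.subtype : Subgroup G) : Set G) ≠ ⊤) : False := by
  apply hN2
  have hdvd : Nat.card N ∣ Nat.card (N ⊓ M₂ : Subgroup G) := by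
    rw [Nat.dvd_iff_prime_pow_dvd_dvd]
    intro p k hp hpk
    rcases Nat.eq_zero_or_pos k with rfl | hk
    · rw [pow_zero]; exact one_dvd _
    have : Fact p.Prime := ⟨hp⟩
    let P : Sylow p N := default
    have h1P : p ^ k ∣ Nat.card (P : Subgroup N) := P.pow_dvd_card_of_pow_dvd_card hpk
    have hPbot : (P : Subgroup N) ≠ ⊥ := by
      intro h
      rw [h, Subgroup.card_bot] at h1P
      have := Nat.le_of_dvd one_pos h1P
      have h2 : 2 ≤ p ^ k := by
        calc 2 ≤ p := hp.two_le
          _ = p ^ 1 := (pow_one p).symm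
          _ ≤ p ^ k := Nat.pow_le_pow_right hp.pos hk
      omega
    set R : Subgroup G := (P : Subgroup N).map N.subtype with hR
    have hRc : Nat.card R = Nat.card (P : Subgroup N) := by rw [hR, Subgroup.card_subtype]
    have hRN : R ≤ N := Subgroup.map_subtype_le _
    have hnt := hsyl p P hPbot
    have hfr : Subgroup.normalizer (R : Set G) ⊔ N = ⊤ := Sylow.normalizer_sup_eq_top P
    obtain ⟨g, hg | hg⟩ := hcov _ hnt
    · exfalso
      -- the conjugate of M₁ contains N and the normalizer, hence is everything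
      have hNg : N ≤ MulAut.conj g • M₁ := by
        intro x hx
        rw [mem_conj_smul_iff]
        apply hN1
        have := ‹N.Normal›.conj_mem x hx g⁻¹
        rwa [inv_inv] at this
      have htop : MulAut.conj g • M₁ = ⊤ := by
        rw [eq_top_iff, ← hfr]
        exact sup_le hg hNg
      apply h1.1
      rw [eq_top_iff]
      intro x _
      have : g * x * g⁻¹ ∈ MulAut.conj g • M₁ := by rw [htop]; exact Subgroup.mem_top _
      rw [mem_conj_smul_iff] at this
      have e : g⁻¹ * (g * x * g⁻¹) * g = x := by group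
      rwa [e] at this
    · -- R is conjugate into N ⊓ M₂
      have hle : R.map (MulAut.conj g⁻¹).toMonoidHom ≤ N ⊓ M₂ := by
        rintro _ ⟨x, hx, rfl⟩
        have hxg : x ∈ MulAut.conj g • M₂ := hg (Subgroup.le_normalizer hx)
        rw [mem_conj_smul_iff] at hxg
        simp only [MulEquiv.coe_toMonoidHom, MulAut.conj_apply, inv_inv]
        refine ⟨?_, hxg⟩
        have := ‹N.Normal›.conj_mem x (hRN hx) g⁻¹
        rwa [inv_inv] at this
      have h2 := Subgroup.card_dvd_of_le hle
      rw [Subgroup.card_map_of_injective (MulAut.conj g⁻¹).injective, hRc] at h2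
      exact h1P.trans h2
  have heq : (N ⊓ M₂ : Subgroup G) = N :=
    Subgroup.eq_of_le_of_card_ge inf_le_left (Nat.le_of_dvd Nat.card_pos hdvd)
  exact inf_eq_left.mp heq

end Cfsg.Agent.Lib.H28.TMX
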