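/-
helper28 library: orbits of the stabilizer of a dodecad on the 2576 dodecads (sizes 1, 1, 495, 495, 1584).
-/
import Cfsg.Agent.Lib.H28.M24OctadOrbits

set_option autoImplicit false

namespace Cfsg.Agent.Lib.H28

open Cfsg
open scoped Pointwise

/-! ### Orbits of the stabilizer of the dodecad of squares on dodecads -/

def dodGenWords : List (List ℕ) := [[4], [4, 1, 2, 3, 1, 2, 0, 0]]

def dodStart4 : ℕ := 1035448

set_option maxRecDepth 1000000 in
def dodCert4 : List (ℕ × ℕ) := [(3256, 0), (3256, 1), (3466, 0), (3466, 1), (2464, 0), (2464, 1), (1098, 0), (1098, 1), (1080, 0), (1080, 1), (1698, 0), (1698, 1), (3186, 0), (3186, 1), (2668, 0), (2668, 1), (1225, 0), (1225, 1), (680, 0), (680, 1), (3394, 0), (3394, 1), (4064, 0), (4064, 1), (2248, 0), (2248, 1), (2756, 0), (2756, 1), (3561, 0), (3561, 1), (2236, 1), (3237, 0), (3237, 1), (3117, 0), (3117, 1), (1667, 0), (1667, 1), (3498, 0), (3498, 1), (2176, 0), (2176, 1), (2116, 0), (2116, 1), (1211,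 0), (1211, 1), (1156, 0), (1156, 1), (3123, 0), (3123, 1), (3374, 0), (1185, 0), (1185, 1), (3126, 0), (165, 0), (1165, 0), (1165, 1), (2609, 0), (3494, 0), (3494, 1), (3505, 0), (3505, 1), (3750, 0), (3750, 1), (2457, 0), (2457, 1), (2724, 0), (2724, 1), (3137, 0), (3137, 1), (1674, 0), (1674, 1), (1256, 0), (1256, 1), (3874, 0), (1250, 0), (1250, 1), (2836, 0), (2836, 1), (1253, 0), (1253, 1), (1257, 0), (1257, 1), (3848, 0), (3888, 1), (1222, 0), (481, 0), (481, 1), (3880, 0), (3880, 1), (2296, 0), (2296, 1), (3778, 1), (240, 0), (1561, 0), (1561, 1), (1604, 0), (1604, 1), (161, 0), (161, 1), (3280, 0), (3262, 0), (3262, 1), (3457, 0), (3457, 1), (2992, 0), (2992, 1), (3282, 0), (3282, 1), (2220, 0), (2220, 1), (1065, 0), (1065, 1), (1840, 1), (1202, 0), (3110, 0), (3110, 1), (2341, 0), (2341, 1), (1699, 0), (1699, 1), (1384, 1), (1032, 0), (2528, 0), (2528, 1), (3814, 0), (2249, 0), (2249, 1), (2096, 0), (2096, 1), (1460, 0), (1460, 1), (1207,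 0), (3589, 1), (3215, 0), (3215, 1), (3713, 0), (3713, 1), (2088, 0), (2088, 1), (2480, 0), (3158, 0), (3158, 1), (3239, 0), (2705, 0), (2705, 1), (2186, 0), (2186, 1), (3248, 0), (3248, 1), (3425, 1), (3462, 1), (2089, 0), (2089, 1), (1920, 0), (1920, 1), (1031, 0), (3491, 0), (3491, 1), (3714, 0), (3876, 0), (3876, 1), (1240, 0), (1240, 1), (2348, 0), (624, 1), (2352, 0), (2352, 1), (1124, 0), (1124, 1), (1323, 1), (1976, 0), (1976, 1), (3172, 0), (2731, 1), (2752, 0), (2752, 1), (3474, 0), (3474, 1), (3520, 0), (3520, 1), (3056, 0), (3308, 1), (2481, 0), (3764, 0), (3764, 1), (3299, 0), (3720, 1), (2195, 0), (2195, 1), (2314, 0), (2314, 1), (2291, 1), (1268, 0), (1268, 1), (3629, 0), (2690, 1), (3554, 0), (3504, 1), (3476, 0), (3476, 1), (3281, 0), (3281, 1), (740, 0), (740, 1), (3193, 0), (3193, 1), (1708, 0), (1708, 1), (1569, 0), (1634, 0), (1634, 1), (2984, 0), (2984, 1), (2274, 0), (2274, 1), (2164, 0), (2164, 1), (429, 0), (429, 1), (1777,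 0), (1777, 1), (3585, 0), (2016, 0), (2016, 1), (1258, 0), (1258, 1), (1952, 0), (1952, 1), (3426, 0), (2219, 1), (3746, 0), (3746, 1), (3360, 0), (3360, 1), (1170, 1), (3768, 0), (3682, 0), (178, 0), (178, 1), (3124, 1), (1070, 0), (1070, 1), (257, 0), (257, 1), (152, 1), (2497, 1), (3440, 0), (2486, 0), (2486, 1), (3736, 1), (3240, 1), (2448, 0), (2448, 1), (2198, 1), (3624, 0), (3624, 1), (3620, 1), (1251, 0), (1251, 1), (1376, 0), (1376, 1), (312, 0), (312, 1), (3334, 1), (177, 1), (3236, 0), (2213, 0), (3745, 1), (3218, 0), (3218, 1), (3492, 0), (3269, 0), (3269, 1), (1248, 0), (1248, 1), (1962, 0), (2408, 0), (2408, 1), (1208, 0), (2857, 0), (2857, 1), (3252, 1), (2439, 1), (185, 1), (1192, 1), (3568, 0), (3122, 0), (436, 0), (436, 1), (1953, 1), (3205, 0), (2221, 1), (2977, 0), (3224, 0), (3224, 1), (3206, 0), (2465, 0), (2465, 1), (3209, 1), (3120, 0), (3243, 0), (3243, 1), (182, 1), (3365, 1), (3841, 1), (2083, 1), (1444, 0), (2065, 0), (3083,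 1), (3216, 0), (2278, 1), (2728, 0), (2728, 1), (3776, 0), (3776, 1), (3306, 0), (2944, 0), (3314, 1), (1416, 0), (1416, 1), (3808, 1), (3530, 0), (2532, 0), (2532, 1), (250, 1), (3084, 0), (3084, 1), (1746, 1), (1472, 1), (1713, 0), (3388, 0), (1314, 0), (1314, 1), (2146, 1), (3328, 0), (1458, 1), (1452, 0), (1452, 1), (424, 0), (3106, 0), (3238, 0), (3238, 1), (3557, 1), (3721, 1), (646, 0), (3153, 1), (2218, 0), (3472, 0), (1148, 0), (1148, 1), (3904, 1), (3729, 0), (3680, 0), (3138, 0), (426, 0), (426, 1), (3075, 0), (3304, 0), (3313, 1), (2217, 0), (2736, 0), (2340, 0), (2340, 1), (2946, 0), (2946, 1), (3136, 0), (3136, 1), (1700, 0), (738, 1), (3728, 0), (3540, 0), (2768, 0), (2768, 1), (3347, 0), (418, 0), (1360, 1), (1441, 1), (1568, 0), (3785, 0), (2792, 0), (2444, 0), (3828, 0), (1712, 0), (554, 0), (2285, 0), (2285, 1), (3210, 0), (3234, 1), (1187, 0), (1187, 1), (1516, 1), (3872, 1), (3369, 0), (1232, 0), (3233, 1), (3180, 1), (3253, 1),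 (2616, 0), (1254, 0), (1417, 1), (1171, 0), (1171, 1), (480, 0), (3179, 1), (2850, 1), (3352, 1), (3226, 0), (3496, 0), (3496, 1), (2530, 0), (2530, 1), (1522, 0), (3116, 0), (3116, 1), (2741, 0), (2741, 1), (3696, 0), (3818, 0), (3818, 1), (3616, 1), (3461, 0), (3461, 1), (1265, 0), (1265, 1), (3361, 0), (2136, 0), (2136, 1), (3756, 0), (4003, 0), (1705, 1), (3488, 0), (2738, 0), (1120, 1), (1082, 0), (227, 0), (3618, 0), (3618, 1), (1316, 0), (1313, 0), (2145, 0), (2145, 1), (3664, 0), (2722, 0), (1069, 0), (1069, 1), (1196, 0), (2280, 0), (3749, 0), (2154, 0), (1475, 0), (3093, 1), (2162, 1), (3588, 0), (3588, 1), (2784, 1), (2149, 0), (3681, 0), (4004, 0), (1640, 0), (4008, 0), (4008, 1), (1476, 0), (1476, 1), (3129, 0), (2714, 0), (3300, 0), (3300, 1), (3276, 0), (1073, 1), (2945, 0), (2092, 0), (1249, 0), (3712, 1), (2536, 0), (2536, 1), (194, 0), (2467, 1), (3809, 1), (3552, 1), (3718, 1), (1464, 1), (1188, 0), (3297, 0), (167, 1), (3184, 0),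 (213, 0), (4032, 0), (2490, 0), (1701, 0), (34, 0), (3121, 0), (3832, 0), (174, 0), (3344, 1)]

def dodStart6 : ℕ := 57274

set_option maxRecDepth 1000000 in
def dodCert6 : List (ℕ × ℕ) := [(4026, 0), (4026, 1), (1736, 0), (1736, 1), (2424, 0), (2424, 1), (1550, 1), (1091, 0), (1091, 1), (428, 1), (3379, 0), (142, 0), (142, 1), (837, 0), (837, 1), (1611, 0), (1611, 1), (2260, 0), (2260, 1), (2243, 0), (2243, 1), (3450, 0), (3450, 1), (1166, 0), (1166, 1), (2357, 0), (2357, 1), (661, 1), (79, 0), (79, 1), (1545, 0), (1545, 1), (3606, 0), (1511, 0), (1511, 1), (3911, 0), (3911, 1), (745, 1), (2508, 0), (2489, 0), (2489, 1), (3674, 0), (3674, 1), (1230, 0), (689, 0), (689, 1), (3958, 1), (1924, 1), (2141, 0), (2141, 1), (1679, 0), (809, 0), (809, 1), (1602, 0), (2418, 0), (2418, 1), (1749, 0), (2653, 0), (2653, 1), (573, 1), (2625, 1), (1566, 0), (1566, 1), (1163, 0), (3890, 0), (2412, 0), (2412, 1), (1449, 0), (1449, 1), (1660, 0), (1660, 1), (3971,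 1), (3008, 0), (3008, 1), (3517, 0), (3517, 1), (212, 0), (212, 1), (2365, 0), (2365, 1), (1957, 0), (1957, 1), (1145, 0), (2441, 0), (2441, 1), (3730, 0), (3730, 1), (2406, 0), (2406, 1), (198, 1), (3387, 1), (1589, 0), (1589, 1), (29, 0), (805, 0), (2948, 0), (2948, 1), (611, 0), (611, 1), (632, 1), (332, 0), (332, 1), (3915, 0), (3915, 1), (736, 0), (2238, 0), (2231, 0), (2231, 1), (3467, 0), (2706, 1), (444, 0), (444, 1), (2309, 0), (2309, 1), (570, 0), (570, 1), (1798, 0), (1798, 1), (1137, 0), (1137, 1), (1465, 0), (1465, 1), (2868, 0), (2868, 1), (3894, 0), (453, 0), (2203, 1), (2996, 0), (2996, 1), (3219, 0), (3219, 1), (3734, 0), (3734, 1), (2445, 1), (3881, 0), (3881, 1), (1778, 0), (1378, 0), (1322, 0), (1322, 1), (2516, 0), (2516, 1), (2239, 0), (2239, 1), (1229, 0), (1229, 1), (2936, 0), (2936, 1), (179, 0), (179, 1), (3846, 1), (59, 0), (59, 1), (433, 0), (433, 1), (3378, 1), (2535, 0), (2697, 0), (3331, 0), (3331, 1), (2364, 0), (2364,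 1), (1175, 0), (1175, 1), (2125, 1), (697, 1), (4006, 0), (4006, 1), (2040, 1), (3793, 0), (3793, 1), (3054, 0), (3054, 1), (1865, 0), (1865, 1), (1386, 0), (1386, 1), (1210, 1), (2326, 0), (2326, 1), (1718, 1), (1000, 0), (3400, 0), (3400, 1), (1246, 0), (1246, 1), (935, 0), (935, 1), (2881, 0), (2881, 1), (1675, 0), (1675, 1), (2896, 0), (2896, 1), (2194, 0), (2194, 1), (3510, 0), (242, 0), (242, 1), (3607, 0), (3607, 1), (872, 0), (872, 1), (1680, 1), (3446, 0), (3905, 0), (2026, 1), (1904, 0), (364, 0), (364, 1), (2953, 1), (2800, 0), (2800, 1), (3270, 1), (2502, 0), (2502, 1), (3018, 0), (2264, 0), (2264, 1), (1397, 0), (1397, 1), (1275, 0), (3884, 0), (3884, 1), (3647, 0), (3647, 1), (709, 0), (709, 1), (2188, 0), (2188, 1), (2483, 0), (2483, 1), (3555, 1), (2954, 0), (2954, 1), (252, 0), (252, 1), (2507, 0), (2507, 1), (3976, 0), (3976, 1), (3969, 0), (3969, 1), (4050, 1), (2554, 0), (2554, 1), (1237, 0), (1237, 1), (3883, 0), (3883, 1), (865,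 0), (1658, 0), (2968, 0), (3572, 1), (3187, 0), (3187, 1), (1934, 0), (1934, 1), (1639, 0), (1639, 1), (3842, 0), (1520, 1), (2110, 1), (3345, 1), (1287, 0), (801, 0), (1244, 0), (1244, 1), (2109, 0), (2109, 1), (557, 1), (593, 1), (1004, 0), (3161, 0), (2376, 0), (1534, 0), (1534, 1), (3404, 0), (3404, 1), (3246, 0), (2350, 0), (2350, 1), (1203, 0), (3452, 0), (397, 0), (397, 1), (1267, 0), (2588, 0), (2588, 1), (2567, 1), (1643, 0), (1643, 1), (584, 1), (516, 0), (1395, 1), (3938, 0), (3938, 1), (490, 0), (490, 1), (2000, 0), (2000, 1), (1734, 0), (1734, 1), (2379, 0), (2379, 1), (2673, 0), (2673, 1), (2028, 0), (2028, 1), (684, 0), (3155, 0), (3155, 1), (1474, 0), (1474, 1), (500, 1), (2343, 1), (2073, 0), (2073, 1), (166, 0), (166, 1), (2462, 0), (2462, 1), (3221, 0), (626, 1), (1414, 0), (3363, 0), (175, 0), (175, 1), (1908, 1), (1644, 0), (1644, 1), (1582, 0), (1379, 0), (2199, 0), (3989, 0), (3989, 1), (3279, 0), (2712, 0), (2294, 0), (2294,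 1), (249, 0), (2860, 0), (2860, 1), (3605, 0), (3605, 1), (711, 0), (711, 1), (1818, 1), (1126, 0), (1505, 0), (1505, 1), (3898, 0), (2617, 0), (2617, 1), (3658, 0), (3658, 1), (248, 0), (248, 1), (1470, 0), (3333, 0), (3333, 1), (3151, 1), (1721, 0), (1721, 1), (1578, 0), (1578, 1), (1138, 0), (3843, 1), (1776, 0), (1776, 1), (313, 1), (1262, 0), (2361, 1), (3861, 0), (3861, 1), (1989, 0), (1989, 1), (201, 0), (201, 1), (3642, 0), (3642, 1), (2949, 0), (2286, 1), (3594, 0), (3594, 1), (3383, 1), (2503, 0), (2503, 1), (2985, 0), (3672, 0), (3672, 1), (220, 0), (2261, 0), (3727, 0), (2370, 0), (3411, 0), (3411, 1), (2476, 0), (2476, 1), (882, 0), (882, 1), (83, 0), (83, 1), (931, 0), (1596, 0), (1596, 1), (1351, 0), (1351, 1), (441, 0), (441, 1), (2854, 0), (2630, 0), (1923, 1), (3772, 0), (2063, 0), (2063, 1), (2574, 1), (1276, 0), (1276, 1), (2333, 1), (2876, 0), (245, 0), (4056, 0), (3032, 1), (2300, 0), (3779, 1), (158, 1), (3099, 0), (1686, 0),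 (1686, 1), (1765, 0), (1765, 1), (2872, 0), (1646, 1), (237, 1), (3595, 0), (3595, 1), (1219, 0), (2866, 0), (2866, 1), (3865, 0), (3865, 1), (454, 0), (2105, 1), (3790, 0), (3289, 1), (3590, 1), (465, 0), (465, 1), (1398, 1), (13, 0), (13, 1), (589, 0), (589, 1), (1657, 0), (1657, 1), (2183, 1), (2979, 0), (2979, 1), (2197, 0), (2197, 1), (4024, 0), (4024, 1), (2405, 0), (2405, 1), (939, 0), (1894, 0), (89, 0), (2389, 1), (2686, 1), (777, 0), (1890, 0), (2034, 0), (2034, 1), (2126, 1), (3704, 0), (3704, 1), (508, 0), (1555, 1), (3410, 0), (3410, 1), (963, 0), (963, 1), (3803, 0), (2764, 0), (2764, 1), (3413, 0), (3413, 1), (2748, 1), (2247, 1), (2522, 0), (2522, 1), (2757, 0), (3699, 0), (1553, 0), (1553, 1), (884, 0), (1119, 1), (1832, 0), (1524, 0), (2351, 0), (1199, 0), (1199, 1), (2230, 0), (2230, 1), (305, 0), (305, 1), (806, 0), (1365, 0), (1365, 1), (1432, 1), (3975, 0), (2769, 0), (2250, 1), (3040, 0), (620, 0), (1131, 0), (1964, 0), (1964,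 1), (2371, 0), (2371, 1), (3290, 0), (3290, 1), (2611, 0), (2611, 1), (1782, 0), (749, 0), (749, 1), (1673, 0), (1673, 1), (3906, 0), (3016, 0), (3044, 0), (762, 0), (762, 1), (1926, 1), (2369, 0), (2369, 1), (3024, 0), (3024, 1), (1758, 0), (1758, 1), (4082, 0), (4082, 1), (2067, 1), (948, 0), (948, 1), (1047, 0), (1047, 1), (533, 0), (533, 1), (3853, 1), (1731, 1), (488, 0), (2346, 0), (2346, 1), (3633, 0), (3119, 1), (2634, 1), (234, 1), (3068, 0), (3068, 1), (1143, 0), (1143, 1), (1597, 0), (1597, 1), (1707, 0), (556, 0), (355, 0), (355, 1), (1308, 0), (3349, 0), (1369, 1), (2916, 1), (71, 0), (825, 0), (825, 1), (3738, 0), (3318, 0), (3318, 1), (2246, 0), (2246, 1), (3481, 0), (2917, 1), (1993, 1), (1761, 0), (2458, 0), (3460, 0), (3460, 1), (671, 1), (1451, 0), (2832, 0), (2832, 1), (2258, 1), (2420, 0), (2420, 1), (1560, 0), (1720, 0), (1720, 1), (347, 0), (347, 1), (1580, 0), (1580, 1), (1260, 0), (1260, 1), (1694, 0), (1694, 1), (950, 0),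 (3223, 1), (1292, 1), (369, 0), (369, 1), (1182, 0), (1577, 0), (1577, 1), (1356, 1), (2921, 0), (1358, 0), (3479, 1), (2693, 1), (170, 0), (3085, 1), (2695, 1), (2377, 0), (2377, 1), (1706, 0), (1706, 1), (3399, 1), (448, 1), (3386, 1), (43, 0), (816, 0), (1620, 1), (3936, 0), (3936, 1), (3708, 0), (3708, 1), (867, 0), (867, 1), (110, 1), (1797, 0), (849, 0), (849, 1), (3359, 1), (2875, 0), (1732, 0), (1732, 1), (2621, 0), (1733, 1), (173, 0), (2819, 1), (558, 0), (558, 1), (1985, 0), (1985, 1), (2680, 0), (2680, 1), (1331, 0), (1830, 0), (1830, 1), (3464, 0), (407, 1), (3275, 0), (2575, 0), (1013, 1), (2477, 1), (2347, 0), (230, 0), (1508, 1), (3353, 0), (1261, 0), (1261, 1), (654, 0), (654, 1), (2401, 0), (1928, 0), (1928, 1), (836, 0), (1401, 1), (3685, 0), (3685, 1), (729, 0), (1133, 0), (1564, 0), (1127, 0), (2325, 0), (949, 1), (2342, 1), (1711, 0), (1711, 1), (1100, 1), (315, 0), (315, 1), (3893, 0), (3893, 1), (231, 0), (231, 1), (515, 1),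 (834, 0), (834, 1), (404, 0), (404, 1), (1805, 1), (2474, 0), (1430, 0), (2267, 0), (2267, 1), (3579, 1), (3538, 0), (3502, 0), (3502, 1), (387, 0), (387, 1), (3858, 0), (3858, 1), (2546, 0), (2101, 1), (1943, 0), (1943, 1), (1298, 0), (1298, 1), (1617, 0), (1617, 1), (1575, 0), (107, 0), (107, 1), (1956, 0), (1956, 1), (2460, 0), (2460, 1), (2509, 0), (1466, 0), (3092, 0), (3092, 1), (699, 0), (3662, 0), (3662, 1), (489, 0), (489, 1), (3041, 0), (3048, 0), (3796, 0), (3796, 1), (3371, 0), (3371, 1), (1666, 1), (356, 1), (3372, 0), (3372, 1), (1462, 1), (2313, 0), (2313, 1), (1054, 0), (807, 0), (807, 1), (1649, 1), (3078, 0), (1459, 0), (1116, 1), (1293, 1), (1220, 0), (2363, 0), (1898, 1), (2388, 0), (2388, 1), (625, 0), (817, 0), (817, 1), (1860, 1), (1716, 1), (523, 0), (523, 1), (1422, 0), (2506, 0), (3258, 0), (3258, 1), (897, 1), (3694, 1), (1067, 0), (3147, 0), (1180, 0), (3381, 0), (2805, 1), (3021, 0), (2713, 1), (3012, 0), (3012, 1), (442,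 0), (3739, 1), (2362, 0), (2362, 1), (307, 0), (1811, 0), (2293, 1), (649, 1), (3920, 0), (3912, 1), (1748, 1), (2415, 0), (3670, 0), (3670, 1), (239, 0), (239, 1), (1801, 0), (1801, 1), (3765, 0), (657, 0), (657, 1), (3973, 1), (1842, 0), (1842, 1), (118, 0), (118, 1), (1932, 0), (2594, 0), (498, 1), (1387, 1), (2858, 1), (1418, 1), (2306, 1), (921, 0), (921, 1), (3142, 1), (3486, 0), (3207, 1), (3194, 0), (396, 0), (396, 1), (3312, 0), (940, 0), (940, 1), (86, 0), (86, 1), (2469, 0), (2469, 1), (2963, 0), (1370, 1), (907, 0), (3648, 0), (3648, 1), (1239, 0), (1239, 1), (143, 0), (143, 1), (348, 0), (612, 1), (4042, 1), (678, 0), (678, 1), (1710, 0), (1710, 1), (2317, 1), (1482, 1), (3082, 0), (3082, 1), (1725, 1), (1235, 0), (3384, 0), (715, 0), (2976, 0), (2976, 1), (1477, 1), (156, 1), (3367, 1), (197, 0), (2587, 0), (2253, 0), (2253, 1), (563, 0), (39, 0), (1809, 0), (1809, 1), (1852, 0), (1852, 1), (2281, 1), (3638, 0), (3638, 1), (1223, 0),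 (1223, 1), (2201, 1), (647, 0), (647, 1), (1435, 0), (1435, 1), (698, 0), (2252, 0), (1541, 0), (1619, 0), (430, 0), (430, 1), (2337, 1), (2531, 0), (2531, 1), (2770, 0), (3292, 0), (3850, 1), (1884, 0), (1884, 1), (1613, 1), (2171, 0), (2965, 0), (2965, 1), (2742, 0), (2761, 1), (4052, 0), (4052, 1), (2263, 0), (2263, 1), (2315, 0), (2315, 1), (3741, 0), (3741, 1), (2759, 0), (2759, 1), (1114, 1), (14, 0), (14, 1), (80, 1), (2614, 1), (3857, 0), (693, 0), (3687, 0), (3687, 1), (3373, 0), (159, 1), (2360, 0), (2360, 1), (531, 0), (3134, 0), (3134, 1), (1243, 0), (3596, 0), (3596, 1), (1093, 0), (233, 0), (233, 1), (3866, 0), (2225, 1), (2998, 0), (2998, 1), (3287, 1), (1546, 0), (1546, 1), (868, 0), (1113, 1), (3634, 0), (1494, 1), (662, 0), (662, 1), (1992, 1), (1618, 0), (1618, 1), (3693, 0), (3693, 1), (2025, 0), (2025, 1), (3897, 0), (3398, 0), (1786, 0), (2172, 0), (728, 0), (728, 1), (578, 1), (1400, 1), (3780, 0), (3780, 1), (924, 1), (2626,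 0), (1498, 0), (2597, 1), (1987, 1), (243, 1), (2797, 0), (2763, 0), (2763, 1), (3984, 0), (3984, 1), (2262, 0), (2262, 1), (1309, 1), (3784, 0), (2834, 0), (486, 1), (3817, 0), (3817, 1), (126, 1), (45, 0), (45, 1), (1677, 1), (3667, 0), (3667, 1), (1191, 0), (3470, 0), (1046, 1), (295, 0), (295, 1), (2537, 0), (202, 1), (3190, 1), (2398, 0), (299, 0), (299, 1), (1586, 0), (2904, 0), (2801, 1), (2780, 0), (2780, 1), (4033, 0), (2898, 0), (2017, 1), (1558, 0), (1814, 0), (457, 0), (2265, 1), (2358, 1), (1461, 0), (1461, 1), (2471, 1), (2211, 1), (2962, 1), (1173, 0), (2438, 0), (2889, 1), (712, 0), (712, 1), (1912, 1), (3916, 0), (1738, 0), (3434, 0), (658, 1), (2095, 0), (2127, 0), (2127, 1), (3610, 0), (3610, 1), (401, 0), (3877, 0), (802, 1), (1300, 0), (55, 0), (55, 1), (2755, 1), (97, 0), (2981, 0), (2981, 1), (1730, 0), (1730, 1), (292, 1), (51, 0), (51, 1), (1285, 0), (1285, 1), (253, 1), (340, 0), (1325, 0), (1325, 1), (1789, 0), (3661, 1),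 (2571, 0), (2571, 1), (1744, 1), (3873, 0), (962, 0), (962, 1), (694, 0), (694, 1), (960, 0), (2774, 1), (3533, 1), (1304, 0), (994, 0), (994, 1), (2521, 0), (2585, 0), (26, 0), (26, 1), (122, 0), (122, 1), (3113, 0), (3113, 1), (1938, 0), (1938, 1), (111, 0), (111, 1), (3416, 1), (622, 0), (238, 1), (3864, 0), (214, 0), (214, 1), (3974, 0), (3974, 1), (1690, 0), (3156, 1), (2676, 0), (1487, 1), (1433, 1), (3177, 0), (774, 0), (1123, 0), (1123, 1), (1109, 0), (783, 0), (718, 0), (3141, 0), (3141, 1), (1081, 0), (1081, 1), (3794, 0), (2008, 0), (2008, 1), (2124, 0), (628, 1), (1130, 0), (1607, 0), (2730, 0), (3437, 0), (3437, 1), (3970, 0), (3970, 1), (2290, 0), (1685, 0), (1685, 1), (390, 0), (390, 1), (2622, 0), (1845, 0), (1845, 1), (361, 0), (3135, 1), (1703, 0), (2753, 1), (2803, 0), (2803, 1), (2849, 0), (976, 0), (184, 0), (184, 1), (3350, 0), (2787, 1), (2512, 0), (3925, 0), (717, 0), (1954, 1), (1944, 1), (3562, 1), (3900, 0), (3900, 1), (2833,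 1), (357, 0), (1274, 0), (1274, 1), (3102, 1), (2681, 1), (3684, 0), (3684, 1), (120, 1), (405, 0), (405, 1), (1669, 1), (205, 1), (1266, 0), (1633, 0), (1633, 1), (3380, 1), (437, 0), (437, 1), (1621, 0), (1901, 0), (760, 0), (760, 1), (1305, 0), (1305, 1), (1141, 1), (559, 0), (1291, 0), (1102, 0), (1347, 0), (1347, 1), (2561, 1), (3473, 1), (2733, 0), (2733, 1), (780, 1), (2442, 1), (2482, 1), (2659, 1), (2778, 1), (2540, 0), (3181, 0), (3181, 1), (792, 1), (102, 0), (3777, 1), (2152, 0), (2914, 0), (2914, 1), (3536, 1), (2492, 0), (2922, 1), (1224, 0), (1224, 1), (2708, 0), (1921, 1), (1501, 0), (1501, 1), (1233, 0), (1233, 1), (1353, 0), (1353, 1), (2725, 0), (2725, 1), (3213, 0), (2707, 0), (2707, 1), (2646, 1), (1772, 0), (1772, 1), (2716, 0), (3630, 0), (1473, 1), (1227, 1), (229, 1), (1428, 0), (2918, 0), (1612, 0), (2726, 1), (3851, 1), (3149, 0), (683, 0), (683, 1), (1792, 1), (370, 1), (301, 1), (2004, 1), (1838, 1), (354, 0), (3165, 0),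 (3165, 1), (1167, 0), (3619, 0), (2319, 1), (2969, 0), (2969, 1), (3782, 0), (3782, 1), (708, 1), (69, 0), (69, 1), (1835, 1), (2001, 1), (270, 0), (3676, 0), (3676, 1), (1965, 1), (1097, 1), (2140, 1), (3800, 0), (2786, 0), (2094, 1), (2915, 1), (3356, 0), (1445, 1), (2372, 0), (3665, 0), (2130, 0), (368, 1), (1583, 0), (1583, 1), (803, 0), (3580, 0), (3763, 1), (2750, 1), (3922, 0), (1587, 0), (1326, 0), (1326, 1), (3406, 0), (328, 0), (328, 1), (505, 0), (2429, 0), (330, 1), (296, 0), (296, 1), (3875, 1), (945, 0), (2266, 0), (2266, 1), (784, 1), (499, 0), (499, 1), (3852, 0), (1641, 0), (2804, 0), (1892, 0), (3286, 0), (3286, 1), (993, 1), (2890, 1), (2835, 0), (724, 1), (2885, 0), (2885, 1), (2070, 1), (3604, 0), (3604, 1), (3261, 1), (679, 1), (2665, 1), (1770, 1), (323, 0), (323, 1), (1490, 0), (3340, 0), (3340, 1), (1574, 0), (1574, 1), (2856, 0), (3524, 1), (3087, 0), (2601, 0), (458, 0), (750, 0), (3401, 0), (3401, 1), (3810, 0), (3424,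 0), (3424, 1), (410, 0), (2303, 0), (3725, 0), (1393, 1), (732, 0), (808, 0), (1142, 0), (60, 0), (3688, 0), (1383, 1), (2454, 1), (850, 0), (941, 1), (2384, 0), (999, 0), (3657, 0), (279, 1), (121, 1), (427, 0), (427, 1), (2818, 0), (3396, 0), (3396, 1), (1068, 0), (318, 0), (3463, 0), (3463, 1), (2766, 0), (1994, 0), (1994, 1), (2205, 1), (1856, 1), (1146, 0), (3603, 0), (1988, 0), (3698, 1), (222, 1), (218, 1), (2449, 1), (3988, 1), (2191, 0), (4012, 0), (4012, 1), (3825, 1), (3525, 0), (3525, 1), (4009, 1), (3366, 1), (3522, 0), (3522, 1), (2416, 0), (2416, 1), (53, 0), (53, 1), (1087, 0), (1087, 1), (2138, 0), (402, 0), (2235, 0), (2356, 0), (1970, 1), (183, 0), (4044, 1), (3937, 0), (438, 1), (2087, 1), (2435, 0), (3377, 1), (918, 1), (391, 0), (3587, 1), (3475, 0), (2964, 1), (157, 1), (3724, 0), (3523, 1), (2091, 0), (2091, 1), (914, 1), (3847, 0), (2553, 0), (2553, 1), (2174, 0), (2663, 0), (1753, 0), (1762, 1), (3483, 1), (1174, 0), (1144,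 1), (1321, 0), (1321, 1), (447, 0), (447, 1), (274, 0), (470, 0), (470, 1), (739, 1), (742, 0), (2169, 0), (1434, 1), (3259, 0), (722, 0), (917, 0), (1745, 0), (1745, 1), (1969, 0), (2662, 0), (810, 1), (1389, 0), (1389, 1), (1214, 1), (2055, 0), (1338, 1), (2298, 0), (2298, 1), (723, 0), (3653, 0), (3653, 1), (2284, 0), (2284, 1), (1592, 0), (1592, 1), (2570, 0), (1106, 0), (2329, 0), (2329, 1), (3668, 1), (1431, 0), (2589, 0), (1726, 0), (3337, 1), (944, 0), (1110, 1), (1071, 0), (1071, 1), (1159, 0), (2359, 1), (1937, 0), (1317, 0), (2644, 1), (1603, 0), (485, 1), (1478, 1), (2158, 1), (2074, 1), (2582, 1), (2777, 1), (3788, 0), (2275, 0), (2275, 1), (3740, 0), (2920, 0), (2920, 1), (2520, 1), (3230, 1), (209, 0), (3469, 0), (189, 1), (938, 0), (3303, 1), (3993, 0), (1940, 0), (2484, 0), (1349, 0), (2069, 0), (1719, 1), (2702, 0), (2187, 0), (2187, 1), (2375, 0), (1689, 0), (3174, 0), (794, 1), (1008, 1), (3150, 1), (2986, 0), (635, 1), (3692,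 1), (3294, 0), (3294, 1), (1766, 0), (2163, 0), (3609, 1), (2698, 0), (2698, 1), (2717, 0), (2852, 1), (3285, 0), (2607, 1), (4035, 0), (4035, 1), (3608, 1), (2658, 1), (504, 0), (504, 1), (3420, 1), (27, 1), (2409, 1), (461, 0), (1419, 1), (1178, 0), (2851, 1), (695, 1), (1606, 0), (2739, 0), (3014, 1), (2958, 0), (876, 0), (1888, 1), (434, 0), (2456, 0), (2334, 1), (1436, 0), (616, 1), (1396, 1), (571, 0), (571, 1), (2131, 0), (3245, 0), (476, 1), (2773, 0), (2773, 1), (905, 0), (3321, 1), (3412, 1), (1437, 0), (2957, 1), (472, 0), (472, 1), (1063, 0), (1795, 1), (2709, 0), (2929, 0), (3143, 0), (2952, 0), (1361, 0), (1442, 0), (3799, 0), (1055, 0), (2795, 1), (2828, 1), (682, 1), (1579, 0), (1496, 1), (1197, 1), (1455, 0), (106, 1), (3188, 1), (2513, 0), (1085, 0), (1834, 0), (235, 0), (421, 0), (1241, 1)]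

def dodStart8 : ℕ := 28637

set_option maxRecDepth 1000000 in
def dodCert8 : List (ℕ × ℕ) := [(4061, 0), (4061, 1), (1053, 0), (1053, 1), (823, 0), (823, 1), (795, 0), (795, 1), (1862, 0), (1862, 1), (497, 0), (497, 1), (2846, 0), (2846, 1), (2411, 0), (2411, 1), (920, 0), (920, 1), (598, 0), (598, 1), (95, 0), (95, 1), (1959, 0), (1959, 1), (2899, 0), (2899, 1), (2394, 0), (2394, 1), (1468, 0), (1468, 1), (751, 1), (3707, 1), (3882, 0), (3882, 1), (466, 0), (466, 1), (852, 0), (852, 1), (335, 0), (335, 1), (861, 0), (861, 1), (1869, 0), (1869, 1), (2003, 0), (2003, 1), (2652, 0), (2652, 1), (2631, 0), (2041, 0), (2041, 1), (2638, 0), (2638, 1), (507, 0), (507, 1), (1946, 0), (1946, 1), (2390, 0), (2765, 0), (2765, 1), (3051, 0), (3051, 1), (970, 0), (970, 1), (2170, 0), (3910, 0), (3910, 1), (475, 0), (475, 1), (310, 0), (310, 1), (1303, 1), (383, 0), (1565, 1), (2079, 0), (2079, 1), (1941, 0), (1941, 1), (63, 0), (63, 1), (1605, 1), (859, 0), (859,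 1), (798, 1), (1381, 0), (1381, 1), (2679, 0), (2679, 1), (1933, 0), (2897, 0), (2897, 1), (862, 0), (109, 0), (1741, 0), (2907, 1), (1866, 0), (1866, 1), (1368, 0), (1368, 1), (630, 0), (630, 1), (1311, 0), (551, 0), (1485, 0), (1485, 1), (2619, 0), (1868, 0), (1868, 1), (91, 1), (974, 0), (886, 0), (886, 1), (1149, 0), (1149, 1), (1647, 0), (1647, 1), (857, 0), (2526, 0), (2526, 1), (2012, 0), (2012, 1), (2781, 0), (2781, 1), (966, 0), (966, 1), (2651, 0), (2651, 1), (2030, 0), (2030, 1), (1841, 0), (1878, 1), (3033, 0), (3022, 0), (583, 0), (333, 0), (333, 1), (1817, 0), (1817, 1), (414, 0), (414, 1), (919, 0), (919, 1), (3671, 1), (469, 1), (2863, 1), (1563, 0), (1563, 1), (263, 0), (819, 0), (92, 1), (959, 0), (959, 1), (1823, 0), (1823, 1), (827, 0), (827, 1), (2670, 0), (2670, 1), (219, 0), (219, 1), (782, 0), (339, 1), (1014, 0), (1014, 1), (2381, 0), (2381, 1), (377, 0), (1821, 0), (599, 1), (459, 0), (459, 1), (828, 1), (87, 0), (779, 0),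 (779, 1), (1374, 1), (2772, 0), (2772, 1), (2527, 0), (2527, 1), (2975, 0), (3013, 1), (767, 0), (767, 1), (2637, 0), (2637, 1), (2573, 1), (1630, 0), (1405, 0), (1598, 0), (1598, 1), (341, 0), (341, 1), (3615, 1), (997, 1), (3956, 0), (223, 0), (2383, 1), (937, 0), (937, 1), (1756, 1), (3167, 0), (3167, 1), (2947, 0), (2947, 1), (413, 0), (413, 1), (1327, 0), (1327, 1), (2903, 0), (2623, 0), (2623, 1), (727, 0), (727, 1), (267, 0), (267, 1), (1810, 0), (1810, 1), (3928, 0), (1502, 0), (1502, 1), (988, 0), (988, 1), (877, 0), (1815, 0), (1815, 1), (2620, 1), (873, 0), (873, 1), (842, 1), (995, 0), (1479, 1), (1497, 0), (3868, 0), (1950, 1), (2970, 0), (1020, 1), (2159, 1), (3917, 1), (971, 0), (890, 0), (890, 1), (1883, 0), (1883, 1), (1238, 1), (2335, 0), (2335, 1), (2847, 0), (1781, 0), (1781, 1), (793, 0), (793, 1), (1807, 1), (3439, 0), (3439, 1), (667, 0), (3414, 0), (3414, 1), (2423, 0), (2423, 1), (619, 0), (1846, 1), (359, 0), (1373, 0), (1373,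 1), (829, 1), (1115, 0), (1115, 1), (1655, 0), (1245, 0), (1245, 1), (2831, 0), (2831, 1), (2845, 0), (743, 0), (1638, 0), (1638, 1), (2654, 0), (701, 0), (701, 1), (730, 0), (2382, 1), (2837, 0), (2837, 1), (2007, 0), (814, 0), (2647, 0), (2647, 1), (3423, 0), (575, 0), (575, 1), (1931, 0), (3666, 0), (3666, 1), (455, 0), (349, 1), (815, 1), (1819, 0), (1876, 0), (2782, 1), (2133, 0), (2133, 1), (985, 0), (985, 1), (2924, 1), (1999, 1), (2891, 0), (1754, 0), (1754, 1), (866, 1), (346, 0), (1118, 0), (287, 0), (277, 1), (957, 0), (860, 0), (2534, 0), (2579, 0), (2579, 1), (155, 0), (3783, 0), (1354, 0), (2327, 0), (2327, 1), (2735, 0), (565, 0), (1103, 0), (1103, 1), (748, 1), (621, 0), (1881, 0), (1359, 1), (889, 1), (1916, 0), (1916, 1), (2649, 0), (1687, 0), (2887, 1), (555, 1), (1874, 1), (2685, 0), (2685, 1), (319, 0), (319, 1), (973, 0), (3358, 0), (3358, 1), (543, 0), (853, 1), (2838, 0), (2838, 1), (775, 0), (775, 1), (345, 1), (574, 0), (574,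 1), (281, 0), (281, 1), (1527, 0), (3030, 0), (2255, 0), (1979, 0), (1979, 1), (2884, 1), (1390, 0), (1151, 1), (2867, 0), (2867, 1), (1012, 0), (1111, 1), (984, 0), (813, 0), (2175, 0), (761, 0), (3918, 0), (3913, 0), (3913, 1), (838, 0), (838, 1), (1367, 0), (3614, 0), (2635, 0), (534, 0), (534, 1), (367, 0), (791, 1), (871, 1), (1039, 1), (787, 0), (787, 1), (3127, 0), (541, 0), (541, 1), (2925, 0), (1614, 0), (3163, 0), (3163, 1), (2926, 1), (894, 0), (854, 0), (3737, 0), (2844, 0), (2883, 0), (2883, 1), (1899, 0), (1755, 0), (915, 0), (2941, 0), (2941, 1), (1743, 1), (2719, 0), (2719, 1), (2349, 0), (1629, 1), (3025, 0), (2206, 1), (2455, 0), (527, 1), (637, 0), (2855, 1), (3357, 0), (380, 0), (380, 1), (855, 0), (855, 1), (2643, 0), (506, 1), (2827, 1), (978, 1), (1364, 0), (1919, 0), (2842, 0), (247, 1), (510, 1), (3855, 0), (3855, 1), (707, 1), (2938, 0), (975, 1), (2971, 0), (2971, 1), (781, 0), (781, 1), (31, 0), (885, 0), (885, 1), (856,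 1), (591, 0), (2930, 1), (1486, 0), (796, 0), (833, 1), (350, 0), (847, 0), (2301, 1), (3449, 0), (942, 0), (1863, 1), (1678, 1), (415, 1), (670, 0), (670, 1), (3415, 0), (2421, 0), (221, 1), (2888, 1), (2893, 1), (2397, 1), (633, 0), (638, 0), (587, 0), (972, 1), (605, 0), (605, 1), (2939, 0), (2901, 1), (1427, 0), (381, 1), (2491, 0), (2491, 1), (3934, 0), (1747, 1), (3546, 0), (3546, 1), (78, 0), (3930, 1), (460, 0), (597, 1), (839, 1), (115, 0), (1847, 0), (2524, 1), (1799, 0), (207, 1)]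


theorem dodGenWords_mem : ∀ w ∈ dodGenWords, wordPerm w ∈ stabMask dod0 := by
  intro w hw
  apply wordPerm_mem_stabMask
  have : ∀ w ∈ dodGenWords, presCheck w dod0 = true := by decide +kernel
  exact this w hw

/-- The dodecad masks meeting the dodecad of squares in `k` points. -/
def dodMasksMeet (k : ℕ) : List ℕ := dodMasks.filter (fun m => popc (m &&& dod0) == k)

theorem dodCert4_ok : orbCheck (wordTis dodGenWords) dodStart4 dodCert4 (dodMasksMeet 4) = true := by
  decide +kernel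

theorem dodCert6_ok : orbCheck (wordTis dodGenWords) dodStart6 dodCert6 (dodMasksMeet 6) = true := by
  decide +kernel

theorem dodCert8_ok : orbCheck (wordTis dodGenWords) dodStart8 dodCert8 (dodMasksMeet 8) = true := by
  decide +kernel

theorem exists_dodMask {d : Finset GolayPt} (hd : d ∈ dodecads) : ∃ m ∈ dodMasks, ptsMask m = d := by
  obtain ⟨m, hm, h⟩ := mem_dodMasks_of_dodecad hd
  exact ⟨m, hm, by rw [ptsMask_eq_support₂, h]⟩

theorem dodMasks_cases : ∀ m ∈ dodMasks, popc (m &&& dod0) = 4 ∨ popc (m &&& dod0) = 6 ∨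
    popc (m &&& dod0) = 8 ∨ m = dod0 ∨ m = dod0c := by
  have : dodMasks.all (fun m => popc (m &&& dod0) == 4 || popc (m &&& dod0) == 6 ||
      popc (m &&& dod0) == 8 || m == dod0 || m == dod0c) = true := by decide +kernel
  intro m hm
  have := List.all_eq_true.1 this m hm
  simpa [Bool.or_eq_true, beq_iff_eq, or_assoc] using this

theorem popc_dod0_facts : popc (dod0 &&& dod0) = 12 ∧ popc (dod0c &&& dod0) = 0 := by decide +kernel

/-- Two dodecads meeting the dodecad of squares in equally many points are conjugate under its stabilizer. -/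
theorem dod0_orbits {d' d'' : Finset GolayPt} (hd' : d' ∈ dodecads) (hd'' : d'' ∈ dodecads)
    (h : (ptsMask dod0 ∩ d').card = (ptsMask dod0 ∩ d'').card) : ∃ g ∈ stabMask dod0, g • d' = d'' := by
  obtain ⟨m', hm', rfl⟩ := exists_dodMask hd'
  obtain ⟨m'', hm'', rfl⟩ := exists_dodMask hd''
  rw [card_ptsMask_inter, card_ptsMask_inter, Nat.land_comm dod0 m', Nat.land_comm dod0 m''] at h
  have key : ∀ (k start : ℕ) (cert : List (ℕ × ℕ)),
      orbCheck (wordTis dodGenWords) start cert (dodMasksMeet k) = true →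
      popc (m' &&& dod0) = k → ∃ g ∈ stabMask dod0, g • ptsMask m' = ptsMask m'' := by
    intro k start cert hcert hk
    have h1 : m' ∈ dodMasksMeet k := by
      unfold dodMasksMeet
      rw [List.mem_filter, beq_iff_eq]
      exact ⟨hm', hk⟩
    have h2 : m'' ∈ dodMasksMeet k := by
      unfold dodMasksMeet
      rw [List.mem_filter, beq_iff_eq]
      exact ⟨hm'', by rw [← h, hk]⟩
    have hs := orbCheck_words_sound (stabMask dod0) dodGenWords dodGenWords_mem hcert
    obtain ⟨g', hg', e'⟩ := reach_smul (hs m' h1)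
    obtain ⟨g'', hg'', e''⟩ := reach_smul (hs m'' h2)
    refine ⟨g'' * g'⁻¹, (stabMask dod0).mul_mem hg'' ((stabMask dod0).inv_mem hg'), ?_⟩
    rw [← e', mul_smul, inv_smul_smul, e'']
  have hone : m' = m'' → ∃ g ∈ stabMask dod0, g • ptsMask m' = ptsMask m'' := by
    intro e
    exact ⟨1, (stabMask dod0).one_mem, by rw [one_smul, e]⟩
  obtain ⟨p12, p0⟩ := popc_dod0_facts
  rcases dodMasks_cases m' hm' with h4 | h6 | h8 | h12 | h0
  · exact key 4 _ _ dodCert4_ok h4
  · exact key 6 _ _ dodCert6_ok h6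
  · exact key 8 _ _ dodCert8_ok h8
  · apply hone
    rw [h12, p12] at h
    rcases dodMasks_cases m'' hm'' with h4' | h6' | h8' | h12' | h0'
    · omega
    · omega
    · omega
    · rw [h12, h12']
    · rw [h0', p0] at h; omega
  · apply hone
    rw [h0, p0] at h
    rcases dodMasks_cases m'' hm'' with h4' | h6' | h8' | h12' | h0'
    · omega
    · omega
    · omega
    · rw [h12', p12] at h; omega
    · rw [h0, h0']

/-- Two dodecads meeting a fixed dodecad in equally many points lie in one orbit of its stabiliser. -/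
theorem dodecad_stabilizer_orbits {d d' d'' : Finset GolayPt} (hd : d ∈ dodecads) (hd' : d' ∈ dodecads)
    (hd'' : d'' ∈ dodecads) (h : (d ∩ d').card = (d ∩ d'').card) :
    ∃ g : Equiv.Perm GolayPt, g ∈ M24 ∧ g • d = d ∧ g • d' = d'' := by
  obtain ⟨g0, hg0, rfl⟩ := exists_M24_smul_dodecad ptsMask_dod0_mem hd
  have hc : ∀ x : Finset GolayPt, (ptsMask dod0 ∩ g0⁻¹ • x).card = (g0 • ptsMask dod0 ∩ x).card := by
    intro x
    have : g0 • ptsMask dod0 ∩ x = g0 • (ptsMask dod0 ∩ g0⁻¹ • x) := by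
      rw [Finset.smul_finset_inter, smul_inv_smul]
    rw [this, Finset.card_smul_finset]
  obtain ⟨k, hk, e⟩ := dod0_orbits (smul_mem_dodecads (M24.inv_mem hg0) hd')
    (smul_mem_dodecads (M24.inv_mem hg0) hd'') (by rw [hc, hc, h])
  rw [mem_stabMask_iff_smul] at hk
  refine ⟨g0 * k * g0⁻¹, M24.mul_mem (M24.mul_mem hg0 hk.1) (M24.inv_mem hg0), ?_, ?_⟩
  · rw [mul_smul, mul_smul, inv_smul_smul, hk.2]
  · rw [mul_smul, mul_smul, e, smul_inv_smul]

end Cfsg.Agent.Lib.H28
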