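/-
helper28 library: families of point sets represented by lists of masks (octads, dodecads): counting by mask predicates
and orbit certificates; the rank 4 action of `M11` on the dodecads through a point of a dodecad.
-/
import Cfsg.Agent.Lib.H28.OctadFlagOrbits
import Cfsg.Agent.Lib.H28.M12Simple
import Cfsg.Agent.Lib.H28.M24DodecadOrbits

set_option autoImplicit false

namespace Cfsg.Agent.Lib.H28

open Cfsg
open scoped Pointwise

/-! ### Generic mask families -/

/-- Counting the members of a family with a property decided on masks. -/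
theorem ncard_filter_masks (F : Set (Finset GolayPt)) (Ms : List ℕ)
    (hex : ∀ y ∈ F, ∃ m ∈ Ms, ptsMask m = y) (hmem : ∀ m ∈ Ms, ptsMask m ∈ F)
    (hlt : Ms.all (fun m => decide (m < 2 ^ 24)) = true) (hnd : Ms.Nodup)
    (P : Finset GolayPt → Prop) (cls : ℕ → Bool) (h : ∀ m ∈ Ms, P (ptsMask m) ↔ cls m = true) :
    {o : Finset GolayPt | o ∈ F ∧ P o}.ncard = (Ms.filter cls).length := by
  classical
  have hset : {o : Finset GolayPt | o ∈ F ∧ P o}
      = (((Ms.filter cls).map ptsMask).toFinset : Set (Finset GolayPt)) := by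
    ext o
    rw [Set.mem_ofPred_eq, Finset.mem_coe, List.mem_toFinset, List.mem_map]
    constructor
    · rintro ⟨ho, hP⟩
      obtain ⟨m, hm, rfl⟩ := hex o ho
      exact ⟨m, List.mem_filter.2 ⟨hm, (h m hm).1 hP⟩, rfl⟩
    · rintro ⟨m, hm, rfl⟩
      rw [List.mem_filter] at hm
      exact ⟨hmem m hm.1, (h m hm.1).2 hm.2⟩
  rw [hset, Set.ncard_coe_finset, List.toFinset_card_of_nodup, List.length_map]
  apply List.Nodup.map_on
  · intro a ha b hb hab
    rw [List.mem_filter] at ha hb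
    have h1 := List.all_eq_true.1 hlt a ha.1
    have h2 := List.all_eq_true.1 hlt b hb.1
    rw [decide_eq_true_eq] at h1 h2
    exact ptsMask_inj h1 h2 hab
  · exact hnd.filter _

/-- Transitivity on a class of a family from an orbit certificate on masks. -/
theorem exists_smul_of_orbCert_masks (F : Set (Finset GolayPt)) (Ms : List ℕ)
    (hex : ∀ y ∈ F, ∃ m ∈ Ms, ptsMask m = y)
    (K : Subgroup (Equiv.Perm GolayPt)) (hs : List (List ℕ))
    (hhs : ∀ w ∈ hs, wordPerm w ∈ K) (cls : ℕ → Bool) {start : ℕ} {cert : List (ℕ × ℕ)}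
    (hcert : orbCheck (wordTis hs) start cert (Ms.filter cls) = true)
    {y' y'' : Finset GolayPt} (hy' : y' ∈ F) (hy'' : y'' ∈ F)
    (h' : ∀ m ∈ Ms, ptsMask m = y' → cls m = true)
    (h'' : ∀ m ∈ Ms, ptsMask m = y'' → cls m = true) :
    ∃ g ∈ K, g • y' = y'' := by
  obtain ⟨m', hm', rfl⟩ := hex y' hy'
  obtain ⟨m'', hm'', rfl⟩ := hex y'' hy''
  have hsd := orbCheck_words_sound K hs hhs hcert
  obtain ⟨g', hg', e'⟩ := reach_smul (hsd m' (List.mem_filter.2 ⟨hm', h' m' hm' rfl⟩))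
  obtain ⟨g'', hg'', e''⟩ := reach_smul (hsd m'' (List.mem_filter.2 ⟨hm'', h'' m'' hm'' rfl⟩))
  refine ⟨g'' * g'⁻¹, K.mul_mem hg'' (K.inv_mem hg'), ?_⟩
  rw [← e', mul_smul, inv_smul_smul, e'']

/-! ### Dodecads -/

/-- Linear-time test that the residues mod `4096` of a list are pairwise distinct, with a bitmap accumulator. -/
def nodupLow : List ℕ → ℕ → Bool
  | [], _ => true
  | m :: l, acc => !(acc.testBit (m % 4096)) && nodupLow l (acc ||| 2 ^ (m % 4096))

theorem nodupLow_sound : ∀ (l : List ℕ) (acc : ℕ), nodupLow l acc = true →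
    (l.map (· % 4096)).Nodup ∧ ∀ m ∈ l, acc.testBit (m % 4096) = false
  | [], _, _ => ⟨List.nodup_nil, fun _ h => absurd h List.not_mem_nil⟩
  | m :: l, acc, h => by
    unfold nodupLow at h
    rw [Bool.and_eq_true, Bool.not_eq_true'] at h
    obtain ⟨ih1, ih2⟩ := nodupLow_sound l _ h.2
    have hbit : ∀ x ∈ l, x % 4096 ≠ m % 4096 ∧ acc.testBit (x % 4096) = false := by
      intro x hx
      have := ih2 x hx
      rw [Nat.testBit_or, Bool.or_eq_false_iff, Nat.testBit_two_pow] at this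
      refine ⟨?_, this.1⟩
      intro he
      have h2 := this.2
      rw [decide_eq_false_iff_not] at h2
      exact h2 he.symm
    constructor
    · rw [List.map_cons, List.nodup_cons]
      refine ⟨?_, ih1⟩
      intro hmem
      rw [List.mem_map] at hmem
      obtain ⟨x, hx, hxe⟩ := hmem
      exact (hbit x hx).1 hxe
    · intro x hx
      rcases List.mem_cons.1 hx with rfl | hx
      · exact h.1
      · exact (hbit x hx).2

theorem nodup_of_nodupLow {l : List ℕ} (h : nodupLow l 0 = true) : l.Nodup :=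
  List.Nodup.of_map _ (nodupLow_sound l 0 h).1

theorem dodMasks_nodupLow : nodupLow dodMasks 0 = true := by decide +kernel

theorem dodMasks_nodup : dodMasks.Nodup := nodup_of_nodupLow dodMasks_nodupLow

theorem dodMasks_lt : dodMasks.all (fun m => decide (m < 2 ^ 24)) = true := by decide +kernel

theorem ptsMask_mem_dodecads {m : ℕ} (hm : m ∈ dodMasks) : ptsMask m ∈ dodecads := by
  unfold dodMasks at hm
  rw [List.mem_filter, beq_iff_eq] at hm
  refine ⟨⟨W m, W_mem_golayCode_of_mem_combos hm.1, (ptsMask_eq_support₂ m).symm⟩, ?_⟩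
  rw [card_ptsMask]
  exact hm.2

/-! ### `M11` on the dodecads through its fixed point -/

def m11DodStart4 : ℕ := 1727659

set_option maxRecDepth 1000000 in
def m11DodCert4 : List (ℕ × ℕ) := [(3243, 0), (3243, 1), (3497, 0), (3497, 1), (165, 0), (165, 1), (2233, 0), (2233, 1), (2721, 0), (2721, 1), (3425, 0), (3425, 1), (429, 0), (429, 1), (1069, 0), (2497, 0), (2497, 1), (3121, 0), (3121, 1), (2977, 0), (2977, 1), (3715, 0), (3715, 1), (2227, 0), (2227, 1), (105, 0), (105, 1), (3209, 0), (3209, 1), (2083, 0), (2083, 1), (2339, 0), (2339, 1), (1925, 0), (1925, 1), (213, 0), (213, 1), (2593, 1), (3249, 0), (3249, 1), (1185, 0), (3809, 0), (3809, 1), (3083, 0), (3083, 1), (3491, 0), (3491, 1), (185, 0), (185, 1), (3841, 0), (3841, 1), (3585, 0), (3585, 1), (2481, 0), (2481, 1), (2065, 0), (2065, 1), (3745, 1), (3297, 0), (3297, 1), (2089, 0), (2089, 1), (3175, 0), (3179, 0), (3179, 1), (3461, 0), (3461, 1), (2741, 0), (2741, 1), (1777, 0), (1777, 1),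 (4017, 1), (2467, 0), (2467, 1), (167, 0), (167, 1), (3721, 1), (1073, 1), (3457, 0), (3457, 1), (3629, 0), (3629, 1), (1265, 1), (3201, 1), (3361, 1), (2705, 0), (2705, 1), (2609, 0), (2609, 1), (2341, 0), (1253, 0), (1253, 1), (3093, 0), (3093, 1), (1889, 1), (1443, 1), (2439, 0), (2439, 1), (1561, 0), (3729, 0), (3267, 1), (2785, 0), (3129, 0), (1125, 1), (1225, 1), (3239, 0), (3299, 0), (3299, 1), (2241, 0), (1313, 0), (1313, 1), (2181, 0), (3681, 1), (3257, 1), (1569, 0), (1569, 1), (3557, 0), (3505, 0), (549, 0), (549, 1), (2249, 0), (2249, 1), (1475, 0), (1475, 1), (1333, 1), (1713, 0), (1713, 1), (3365, 1), (2149, 0), (2149, 1), (3589, 0), (3313, 0), (3137, 1), (2291, 0), (2291, 1), (3169, 0), (3169, 1), (1065, 0), (1065, 1), (1165, 0), (1165, 1), (3229, 0), (3215, 1), (3123, 0), (1171, 0), (3635, 1), (3713, 0), (1457, 1), (3753, 0), (1323, 1), (1031, 1), (3075, 0), (2221, 1), (2727, 0), (2727, 1), (3347, 0), (1701, 1), (3561, 0), (3117, 1),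 (1249, 1), (1953, 0), (1425, 0), (1705, 1), (2217, 0)]

def m11DodStart6 : ℕ := 195645

set_option maxRecDepth 1000000 in
def m11DodCert6 : List (ℕ × ℕ) := [(3133, 0), (3133, 1), (3021, 0), (3021, 1), (1277, 0), (1277, 1), (2155, 0), (2155, 1), (1067, 0), (1067, 1), (3311, 0), (3311, 1), (491, 1), (1291, 0), (1291, 1), (3463, 0), (3463, 1), (2713, 0), (2713, 1), (2993, 0), (2993, 1), (2795, 0), (2795, 1), (187, 0), (187, 1), (387, 0), (387, 1), (665, 1), (3601, 0), (3601, 1), (2529, 0), (2529, 1), (301, 0), (301, 1), (1597, 0), (1597, 1), (593, 0), (593, 1), (1317, 0), (1317, 1), (3525, 0), (3525, 1), (1083, 1), (643, 0), (643, 1), (3373, 0), (2533, 0), (2533, 1), (305, 0), (305, 1), (1797, 0), (1797, 1), (3937, 1), (1429, 0), (1429, 1), (2885, 0), (2885, 1), (1587, 0), (1587, 1), (2963, 0), (2963, 1), (3417, 0), (3417, 1), (2733, 0), (2733, 1), (3533, 1), (237, 0), (237, 1), (2567, 0), (3443, 0), (3443, 1), (961, 0), (961, 1), (1437, 1), (2803, 0),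 (2803, 1), (571, 0), (571, 1), (2757, 0), (2757, 1), (2849, 0), (2849, 1), (2357, 0), (2357, 1), (729, 0), (355, 0), (355, 1), (1423, 0), (1423, 1), (3605, 0), (3605, 1), (4081, 0), (4081, 1), (465, 0), (465, 1), (3597, 0), (3597, 1), (403, 0), (403, 1), (4069, 0), (4069, 1), (125, 0), (125, 1), (3651, 0), (3651, 1), (2107, 0), (2107, 1), (645, 0), (645, 1), (2513, 0), (2513, 1), (2101, 0), (609, 0), (609, 1), (1167, 0), (1167, 1), (323, 0), (323, 1), (121, 0), (121, 1), (3977, 0), (2063, 0), (2063, 1), (1643, 0), (1643, 1), (1435, 0), (1435, 1), (2881, 0), (2881, 1), (647, 0), (647, 1), (1235, 0), (1235, 1), (3619, 0), (3379, 0), (3379, 1), (2633, 0), (2633, 1), (39, 0), (39, 1), (2499, 0), (2499, 1), (3101, 0), (3101, 1), (1761, 0), (1761, 1), (1379, 0), (1379, 1), (2319, 1), (1809, 0), (1809, 1), (2709, 0), (2709, 1), (837, 0), (3293, 0), (3293, 1), (3119, 0), (3119, 1), (515, 0), (515, 1), (3475, 0), (3475, 1), (2297, 0), (2297, 1), (1577, 0), (1577,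 1), (709, 0), (1369, 0), (1369, 1), (1731, 0), (1731, 1), (3367, 0), (3367, 1), (1383, 0), (1753, 0), (1753, 1), (3609, 0), (3609, 1), (3637, 0), (3637, 1), (1649, 0), (1649, 1), (2275, 0), (2475, 0), (2475, 1), (1119, 0), (715, 0), (715, 1), (2435, 0), (2435, 1), (2343, 0), (2343, 1), (2589, 0), (2589, 1), (753, 1), (3953, 1), (2621, 0), (2621, 1), (1831, 0), (1831, 1), (2135, 1), (1365, 0), (1365, 1), (2835, 0), (2835, 1), (3767, 0), (3767, 1), (3817, 0), (3817, 1), (313, 0), (313, 1), (3875, 0), (783, 0), (783, 1), (3287, 1), (2729, 1), (3161, 0), (3161, 1), (3881, 0), (3881, 1), (1675, 1), (3219, 0), (3219, 1), (173, 1), (2369, 0), (2369, 1), (2323, 0), (2323, 1), (1575, 1), (3185, 0), (3185, 1), (1833, 0), (1833, 1), (3511, 0), (3511, 1), (2663, 0), (2663, 1), (1921, 1), (661, 0), (661, 1), (2769, 0), (2769, 1), (1051, 0), (1051, 1), (2819, 0), (2819, 1), (849, 0), (849, 1), (2717, 0), (2717, 1), (2851, 0), (1079, 0), (1079, 1), (1501, 0), (1501,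 1), (1613, 0), (1613, 1), (931, 0), (931, 1), (3479, 0), (3479, 1), (1923, 0), (2199, 0), (2105, 0), (2437, 1), (357, 1), (2677, 0), (1657, 0), (1657, 1), (1091, 0), (2303, 0), (2303, 1), (3691, 0), (3691, 1), (2205, 0), (2205, 1), (1553, 0), (1553, 1), (3857, 0), (3857, 1), (437, 0), (3653, 0), (3653, 1), (1087, 0), (1087, 1), (1987, 0), (1987, 1), (1433, 0), (1433, 1), (3973, 1), (3939, 1), (3727, 0), (3727, 1), (3187, 0), (3187, 1), (3763, 0), (2753, 1), (1465, 0), (211, 0), (2479, 0), (2479, 1), (1127, 1), (3725, 0), (3725, 1), (369, 0), (369, 1), (3285, 0), (2025, 0), (2025, 1), (407, 0), (407, 1), (2759, 0), (803, 1), (3641, 0), (689, 1), (3279, 0), (3279, 1), (43, 0), (43, 1), (3331, 0), (3331, 1), (2865, 0), (2865, 1), (2613, 1), (189, 0), (189, 1), (3165, 0), (3165, 1), (2665, 0), (2665, 1), (2535, 0), (2535, 1), (231, 0), (589, 1), (2265, 1), (3265, 0), (3265, 1), (425, 0), (2667, 0), (2667, 1), (711, 0), (711, 1), (2139, 0), (1285, 0), (1285,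 1), (1093, 0), (1093, 1), (741, 0), (741, 1), (3289, 0), (3289, 1), (699, 1), (2707, 0), (2707, 1), (1293, 0), (1293, 1), (1477, 1), (401, 0), (401, 1), (3145, 0), (3113, 0), (3113, 1), (2379, 0), (2379, 1), (405, 0), (405, 1), (671, 1), (2441, 0), (2441, 1), (1445, 0), (1445, 1), (1541, 0), (2389, 0), (2969, 0), (2969, 1), (1299, 0), (1299, 1), (3847, 0), (3847, 1), (3429, 0), (3429, 1), (1721, 0), (1721, 1), (1943, 0), (1943, 1), (3799, 0), (3799, 1), (2197, 1), (2293, 0), (2293, 1), (745, 0), (745, 1), (1347, 0), (1347, 1), (143, 0), (143, 1), (1589, 0), (1589, 1), (117, 0), (3383, 1), (1639, 0), (1639, 1), (2957, 0), (2957, 1), (2165, 0), (2561, 1), (1329, 1), (2659, 0), (2659, 1), (365, 0), (365, 1), (3149, 0), (3149, 1), (1041, 0), (1041, 1), (2517, 1), (3821, 0), (1263, 0), (1263, 1), (1099, 0), (1099, 1), (3275, 0), (3371, 0), (801, 0), (3221, 0), (3221, 1), (1765, 0), (1765, 1), (89, 0), (89, 1), (2333, 1), (2365, 0), (2365, 1), (3739, 1), (2375,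 1), (2703, 0), (1227, 1), (3211, 1), (419, 0), (3437, 1), (1389, 0), (1389, 1), (3989, 1), (1653, 0), (1653, 1), (901, 0), (3157, 1), (1141, 1), (3539, 0), (3539, 1), (2607, 0), (2607, 1), (717, 0), (717, 1), (1241, 0), (2211, 0), (1315, 0), (1315, 1), (941, 1), (1109, 0), (1109, 1), (1305, 0), (1305, 1), (2281, 0), (2281, 1), (1175, 1), (963, 0), (1461, 0), (1811, 0), (3517, 1), (2103, 0), (2409, 0), (3245, 0), (411, 0), (411, 1), (3049, 0), (3049, 1), (2109, 0), (2109, 1), (3591, 0), (3591, 1), (499, 0), (999, 0), (179, 1), (2405, 0), (2157, 0), (1635, 1), (2737, 0), (2737, 1), (157, 0), (2021, 0), (1275, 0), (523, 0), (3865, 1), (3765, 0), (3765, 1), (897, 0), (2325, 0), (2325, 1), (3041, 0), (3041, 1), (749, 1), (2429, 1), (2797, 1), (1487, 1), (2127, 0), (2571, 0), (2483, 0), (2483, 1), (611, 0), (2203, 1), (3699, 1), (2095, 0), (2095, 1), (1395, 1), (2995, 0), (2995, 1), (1849, 0), (1191, 1), (3171, 1), (2347, 0), (2347, 1), (1055, 1), (3537, 1),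 (3647, 1), (371, 0), (1679, 1), (4015, 0), (4015, 1), (119, 0), (197, 0), (3621, 1), (1393, 0), (1393, 1), (1737, 0), (3353, 0), (3851, 0), (3381, 0), (3381, 1), (2917, 0), (2917, 1), (3483, 1), (921, 0), (921, 1), (2965, 0), (2965, 1), (3339, 0), (2087, 0), (2661, 0), (1401, 0), (1401, 1), (3177, 1), (809, 0), (809, 1), (3825, 1), (1985, 0), (3399, 0), (1345, 1), (1669, 0), (1669, 1), (1361, 1), (2257, 0), (3625, 0), (3625, 1), (2515, 0), (1711, 0), (1965, 0), (1097, 0), (1097, 1), (3929, 0), (3929, 1), (2167, 1), (3387, 0), (2451, 0), (2921, 0), (2921, 1), (1085, 1), (1749, 0), (1749, 1), (2777, 0), (3911, 0), (1229, 1), (2755, 0), (2235, 1), (2169, 1), (2601, 0), (2601, 1), (3893, 1), (2805, 0), (531, 1), (3731, 0), (3403, 0), (2763, 0), (2763, 1), (2363, 0), (2363, 1), (3925, 0), (1515, 1), (235, 1), (1179, 0), (1179, 1), (1795, 0), (1795, 1), (939, 1), (1673, 1), (1013, 0), (2653, 0), (2653, 1), (1267, 0), (1267, 1), (3359, 0), (3687, 0), (3687,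 1), (1113, 0), (1113, 1), (1769, 1), (2625, 0), (295, 1), (533, 0), (3873, 0), (3873, 1), (3227, 0), (3227, 1), (2251, 0), (427, 0), (427, 1), (1133, 0), (1133, 1), (423, 1), (1209, 0), (3595, 0), (817, 1), (1937, 0), (1937, 1), (1685, 0), (1449, 0), (1239, 0), (3915, 0), (3915, 1), (3741, 0), (3741, 1), (625, 0), (625, 1), (2875, 0), (1719, 0), (1719, 1), (2681, 0), (2681, 1), (501, 1), (2693, 1), (27, 1), (1325, 1), (299, 0), (299, 1), (2183, 0), (2183, 1), (3661, 0), (505, 1), (3777, 0), (3777, 1), (2361, 0), (1123, 1), (3155, 0), (1703, 0), (821, 0), (821, 1), (2773, 1), (739, 1), (2239, 1), (461, 1), (3633, 0), (3633, 1), (3413, 1), (3693, 1), (3259, 0), (395, 1), (2597, 0), (2545, 0), (2067, 0), (2787, 1), (585, 0), (3481, 0), (2531, 0), (2531, 1), (209, 1), (3213, 1), (1641, 1), (3411, 0), (201, 0), (3335, 0), (233, 0), (137, 1), (3143, 0), (867, 0), (867, 1), (1693, 1), (2951, 0), (1177, 0), (2521, 0), (83, 0), (2699, 0), (2605, 0), (3173, 1),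 (361, 0), (361, 1), (2201, 1), (1603, 0), (159, 1), (1431, 0), (1545, 0), (467, 0), (467, 1), (2979, 0), (2979, 1), (2801, 0), (3897, 0), (311, 0), (3993, 0), (3993, 1), (2191, 1), (2147, 0), (2267, 0), (1077, 1), (3099, 0), (3747, 1), (1511, 1), (1583, 0), (1237, 1), (487, 1), (2585, 0), (1969, 0), (1969, 1), (1143, 0), (1143, 1), (2187, 0), (2603, 0), (51, 0), (1223, 0), (1725, 0), (3333, 0), (2151, 0), (3151, 1), (1131, 1), (205, 1), (195, 1), (1955, 1), (3843, 1), (3469, 1), (657, 0), (3261, 0), (865, 1), (1579, 0), (3969, 0), (1723, 0), (1723, 1), (1745, 1), (697, 0), (1163, 0), (1163, 1), (1047, 0), (4035, 0), (2277, 0), (2673, 1), (1739, 1), (3975, 1), (1349, 0), (2171, 0), (2171, 1), (1415, 0), (59, 0), (59, 1), (2477, 1), (3223, 0), (3223, 1), (3883, 0), (1845, 1), (1203, 0), (1287, 0), (2617, 0), (3401, 0), (447, 0), (2163, 0), (2629, 0), (1453, 0), (397, 0), (2725, 0), (2371, 0), (1459, 1), (3607, 1), (433, 0), (2489, 0)]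

def m11DodStart8 : ℕ := 28637

set_option maxRecDepth 1000000 in
def m11DodCert8 : List (ℕ × ℕ) := [(4061, 0), (4061, 1), (751, 0), (751, 1), (91, 0), (91, 1), (2411, 0), (2411, 1), (431, 0), (431, 1), (3615, 0), (3615, 1), (883, 0), (883, 1), (795, 0), (795, 1), (2711, 0), (2711, 1), (873, 0), (873, 1), (413, 0), (413, 1), (2781, 0), (2781, 1), (633, 0), (633, 1), (263, 0), (263, 1), (1479, 0), (1479, 1), (1053, 1), (833, 0), (833, 1), (2421, 0), (2421, 1), (2925, 0), (2925, 1), (1563, 0), (1563, 1), (915, 0), (915, 1), (381, 1), (3917, 0), (3917, 1), (383, 0), (383, 1), (591, 0), (591, 1), (3855, 0), (1527, 0), (1527, 1), (2897, 0), (2897, 1), (3901, 0), (3901, 1), (1011, 0), (1011, 1), (543, 0), (543, 1), (2941, 0), (2941, 1), (787, 0), (2839, 0), (2839, 1), (855, 0), (735, 0), (735, 1), (2891, 0), (191, 0), (191, 1), (1933, 1), (341, 0), (341, 1), (565, 0), (3921, 0), (3921, 1), (1499, 1), (219, 0), (219, 1), (1803, 0), (1803, 1), (335, 1), (2255,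 0), (2255, 1), (2635, 0), (1339, 0), (1339, 1), (969, 1), (743, 0), (743, 1), (475, 0), (475, 1), (1559, 0), (1559, 1), (477, 0), (2765, 0), (2765, 1), (3127, 0), (3127, 1), (995, 0), (995, 1), (1373, 0), (1373, 1), (2637, 0), (2637, 1), (1103, 0), (1103, 1), (459, 0), (3845, 0), (3845, 1), (597, 0), (597, 1), (2649, 0), (2649, 1), (619, 0), (619, 1), (267, 0), (267, 1), (2685, 0), (2685, 1), (2041, 1), (541, 0), (541, 1), (1863, 0), (1863, 1), (3423, 0), (3423, 1), (853, 0), (853, 1), (919, 0), (919, 1), (599, 0), (1859, 0), (1859, 1), (815, 0), (1367, 1), (3737, 0), (3737, 1), (1841, 0), (2827, 0), (379, 0), (379, 1), (1807, 0), (1807, 1), (1819, 1), (3541, 1), (1799, 0), (1799, 1), (627, 0), (627, 1), (2971, 0), (2971, 1), (1343, 0), (583, 0), (1405, 0), (367, 0), (367, 1), (3707, 0), (3707, 1), (827, 0), (827, 1), (981, 0), (981, 1), (989, 0), (989, 1), (819, 0), (663, 0), (2527, 1), (623, 0), (623, 1), (1311, 1), (971, 0), (971, 1), (2335, 0), (2335,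 1), (2619, 0), (3025, 0), (3025, 1), (829, 0), (829, 1), (3415, 0), (879, 1), (2847, 1), (2679, 0), (2679, 1), (779, 0), (2455, 0), (1817, 0), (2837, 1), (1755, 0), (1755, 1), (455, 0), (1629, 0), (1629, 1), (1881, 0), (1881, 1), (707, 0), (707, 1), (3355, 0), (2887, 0), (2887, 1), (1151, 1), (1381, 0), (1381, 1), (333, 0), (3671, 0), (3671, 1), (1427, 0), (775, 0), (601, 0), (1359, 1), (957, 0), (1877, 0), (1941, 0), (1941, 1), (281, 0), (281, 1), (1567, 0), (1567, 1), (1747, 0), (1747, 1), (2505, 1), (1605, 0), (1605, 1), (847, 0), (847, 1), (721, 1), (793, 0), (793, 1), (1815, 1), (727, 0), (727, 1), (813, 0), (2133, 1), (1245, 0), (1999, 0), (3659, 0), (2491, 0), (2491, 1), (215, 0), (2573, 0), (497, 0), (497, 1), (1655, 1), (603, 1), (3439, 1), (2159, 1), (277, 1), (885, 1), (363, 0), (363, 1), (1931, 0), (1595, 0), (2579, 0), (2381, 0), (2381, 1), (1565, 1), (375, 0), (375, 1), (761, 0), (3015, 0), (155, 1), (109, 0), (109, 1), (2631, 0), (507,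 1), (2841, 0), (869, 1), (2735, 0), (975, 1), (3167, 1), (655, 0), (1363, 0), (2867, 1), (1949, 0), (1327, 0), (1327, 1), (2779, 1), (979, 0), (2975, 0), (2975, 1), (471, 0), (471, 1), (1615, 0), (1615, 1), (2997, 0), (2997, 1), (3599, 0), (3599, 1), (877, 0), (877, 1), (997, 0), (997, 1), (2397, 0), (2397, 1), (2845, 1), (3913, 1), (839, 1), (2003, 1), (1823, 0), (1823, 1), (1821, 0), (621, 0), (621, 1), (871, 0), (2143, 1), (345, 0), (857, 1), (2511, 0), (2511, 1), (937, 0), (2461, 1), (2395, 0), (763, 0), (575, 0), (115, 1), (2901, 1), (2899, 0), (3357, 0), (3357, 1), (1371, 1), (3033, 1), (1149, 0), (985, 0), (1891, 0), (1631, 0), (1485, 0), (2873, 1), (207, 0)]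

/-- Class of dodecad masks: containing `0`, meeting the dodecad of squares in `k` points. -/
def dodCls (k : ℕ) (m : ℕ) : Bool := m.testBit 0 && (popc (m &&& dod0) == k)

theorem dodCls_iff (k m : ℕ) :
    (gPt 0 ∈ ptsMask m ∧ (ptsMask dod0 ∩ ptsMask m).card = k) ↔ dodCls k m = true := by
  unfold dodCls
  rw [Bool.and_eq_true, beq_iff_eq, card_ptsMask_inter, Nat.land_comm, gPt_mem_ptsMask (by norm_num)]

theorem m11DodCert4_ok : orbCheck (wordTis m11Gens) m11DodStart4 m11DodCert4 (dodMasks.filter (dodCls 4)) = true := by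
  decide +kernel
theorem m11DodCert6_ok : orbCheck (wordTis m11Gens) m11DodStart6 m11DodCert6 (dodMasks.filter (dodCls 6)) = true := by
  decide +kernel
theorem m11DodCert8_ok : orbCheck (wordTis m11Gens) m11DodStart8 m11DodCert8 (dodMasks.filter (dodCls 8)) = true := by
  decide +kernel

theorem dodCls_counts : (dodMasks.filter (dodCls 4)).length = 165 ∧ (dodMasks.filter (dodCls 6)).length = 792 ∧
    (dodMasks.filter (dodCls 8)).length = 330 := by
  decide +kernel

theorem dodMasks_cases0 : ∀ m ∈ dodMasks, m.testBit 0 = true → popc (m &&& dod0) = 4 ∨ popc (m &&& dod0) = 6 ∨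
    popc (m &&& dod0) = 8 ∨ m = dod0 := by
  have : dodMasks.all (fun m => !(m.testBit 0) || popc (m &&& dod0) == 4 || popc (m &&& dod0) == 6 ||
      popc (m &&& dod0) == 8 || m == dod0) = true := by decide +kernel
  intro m hm h0
  have := List.all_eq_true.1 this m hm
  rw [h0] at this
  simpa [Bool.or_eq_true, beq_iff_eq, or_assoc] using this

/-- Orbits of `M11` on the dodecads through its fixed point. -/
theorem m11_dodecad_orbits {y' y'' : Finset GolayPt} (hy' : y' ∈ dodecads) (hy'' : y'' ∈ dodecads)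
    (h0' : gPt 0 ∈ y') (h0'' : gPt 0 ∈ y'')
    (h : (ptsMask dod0 ∩ y').card = (ptsMask dod0 ∩ y'').card) :
    ∃ g ∈ M24, g (gPt 0) = gPt 0 ∧ g • ptsMask dod0 = ptsMask dod0 ∧ g • y' = y'' := by
  have key : ∀ (k start : ℕ) (cert : List (ℕ × ℕ)),
      orbCheck (wordTis m11Gens) start cert (dodMasks.filter (dodCls k)) = true →
      (ptsMask dod0 ∩ y').card = k →
      ∃ g ∈ M24, g (gPt 0) = gPt 0 ∧ g • ptsMask dod0 = ptsMask dod0 ∧ g • y' = y'' := by
    intro k start cert hcert hk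
    obtain ⟨g, hg, e⟩ := exists_smul_of_orbCert_masks dodecads dodMasks (fun y hy => exists_dodMask hy)
      G11 m11Gens m11Gens_mem (dodCls k) hcert hy' hy''
      (fun m _ hm => (dodCls_iff k m).1 ⟨by rw [hm]; exact h0', by rw [hm]; exact hk⟩)
      (fun m _ hm => (dodCls_iff k m).1 ⟨by rw [hm]; exact h0'', by rw [hm, ← h]; exact hk⟩)
    obtain ⟨h1, h2, h3⟩ := mem_G11.1 hg
    exact ⟨g, h1, h3, h2, e⟩
  obtain ⟨m', hm', rfl⟩ := exists_dodMask hy'
  have hb : m'.testBit 0 = true := (gPt_mem_ptsMask (by norm_num)).1 h0'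
  have hc : (ptsMask dod0 ∩ ptsMask m').card = popc (m' &&& dod0) := by
    rw [card_ptsMask_inter, Nat.land_comm]
  rcases dodMasks_cases0 m' hm' hb with h4 | h6 | h8 | h12
  · exact key 4 _ _ m11DodCert4_ok (hc.trans h4)
  · exact key 6 _ _ m11DodCert6_ok (hc.trans h6)
  · exact key 8 _ _ m11DodCert8_ok (hc.trans h8)
  · -- `y' = d`, hence `y'' = d`
    subst h12
    have h12' : (ptsMask dod0 ∩ y'').card = 12 := by
      rw [← h, Finset.inter_self]
      exact ptsMask_dod0_mem.2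
    have e2 : ptsMask dod0 ∩ y'' = y'' :=
      Finset.eq_of_subset_of_card_le Finset.inter_subset_right (by rw [h12', hy''.2])
    have e1 : ptsMask dod0 ∩ y'' = ptsMask dod0 :=
      Finset.eq_of_subset_of_card_le Finset.inter_subset_left (by rw [h12', ptsMask_dod0_mem.2])
    refine ⟨1, M24.one_mem, rfl, one_smul _ _, ?_⟩
    rw [one_smul, ← e2, e1]

theorem ncard_dodecads_smul {g0 : Equiv.Perm GolayPt} (hg0 : g0 ∈ M24) (P : Finset GolayPt → Prop) :
    {o' : Finset GolayPt | o' ∈ dodecads ∧ P o'}.ncard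
      = {y : Finset GolayPt | y ∈ dodecads ∧ P (g0 • y)}.ncard := by
  have himg : {o' : Finset GolayPt | o' ∈ dodecads ∧ P o'}
      = (fun y : Finset GolayPt => g0 • y) '' {y : Finset GolayPt | y ∈ dodecads ∧ P (g0 • y)} := by
    ext o'
    rw [Set.mem_image]
    constructor
    · rintro ⟨ho', hP⟩
      refine ⟨g0⁻¹ • o', ⟨smul_mem_dodecads (M24.inv_mem hg0) ho', ?_⟩, smul_inv_smul _ _⟩
      rw [smul_inv_smul]; exact hP
    · rintro ⟨y, ⟨hy, hP⟩, rfl⟩
      exact ⟨smul_mem_dodecads hg0 hy, hP⟩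
  rw [himg]
  exact Set.ncard_image_of_injective _ (MulAction.injective g0)

/-- The number of dodecads through `x` meeting `d` in `k` points, for a flag `(x, d)` given by `g0`. -/
theorem ncard_dodecad_class {g0 : Equiv.Perm GolayPt} (hg0 : g0 ∈ M24) (k : ℕ) :
    {d' : Finset GolayPt | d' ∈ dodecads ∧ (g0 (gPt 0) ∈ d' ∧ (g0 • ptsMask dod0 ∩ d').card = k)}.ncard
      = (dodMasks.filter (dodCls k)).length := by
  rw [ncard_dodecads_smul hg0]
  rw [← ncard_filter_masks dodecads dodMasks (fun y hy => exists_dodMask hy)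
    (fun m hm => ptsMask_mem_dodecads hm) dodMasks_lt dodMasks_nodup
    (fun y => gPt 0 ∈ y ∧ (ptsMask dod0 ∩ y).card = k) (dodCls k) (fun m _ => dodCls_iff k m)]
  congr 1
  ext y
  simp only [Set.mem_ofPred_eq, smul_mem_smul_iff, card_smul_inter_smul]

theorem m11_dodecad_orbits_flag {g0 : Equiv.Perm GolayPt} (hg0 : g0 ∈ M24) {d' d'' : Finset GolayPt}
    (hd' : d' ∈ dodecads) (hd'' : d'' ∈ dodecads) (h0' : g0 (gPt 0) ∈ d') (h0'' : g0 (gPt 0) ∈ d'')
    (h : (g0 • ptsMask dod0 ∩ d').card = (g0 • ptsMask dod0 ∩ d'').card) :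
    ∃ g ∈ M24, g (g0 (gPt 0)) = g0 (gPt 0) ∧ g • (g0 • ptsMask dod0) = g0 • ptsMask dod0 ∧ g • d' = d'' := by
  have hcard : ∀ x : Finset GolayPt, (ptsMask dod0 ∩ g0⁻¹ • x).card = (g0 • ptsMask dod0 ∩ x).card := by
    intro x
    rw [← card_smul_inter_smul g0, smul_inv_smul]
  have hmem : ∀ (p : GolayPt) (x : Finset GolayPt), p ∈ g0⁻¹ • x ↔ g0 p ∈ x := by
    intro p x
    rw [Finset.mem_inv_smul_finset_iff, Equiv.Perm.smul_def]
  obtain ⟨k, hk, hk0, hkd, e⟩ := m11_dodecad_orbits (smul_mem_dodecads (M24.inv_mem hg0) hd')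
    (smul_mem_dodecads (M24.inv_mem hg0) hd'') (by rw [hmem]; exact h0') (by rw [hmem]; exact h0'')
    (by rw [hcard, hcard, h])
  refine ⟨g0 * k * g0⁻¹, M24.mul_mem (M24.mul_mem hg0 hk) (M24.inv_mem hg0), ?_, ?_, ?_⟩
  · rw [Equiv.Perm.mul_apply, Equiv.Perm.mul_apply, Equiv.Perm.inv_def, Equiv.symm_apply_apply, hk0]
  · rw [mul_smul, mul_smul, inv_smul_smul, hkd]
  · rw [mul_smul, mul_smul, e, smul_inv_smul]

end Cfsg.Agent.Lib.H28
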