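/-
helper28 library: counting the octads, dodecads, sextets and trios fixed by an explicit word of M24, and
transporting such counts along conjugation and between generators of the same cyclic group.
-/
import Cfsg.Agent.Lib.H28.KeyOrbit
import Cfsg.Agent.Lib.H28.SextetKeys
import Cfsg.Agent.Lib.H28.TrioKeys
import Cfsg.Agent.Lib.H28.OctadFlags
import Cfsg.Agent.Lib.H28.MaskFamily
import Cfsg.Agent.Lib.H28.FamilySmul

set_option autoImplicit false

namespace Cfsg.Agent.Lib.H28

open scoped Pointwise
open Cfsg

theorem pullMask_lt (t : List ℕ) (m : ℕ) : pullMask t m < 2 ^ 24 := by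
  unfold pullMask
  exact Nat.ofBits_lt_two_pow _

theorem wordPerm_smul_ptsMask (w : List ℕ) (m : ℕ) :
    wordPerm w • ptsMask m = ptsMask (pullMask (wordTab (invWord w)) m) :=
  smul_ptsMask (wordPerm w) (wordTab (invWord w)) (fun p => by
    rw [← wordTab_spec, wordPerm_invWord, Equiv.Perm.inv_def]) m

theorem wordPerm_smul_decL (w : List ℕ) (k : List ℕ) :
    wordPerm w • decL k = decL (k.map (pullMask (wordTab (invWord w)))) :=
  smul_decL (wordPerm w) (wordTab (invWord w)) (fun p => by
    rw [← wordTab_spec, wordPerm_invWord, Equiv.Perm.inv_def]) k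

/-- A word fixes the set of a mask iff the pulled mask is the same. -/
theorem wordPerm_smul_ptsMask_eq_iff (w : List ℕ) {m : ℕ} (hm : m < 2 ^ 24) :
    wordPerm w • ptsMask m = ptsMask m ↔ (pullMask (wordTab (invWord w)) m == m) = true := by
  rw [wordPerm_smul_ptsMask, beq_iff_eq]
  constructor
  · intro h
    exact ptsMask_inj (pullMask_lt _ _) hm h
  · intro h
    rw [h]

theorem sameL_of_decL_eq {l l' : List ℕ} (hl : ∀ m ∈ l, m < 2 ^ 24) (hl' : ∀ m ∈ l', m < 2 ^ 24)
    (h : decL l = decL l') : sameL l l' = true := by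
  unfold sameL
  rw [Bool.and_eq_true, List.all_eq_true, List.all_eq_true]
  constructor
  · intro m hm
    rw [List.contains_iff_mem]
    have : ptsMask m ∈ decL l' := by
      rw [← h]
      exact mem_decL.2 ⟨m, hm, rfl⟩
    obtain ⟨m', hm', e⟩ := mem_decL.1 this
    rw [← ptsMask_inj (hl' m' hm') (hl m hm) e]
    exact hm'
  · intro m hm
    rw [List.contains_iff_mem]
    have : ptsMask m ∈ decL l := by
      rw [h]
      exact mem_decL.2 ⟨m, hm, rfl⟩
    obtain ⟨m', hm', e⟩ := mem_decL.1 this
    rw [← ptsMask_inj (hl m' hm') (hl' m hm) e]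
    exact hm'

theorem lt_of_keyOK {k : List ℕ} (hk : keyOK k = true) : ∀ m ∈ k, m < 2 ^ 24 := by
  unfold keyOK at hk
  rw [Bool.and_eq_true, List.all_eq_true] at hk
  intro m hm
  exact of_decide_eq_true (hk.1 m hm)

/-- A word fixes the decoded key iff the pulled key has the same masks. -/
theorem wordPerm_smul_decL_eq_iff (w : List ℕ) {k : List ℕ} (hk : ∀ m ∈ k, m < 2 ^ 24) :
    wordPerm w • decL k = decL k ↔ sameL (k.map (pullMask (wordTab (invWord w)))) k = true := by
  rw [wordPerm_smul_decL]
  constructor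
  · intro h
    refine sameL_of_decL_eq ?_ hk h
    intro m hm
    obtain ⟨m', -, rfl⟩ := List.mem_map.1 hm
    exact pullMask_lt _ _
  · exact decL_eq_of_sameL

/-! ### Counting the fixed members of the four families -/

def fixMask (w : List ℕ) (m : ℕ) : Bool := pullMask (wordTab (invWord w)) m == m

def fixKey (w : List ℕ) (k : List ℕ) : Bool := sameL (k.map (pullMask (wordTab (invWord w)))) k

theorem ncard_fixed_octads (w : List ℕ) :
    {o : Finset GolayPt | o ∈ octads ∧ wordPerm w • o = o}.ncard = (octMasks.filter (fixMask w)).length := by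
  apply ncard_octads_filter
  intro m hm
  have h1 := List.all_eq_true.1 octMasks_lt_nodup.1 m hm
  rw [decide_eq_true_eq] at h1
  exact wordPerm_smul_ptsMask_eq_iff w h1

theorem ncard_fixed_dodecads (w : List ℕ) :
    {d : Finset GolayPt | d ∈ dodecads ∧ wordPerm w • d = d}.ncard = (dodMasks.filter (fixMask w)).length := by
  apply ncard_filter_masks dodecads dodMasks (fun y hy => exists_dodMask hy) (fun m hm => ptsMask_mem_dodecads hm)
    dodMasks_lt dodMasks_nodup
  intro m hm
  have h1 := List.all_eq_true.1 dodMasks_lt m hm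
  rw [decide_eq_true_eq] at h1
  exact wordPerm_smul_ptsMask_eq_iff w h1

theorem ncard_fixed_sextets (w : List ℕ) :
    {S : Finset (Finset GolayPt) | S ∈ sextets ∧ wordPerm w • S = S}.ncard =
      ((flatK sextKs 1771).filter (fixKey w)).length := by
  apply ncard_filter_keys sextets decL (flatK sextKs 1771) (fun y hy => exists_sextKey hy)
    (fun k hk => decL_mem_sextets (sextKey_ok hk)) sextKs_inj sextKs_nodup
  intro k hk
  exact wordPerm_smul_decL_eq_iff w (lt_of_keyOK (sextKey_keyOK hk))

theorem ncard_fixed_trios (w : List ℕ) :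
    {T : Finset (Finset GolayPt) | T ∈ trios ∧ wordPerm w • T = T}.ncard =
      ((flatK trioKs 3795).filter (fixKey w)).length := by
  apply ncard_filter_keys trios decL (flatK trioKs 3795) (fun y hy => exists_trioKey hy)
    (fun k hk => trioKey_mem hk) trioKs_inj trioKs_nodup
  intro k hk
  exact wordPerm_smul_decL_eq_iff w (lt_of_keyOK (trioKey_keyOK hk))

/-! ### Versions with an explicit table -/

def fixMaskT (ti : List ℕ) (m : ℕ) : Bool := pullMask ti m == m

def fixKeyT (ti : List ℕ) (k : List ℕ) : Bool := sameL (k.map (pullMask ti)) k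

theorem ncard_fixed_octads_T (w ti : List ℕ) (h : wordTab (invWord w) = ti) :
    {o : Finset GolayPt | o ∈ octads ∧ wordPerm w • o = o}.ncard = (octMasks.filter (fixMaskT ti)).length := by
  subst h
  exact ncard_fixed_octads w

theorem ncard_fixed_dodecads_T (w ti : List ℕ) (h : wordTab (invWord w) = ti) :
    {d : Finset GolayPt | d ∈ dodecads ∧ wordPerm w • d = d}.ncard = (dodMasks.filter (fixMaskT ti)).length := by
  subst h
  exact ncard_fixed_dodecads w

theorem ncard_fixed_sextets_T (w ti : List ℕ) (h : wordTab (invWord w) = ti) :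
    {S : Finset (Finset GolayPt) | S ∈ sextets ∧ wordPerm w • S = S}.ncard =
      ((flatK sextKs 1771).filter (fixKeyT ti)).length := by
  subst h
  exact ncard_fixed_sextets w

theorem ncard_fixed_trios_T (w ti : List ℕ) (h : wordTab (invWord w) = ti) :
    {T : Finset (Finset GolayPt) | T ∈ trios ∧ wordPerm w • T = T}.ncard =
      ((flatK trioKs 3795).filter (fixKeyT ti)).length := by
  subst h
  exact ncard_fixed_trios w

/-! ### Transport -/

/-- Conjugate elements fix the same number of members of an invariant family. -/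
theorem ncard_fixed_conj {β : Type*} [MulAction (Equiv.Perm GolayPt) β] (F : Set β)
    (hF : ∀ k ∈ M24, ∀ x ∈ F, k • x ∈ F) {k g : Equiv.Perm GolayPt} (hk : k ∈ M24) :
    {x : β | x ∈ F ∧ (k * g * k⁻¹) • x = x}.ncard = {x : β | x ∈ F ∧ g • x = x}.ncard := by
  have himg : {x : β | x ∈ F ∧ (k * g * k⁻¹) • x = x} = (fun x => k • x) '' {x : β | x ∈ F ∧ g • x = x} := by
    ext x
    rw [Set.mem_image]
    constructor
    · rintro ⟨hx, hfix⟩
      refine ⟨k⁻¹ • x, ⟨hF _ (M24.inv_mem hk) x hx, ?_⟩, smul_inv_smul k x⟩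
      rw [mul_smul, mul_smul] at hfix
      exact (smul_eq_iff_eq_inv_smul k).1 hfix
    · rintro ⟨y, ⟨hy, hfix⟩, rfl⟩
      refine ⟨hF k hk y hy, ?_⟩
      rw [mul_smul, mul_smul, inv_smul_smul, hfix]
  rw [himg]
  exact Set.ncard_image_of_injective _ (MulAction.injective k)

/-- Elements generating the same cyclic group fix the same things. -/
theorem smul_eq_iff_of_zpowers {β : Type*} [MulAction (Equiv.Perm GolayPt) β] {g h : Equiv.Perm GolayPt}
    (h1 : g ∈ Subgroup.zpowers h) (h2 : h ∈ Subgroup.zpowers g) (x : β) : g • x = x ↔ h • x = x := by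
  constructor
  · intro hx
    have : Subgroup.zpowers g ≤ MulAction.stabilizer (Equiv.Perm GolayPt) x :=
      (Subgroup.zpowers_le).2 (MulAction.mem_stabilizer_iff.2 hx)
    exact MulAction.mem_stabilizer_iff.1 (this h2)
  · intro hx
    have : Subgroup.zpowers h ≤ MulAction.stabilizer (Equiv.Perm GolayPt) x :=
      (Subgroup.zpowers_le).2 (MulAction.mem_stabilizer_iff.2 hx)
    exact MulAction.mem_stabilizer_iff.1 (this h1)

end Cfsg.Agent.Lib.H28
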