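/-
helper28 library: the two classes of point stabilizers in the stabilizer of the dodecad of squares: conjugation of
stabilizers inside `M24`, the projective inversion swaps the dodecad of squares and its complement.
-/
import Cfsg.Prelude.Def_Spor_Mathieu
import Cfsg.Agent.Lib.H28.M12
import Cfsg.Agent.Lib.H28.FixedCount

set_option autoImplicit false

namespace Cfsg.Agent.Lib.H28

open Cfsg
open scoped Pointwise

theorem squareDodecad_eq_ptsMask : Spor.squareDodecad = ptsMask dod0 := by
  unfold Spor.squareDodecad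
  rw [ptsMask_eq_support₂, qrWord_eq_W, ZMod.val_zero]
  rfl

theorem gPt_zero_eq : gPt 0 = (some 0 : GolayPt) := by
  unfold gPt
  simp

theorem gPt_23_eq : gPt 23 = (none : GolayPt) := by
  unfold gPt
  simp

theorem smul_finset_compl' (x : Equiv.Perm GolayPt) (s : Finset GolayPt) : x • sᶜ = (x • s)ᶜ := by
  apply Finset.coe_injective
  rw [Finset.coe_smul_finset, Finset.coe_compl, Finset.coe_compl, Finset.coe_smul_finset, Set.smul_set_compl]

theorem stabilizer_finset_compl (s : Finset GolayPt) :
    MulAction.stabilizer (Equiv.Perm GolayPt) sᶜ = MulAction.stabilizer (Equiv.Perm GolayPt) s := by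
  ext x
  rw [MulAction.mem_stabilizer_iff, MulAction.mem_stabilizer_iff, smul_finset_compl', compl_inj_iff]

/-- Conjugating the stabilizer in `M24` of a set and a point. -/
theorem conj_smul_stab_set_point {g : Equiv.Perm GolayPt} (hg : g ∈ M24) (d : Finset GolayPt) (p : GolayPt) :
    MulAut.conj g • (M24 ⊓ MulAction.stabilizer (Equiv.Perm GolayPt) d ⊓
        MulAction.stabilizer (Equiv.Perm GolayPt) p)
      = M24 ⊓ MulAction.stabilizer (Equiv.Perm GolayPt) (g • d) ⊓
        MulAction.stabilizer (Equiv.Perm GolayPt) (g p) := by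
  ext x
  rw [Subgroup.mem_pointwise_smul_iff_inv_smul_mem, MulAut.smul_def, MulAut.conj_inv_apply]
  simp only [Subgroup.mem_inf, MulAction.mem_stabilizer_iff]
  constructor
  · rintro ⟨⟨h1, h2⟩, h3⟩
    refine ⟨⟨?_, ?_⟩, ?_⟩
    · have := M24.mul_mem (M24.mul_mem hg h1) (M24.inv_mem hg)
      simpa [mul_assoc] using this
    · rw [mul_smul, mul_smul, inv_smul_eq_iff] at h2
      exact h2
    · rw [Equiv.Perm.smul_def, Equiv.Perm.mul_apply, Equiv.Perm.mul_apply, Equiv.Perm.inv_eq_iff_eq] at h3
      exact h3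
  · rintro ⟨⟨h1, h2⟩, h3⟩
    refine ⟨⟨M24.mul_mem (M24.mul_mem (M24.inv_mem hg) h1) hg, ?_⟩, ?_⟩
    · rw [mul_smul, mul_smul, inv_smul_eq_iff]
      exact h2
    · rw [Equiv.Perm.smul_def, Equiv.Perm.mul_apply, Equiv.Perm.mul_apply, Equiv.Perm.inv_eq_iff_eq]
      exact h3

theorem compl_ptsMask_dod0 : (ptsMask dod0)ᶜ = ptsMask dod0c := by
  ext p
  rw [Finset.mem_compl, mem_ptsMask_dod0c]

/-- The projective inversion maps the dodecad of squares onto its complement and the residue 0 to the extra
point. -/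
theorem inversion_smul_dod0 : wordPerm [2] • ptsMask dod0 = ptsMask dod0c := by
  rw [wordPerm_smul_ptsMask]
  congr 1

theorem inversion_zero : wordPerm [2] (gPt 0) = gPt 23 := wordPerm_gPt (by norm_num) (by decide +kernel)

/-- A word of the dodecad stabilizer fixing the extra point and moving every point of the dodecad. -/
def w11free : List ℕ := [0, 4, 0, 0, 3, 1, 4, 1, 3]

theorem w11free_mem : wordPerm w11free ∈ stabMask dod0 := wordPerm_mem_stabMask (by decide +kernel)

theorem w11free_fix : wordPerm w11free (gPt 23) = gPt 23 := wordPerm_gPt (by norm_num) (by decide +kernel)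

theorem w11free_moves {x : GolayPt} (hx : x ∈ ptsMask dod0) : wordPerm w11free x ≠ x := by
  have h : ([0, 1, 2, 3, 4, 6, 8, 9, 12, 13, 16, 18] : List ℕ).all (fun i => evalPt w11free i != i) = true := by decide +kernel
  intro e
  rw [mem_ptsMask] at hx
  have hb := (List.all_eq_true.1 h (gIdx x) ?_)
  · rw [bne_iff_ne, ← gIdx_wordPerm, e] at hb
    exact hb rfl
  · have : ∀ z < 24, dod0.testBit z = true → z ∈ [0, 1, 2, 3, 4, 6, 8, 9, 12, 13, 16, 18] := by decide +kernel
    exact this _ (gIdx_lt x) hx

end Cfsg.Agent.Lib.H28
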