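/-
helper28 library: hexads on a dodecad (intersections of size 6 with octads): invariance, uniqueness through five
points, and the stabilizer of a hexad inside the dodecad stabilizer is the full symmetric group on the hexad.
-/
import Cfsg.Agent.Lib.H28.M12
import Cfsg.Agent.Lib.H28.M24OctadA8

set_option autoImplicit false

namespace Cfsg.Agent.Lib.H28

open scoped Pointwise
open Cfsg

theorem smul_mem_hexadsOn {g : Equiv.Perm GolayPt} (hg : g ∈ M24) {d h : Finset GolayPt} (hgd : g • d = d)
    (hh : h ∈ hexadsOn d) : g • h ∈ hexadsOn d := by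
  obtain ⟨h6, o, ho, rfl⟩ := hh
  refine ⟨by rw [Finset.card_smul_finset]; exact h6, g • o, smul_mem_octads hg ho, ?_⟩
  rw [Finset.smul_finset_inter, hgd]

theorem hexadsOn_subset {d h : Finset GolayPt} (hh : h ∈ hexadsOn d) : h ⊆ d := by
  obtain ⟨-, o, -, rfl⟩ := hh
  exact Finset.inter_subset_right

theorem hexadsOn_eq_of_five {d h h' s : Finset GolayPt} (hh : h ∈ hexadsOn d) (hh' : h' ∈ hexadsOn d)
    (hs : s.card = 5) (h1 : s ⊆ h) (h2 : s ⊆ h') : h = h' := by
  obtain ⟨-, o, ho, rfl⟩ := hh
  obtain ⟨-, o', ho', rfl⟩ := hh'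
  obtain ⟨b, -, hb⟩ := octads_isSteinerSystem.2 s hs
  have e1 := hb o ⟨ho, h1.trans Finset.inter_subset_left⟩
  have e2 := hb o' ⟨ho', h2.trans Finset.inter_subset_left⟩
  rw [e1, e2]

/-- Five points of a 6-set, as an injective family. -/
theorem exists_five_of_card_six {s : Finset GolayPt} (hs : s.card = 6) :
    ∃ x : Fin 5 → GolayPt, Function.Injective x ∧ ∀ i, x i ∈ s := by
  have e := Finset.equivFinOfCardEq hs
  refine ⟨fun i => ((e.symm (Fin.castSucc i) : ↥s) : GolayPt), ?_, fun i => (e.symm _).2⟩
  intro i j hij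
  have := e.symm.injective (Subtype.val_injective hij)
  exact Fin.castSucc_injective 5 this

/-- An element of the dodecad stabilizer fixing six points of the dodecad is trivial. -/
theorem eq_one_of_fix_six {d : Finset GolayPt} (hd : d ∈ dodecads) {g : Equiv.Perm GolayPt} (hg : g ∈ M24)
    (hgd : g • d = d) {s : Finset GolayPt} (hs : s.card = 6) (hsd : s ⊆ d) (hfix : ∀ p ∈ s, g p = p) : g = 1 := by
  obtain ⟨x, hx, hxs⟩ := exists_five_of_card_six hs
  exact dodSharp_of_mem hd g hg hgd x hx (fun i => hsd (hxs i)) (fun i => hfix _ (hxs i))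

/-- Every permutation of a hexad on a dodecad is induced by an element of `M24` fixing the dodecad and the hexad. -/
theorem hexad_perm_induced {d : Finset GolayPt} (hd : d ∈ dodecads) {C : Finset GolayPt} (hC : C ∈ hexadsOn d)
    (σ : Equiv.Perm ↥C) : ∃ g ∈ M24, g • d = d ∧ g • C = C ∧ ∀ c : ↥C, g c = σ c := by
  classical
  have hC6 : C.card = 6 := hC.1
  have hCd := hexadsOn_subset hC
  have e := Finset.equivFinOfCardEq hC6
  set x : Fin 5 → GolayPt := fun i => ((e.symm (Fin.castSucc i) : ↥C) : GolayPt) with hx
  set y : Fin 5 → GolayPt := fun i => ((σ (e.symm (Fin.castSucc i)) : ↥C) : GolayPt) with hy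
  have hxinj : Function.Injective x := by
    intro i j hij
    have := e.symm.injective (Subtype.val_injective hij)
    exact Fin.castSucc_injective 5 this
  have hyinj : Function.Injective y := by
    intro i j hij
    have := e.symm.injective (σ.injective (Subtype.val_injective hij))
    exact Fin.castSucc_injective 5 this
  obtain ⟨g, hg, hgd, hmap⟩ := dodTrans_of_mem hd 5 (le_refl 5) x y hxinj hyinj
    (fun i => hCd (e.symm _).2) (fun i => hCd (σ _).2)
  have hgC : g • C = C := by
    apply hexadsOn_eq_of_five (smul_mem_hexadsOn hg hgd hC) hC (s := Finset.univ.image y)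
    · rw [Finset.card_image_of_injective _ hyinj, Finset.card_univ, Fintype.card_fin]
    · intro p hp
      obtain ⟨i, -, rfl⟩ := Finset.mem_image.1 hp
      rw [← hmap i]
      exact Finset.smul_mem_smul_finset (e.symm _).2
    · intro p hp
      obtain ⟨i, -, rfl⟩ := Finset.mem_image.1 hp
      exact (σ _).2
  refine ⟨g, hg, hgd, hgC, ?_⟩
  intro c
  obtain ⟨j, rfl⟩ := e.symm.surjective c
  induction j using Fin.lastCases with
  | cast i => exact hmap i
  | last =>
    have hmem : g ((e.symm (Fin.last 5) : ↥C) : GolayPt) ∈ C := by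
      have : g • ((e.symm (Fin.last 5) : ↥C) : GolayPt) ∈ g • C := Finset.smul_mem_smul_finset (e.symm _).2
      rw [hgC] at this
      exact this
    obtain ⟨c', hc'⟩ := σ.surjective ⟨_, hmem⟩
    obtain ⟨j', rfl⟩ := e.symm.surjective c'
    induction j' using Fin.lastCases with
    | cast i =>
      exfalso
      have h1 : g ((e.symm (Fin.last 5) : ↥C) : GolayPt) = g (x i) := by
        rw [hmap i]
        exact (congrArg Subtype.val hc').symm
      have h2 := e.symm.injective (Subtype.val_injective (g.injective h1))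
      exact absurd h2.symm (Fin.castSucc_lt_last i).ne
    | last => exact (congrArg Subtype.val hc').symm

end Cfsg.Agent.Lib.H28
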