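/-
helper28 library: the hexads on the dodecad of squares (132 masks), the triples in it (220 masks), and the 220
quartets as keys of four triple masks: soundness and completeness of the table.
-/
import Cfsg.Agent.Lib.H28.FixedCount
import Cfsg.Agent.Lib.H28.M24DodecadOrbits

set_option autoImplicit false
set_option Elab.async false

namespace Cfsg.Agent.Lib.H28

open scoped Pointwise
open Cfsg

theorem ptsMask_and (a b : ℕ) : ptsMask (a &&& b) = ptsMask a ∩ ptsMask b := by
  ext p
  rw [Finset.mem_inter, mem_ptsMask, mem_ptsMask, mem_ptsMask, Nat.testBit_and, Bool.and_eq_true]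

theorem ptsMask_two_pow {i : ℕ} (hi : i < 24) : ptsMask (2 ^ i) = {gPt i} := by
  ext p
  rw [mem_ptsMask, Nat.testBit_two_pow, decide_eq_true_eq, Finset.mem_singleton]
  constructor
  · intro h
    rw [h, gPt_gIdx]
  · intro h
    rw [h, gIdx_gPt hi]

/-- The point indices of the dodecad of squares. -/
def dodBits : List ℕ := [0, 1, 2, 3, 4, 6, 8, 9, 12, 13, 16, 18]

/-- Masks of the 132 hexads on the dodecad of squares. -/
def hexList : List ℕ := [343, 591, 797, 858, 4127, 4430, 4441, 4691, 4700, 4875, 4886, 4933, 8285, 8478, 8523, 8731, 8790, 8967, 9036, 9041, 12359, 12378, 12557, 12563, 12628, 12814, 12821, 12873, 13080, 13122, 65627, 65807, 65884, 66078, 66133, 66323, 66374, 66377, 69709, 69718, 69909, 69914, 69955, 70151, 70169, 70218, 70412, 70480, 73751, 73806, 74009, 74053, 74066, 74253, 74307, 74328, 74506, 74516, 77835, 77852, 77905, 78086, 78152, 78354, 78404, 78593, 262238, 262427, 262477, 262679, 262745, 262926, 262979, 262996, 266315, 266325, 266503, 266524, 266578, 266765, 266778, 266822, 267025, 267080, 270351, 270419, 270613, 270662,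 270680, 270876, 270917, 270922, 271113, 271122, 274454, 274457, 274508, 274698, 274753, 274947, 275024, 275204, 327709, 327751, 327958, 328010, 328017, 328203, 328268, 328274, 328453, 328472, 331790, 331795, 331864, 332041, 332100, 332308, 332353, 332546, 335898, 335945, 335956, 336131, 336140, 336390, 336401, 336704, 339973, 340034, 340240, 340488]

/-- Masks of the 220 triples in the dodecad of squares. -/
def tripList : List ℕ := [7, 11, 13, 14, 19, 21, 22, 25, 26, 28, 67, 69, 70, 73, 74, 76, 81, 82, 84, 88, 259, 261, 262, 265, 266, 268, 273, 274, 276, 280, 321, 322, 324, 328, 336, 515, 517, 518, 521, 522, 524, 529, 530, 532, 536, 577, 578, 580, 584, 592, 769, 770, 772, 776, 784, 832, 4099, 4101, 4102, 4105, 4106, 4108, 4113, 4114, 4116, 4120, 4161, 4162, 4164, 4168, 4176, 4353, 4354, 4356, 4360, 4368, 4416, 4609, 4610, 4612, 4616, 4624, 4672, 4864, 8195, 8197, 8198, 8201, 8202, 8204, 8209, 8210, 8212, 8216, 8257, 8258, 8260, 8264, 8272, 8449, 8450, 8452, 8456, 8464, 8512, 8705, 8706, 8708, 8712, 8720, 8768, 8960, 12289, 12290, 12292, 12296, 12304, 12352,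 12544, 12800, 65539, 65541, 65542, 65545, 65546, 65548, 65553, 65554, 65556, 65560, 65601, 65602, 65604, 65608, 65616, 65793, 65794, 65796, 65800, 65808, 65856, 66049, 66050, 66052, 66056, 66064, 66112, 66304, 69633, 69634, 69636, 69640, 69648, 69696, 69888, 70144, 73729, 73730, 73732, 73736, 73744, 73792, 73984, 74240, 77824, 262147, 262149, 262150, 262153, 262154, 262156, 262161, 262162, 262164, 262168, 262209, 262210, 262212, 262216, 262224, 262401, 262402, 262404, 262408, 262416, 262464, 262657, 262658, 262660, 262664, 262672, 262720, 262912, 266241, 266242, 266244, 266248, 266256, 266304, 266496, 266752, 270337, 270338, 270340, 270344, 270352, 270400, 270592, 270848, 274432, 327681, 327682, 327684, 327688, 327696, 327744, 327936, 328192, 331776, 335872]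

/-- The 220 quartets of the dodecad of squares, as keys of four triple masks, in chunks of 64. -/
def quartKs : List (List (List ℕ)) := [
  [[7, 336, 70144, 270344], [7, 584, 73744, 266496], [7, 4120, 8960, 327744], [7, 12352, 65800, 262672], [11, 580, 77824, 262416], [11, 4116, 8512, 328192], [11, 4864, 65616, 270340], [11, 8720, 65796, 266304], [13, 578, 12544, 327696], [13, 784, 69696, 270338], [13, 4114, 74240, 262464], [13, 8272, 65794, 266752], [14, 577, 8464, 331776], [14, 4113, 73792, 262912], [14, 4416, 66064, 270337], [14, 12800, 65793, 262224], [19, 324, 8712, 331776], [19, 4108, 66304, 270400], [19, 4672, 73732, 262408], [19, 12544, 65608, 262660], [21, 322, 12800, 327688], [21, 776, 73730, 266304], [21, 4106, 66112, 270592], [21, 8264, 69888, 262658], [22, 321, 66056, 274432], [22, 4105, 8768, 327936], [22, 4864, 73729, 262216], [22, 8456, 69696, 262657], [25, 772, 65602, 274432], [25, 4102, 73984, 262720], [25, 4416, 8706, 327684], [25, 8260, 70144, 262402], [26, 832, 4101, 335872], [26, 8452, 65601, 266752], [26, 8705, 69888, 262212], [26,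 12352, 66052, 262401], [28, 769, 77824, 262210], [28, 4099, 65856, 270848], [28, 4672, 8450, 327681], [28, 8257, 66050, 266496], [67, 276, 74240, 266248], [67, 524, 69888, 270352], [67, 4624, 8456, 327684], [67, 12292, 65560, 262912], [69, 274, 69640, 270848], [69, 522, 73984, 266256], [69, 4864, 8216, 327682], [69, 12290, 66064, 262408], [70, 273, 73736, 266752], [70, 521, 69648, 270592], [70, 4360, 8720, 327681], [70, 12289, 66304, 262168], [73, 518, 4368, 335872], [73, 8212, 66304, 266242], [73, 8450, 69636, 262672], [73, 12800, 65554, 262404], [74, 517, 12304, 327936], [74, 784, 73732, 266241], [74, 4356, 65553, 270848], [74, 8449, 70144, 262164], [76, 515, 65808, 274432], [76, 4354, 8209, 328192], [76, 4624, 73730, 262401], [76, 8960, 69633, 262162]],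
  [[81, 262, 77824, 262664], [81, 4360, 66052, 270338], [81, 4610, 8204, 327936], [81, 8960, 65546, 266244], [82, 261, 12296, 328192], [82, 776, 69636, 270337], [82, 4609, 73984, 262156], [82, 8708, 65545, 266496], [84, 259, 4616, 335872], [84, 8201, 69634, 262912], [84, 8706, 65800, 266241], [84, 12544, 66049, 262154], [88, 770, 8197, 331776], [88, 4353, 74240, 262150], [88, 4612, 65539, 270592], [88, 12290, 65796, 262657], [259, 8264, 66064, 266244], [259, 8708, 69696, 262168], [259, 12304, 65548, 262720], [261, 536, 73792, 266242], [261, 4672, 65546, 270352], [261, 8706, 69648, 262216], [262, 4168, 8705, 327696], [262, 4624, 65545, 270400], [262, 8216, 66112, 266241], [265, 532, 8258, 331776], [265, 4176, 65542, 270848], [265, 4610, 73744, 262212], [265, 12292, 66112, 262162], [266, 592, 65541, 274432], [266, 4164, 74240, 262161], [266, 4609, 8212, 327744], [266, 8257, 69648, 262660], [268, 529, 4162, 335872], [268, 8210, 70144, 262209], [268, 8768, 65539, 266256], [268, 12289, 65616, 262658], [273, 524, 12290, 327744], [273, 4168, 66050, 270340], [273,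 8768, 69636, 262154], [274, 584, 12289, 327684], [274, 4612, 73792, 262153], [274, 8204, 66049, 266304], [276, 521, 12352, 327682], [276, 4610, 65608, 270337], [276, 8202, 69633, 262720], [280, 517, 69634, 270400], [280, 578, 73729, 266244], [280, 4161, 8198, 328192], [280, 12800, 65604, 262147], [321, 4120, 73732, 262658], [321, 4612, 8202, 327696], [321, 8720, 69634, 262156], [322, 536, 69633, 270340], [322, 4108, 73744, 262657], [322, 8201, 66052, 266256], [324, 4106, 73729, 262672], [324, 4609, 65560, 270338], [324, 12304, 66050, 262153], [328, 530, 77824, 262149], [328, 4102, 66049, 270352], [328, 4113, 8708, 327682], [328, 8195, 65556, 266752], [336, 522, 12292, 327681]],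
  [[336, 4105, 73730, 262660], [336, 8705, 65548, 266242], [515, 4176, 8452, 327688], [515, 4360, 73792, 262164], [515, 8216, 69636, 262464], [517, 4416, 73736, 262162], [517, 8450, 65616, 266248], [518, 8272, 69633, 262408], [518, 8449, 65560, 266304], [518, 12296, 65856, 262161], [521, 4354, 73732, 262224], [521, 8210, 65856, 266244], [522, 4353, 65556, 270400], [522, 8209, 69696, 262404], [524, 4176, 73729, 262402], [524, 8512, 65554, 266241], [529, 8202, 65604, 266496], [529, 8512, 69640, 262150], [529, 12292, 65794, 262216], [530, 4161, 65548, 270592], [530, 4356, 8201, 327744], [530, 8260, 65793, 266248], [532, 4168, 73984, 262147], [532, 4354, 65601, 270344], [532, 12289, 65546, 262464], [536, 4164, 8195, 327936], [536, 12544, 65542, 262209], [577, 4114, 65800, 270340], [577, 4356, 73730, 262168], [577, 12296, 65556, 262402], [578, 4113, 65796, 270344], [578, 8212, 69640, 262401], [580, 4120, 65794, 270337], [580, 4353, 8210, 327688], [580, 8456, 65553, 266242], [584, 4116, 65793, 270338], [584, 8452, 69634, 262161], [592, 4099, 73736, 262404], [592,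 4108, 8449, 327682], [592, 8198, 69888, 262153], [769, 4106, 8272, 327684], [769, 4164, 65554, 270344], [769, 8198, 65608, 266256], [770, 4105, 65604, 270352], [770, 4116, 73736, 262209], [770, 12352, 65553, 262156], [772, 4114, 8264, 327681], [772, 4161, 73744, 262154], [772, 8195, 69640, 262224], [776, 4099, 8260, 327696], [776, 12304, 65601, 262150], [784, 4102, 8257, 327688], [784, 12296, 65539, 262212], [832, 8204, 69648, 262147], [832, 8209, 65542, 266248], [832, 12290, 65545, 262164], [4099, 8464, 66052, 262216], [4101, 8258, 65808, 262664], [4101, 8456, 66050, 262224], [4101, 8720, 65608, 262402], [4102, 8712, 65616, 262401], [4105, 8452, 66064, 262210], [4106, 8708, 65808, 262209], [4108, 8706, 65601, 262416]],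
  [[4113, 8450, 66056, 262212], [4114, 8449, 65604, 262664], [4116, 8705, 65602, 262408], [4120, 8258, 66049, 262404], [4161, 8712, 65794, 262164], [4162, 8197, 66056, 262416], [4162, 8216, 65793, 262660], [4162, 8960, 65556, 262153], [4164, 8464, 65545, 262658], [4168, 8210, 65541, 262912], [4176, 8202, 66304, 262149], [4353, 8204, 65602, 262672], [4354, 8768, 65560, 262149], [4356, 8272, 66056, 262147], [4360, 8197, 65554, 262720], [4368, 8195, 66112, 262156], [4368, 8260, 65546, 262657], [4368, 8712, 65541, 262210], [4416, 8212, 65539, 262664], [4609, 8264, 65542, 262416], [4610, 8512, 65541, 262168], [4612, 8209, 65800, 262210], [4616, 8198, 65553, 262464], [4616, 8257, 65796, 262162], [4616, 8464, 65602, 262149], [4624, 8197, 65856, 262154], [4672, 8201, 65808, 262150], [4864, 8258, 65548, 262161]]]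

theorem dodBits_spec : ∀ z < 24, dod0.testBit z = true ↔ z ∈ dodBits := by decide +kernel

/-- For each hexad mask an octad mask meeting the dodecad of squares in it. -/
def hexOct : List ℕ := [1065303, 4196943, 10486557, 525274, 5279, 2232654, 39257, 8524371, 21116, 1053483, 4231958, 530245, 663645, 10558, 8398155, 57883, 2106966, 140167, 1090380, 4203377, 45159, 5255258, 4223245, 2634003, 8401364, 8925710, 1063445, 2110153, 145176, 31554, 2162811, 622863, 4261212, 1245726, 99029, 69395, 8455014, 213833, 9506893, 596054, 201013, 8474906, 4264387, 2183687, 4788761, 104010, 72588, 3216208, 12656663, 90318, 1122713, 2173253, 237906, 75309, 1647171, 8464984, 6365962, 615188, 210955, 2207772, 95313, 1127686, 602472, 78514, 4403780, 8499969, 8683614, 4587803, 262637, 786999, 1312345, 280334, 2392899, 396116, 806987, 6557781, 8657159, 1839388, 267634, 430605, 2365978, 1315526, 283537, 12849992, 3416079, 272595, 304405, 4989254, 2384216, 4465308, 8675909, 402026, 797449, 9708306, 421910, 8663097, 277580, 307594, 1454401, 4470275, 832080, 2372388, 346141, 459847,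 2425238, 1378634, 9240913, 8716939, 2949708, 4538962, 5571333, 361272, 4526126, 1413139, 463064, 2430217, 381252, 8721940, 334433, 987906, 861210, 4563017, 1384564, 352547, 8855820, 371206, 2564625, 337856, 864389, 10825794, 4536592, 1405448]

theorem hexOct_ok : hexOct.all (fun o => decide (o < 2 ^ 24) && inC o && popF o == 8 && popF (o &&& dod0) == 6) = true ∧
    hexOct.map (fun o => o &&& dod0) = hexList := by
  decide +kernel

theorem hexList_complete :
    octMasks.all (fun o => popF (o &&& dod0) != 6 || hexList.contains (o &&& dod0)) = true := by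
  decide +kernel

theorem mem_hexadsOn_of_mem_hexList {m : ℕ} (hm : m ∈ hexList) : ptsMask m ∈ hexadsOn (ptsMask dod0) := by
  rw [← hexOct_ok.2, List.mem_map] at hm
  obtain ⟨o, ho, rfl⟩ := hm
  have := List.all_eq_true.1 hexOct_ok.1 o ho
  simp only [Bool.and_eq_true, beq_iff_eq, decide_eq_true_eq] at this
  obtain ⟨⟨⟨-, hC⟩, h8⟩, h6⟩ := this
  refine ⟨by rw [card_ptsMask, ← popF_eq_popc]; exact h6, ptsMask o, ?_, ?_⟩
  · refine ⟨⟨W o, W_mem_of_inC hC, (ptsMask_eq_support₂ o).symm⟩, ?_⟩
    rw [card_ptsMask, ← popF_eq_popc]
    exact h8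
  · rw [← ptsMask_and]

theorem lt_of_mem_hexList {m : ℕ} (hm : m ∈ hexList) : m < 2 ^ 24 := by
  rw [← hexOct_ok.2, List.mem_map] at hm
  obtain ⟨o, ho, rfl⟩ := hm
  have := List.all_eq_true.1 hexOct_ok.1 o ho
  simp only [Bool.and_eq_true, beq_iff_eq, decide_eq_true_eq] at this
  exact lt_of_le_of_lt Nat.and_le_left this.1.1.1

theorem land_lt_two_pow {a b : ℕ} (ha : a < 2 ^ 24) : a &&& b < 2 ^ 24 :=
  lt_of_le_of_lt Nat.and_le_left ha

theorem exists_hexList {h : Finset GolayPt} (hh : h ∈ hexadsOn (ptsMask dod0)) :
    ∃ m ∈ hexList, ptsMask m = h := by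
  obtain ⟨h6, o, ho, rfl⟩ := hh
  obtain ⟨mo, hmo, rfl⟩ := exists_octMask ho
  rw [← ptsMask_and, card_ptsMask, ← popF_eq_popc] at h6
  have := List.all_eq_true.1 hexList_complete mo hmo
  rw [Bool.or_eq_true, bne_iff_ne, List.contains_iff_mem] at this
  rcases this with h | h
  · exact absurd h6 h
  · exact ⟨_, h, ptsMask_and _ _⟩

theorem tripList_ok : tripList.all (fun a => decide (a < 2 ^ 24) && popF a == 3 && (a &&& dod0 == a)) = true ∧
    dodBits.all (fun i => dodBits.all (fun j => dodBits.all (fun l =>
      i == j || i == l || j == l || tripList.contains (2 ^ i ||| 2 ^ j ||| 2 ^ l)))) = true := by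
  decide +kernel

/-- Every triple in the dodecad of squares is the set of a mask of the list. -/
theorem exists_tripList {t : Finset GolayPt} (h3 : t.card = 3) (htd : t ⊆ ptsMask dod0) :
    ∃ m ∈ tripList, ptsMask m = t := by
  obtain ⟨a, b, c, hab, hac, hbc, rfl⟩ := Finset.card_eq_three.1 h3
  have hmem : ∀ p ∈ ({a, b, c} : Finset GolayPt), gIdx p ∈ dodBits := by
    intro p hp
    have := htd hp
    rw [mem_ptsMask] at this
    exact (dodBits_spec _ (gIdx_lt p)).1 this
  have ha := hmem a (by simp)
  have hb := hmem b (by simp)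
  have hc := hmem c (by simp)
  have h1 := List.all_eq_true.1 (List.all_eq_true.1 (List.all_eq_true.1 tripList_ok.2 _ ha) _ hb) _ hc
  simp only [Bool.or_eq_true, beq_iff_eq, List.contains_iff_mem] at h1
  rcases h1 with ((h1 | h1) | h1) | h1
  · exact absurd (gIdx_injective h1) hab
  · exact absurd (gIdx_injective h1) hac
  · exact absurd (gIdx_injective h1) hbc
  · refine ⟨_, h1, ?_⟩
    rw [ptsMask_or, ptsMask_or, ptsMask_two_pow (gIdx_lt a), ptsMask_two_pow (gIdx_lt b),
      ptsMask_two_pow (gIdx_lt c), gPt_gIdx, gPt_gIdx, gPt_gIdx]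
    ext p
    simp only [Finset.mem_union, Finset.mem_singleton, Finset.mem_insert, or_assoc]

theorem tripList_spec {m : ℕ} (hm : m ∈ tripList) : m < 2 ^ 24 ∧ popF m = 3 ∧ m &&& dod0 = m := by
  have := List.all_eq_true.1 tripList_ok.1 m hm
  simp only [Bool.and_eq_true, beq_iff_eq, decide_eq_true_eq] at this
  exact ⟨this.1.1, this.1.2, this.2⟩

/-- Test for a quartet key. -/
def isQuartKey (k : List ℕ) : Bool :=
  k.length == 4 && keyOK k && k.all (fun a => popF a == 3 && (a &&& dod0 == a)) &&
  allPairs (fun a b => hexList.contains (a ||| b)) k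

theorem decL_mem_quartets {k : List ℕ} (h : isQuartKey k = true) : decL k ∈ quartets (ptsMask dod0) := by
  unfold isQuartKey at h
  simp only [Bool.and_eq_true, beq_iff_eq, List.all_eq_true] at h
  obtain ⟨⟨⟨h4, hok⟩, h3⟩, hu⟩ := h
  have hpw := allPairs_sound hu
  have hsym : ∀ a ∈ k, ∀ b ∈ k, a ≠ b → (a ||| b) ∈ hexList := by
    have h1 : k.Pairwise (fun a b => a ≠ b → (a ||| b) ∈ hexList) := by
      refine hpw.imp ?_
      intro a b hab _
      rwa [List.contains_iff_mem] at hab
    have h2 : k.Pairwise (flip (fun a b => a ≠ b → (a ||| b) ∈ hexList)) := by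
      refine hpw.imp ?_
      intro a b hab _
      rw [List.contains_iff_mem] at hab
      show (b ||| a) ∈ hexList
      rw [Nat.lor_comm]
      exact hab
    intro a ha b hb
    exact List.Pairwise.forall_of_forall_of_flip (fun x _ hx => absurd rfl hx) h1 h2 ha hb
  refine ⟨by rw [card_decL hok, h4], ?_, ?_⟩
  · intro t ht
    obtain ⟨m, hm, rfl⟩ := mem_decL.1 ht
    have := h3 m hm
    refine ⟨by rw [card_ptsMask, ← popF_eq_popc]; exact this.1, ?_⟩
    rw [← this.2, ptsMask_and]
    exact Finset.inter_subset_right
  · intro t ht u hu' hne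
    obtain ⟨a, ha, rfl⟩ := mem_decL.1 ht
    obtain ⟨b, hb, rfl⟩ := mem_decL.1 hu'
    have hab : a ≠ b := fun hab => hne (by rw [hab])
    rw [← ptsMask_or]
    exact mem_hexadsOn_of_mem_hexList (hsym a ha b hb hab)

set_option maxHeartbeats 4000000 in
theorem quartKs_ok : (flatK quartKs 220).all isQuartKey = true ∧
    incr ((flatK quartKs 220).map hash2) = true := by
  decide +kernel

theorem quartKey_ok {k : List ℕ} (hk : k ∈ flatK quartKs 220) : isQuartKey k = true :=
  List.all_eq_true.1 quartKs_ok.1 k hk

theorem quartKey_keyOK {k : List ℕ} (hk : k ∈ flatK quartKs 220) : keyOK k = true := by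
  have := quartKey_ok hk
  unfold isQuartKey at this
  simp only [Bool.and_eq_true] at this
  exact this.1.1.2

theorem quartKs_nodup : (flatK quartKs 220).Nodup := nodup_of_incr_hash2 quartKs_ok.2

theorem quartKs_inj : ∀ k ∈ flatK quartKs 220, ∀ k' ∈ flatK quartKs 220, decL k = decL k' → k = k' :=
  fun _ hk _ hk' h => eq_of_decL_eq (quartKey_keyOK hk) (quartKey_keyOK hk') h

theorem quartKey_mem {k : List ℕ} (hk : k ∈ flatK quartKs 220) : decL k ∈ quartets (ptsMask dod0) :=
  decL_mem_quartets (quartKey_ok hk)

/-- The table of quartets as a flat list. -/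
def quartFlat : List (List ℕ) := [[7, 336, 70144, 270344], [7, 584, 73744, 266496], [7, 4120, 8960, 327744], [7, 12352, 65800, 262672], [11, 580, 77824, 262416], [11, 4116, 8512, 328192], [11, 4864, 65616, 270340], [11, 8720, 65796, 266304], [13, 578, 12544, 327696], [13, 784, 69696, 270338], [13, 4114, 74240, 262464], [13, 8272, 65794, 266752], [14, 577, 8464, 331776], [14, 4113, 73792, 262912], [14, 4416, 66064, 270337], [14, 12800, 65793, 262224], [19, 324, 8712, 331776], [19, 4108, 66304, 270400], [19, 4672, 73732, 262408], [19, 12544, 65608, 262660], [21, 322, 12800, 327688], [21, 776, 73730, 266304], [21, 4106, 66112, 270592], [21, 8264, 69888, 262658], [22, 321, 66056, 274432], [22, 4105, 8768, 327936], [22, 4864, 73729, 262216], [22, 8456, 69696, 262657], [25, 772, 65602, 274432], [25, 4102, 73984, 262720], [25, 4416, 8706, 327684], [25, 8260, 70144, 262402], [26, 832, 4101, 335872], [26, 8452, 65601, 266752], [26, 8705, 69888, 262212], [26, 12352, 66052, 262401], [28, 769, 77824, 262210], [28, 4099, 65856, 270848], [28, 4672, 8450, 327681], [28,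 8257, 66050, 266496], [67, 276, 74240, 266248], [67, 524, 69888, 270352], [67, 4624, 8456, 327684], [67, 12292, 65560, 262912], [69, 274, 69640, 270848], [69, 522, 73984, 266256], [69, 4864, 8216, 327682], [69, 12290, 66064, 262408], [70, 273, 73736, 266752], [70, 521, 69648, 270592], [70, 4360, 8720, 327681], [70, 12289, 66304, 262168], [73, 518, 4368, 335872], [73, 8212, 66304, 266242], [73, 8450, 69636, 262672], [73, 12800, 65554, 262404], [74, 517, 12304, 327936], [74, 784, 73732, 266241], [74, 4356, 65553, 270848], [74, 8449, 70144, 262164], [76, 515, 65808, 274432], [76, 4354, 8209, 328192], [76, 4624, 73730, 262401], [76, 8960, 69633, 262162], [81, 262, 77824, 262664], [81, 4360, 66052, 270338], [81, 4610, 8204, 327936], [81, 8960, 65546, 266244], [82, 261, 12296, 328192], [82, 776, 69636, 270337], [82, 4609, 73984, 262156], [82, 8708, 65545, 266496], [84, 259, 4616, 335872], [84, 8201, 69634, 262912], [84, 8706, 65800, 266241], [84, 12544, 66049, 262154], [88, 770, 8197, 331776], [88, 4353, 74240, 262150], [88, 4612, 65539, 270592], [88, 12290,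 65796, 262657], [259, 8264, 66064, 266244], [259, 8708, 69696, 262168], [259, 12304, 65548, 262720], [261, 536, 73792, 266242], [261, 4672, 65546, 270352], [261, 8706, 69648, 262216], [262, 4168, 8705, 327696], [262, 4624, 65545, 270400], [262, 8216, 66112, 266241], [265, 532, 8258, 331776], [265, 4176, 65542, 270848], [265, 4610, 73744, 262212], [265, 12292, 66112, 262162], [266, 592, 65541, 274432], [266, 4164, 74240, 262161], [266, 4609, 8212, 327744], [266, 8257, 69648, 262660], [268, 529, 4162, 335872], [268, 8210, 70144, 262209], [268, 8768, 65539, 266256], [268, 12289, 65616, 262658], [273, 524, 12290, 327744], [273, 4168, 66050, 270340], [273, 8768, 69636, 262154], [274, 584, 12289, 327684], [274, 4612, 73792, 262153], [274, 8204, 66049, 266304], [276, 521, 12352, 327682], [276, 4610, 65608, 270337], [276, 8202, 69633, 262720], [280, 517, 69634, 270400], [280, 578, 73729, 266244], [280, 4161, 8198, 328192], [280, 12800, 65604, 262147], [321, 4120, 73732, 262658], [321, 4612, 8202, 327696], [321, 8720, 69634, 262156], [322, 536, 69633, 270340], [322,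 4108, 73744, 262657], [322, 8201, 66052, 266256], [324, 4106, 73729, 262672], [324, 4609, 65560, 270338], [324, 12304, 66050, 262153], [328, 530, 77824, 262149], [328, 4102, 66049, 270352], [328, 4113, 8708, 327682], [328, 8195, 65556, 266752], [336, 522, 12292, 327681], [336, 4105, 73730, 262660], [336, 8705, 65548, 266242], [515, 4176, 8452, 327688], [515, 4360, 73792, 262164], [515, 8216, 69636, 262464], [517, 4416, 73736, 262162], [517, 8450, 65616, 266248], [518, 8272, 69633, 262408], [518, 8449, 65560, 266304], [518, 12296, 65856, 262161], [521, 4354, 73732, 262224], [521, 8210, 65856, 266244], [522, 4353, 65556, 270400], [522, 8209, 69696, 262404], [524, 4176, 73729, 262402], [524, 8512, 65554, 266241], [529, 8202, 65604, 266496], [529, 8512, 69640, 262150], [529, 12292, 65794, 262216], [530, 4161, 65548, 270592], [530, 4356, 8201, 327744], [530, 8260, 65793, 266248], [532, 4168, 73984, 262147], [532, 4354, 65601, 270344], [532, 12289, 65546, 262464], [536, 4164, 8195, 327936], [536, 12544, 65542, 262209], [577, 4114, 65800, 270340], [577, 4356,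 73730, 262168], [577, 12296, 65556, 262402], [578, 4113, 65796, 270344], [578, 8212, 69640, 262401], [580, 4120, 65794, 270337], [580, 4353, 8210, 327688], [580, 8456, 65553, 266242], [584, 4116, 65793, 270338], [584, 8452, 69634, 262161], [592, 4099, 73736, 262404], [592, 4108, 8449, 327682], [592, 8198, 69888, 262153], [769, 4106, 8272, 327684], [769, 4164, 65554, 270344], [769, 8198, 65608, 266256], [770, 4105, 65604, 270352], [770, 4116, 73736, 262209], [770, 12352, 65553, 262156], [772, 4114, 8264, 327681], [772, 4161, 73744, 262154], [772, 8195, 69640, 262224], [776, 4099, 8260, 327696], [776, 12304, 65601, 262150], [784, 4102, 8257, 327688], [784, 12296, 65539, 262212], [832, 8204, 69648, 262147], [832, 8209, 65542, 266248], [832, 12290, 65545, 262164], [4099, 8464, 66052, 262216], [4101, 8258, 65808, 262664], [4101, 8456, 66050, 262224], [4101, 8720, 65608, 262402], [4102, 8712, 65616, 262401], [4105, 8452, 66064, 262210], [4106, 8708, 65808, 262209], [4108, 8706, 65601, 262416], [4113, 8450, 66056, 262212], [4114, 8449, 65604, 262664], [4116, 8705,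 65602, 262408], [4120, 8258, 66049, 262404], [4161, 8712, 65794, 262164], [4162, 8197, 66056, 262416], [4162, 8216, 65793, 262660], [4162, 8960, 65556, 262153], [4164, 8464, 65545, 262658], [4168, 8210, 65541, 262912], [4176, 8202, 66304, 262149], [4353, 8204, 65602, 262672], [4354, 8768, 65560, 262149], [4356, 8272, 66056, 262147], [4360, 8197, 65554, 262720], [4368, 8195, 66112, 262156], [4368, 8260, 65546, 262657], [4368, 8712, 65541, 262210], [4416, 8212, 65539, 262664], [4609, 8264, 65542, 262416], [4610, 8512, 65541, 262168], [4612, 8209, 65800, 262210], [4616, 8198, 65553, 262464], [4616, 8257, 65796, 262162], [4616, 8464, 65602, 262149], [4624, 8197, 65856, 262154], [4672, 8201, 65808, 262150], [4864, 8258, 65548, 262161]]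

theorem quartFlat_eq : flatK quartKs 220 = quartFlat := by decide +kernel

/-- Hashed bitmap of the hexad masks (residues modulo 3184). -/
def hexBits : ℕ := 224748246066902083121137745389290966019067549020641816614708307520212126809163827477868851154096481923828171446836083692868095913251179886964369048476999684529984442046714366564891815827759705741826380911052041269275476539607145515620346832669717707646182430364335892912914587364529525134556587169069851807440594700018787491354410014188409137926711507248477428616646469788684183334462864474789829412726143839205616620141908247576691081936449565712711382303442833154210553932182504215818847608432996732802963632751139975050249607906778380538603277511903580189368829818972709503252420609686039844978422570326093782670216819523855085857689301547258119801917560791450589568920865847688697702070414929818942443567402152873297997806835569839010909557415120743839195456849130619522852917393594936552082552491307042220056839258603002968062702850568587097850603330337018577676056917853296159572516611313641547765957191135407642030909910070613060314018372124736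

/-- Fast necessary test for a hexad mask. -/
def isHexF (m : ℕ) : Bool := Nat.beq (1 &&& (hexBits >>> (m % 3184))) 1

theorem isHexF_of_mem : hexList.all isHexF = true := by decide +kernel

/-- Completeness check of the table of quartets, for a first triple. -/
def quartStep4 (m1 m2 m3 m4 : ℕ) : Bool :=
  Nat.ble m4 m3 || !Nat.beq ((m1 ||| m2 ||| m3) &&& m4) 0 || !isHexF (m1 ||| m4) ||
    !isHexF (m2 ||| m4) || !isHexF (m3 ||| m4) || quartFlat.contains [m1, m2, m3, m4]

def quartStep3 (m1 m2 m3 : ℕ) : Bool :=
  Nat.ble m3 m2 || !Nat.beq ((m1 ||| m2) &&& m3) 0 || !isHexF (m1 ||| m3) || !isHexF (m2 ||| m3) ||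
    tripList.all (quartStep4 m1 m2 m3)

def quartStep2 (m1 m2 : ℕ) : Bool :=
  Nat.ble m2 m1 || !Nat.beq (m1 &&& m2) 0 || !isHexF (m1 ||| m2) || tripList.all (quartStep3 m1 m2)

def quartCheck1 (m1 : ℕ) : Bool := tripList.all (quartStep2 m1)

/-- The list of triples in chunks. -/
def tripChunks : List (List ℕ) := [[7, 11, 13, 14, 19, 21, 22, 25, 26, 28, 67, 69, 70, 73, 74, 76, 81, 82, 84, 88], [259, 261, 262, 265, 266, 268, 273, 274, 276, 280, 321, 322, 324, 328, 336, 515, 517, 518, 521, 522], [524, 529, 530, 532, 536, 577, 578, 580, 584, 592, 769, 770, 772, 776, 784, 832, 4099, 4101, 4102, 4105], [4106, 4108, 4113, 4114, 4116, 4120, 4161, 4162, 4164, 4168, 4176, 4353, 4354, 4356, 4360, 4368, 4416, 4609, 4610, 4612], [4616, 4624, 4672, 4864, 8195, 8197, 8198, 8201, 8202, 8204, 8209, 8210, 8212, 8216, 8257, 8258, 8260, 8264, 8272, 8449], [8450, 8452, 8456, 8464, 8512, 8705, 8706, 8708, 8712, 8720, 8768, 8960, 12289, 12290, 12292, 12296, 12304, 12352, 12544, 12800], [65539, 65541, 65542, 65545, 65546, 65548, 65553, 65554, 65556, 65560, 65601, 65602, 65604,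 65608, 65616, 65793, 65794, 65796, 65800, 65808], [65856, 66049, 66050, 66052, 66056, 66064, 66112, 66304, 69633, 69634, 69636, 69640, 69648, 69696, 69888, 70144, 73729, 73730, 73732, 73736], [73744, 73792, 73984, 74240, 77824, 262147, 262149, 262150, 262153, 262154, 262156, 262161, 262162, 262164, 262168, 262209, 262210, 262212, 262216, 262224], [262401, 262402, 262404, 262408, 262416, 262464, 262657, 262658, 262660, 262664, 262672, 262720, 262912, 266241, 266242, 266244, 266248, 266256, 266304, 266496], [266752, 270337, 270338, 270340, 270344, 270352, 270400, 270592, 270848, 274432, 327681, 327682, 327684, 327688, 327696, 327744, 327936, 328192, 331776, 335872]]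

theorem tripChunks_flatten : tripChunks.flatten = tripList := by decide +kernel

set_option maxHeartbeats 4000000 in
theorem quartChunk0 : ([7, 11, 13, 14, 19, 21, 22, 25, 26, 28, 67, 69, 70, 73, 74, 76, 81, 82, 84, 88] : List ℕ).all quartCheck1 = true := by decide +kernel

set_option maxHeartbeats 4000000 in
theorem quartChunk1 : ([259, 261, 262, 265, 266, 268, 273, 274, 276, 280, 321, 322, 324, 328, 336, 515, 517, 518, 521, 522] : List ℕ).all quartCheck1 = true := by decide +kernel

set_option maxHeartbeats 4000000 in
theorem quartChunk2 : ([524, 529, 530, 532, 536, 577, 578, 580, 584, 592, 769, 770, 772, 776, 784, 832, 4099, 4101, 4102, 4105] : List ℕ).all quartCheck1 = true := by decide +kernel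

set_option maxHeartbeats 4000000 in
theorem quartChunk3 : ([4106, 4108, 4113, 4114, 4116, 4120, 4161, 4162, 4164, 4168, 4176, 4353, 4354, 4356, 4360, 4368, 4416, 4609, 4610, 4612] : List ℕ).all quartCheck1 = true := by decide +kernel

set_option maxHeartbeats 4000000 in
theorem quartChunk4 : ([4616, 4624, 4672, 4864, 8195, 8197, 8198, 8201, 8202, 8204, 8209, 8210, 8212, 8216, 8257, 8258, 8260, 8264, 8272, 8449] : List ℕ).all quartCheck1 = true := by decide +kernel

set_option maxHeartbeats 4000000 in
theorem quartChunk5 : ([8450, 8452, 8456, 8464, 8512, 8705, 8706, 8708, 8712, 8720, 8768, 8960, 12289, 12290, 12292, 12296, 12304, 12352, 12544, 12800] : List ℕ).all quartCheck1 = true := by decide +kernel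

set_option maxHeartbeats 4000000 in
theorem quartChunk6 : ([65539, 65541, 65542, 65545, 65546, 65548, 65553, 65554, 65556, 65560, 65601, 65602, 65604, 65608, 65616, 65793, 65794, 65796, 65800, 65808] : List ℕ).all quartCheck1 = true := by decide +kernel

set_option maxHeartbeats 4000000 in
theorem quartChunk7 : ([65856, 66049, 66050, 66052, 66056, 66064, 66112, 66304, 69633, 69634, 69636, 69640, 69648, 69696, 69888, 70144, 73729, 73730, 73732, 73736] : List ℕ).all quartCheck1 = true := by decide +kernel

set_option maxHeartbeats 4000000 in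
theorem quartChunk8 : ([73744, 73792, 73984, 74240, 77824, 262147, 262149, 262150, 262153, 262154, 262156, 262161, 262162, 262164, 262168, 262209, 262210, 262212, 262216, 262224] : List ℕ).all quartCheck1 = true := by decide +kernel

set_option maxHeartbeats 4000000 in
theorem quartChunk9 : ([262401, 262402, 262404, 262408, 262416, 262464, 262657, 262658, 262660, 262664, 262672, 262720, 262912, 266241, 266242, 266244, 266248, 266256, 266304, 266496] : List ℕ).all quartCheck1 = true := by decide +kernel

set_option maxHeartbeats 4000000 in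
theorem quartChunk10 : ([266752, 270337, 270338, 270340, 270344, 270352, 270400, 270592, 270848, 274432, 327681, 327682, 327684, 327688, 327696, 327744, 327936, 328192, 331776, 335872] : List ℕ).all quartCheck1 = true := by decide +kernel


theorem quartCheck1_ok {m1 : ℕ} (hm1 : m1 ∈ tripList) : quartCheck1 m1 = true := by
  rw [← tripChunks_flatten, List.mem_flatten] at hm1
  obtain ⟨ch, hch, hm⟩ := hm1
  unfold tripChunks at hch
  simp only [List.mem_cons, List.not_mem_nil, or_false] at hch
  rcases hch with rfl | rfl | rfl | rfl | rfl | rfl | rfl | rfl | rfl | rfl | rfl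
  · exact List.all_eq_true.1 quartChunk0 m1 hm
  · exact List.all_eq_true.1 quartChunk1 m1 hm
  · exact List.all_eq_true.1 quartChunk2 m1 hm
  · exact List.all_eq_true.1 quartChunk3 m1 hm
  · exact List.all_eq_true.1 quartChunk4 m1 hm
  · exact List.all_eq_true.1 quartChunk5 m1 hm
  · exact List.all_eq_true.1 quartChunk6 m1 hm
  · exact List.all_eq_true.1 quartChunk7 m1 hm
  · exact List.all_eq_true.1 quartChunk8 m1 hm
  · exact List.all_eq_true.1 quartChunk9 m1 hm
  · exact List.all_eq_true.1 quartChunk10 m1 hm

theorem quartKs_flat_mem {k : List ℕ} : k ∈ flatK quartKs 220 ↔ k ∈ quartFlat := by rw [quartFlat_eq]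

theorem lor_land_eq_zero {a b c : ℕ} (h1 : a &&& c = 0) (h2 : b &&& c = 0) : (a ||| b) &&& c = 0 := by
  apply Nat.eq_of_testBit_eq
  intro i
  have e1 := congrArg (fun n => n.testBit i) h1
  have e2 := congrArg (fun n => n.testBit i) h2
  simp only [Nat.testBit_and, Nat.zero_testBit] at e1 e2
  rw [Nat.testBit_and, Nat.testBit_or, Nat.zero_testBit, Bool.and_or_distrib_right, e1, e2]
  rfl

/-- Every quartet of the dodecad of squares is the decoding of a key of the table. -/
theorem exists_quartKey {Q : Finset (Finset GolayPt)} (hQ : Q ∈ quartets (ptsMask dod0)) :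
    ∃ k ∈ flatK quartKs 220, decL k = Q := by
  classical
  obtain ⟨h4, h3, hu⟩ := hQ
  have hex : ∀ t : Finset GolayPt, ∃ m : ℕ, t ∈ Q → (m ∈ tripList ∧ ptsMask m = t) := by
    intro t
    by_cases ht : t ∈ Q
    · obtain ⟨m, hm, e⟩ := exists_tripList (h3 t ht).1 (h3 t ht).2
      exact ⟨m, fun _ => ⟨hm, e⟩⟩
    · exact ⟨0, fun h => absurd h ht⟩
  choose mk hmk using hex
  have hinj : Set.InjOn mk (Q : Set (Finset GolayPt)) := by
    intro t ht u hu' e
    rw [← (hmk t ht).2, ← (hmk u hu').2, e]
  have hcard : (Q.image mk).card = 4 := by rw [Finset.card_image_of_injOn hinj, h4]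
  have hlen : ((Q.image mk).sort (· ≤ ·)).length = 4 := by rw [Finset.length_sort, hcard]
  have hsorted : ((Q.image mk).sort (· ≤ ·)).Pairwise (· < ·) := by
    have hle : ((Q.image mk).sort (· ≤ ·)).Pairwise (· ≤ ·) := Finset.pairwise_sort _ _
    have hnd : ((Q.image mk).sort (· ≤ ·)).Pairwise (· ≠ ·) := Finset.sort_nodup _ _
    exact (hle.and hnd).imp (fun h => lt_of_le_of_ne h.1 h.2)
  have hmemL : ∀ m, m ∈ (Q.image mk).sort (· ≤ ·) ↔ m ∈ Q.image mk := fun m => Finset.mem_sort _
  have hdec : decL ((Q.image mk).sort (· ≤ ·)) = Q := by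
    ext t
    rw [mem_decL]
    constructor
    · rintro ⟨m, hm, rfl⟩
      obtain ⟨u, hu', rfl⟩ := Finset.mem_image.1 ((hmemL m).1 hm)
      rw [(hmk u hu').2]
      exact hu'
    · intro ht
      exact ⟨mk t, (hmemL _).2 (Finset.mem_image_of_mem mk ht), (hmk t ht).2⟩
  -- facts about pairs of masks
  have hpair : ∀ x ∈ Q.image mk, ∀ y ∈ Q.image mk, x ≠ y →
      x ∈ tripList ∧ y ∈ tripList ∧ x &&& y = 0 ∧ (x ||| y) ∈ hexList := by
    intro x hx y hy hxy
    obtain ⟨t, ht, rfl⟩ := Finset.mem_image.1 hx
    obtain ⟨u, hu', rfl⟩ := Finset.mem_image.1 hy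
    have htu : t ≠ u := fun e => hxy (by rw [e])
    obtain ⟨hmt, et⟩ := hmk t ht
    obtain ⟨hmu, eu⟩ := hmk u hu'
    have hlt := (tripList_spec hmt).1
    have hlu := (tripList_spec hmu).1
    have hhex := hu t ht u hu' htu
    have h6 : (t ∪ u).card = 6 := hhex.1
    have hdisj : Disjoint t u := by
      rw [Finset.disjoint_iff_inter_eq_empty, ← Finset.card_eq_zero]
      have := Finset.card_union_add_card_inter t u
      rw [h6, (h3 t ht).1, (h3 u hu').1] at this
      omega
    refine ⟨hmt, hmu, ?_, ?_⟩
    · apply land_eq_zero_of_disjoint hlt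
      rw [et, eu]
      exact hdisj
    · obtain ⟨m, hm, e⟩ := exists_hexList hhex
      have : m = mk t ||| mk u := by
        apply ptsMask_inj (lt_of_mem_hexList hm) (Nat.or_lt_two_pow hlt hlu)
        rw [e, ptsMask_or, et, eu]
      rw [← this]
      exact hm
  -- destructure the sorted list
  generalize hLdef : (Q.image mk).sort (· ≤ ·) = L at hlen hsorted hmemL hdec
  match L, hlen with
  | [a, b, c, d], _ =>
    simp only [List.pairwise_cons, List.mem_cons, List.not_mem_nil, or_false, forall_eq_or_imp, forall_eq,
      List.Pairwise.nil, and_true, IsEmpty.forall_iff, implies_true] at hsorted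
    obtain ⟨⟨hab, hac, had⟩, ⟨hbc, hbd⟩, hcd⟩ := hsorted
    have ma : a ∈ Q.image mk := (hmemL a).1 (by simp)
    have mb : b ∈ Q.image mk := (hmemL b).1 (by simp)
    have mc : c ∈ Q.image mk := (hmemL c).1 (by simp)
    have md : d ∈ Q.image mk := (hmemL d).1 (by simp)
    obtain ⟨ta, tb, zab, xab⟩ := hpair a ma b mb (ne_of_lt hab)
    obtain ⟨-, tc, zac, xac⟩ := hpair a ma c mc (ne_of_lt hac)
    obtain ⟨-, td, zad, xad⟩ := hpair a ma d md (ne_of_lt had)
    obtain ⟨-, -, zbc, xbc⟩ := hpair b mb c mc (ne_of_lt hbc)
    obtain ⟨-, -, zbd, xbd⟩ := hpair b mb d md (ne_of_lt hbd)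
    obtain ⟨-, -, zcd, xcd⟩ := hpair c mc d md (ne_of_lt hcd)
    have hF : ∀ {m : ℕ}, m ∈ hexList → isHexF m = true := fun hm => List.all_eq_true.1 isHexF_of_mem _ hm
    have hble : ∀ {x y : ℕ}, x < y → Nat.ble y x = false := by
      intro x y hxy
      rw [← Bool.not_eq_true, Nat.ble_eq]
      omega
    have hbeq : ∀ {x : ℕ}, x = 0 → Nat.beq x 0 = true := by
      intro x hx
      rw [hx]; rfl
    have h1 := quartCheck1_ok ta
    unfold quartCheck1 at h1
    have h2 := List.all_eq_true.1 h1 b tb
    unfold quartStep2 at h2
    rw [hble hab, hbeq zab, hF xab] at h2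
    simp only [Bool.not_true, Bool.false_or] at h2
    have h3' := List.all_eq_true.1 h2 c tc
    unfold quartStep3 at h3'
    rw [hble hbc, hbeq (lor_land_eq_zero zac zbc), hF xac, hF xbc] at h3'
    simp only [Bool.not_true, Bool.false_or] at h3'
    have h4' := List.all_eq_true.1 h3' d td
    unfold quartStep4 at h4'
    rw [hble hcd, hbeq (lor_land_eq_zero (lor_land_eq_zero zad zbd) zcd), hF xad, hF xbd, hF xcd] at h4'
    simp only [Bool.not_true, Bool.false_or] at h4'
    rw [List.contains_iff_mem] at h4'
    exact ⟨[a, b, c, d], quartKs_flat_mem.2 h4', hdec⟩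

end Cfsg.Agent.Lib.H28
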