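import Cfsg.Agent.Lib.H28.TernaryAutCount
import Cfsg.Agent.Lib.H28.QuartetKeys
import Cfsg.Agent.Lib.H28.HexadStab

/-!
# `M₁₂` is the automorphism group of the hexads of the ternary Golay code (helper28)

An explicit bijection between the twelve positions of the ternary code and the dodecad of squares maps
the 132 hexads (supports of the words of weight six) onto the 132 hexads cut out by the octads; it
induces an isomorphism from the stabilizer of the dodecad in `M₂₄` onto the automorphism group of the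
ternary hexads.
-/

set_option autoImplicit false
set_option maxRecDepth 100000

namespace Cfsg.Agent.Lib.H28
namespace M12T

open Cfsg Cfsg.Agent.Lib.H8.TG Cfsg.Agent.Lib.H28.TGA
open scoped Pointwise

def bt : List ℕ := [0, 1, 2, 3, 4, 12, 13, 8, 9, 18, 6, 16]
def btInv : List ℕ := [0, 1, 2, 3, 4, 0, 10, 0, 7, 8, 0, 0, 5, 6, 0, 0, 11, 0, 9, 0, 0, 0, 0, 0]

/-- The index of the point of the dodecad matched with a position. -/
def bix (p : ArrayPt) : ℕ := bt.getD (ix p) 0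

/-- The matching of positions with points of the dodecad. -/
def βf (p : ArrayPt) : GolayPt := gPt (bix p)

/-- The inverse matching (junk outside the dodecad). -/
def βinv (q : GolayPt) : ArrayPt := pt (btInv.getD (gIdx q) 0)

theorem bix_facts : ∀ p : ArrayPt,
    bix p < 24 ∧ dod0.testBit (bix p) = true ∧ pt (btInv.getD (bix p) 0) = p := by
  decide +kernel

theorem btInv_fact : ∀ k : Fin 24, dod0.testBit k.val = true →
    bix (pt (btInv.getD k.val 0)) = k.val := by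
  decide +kernel

theorem bix_pt : ∀ k : Fin 5, bix (pt k.val) = k.val := by
  decide +kernel

theorem βinv_βf (p : ArrayPt) : βinv (βf p) = p := by
  unfold βinv βf
  rw [gIdx_gPt (bix_facts p).1]
  exact (bix_facts p).2.2

theorem βf_mem (p : ArrayPt) : βf p ∈ ptsMask dod0 := by
  unfold βf
  rw [mem_ptsMask, gIdx_gPt (bix_facts p).1]
  exact (bix_facts p).2.1

theorem bix_βinv {q : GolayPt} (hq : q ∈ ptsMask dod0) : bix (βinv q) = gIdx q := by
  rw [mem_ptsMask] at hq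
  exact btInv_fact ⟨gIdx q, gIdx_lt q⟩ hq

theorem βf_βinv {q : GolayPt} (hq : q ∈ ptsMask dod0) : βf (βinv q) = q := by
  unfold βf
  rw [bix_βinv hq, gPt_gIdx]

theorem βf_injective : Function.Injective βf := fun p p' h => by
  rw [← βinv_βf p, h, βinv_βf]

/-- The mask of the image of the support of a codeword. -/
def hmask (t : T) : ℕ :=
  ((List.range 12).map (fun k => if gen t (pt k) = 0 then 0 else 2 ^ bt.getD k 0)).sum

theorem hmask_facts : ∀ t : T, hmask t &&& dod0 = hmask t ∧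
    ∀ p : ArrayPt, (hmask t).testBit (bix p) = !decide (gen t p = 0) := by
  decide +kernel

theorem image_sup (t : T) : (sup t).image βf = ptsMask (hmask t) := by
  ext q
  rw [Finset.mem_image, mem_ptsMask]
  constructor
  · rintro ⟨p, hp, rfl⟩
    unfold βf
    rw [gIdx_gPt (bix_facts p).1, (hmask_facts t).2 p]
    have : gen t p ≠ 0 := Cfsg.Agent.S1592.mem_supp.1 hp
    simp [this]
  · intro hq
    have hqd : q ∈ ptsMask dod0 := by
      rw [mem_ptsMask]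
      have h2 := hq
      rw [← (hmask_facts t).1, Nat.testBit_and, Bool.and_eq_true] at h2
      exact h2.2
    refine ⟨βinv q, ?_, βf_βinv hqd⟩
    have h1 := (hmask_facts t).2 (βinv q)
    rw [bix_βinv hqd, hq] at h1
    apply Cfsg.Agent.S1592.mem_supp.2
    intro h0
    simp [h0] at h1

theorem card_sup (t : T) : (sup t).card = popF (hmask t) := by
  rw [popF_eq_popc, ← card_ptsMask, ← image_sup, Finset.card_image_of_injective _ βf_injective]

/-- For each hexad mask of the dodecad a codeword with that image. -/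
def hexT : List T := [(1, 2, 2, 0, 2, 0), (1, 1, 2, 1, 0, 0), (1, 0, 2, 2, 1, 0), (0, 1, 0, 2, 2, 0), (1, 1, 1, 2, 2, 0), (0, 1, 1, 1, 0, 0), (1, 0, 0, 1, 2, 0), (1, 1, 0, 0, 1, 0), (0, 0, 1, 2, 1, 0), (1, 2, 0, 2, 0, 0), (0, 1, 2, 0, 1, 0), (1, 0, 1, 0, 0, 0), (1, 0, 1, 1, 1, 2), (0, 1, 2, 1, 2, 2), (1, 1, 0, 2, 0, 1), (1, 2, 0, 1, 2, 1), (0, 1, 1, 0, 2, 1), (1, 1, 1, 0, 0, 2), (0, 0, 1, 1, 0, 1), (1, 0, 0, 0, 1, 1), (1, 2, 1, 0, 0, 1), (0, 1, 0, 1, 1, 1), (1, 0, 2, 1, 0, 1), (1, 2, 0, 0, 1, 2), (0, 0, 1, 0, 2, 2), (0, 1, 2, 2, 0, 1), (1, 0, 2, 0, 2, 2), (1, 0, 0, 2, 0, 2), (0, 0, 0, 1, 1, 2), (0, 1, 0, 0, 0, 2), (1, 2, 0, 2, 1, 0), (1, 2, 1, 1, 0, 0), (0, 0, 1, 2, 2, 0), (0, 1, 1, 1, 1, 0), (1, 0, 1, 0, 2, 0), (1, 1, 0, 0, 2, 0), (0, 1, 2, 0, 0, 0), (1, 0, 0, 1, 0, 0), (1, 0, 2, 2, 0, 0), (0, 1, 2, 0, 2, 0), (1, 0, 1, 0, 1, 0), (0, 1, 0, 2, 1, 0), (1, 1, 0, 0, 0, 0), (1, 2, 2, 0, 0, 0), (1, 0,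 0, 1, 1, 0), (0, 1, 0, 2, 0, 0), (0, 0, 1, 2, 0, 0), (0, 0, 0, 0, 1, 0), (1, 1, 2, 0, 1, 1), (0, 1, 1, 2, 0, 2), (1, 0, 0, 2, 2, 2), (1, 0, 2, 0, 0, 2), (0, 1, 0, 0, 1, 2), (1, 0, 1, 2, 0, 1), (1, 2, 0, 0, 0, 2), (0, 0, 0, 1, 2, 2), (0, 1, 0, 1, 0, 1), (0, 0, 1, 0, 1, 2), (1, 1, 0, 1, 0, 2), (0, 0, 1, 1, 2, 1), (1, 0, 0, 0, 2, 1), (0, 1, 1, 0, 0, 1), (0, 0, 0, 1, 0, 2), (0, 1, 0, 0, 2, 2), (0, 0, 1, 0, 0, 2), (1, 0, 0, 0, 0, 1), (0, 1, 2, 2, 1, 0), (1, 1, 0, 1, 1, 0), (1, 0, 1, 2, 0, 0), (1, 2, 1, 0, 1, 0), (1, 0, 0, 2, 2, 0), (0, 1, 1, 2, 0, 0), (1, 2, 0, 0, 0, 0), (0, 0, 1, 0, 1, 0), (1, 2, 0, 1, 0, 0), (1, 0, 2, 0, 1, 0), (1, 1, 2, 0, 0, 0), (0, 0, 1, 1, 1, 0), (0, 1, 0, 0, 2, 0), (1, 0, 1, 1, 0, 0), (0, 1, 0, 1, 2, 0), (0, 1, 1, 0, 0, 0), (1, 0, 0, 0, 2, 0), (0, 0, 0, 1, 0, 0), (1, 2, 2, 2, 0, 2), (1, 1, 0, 0, 2, 2), (1, 0, 1, 0, 2, 1), (0, 1, 2, 0, 0, 1), (0, 0, 0, 1, 2, 1), (0, 0, 1, 2, 2,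 2), (1, 0, 2, 0, 0, 1), (0, 1, 0, 1, 0, 2), (1, 0, 0, 1, 0, 2), (0, 1, 0, 0, 1, 1), (0, 1, 1, 0, 1, 2), (1, 0, 0, 2, 1, 1), (0, 0, 1, 2, 0, 1), (0, 1, 0, 2, 0, 2), (1, 0, 0, 0, 0, 2), (1, 1, 0, 0, 0, 1), (0, 0, 0, 0, 1, 2), (0, 0, 1, 0, 0, 1), (1, 0, 2, 1, 2, 0), (1, 1, 1, 0, 0, 0), (0, 1, 1, 0, 2, 0), (0, 1, 0, 1, 0, 0), (1, 0, 0, 0, 1, 0), (1, 1, 0, 2, 0, 0), (0, 0, 1, 1, 0, 0), (0, 1, 0, 0, 1, 0), (1, 0, 2, 0, 0, 0), (0, 0, 0, 1, 2, 0), (0, 1, 2, 1, 0, 0), (1, 2, 0, 0, 2, 0), (0, 0, 0, 1, 1, 0), (1, 0, 0, 2, 0, 0), (0, 0, 1, 0, 0, 0), (0, 0, 1, 0, 2, 0), (1, 0, 0, 0, 0, 0), (0, 1, 0, 0, 0, 0), (0, 1, 0, 2, 2, 1), (1, 0, 0, 1, 0, 1), (0, 0, 1, 0, 1, 1), (1, 2, 0, 0, 0, 1), (0, 0, 1, 1, 0, 2), (0, 1, 2, 0, 0, 2), (1, 0, 0, 0, 1, 2), (0, 0, 0, 0, 0, 1), (1, 0, 1, 0, 0, 2), (0, 1, 0, 0, 0, 1), (0, 0, 0, 0, 1, 1), (0, 0, 0, 1, 0, 1)]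

theorem hex_facts : (∀ t : T, popF (hmask t) = 6 → hmask t ∈ hexList) ∧ hexT.map hmask = hexList := by
  decide +kernel

theorem image_mem_hexadsOn {h : Finset ArrayPt} (hh : h ∈ Hx) :
    h.image βf ∈ hexadsOn (ptsMask dod0) := by
  obtain ⟨x, hx, rfl, h6⟩ := hh
  have hx' := gen_info_of_mem hx
  have hs : ternarySupport x = sup (info x) := by
    unfold sup
    rw [hx']
  rw [hs] at h6 ⊢
  rw [image_sup]
  apply mem_hexadsOn_of_mem_hexList
  apply hex_facts.1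
  rw [← card_sup]
  exact h6

theorem image_βinv_mem_Hx {H : Finset GolayPt} (hH : H ∈ hexadsOn (ptsMask dod0)) :
    H.image βinv ∈ Hx := by
  obtain ⟨m, hm, rfl⟩ := exists_hexList hH
  rw [← hex_facts.2, List.mem_map] at hm
  obtain ⟨t, -, rfl⟩ := hm
  have h6 := hH.1
  rw [← image_sup, Finset.card_image_of_injective _ βf_injective] at h6
  rw [← image_sup, Finset.image_image]
  have : βinv ∘ βf = id := funext βinv_βf
  rw [this, Finset.image_id]
  exact sup_mem_Hx h6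

/-! ### the induced action on positions -/

theorem smul_mem_dod {g : Equiv.Perm GolayPt} (hg : g ∈ stabMask dod0) {q : GolayPt}
    (hq : q ∈ ptsMask dod0) : g q ∈ ptsMask dod0 := by
  have := (stabMask_preserves dod0 g hg q).2 (Finset.mem_coe.2 hq)
  exact Finset.mem_coe.1 this

/-- The action of a permutation of the points transported to the positions. -/
def rhoFun (g : Equiv.Perm GolayPt) (p : ArrayPt) : ArrayPt := βinv (g (βf p))

theorem rhoFun_mul (g : Equiv.Perm GolayPt) {g' : Equiv.Perm GolayPt} (hg' : g' ∈ stabMask dod0)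
    (p : ArrayPt) : rhoFun (g * g') p = rhoFun g (rhoFun g' p) := by
  unfold rhoFun
  rw [βf_βinv (smul_mem_dod hg' (βf_mem p))]
  rfl

theorem rhoFun_one (p : ArrayPt) : rhoFun 1 p = p := βinv_βf p

/-- The permutation of the positions induced by an element of `M₁₂`. -/
def rho (g : ↥(stabMask dod0)) : Equiv.Perm ArrayPt where
  toFun := rhoFun g.1
  invFun := rhoFun g.1⁻¹
  left_inv p := by rw [← rhoFun_mul _ g.2, inv_mul_cancel, rhoFun_one]
  right_inv p := by rw [← rhoFun_mul _ (inv_mem g.2), mul_inv_cancel, rhoFun_one]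

theorem rho_apply (g : ↥(stabMask dod0)) (p : ArrayPt) : rho g p = βinv (g.1 (βf p)) := rfl

/-- The action on positions as a homomorphism. -/
def rhoHom : ↥(stabMask dod0) →* Equiv.Perm ArrayPt where
  toFun := rho
  map_one' := Equiv.ext rhoFun_one
  map_mul' g g' := Equiv.ext (rhoFun_mul g.1 g'.2)

theorem rho_smul (g : ↥(stabMask dod0)) (h : Finset ArrayPt) :
    rho g • h = (g.1 • h.image βf).image βinv := by
  ext p
  simp only [Finset.mem_smul_finset, Finset.mem_image]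
  constructor
  · rintro ⟨a, ha, rfl⟩
    exact ⟨g.1 (βf a), ⟨βf a, ⟨a, ha, rfl⟩, rfl⟩, rfl⟩
  · rintro ⟨_, ⟨_, ⟨a, ha, rfl⟩, rfl⟩, rfl⟩
    exact ⟨a, ha, rfl⟩

theorem rho_mem_AutH (g : ↥(stabMask dod0)) : rho g ∈ AutH := by
  apply mem_stab_of_forall
  intro h hh
  have hg := mem_stabMask_iff_smul.1 g.2
  rw [rho_smul]
  exact image_βinv_mem_Hx (smul_mem_hexadsOn hg.1 hg.2 (image_mem_hexadsOn hh))

theorem rhoHom_injective : Function.Injective rhoHom := by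
  rw [injective_iff_map_eq_one]
  intro g hg
  have hfix : ∀ p, g.1 (βf p) = βf p := by
    intro p
    have h1 : rho g p = p := by
      have := DFunLike.congr_fun hg p
      exact this
    rw [rho_apply] at h1
    have h2 := congrArg βf h1
    rw [βf_βinv (smul_mem_dod g.2 (βf_mem p))] at h2
    exact h2
  have hmem : g.1 ∈ fixSub (stabMask dod0) [4, 3, 2, 1, 0] := by
    rw [mem_fixSub]
    refine ⟨g.2, ?_⟩
    intro k hk
    have hk5 : k < 5 := by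
      simp only [List.mem_cons, List.not_mem_nil, or_false] at hk
      omega
    have h1 := hfix (pt k)
    unfold βf at h1
    rw [bix_pt ⟨k, hk5⟩] at h1
    exact h1
  rw [m12_fix_base, Subgroup.mem_bot] at hmem
  exact Subtype.ext hmem

/-- The action on positions, with values in the automorphism group of the hexads. -/
def rhoA : ↥(stabMask dod0) →* ↥AutH := rhoHom.codRestrict AutH rho_mem_AutH

theorem rhoA_bijective : Function.Bijective rhoA := by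
  have hinj : Function.Injective rhoA := by
    intro g g' h
    apply rhoHom_injective
    exact congrArg Subtype.val h
  exact hinj.bijective_of_nat_card_le (by rw [card_AutH, card_stabMask_dod0])

/-- `M₁₂` is the automorphism group of the ternary hexads. -/
noncomputable def m12Equiv : ↥(stabMask dod0) ≃* ↥AutH := MulEquiv.ofBijective rhoA rhoA_bijective

end M12T
end Cfsg.Agent.Lib.H28
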