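import Cfsg.Agent.Lib.H28.TernaryAutCount
import Cfsg.Prelude.Def_KGroupFacts

/-!
# The monomial automorphism group of the ternary Golay code as a central extension (helper28)

The group `Cover` of pairs (monomial map, underlying permutation) maps onto the automorphism group
`AutH` of the hexads, with kernel `{1, -1}`; the kernel is central, and it lies in the commutator
subgroup as soon as `AutH` is perfect, because some monomial automorphism squares to `-1`.
-/

set_option autoImplicit false
set_option maxRecDepth 100000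

namespace Cfsg.Agent.Lib.H28
namespace TGA

open Cfsg Cfsg.Agent.Lib.H8.TG
open scoped Pointwise

/-- A monomial map as a permutation of the ambient space. -/
def monoPerm (π : Equiv.Perm ArrayPt) (c : ArrayPt → (ZMod 3)ˣ) :
    Equiv.Perm (ArrayPt → ZMod 3) where
  toFun := monomialMap π c
  invFun := monomialMap π⁻¹ (fun i => (c (π i))⁻¹)
  left_inv := by
    intro x
    funext i
    rw [monomialMap_apply, monomialMap_apply, Equiv.Perm.inv_def, Equiv.symm_symm,
      Equiv.symm_apply_apply, ← mul_assoc, Units.inv_mul, one_mul]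
  right_inv := by
    intro x
    funext i
    rw [monomialMap_apply, monomialMap_apply, Equiv.Perm.inv_def, Equiv.symm_symm,
      Equiv.apply_symm_apply, ← mul_assoc, Units.mul_inv, one_mul]

theorem monoPerm_apply (π : Equiv.Perm ArrayPt) (c : ArrayPt → (ZMod 3)ˣ) (x : ArrayPt → ZMod 3) :
    monoPerm π c x = monomialMap π c x := rfl

theorem monoPerm_mul (π π' : Equiv.Perm ArrayPt) (c c' : ArrayPt → (ZMod 3)ˣ) :
    monoPerm π c * monoPerm π' c' = monoPerm (π * π') (fun i => c i * c' (π.symm i)) := by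
  apply Equiv.ext
  intro x
  rw [Equiv.Perm.mul_apply, monoPerm_apply, monoPerm_apply, monoPerm_apply]
  funext i
  simp only [monomialMap_apply, Units.val_mul, mul_assoc]
  rfl

theorem monoPerm_one : monoPerm 1 (fun _ => 1) = 1 := by
  apply Equiv.ext
  intro x
  rw [monoPerm_apply]
  funext i
  rw [monomialMap_apply, Units.val_one, one_mul]
  rfl

theorem monoPerm_inv (π : Equiv.Perm ArrayPt) (c : ArrayPt → (ZMod 3)ˣ) :
    (monoPerm π c)⁻¹ = monoPerm π⁻¹ (fun i => (c (π i))⁻¹) := by
  apply Equiv.ext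
  intro x
  rfl

theorem isAuto_inv {π : Equiv.Perm ArrayPt} {c : ArrayPt → (ZMod 3)ˣ} (h : IsAuto π c) :
    IsAuto π⁻¹ (fun i => (c (π i))⁻¹) := by
  intro y hy
  obtain ⟨x, hx, rfl⟩ := isAuto_surj h hy
  have e : monomialMap π⁻¹ (fun i => (c (π i))⁻¹) (monomialMap π c x) = x :=
    (monoPerm π c).left_inv x
  rw [e]
  exact hx

theorem isAuto_neg_one : IsAuto 1 (fun _ => -1) := by
  intro x hx
  have e : monomialMap 1 (fun _ => (-1 : (ZMod 3)ˣ)) x = -x := by
    funext i
    rw [monomialMap_apply, Units.val_neg, Units.val_one, neg_one_mul]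
    rfl
  rw [e]
  exact neg_mem hx

/-- The monomial automorphism group, as pairs (map, permutation). -/
def Cover : Subgroup (Equiv.Perm (ArrayPt → ZMod 3) × Equiv.Perm ArrayPt) where
  carrier := {x | ∃ c, IsAuto x.2 c ∧ x.1 = monoPerm x.2 c}
  mul_mem' := by
    rintro ⟨M, π⟩ ⟨M', π'⟩ ⟨c, hc, hM⟩ ⟨c', hc', hM'⟩
    simp only at hM hM'
    refine ⟨_, isAuto_mul hc hc', ?_⟩
    simp only [Prod.mk_mul_mk]
    rw [hM, hM', monoPerm_mul]
  one_mem' := ⟨_, isAuto_one, monoPerm_one.symm⟩
  inv_mem' := by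
    rintro ⟨M, π⟩ ⟨c, hc, hM⟩
    simp only at hM
    refine ⟨_, isAuto_inv hc, ?_⟩
    simp only [Prod.inv_mk]
    rw [hM, monoPerm_inv]

theorem mem_Cover {x : Equiv.Perm (ArrayPt → ZMod 3) × Equiv.Perm ArrayPt} :
    x ∈ Cover ↔ ∃ c, IsAuto x.2 c ∧ x.1 = monoPerm x.2 c := Iff.rfl

/-- The projection of the monomial group onto the automorphism group of the hexads. -/
def coverHom : ↥Cover →* ↥AutH :=
  ((MonoidHom.snd _ _).comp Cover.subtype).codRestrict AutH (fun x => by
    obtain ⟨c, hc, -⟩ := x.2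
    exact mem_AutH_of_isAuto hc)

theorem coverHom_val (x : ↥Cover) : (coverHom x).1 = x.1.2 := rfl

theorem coverHom_surjective : Function.Surjective coverHom := by
  intro τ
  obtain ⟨c, hc⟩ := AutH_subset τ.2
  exact ⟨⟨(monoPerm τ.1 c, τ.1), c, hc, rfl⟩, Subtype.ext rfl⟩

/-- The central element `-1`. -/
def zEl : ↥Cover := ⟨(monoPerm 1 (fun _ => -1), 1), _, isAuto_neg_one, rfl⟩

theorem zEl_apply (v : ArrayPt → ZMod 3) : zEl.1.1 v = -v := by
  show monomialMap 1 (fun _ => (-1 : (ZMod 3)ˣ)) v = -v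
  funext i
  rw [monomialMap_apply, Units.val_neg, Units.val_one, neg_one_mul]
  rfl

theorem zEl_ne_one : zEl ≠ 1 := by
  intro h
  have h1 : zEl.1.1 (fun _ => 1) = (1 : ↥Cover).1.1 (fun _ => 1) := by rw [h]
  rw [zEl_apply] at h1
  have h2 := congrFun h1 (pt 0)
  revert h2
  simp only [Subgroup.coe_one, Prod.fst_one, Equiv.Perm.coe_one, id_eq, Pi.neg_apply]
  decide

theorem mem_ker_coverHom {x : ↥Cover} : x ∈ coverHom.ker ↔ x = 1 ∨ x = zEl := by
  rw [MonoidHom.mem_ker]
  constructor
  · intro h
    have h2 : x.1.2 = 1 := by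
      rw [← coverHom_val, h]
      rfl
    obtain ⟨⟨M, π⟩, c, hc, hM⟩ := x
    simp only at h2 hc hM
    subst h2
    rcases Cfsg.Agent.S1593.result c hc with h1 | h1
    · left
      apply Subtype.ext
      simp only [Subgroup.coe_one]
      refine Prod.ext ?_ rfl
      simp only [Prod.fst_one]
      have : c = fun _ => 1 := funext h1
      rw [hM, this, monoPerm_one]
    · right
      apply Subtype.ext
      refine Prod.ext ?_ rfl
      have : c = fun _ => -1 := funext h1
      show M = monoPerm 1 (fun _ => -1)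
      rw [hM, this]
  · rintro (rfl | rfl)
    · exact map_one _
    · apply Subtype.ext
      rfl

theorem zEl_mul_zEl : zEl * zEl = 1 := by
  apply Subtype.ext
  refine Prod.ext ?_ (one_mul 1)
  apply Equiv.ext
  intro v
  show zEl.1.1 (zEl.1.1 v) = v
  rw [zEl_apply, zEl_apply, neg_neg]

theorem zEl_comm (x : ↥Cover) : zEl * x = x * zEl := by
  obtain ⟨⟨M, π⟩, c, hc, hM⟩ := x
  simp only at hc hM
  apply Subtype.ext
  refine Prod.ext ?_ ?_
  · apply Equiv.ext
    intro v
    show zEl.1.1 (M v) = M (zEl.1.1 v)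
    rw [zEl_apply, zEl_apply, hM, monoPerm_apply, monoPerm_apply]
    funext i
    rw [Pi.neg_apply, monomialMap_apply, monomialMap_apply, Pi.neg_apply, mul_neg]
  · show (1 : Equiv.Perm ArrayPt) * π = π * 1
    rw [one_mul, mul_one]

theorem ker_le_center : coverHom.ker ≤ Subgroup.center ↥Cover := by
  intro x hx
  rw [Subgroup.mem_center_iff]
  intro y
  rcases mem_ker_coverHom.1 hx with rfl | rfl
  · rw [mul_one, one_mul]
  · exact (zEl_comm y).symm

/-- If some element squares to `-1` and the quotient is perfect, then `-1` is a product of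
commutators. -/
theorem zEl_mem_commutator (hperf : commutator ↥AutH = ⊤) {X : ↥Cover} (hX : X * X = zEl) :
    zEl ∈ commutator ↥Cover := by
  have hmap : (commutator ↥Cover).map coverHom = ⊤ := by
    rw [commutator_def, Subgroup.map_commutator, Subgroup.map_top_of_surjective _ coverHom_surjective,
      ← commutator_def, hperf]
  have hXm : coverHom X ∈ (commutator ↥Cover).map coverHom := by
    rw [hmap]
    exact Subgroup.mem_top _
  obtain ⟨k, hk, hkX⟩ := hXm
  have hker : X * k⁻¹ ∈ coverHom.ker := by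
    rw [MonoidHom.mem_ker, map_mul, map_inv, hkX, mul_inv_cancel]
  have hkk : zEl = k * k := by
    rcases mem_ker_coverHom.1 hker with h | h
    · have : X = k := by
        rw [mul_inv_eq_one] at h
        exact h
      rw [← hX, this]
    · have : X = zEl * k := by
        rw [mul_inv_eq_iff_eq_mul] at h
        exact h
      rw [← hX, this]
      calc zEl * k * (zEl * k) = zEl * (k * zEl) * k := by group
        _ = zEl * (zEl * k) * k := by rw [zEl_comm k]
        _ = (zEl * zEl) * (k * k) := by group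
        _ = k * k := by rw [zEl_mul_zEl, one_mul]
  rw [hkk]
  exact Subgroup.mul_mem _ hk hk

/-! ### an element squaring to `-1` -/

def xPerm : List ℕ := [1, 0, 3, 2, 6, 9, 4, 10, 11, 5, 7, 8]
def xSgn : List ℕ := [1, 2, 1, 2, 2, 2, 1, 1, 2, 1, 2, 1]

def xf (p : ArrayPt) : ArrayPt := pt (xPerm.getD (ix p) 0)

theorem xf_xf : ∀ p, xf (xf p) = p := by decide +kernel

def xπ : Equiv.Perm ArrayPt := ⟨xf, xf, xf_xf, xf_xf⟩

def xc (p : ArrayPt) : (ZMod 3)ˣ := if xSgn.getD (ix p) 1 = 1 then 1 else -1

theorem x_auto : ∀ (i : Fin 6) (p : ArrayPt),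
    gen (info (monomialMap xπ xc (gen (basisT i)))) p = monomialMap xπ xc (gen (basisT i)) p := by
  decide +kernel

theorem x_isAuto : IsAuto xπ xc :=
  isAuto_of_basis fun i => (mem_iff _).2 (funext fun p => x_auto i p)

theorem x_sq : ∀ p, xc p * xc (xf p) = -1 := by decide +kernel

/-- A monomial automorphism squaring to `-1`. -/
def xEl : ↥Cover := ⟨(monoPerm xπ xc, xπ), xc, x_isAuto, rfl⟩

theorem xπ_mul : xπ * xπ = 1 := by
  apply Equiv.ext
  intro p
  exact xf_xf p

theorem xEl_mul : xEl * xEl = zEl := by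
  apply Subtype.ext
  refine Prod.ext ?_ xπ_mul
  show monoPerm xπ xc * monoPerm xπ xc = monoPerm 1 (fun _ => -1)
  rw [monoPerm_mul, xπ_mul]
  have : (fun i => xc i * xc (xπ.symm i)) = fun _ => (-1 : (ZMod 3)ˣ) := by
    funext i
    exact x_sq i
  rw [this]

/-- The projection is a stem extension once the quotient is known to be perfect. -/
theorem isStem_coverHom (hperf : commutator ↥AutH = ⊤) : Cfsg.IsStemExtension coverHom := by
  refine ⟨coverHom_surjective, ker_le_center, ?_⟩
  intro x hx
  rcases mem_ker_coverHom.1 hx with rfl | rfl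
  · exact Subgroup.one_mem _
  · exact zEl_mem_commutator hperf xEl_mul

theorem card_ker_coverHom : Nat.card coverHom.ker = 2 := by
  have h : (coverHom.ker : Set ↥Cover) = {1, zEl} := by
    ext x
    rw [SetLike.mem_coe, mem_ker_coverHom, Set.mem_insert_iff, Set.mem_singleton_iff]
  have h2 : Nat.card coverHom.ker = Set.ncard (coverHom.ker : Set ↥Cover) := rfl
  rw [h2, h, Set.ncard_pair (Ne.symm zEl_ne_one)]

end TGA
end Cfsg.Agent.Lib.H28
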