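import Cfsg.Agent.Lib.H28.M12Mult
import Cfsg.Agent.Lib.H28.TernaryCover
import Cfsg.Agent.Lib.H28.M12TernaryIso
import Cfsg.Agent.Lib.H28.M11Pair

/-!
# The Schur multiplier of `M₁₂` is cyclic of order two (helper28)

Upper bound: `M12Mult.card_ker_le_two`.  Lower bound: the monomial automorphism group of the ternary
Golay code is a stem extension of `M₁₂` with kernel of order two.
-/

set_option autoImplicit false

namespace Cfsg.Agent.Lib.H28.M12Cover

open Cfsg Cfsg.Agent.Lib.H28 Cfsg.Agent.Lib.H28.TGA Cfsg.Agent.Lib.H28.M12T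
open scoped commutatorElement

theorem M12_eq : Cfsg.Spor.M12 = stabMask dod0 := by
  unfold Cfsg.Spor.M12 stabMask
  rw [squareDodecad_eq_ptsMask]

/-- A finite simple group whose order is not a prime is perfect. -/
theorem commutator_eq_top_of_simple {G : Type*} [Group G] [Finite G] [IsSimpleGroup G]
    (h : ¬ (Nat.card G).Prime) : commutator G = ⊤ := by
  have hn : (commutator G).Normal := by
    rw [commutator_def]
    infer_instance
  rcases hn.eq_bot_or_eq_top with hb | ht
  · exfalso
    apply h
    have hcomm : ∀ a b : G, a * b = b * a := by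
      intro a b
      have hm : ⁅a, b⁆ ∈ commutator G := by
        rw [commutator_def]
        exact Subgroup.commutator_mem_commutator (Subgroup.mem_top a) (Subgroup.mem_top b)
      rw [hb, Subgroup.mem_bot, commutatorElement_eq_one_iff_mul_comm] at hm
      exact hm
    let _ : CommGroup G := { ‹Group G› with mul_comm := hcomm }
    exact IsSimpleGroup.prime_card (α := G)
  · exact ht

theorem commutator_M12 : commutator ↥(stabMask dod0) = ⊤ := by
  have := isSimpleGroup_stabMask_dod0
  apply commutator_eq_top_of_simple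
  rw [card_stabMask_dod0]
  norm_num

theorem commutator_AutH : commutator ↥AutH = ⊤ :=
  M12Mult.commutator_eq_top_of_equiv m12Equiv.symm commutator_M12

/-- The double cover of `M₁₂`. -/
noncomputable def coverM12 : ↥Cover →* ↥(stabMask dod0) := m12Equiv.symm.toMonoidHom.comp coverHom

theorem ker_coverM12 : coverM12.ker = coverHom.ker := by
  ext x
  rw [MonoidHom.mem_ker, MonoidHom.mem_ker]
  unfold coverM12
  rw [MonoidHom.comp_apply]
  exact m12Equiv.symm.map_eq_one_iff

theorem isStem_coverM12 : Cfsg.IsStemExtension coverM12 := by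
  have h := isStem_coverHom commutator_AutH
  refine ⟨m12Equiv.symm.surjective.comp h.1, ?_, ?_⟩ <;> rw [ker_coverM12]
  · exact h.2.1
  · exact h.2.2

theorem card_ker_coverM12 : Nat.card coverM12.ker = 2 := by
  rw [ker_coverM12]
  exact card_ker_coverHom

theorem hasMult : Cfsg.HasCyclicSchurMultiplier ↥(stabMask dod0) 2 := by
  have : Fact (Nat.Prime 2) := ⟨Nat.prime_two⟩
  have h2 : Nat.card (Multiplicative (ZMod 2)) = 2 := by
    rw [Nat.card_eq_fintype_card]
    rfl
  refine ⟨⟨↥Cover, inferInstance, inferInstance, coverM12, isStem_coverM12,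
    ⟨mulEquivOfPrimeCardEq card_ker_coverM12 h2⟩⟩, ?_⟩
  intro Γ _ _ σ hσ
  have hle := M12Mult.card_ker_le_two σ hσ
  have hpos : 0 < Nat.card σ.ker := Nat.card_pos
  rcases (by omega : Nat.card σ.ker = 1 ∨ Nat.card σ.ker = 2) with h1 | h1
  · refine ⟨1, ?_⟩
    have hs : Subsingleton σ.ker := (Nat.card_eq_one_iff_unique.1 h1).1
    intro x
    exact ⟨1, Subsingleton.elim _ _⟩
  · exact ⟨(mulEquivOfPrimeCardEq h2 h1).toMonoidHom, (mulEquivOfPrimeCardEq h2 h1).surjective⟩

theorem hasMult_M12 : Cfsg.HasCyclicSchurMultiplier ↥Cfsg.Spor.M12 2 := by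
  rw [M12_eq]
  exact hasMult

end Cfsg.Agent.Lib.H28.M12Cover
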