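import Cfsg.Agent.Lib.H28.M23Split
import Cfsg.Agent.Lib.H28.M24Trans
import Cfsg.Agent.Lib.H28.M12Cover

/-!
# The Schur multiplier of `M₂₄` is trivial (helper28)

The point stabilizers `M₂₃` have trivial multiplier and the two-point stabilizers `M₂₂` are perfect,
so the amalgam argument for 3-transitive groups applies.
-/

set_option autoImplicit false
set_option maxRecDepth 100000

namespace Cfsg.Agent.Lib.H28.M24Mult

open Cfsg Cfsg.Agent.Lib.H28 Cfsg.Agent.Lib.H28.M23Mult
open scoped commutatorElement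

theorem smul24 (g : ↥M24) (p : GolayPt) : g • p = g.1 p := rfl

theorem trans24 : ∀ n ≤ 3, ∀ x y : Fin n → GolayPt, Function.Injective x → Function.Injective y →
    (∀ i, x i ∈ (Finset.univ : Finset GolayPt)) → (∀ i, y i ∈ (Finset.univ : Finset GolayPt)) →
    ∃ g : ↥M24, ∀ i, g • x i = y i := by
  intro n hn x y hx hy _ _
  obtain ⟨g, hg, hmap⟩ := exists_M24_map (by omega) x y hx hy
  exact ⟨⟨g, hg⟩, hmap⟩

theorem exists_to_23 (a : GolayPt) : ∃ g : ↥M24, gPt 23 = g • a := by
  obtain ⟨g, hg⟩ := trans24 1 (by norm_num) ![a] ![gPt 23]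
    (fun i j _ => Subsingleton.elim i j) (fun i j _ => Subsingleton.elim i j)
    (fun _ => Finset.mem_univ _) (fun _ => Finset.mem_univ _)
  exact ⟨g, (hg 0).symm⟩

/-- Every point stabilizer in `M₂₄` is `M₂₃`. -/
noncomputable def stabEquiv24 (a : GolayPt) : ↥(MulAction.stabilizer ↥M24 a) ≃* ↥G23 :=
  (MulAction.stabilizerEquivStabilizer (Classical.choose_spec (exists_to_23 a))).trans
    (stabFixEquiv M24 [] 23)

theorem commutator_G23 : commutator ↥G23 = ⊤ := by
  have := isSimpleGroup_fixSub_23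
  apply M12Cover.commutator_eq_top_of_simple
  rw [card_G23]
  norm_num

theorem card_G22 : Nat.card ↥(fixSub M24 [0, 23]) = 443520 := by
  apply le_antisymm card_fixSub_chain.2
  have h := card_fixSub_le M24 [23] 0 (Finset.univ.erase (gPt 23)) (by
    intro g hg
    rw [Finset.mem_erase]
    refine ⟨?_, Finset.mem_univ _⟩
    intro h
    have h23 := (mem_fixSub.1 hg).2 23 (by simp)
    rw [← h23] at h
    exact gPt_ne (by norm_num) (by norm_num) (by norm_num : (0 : ℕ) ≠ 23) (g.injective h))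
  rw [Finset.card_erase_of_mem (Finset.mem_univ _), Finset.card_univ, card_GolayPt] at h
  have h2 : Nat.card (fixSub M24 [23]) = 10200960 := card_G23
  omega

theorem commutator_G22 : commutator ↥(fixSub M24 [0, 23]) = ⊤ := by
  have := isSimpleGroup_fixSub_0_23
  apply M12Cover.commutator_eq_top_of_simple
  rw [card_G22]
  norm_num

theorem perfK24 :
    commutator ↥(MulAction.stabilizer ↥M24 (gPt 23) ⊓ MulAction.stabilizer ↥M24 (gPt 0)) = ⊤ :=
  M12Mult.commutator_eq_top_of_equiv (stabFixEquiv2 M24 [] 23 0) commutator_G22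

/-- The setup for a stem extension of `M₂₄`. -/
noncomputable def setup24 {Γ : Type} [Group Γ] (σ : Γ →* ↥M24)
    (hσ : Cfsg.IsStemExtension σ) : StemAmalgam.Setup ↥M24 GolayPt Γ where
  σ := σ
  D := Finset.univ
  hsurj := hσ.1
  hcen := hσ.2.1
  hder := hσ.2.2
  hinv := fun _ _ _ => Finset.mem_univ _
  htrans := trans24
  hcard := by rw [Finset.card_univ, card_GolayPt]; norm_num
  hperf := fun a _ => M12Mult.perfect_subgroup_of_equiv _ (stabEquiv24 a) commutator_G23
  hmult := fun a _ => M12Mult.stem_trivial_of_equiv (stabEquiv24 a)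
    (fun E _ _ τ hτ => M23Mult.ker_eq_bot E τ hτ)

/-- Every finite stem extension of `M₂₄` is an isomorphism. -/
theorem ker_eq_bot (Γ : Type) [Group Γ] [Finite Γ] (σ : Γ →* ↥M24) (hσ : Cfsg.IsStemExtension σ) :
    σ.ker = ⊥ :=
  (StemSplit.Setup.ofOld (setup24 σ hσ) (gPt 23) (Finset.mem_univ _)).ker_eq_bot_of_perfect
    (a0 := gPt 23) (b0 := gPt 0) (Finset.mem_univ _) (Finset.mem_univ _)
    (gPt_ne (by norm_num) (by norm_num) (by norm_num)) perfK24

theorem hasMult_M24 : Cfsg.HasCyclicSchurMultiplier ↥Cfsg.M24 1 :=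
  Cfsg.Agent.Lib.H20.hasCyclicSchurMultiplier_one_of_ker (fun Γ _ _ σ hσ => ker_eq_bot Γ σ hσ)

end Cfsg.Agent.Lib.H28.M24Mult
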