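import Mathlib
import Cfsg.Prelude.Def_Characters
import Cfsg.Prelude.Def_Blocks
import Cfsg.Agent.Lib.H24.CodegreeDvd
import Cfsg.Agent.Lib.H24.CharBasic

/-!
S4429 piece (F12b) `count_final` (helper28): ten distinct irreducible characters whose squared degrees
sum to `7920 = |G|` exhaust `Irr(G)`; the counting form of the conclusion follows.
-/

set_option autoImplicit false
namespace Cfsg.Agent.Lib.H28.M7920
open Cfsg
open scoped BigOperators
universe u

/-- pure count over `Fin 10`. -/
theorem card_filter_deg (n : ℕ) :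
    (Finset.univ.filter (fun i : Fin 10 =>
        (![1, 10, 10, 10, 11, 16, 16, 44, 45, 55] : Fin 10 → ℕ) i = n)).card =
      (if n = 1 ∨ n = 11 ∨ n = 44 ∨ n = 45 ∨ n = 55 then 1 else if n = 10 then 3
        else if n = 16 then 2 else 0) := by
  by_cases h1 : n = 1
  · subst h1; decide
  by_cases h10 : n = 10
  · subst h10; decide
  by_cases h11 : n = 11
  · subst h11; decide
  by_cases h16 : n = 16
  · subst h16; decide
  by_cases h44 : n = 44
  · subst h44; decide
  by_cases h45 : n = 45
  · subst h45; decide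
  by_cases h55 : n = 55
  · subst h55; decide
  have hne : ∀ i : Fin 10, (![1, 10, 10, 10, 11, 16, 16, 44, 45, 55] : Fin 10 → ℕ) i ≠ n := by
    intro i
    fin_cases i <;> simp <;> omega
  rw [Finset.card_eq_zero.2 (Finset.filter_eq_empty_iff.2 (fun i _ => hne i))]
  simp [h1, h10, h11, h16, h44, h45, h55]

/-- (F12b) the counting form of the conclusion from an explicit list. -/
theorem count_final {G : Type u} [Group G] [Finite G] (hG : Nat.card G = 7920)
    (f : Fin 10 → IrrCharacter G) (hf : Function.Injective f)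
    (hdeg : ∀ i, Cfsg.charDegree (f i : G → ℂ) = ![1, 10, 10, 10, 11, 16, 16, 44, 45, 55] i) :
    Nat.card (Cfsg.IrrCharacter G) = 10 ∧ ∀ n : ℕ,
      Nat.card {χ : Cfsg.IrrCharacter G // Cfsg.charDegree (χ : G → ℂ) = n} =
        (if n = 1 ∨ n = 11 ∨ n = 44 ∨ n = 45 ∨ n = 55 then 1 else if n = 10 then 3 else if n = 16 then 2 else 0) := by
  classical
  have : Fintype (IrrCharacter G) := Fintype.ofFinite _
  have hsum := Cfsg.Agent.Lib.H24.sum_charDegree_sq (G := G)
  rw [hG] at hsum
  have hsurj : Function.Surjective f := by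
    by_contra hns
    rw [Function.Surjective] at hns
    push Not at hns
    obtain ⟨χ₀, hχ₀⟩ := hns
    have himg : ∑ χ ∈ Finset.univ.image f, charDegree (χ : G → ℂ) ^ 2 = 7920 := by
      rw [Finset.sum_image (fun a _ b _ h => hf h)]
      simp only [hdeg]
      decide
    have hnot : χ₀ ∉ Finset.univ.image f := by
      intro h
      obtain ⟨i, _, hi⟩ := Finset.mem_image.1 h
      exact hχ₀ i hi
    have hlt : ∑ χ ∈ Finset.univ.image f, charDegree (χ : G → ℂ) ^ 2 <
        ∑ χ : IrrCharacter G, charDegree (χ : G → ℂ) ^ 2 := by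
      apply Finset.sum_lt_sum_of_subset (Finset.subset_univ _) (Finset.mem_univ χ₀) hnot
      · exact pow_pos (Cfsg.Agent.Lib.H24.charDegree_pos χ₀) 2
      · intro j _ _
        exact Nat.zero_le _
    omega
  let e : Fin 10 ≃ IrrCharacter G := Equiv.ofBijective f ⟨hf, hsurj⟩
  refine ⟨?_, ?_⟩
  · rw [← Nat.card_congr e]
    simp
  · intro n
    have hcongr : Nat.card {χ : IrrCharacter G // charDegree (χ : G → ℂ) = n} =
        Nat.card {i : Fin 10 // (![1, 10, 10, 10, 11, 16, 16, 44, 45, 55] : Fin 10 → ℕ) i = n} := by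
      apply Nat.card_congr
      refine (e.subtypeEquiv (fun i => ?_)).symm
      show _ ↔ charDegree ((f i : IrrCharacter G) : G → ℂ) = n
      rw [hdeg]
    rw [hcongr, Nat.card_eq_fintype_card, Fintype.card_subtype]
    exact card_filter_deg n

end Cfsg.Agent.Lib.H28.M7920
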