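import Cfsg.Agent.S0942
import Cfsg.Agent.Lib.H23.PPart
import Cfsg.Agent.Lib.L0.NPCBasic
import Cfsg.Agent.Lib.H19.Cores
import Cfsg.Agent.Lib.H24.CharBasic

/-!
# S1951, piece F2 / CONST (helper28)

Under the hypotheses of S1951 on the Sylow `p`-subgroup `P` (elementary abelian, all of `P#`
conjugate, `C_G(x)` with a normal `p`-complement for `x ∈ P` of order `p`), every character of the
principal `p`-block takes the same value at every `p`-singular element of `G`.
-/

set_option autoImplicit false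

open Cfsg

namespace Cfsg.Agent.Lib.H28.AEC

/-- In a finite group with a normal `p`-complement every `p`-regular element lies in the
`p'`-core. -/
theorem mem_pPrimeCore_of_npc {C : Type*} [Group C] [Finite C] {p : ℕ} [Fact p.Prime]
    (h : Cfsg.HasNormalPComplement p C) (v : C) (hv : ¬ p ∣ orderOf v) :
    v ∈ Cfsg.pPrimeCore p C := by
  obtain ⟨Q, N, hN, hc⟩ := h
  have := hN
  have hidx : N.index = Nat.card (Q : Subgroup C) := hc.symm.index_eq_card
  have hcardN : Nat.card N = (Q : Subgroup C).index := hc.index_eq_card.symm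
  have hcop : (Nat.card N).Coprime p := by
    rw [hcardN, Nat.coprime_comm]
    exact (Nat.Prime.coprime_iff_not_dvd (Fact.out : p.Prime)).2 Q.not_dvd_index
  have hvN : v ∈ N := by
    rw [← QuotientGroup.eq_one_iff]
    have h1 : orderOf (QuotientGroup.mk (s := N) v) ∣ orderOf v :=
      orderOf_map_dvd (QuotientGroup.mk' N) v
    have h2 : orderOf (QuotientGroup.mk (s := N) v) ∣ Nat.card (C ⧸ N) := orderOf_dvd_natCard _
    obtain ⟨k, hk⟩ := (Q.2.exists_card_eq : ∃ n : ℕ, Nat.card (Q : Subgroup C) = p ^ n)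
    rw [← Subgroup.index_eq_card, hidx, hk] at h2
    obtain ⟨j, -, hj⟩ := (Nat.dvd_prime_pow (Fact.out : p.Prime)).1 h2
    rcases Nat.eq_zero_or_pos j with rfl | hjpos
    · simpa using hj
    · exfalso
      apply hv
      refine dvd_trans ?_ h1
      rw [hj]
      exact dvd_pow_self p hjpos.ne'
  exact Cfsg.Agent.Lib.H19.le_pPrimeCore hN hcop hvN

variable {G : Type*} [Group G] [Finite G] {p : ℕ} [Fact p.Prime]

/-- A nontrivial `p`-element of `G` is conjugate to any prescribed `a ∈ P#`, has order `p`, and its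
centralizer has a normal `p`-complement. -/
theorem conj_data (P : Sylow p G)
    (hPe : Cfsg.IsElementaryAbelian p (P : Subgroup G))
    (hconj : ∀ x ∈ (P : Subgroup G), ∀ y ∈ (P : Subgroup G), x ≠ 1 → y ≠ 1 →
      ∃ g : G, g * x * g⁻¹ = y)
    (hb : ∀ x ∈ (P : Subgroup G), orderOf x = p →
      Cfsg.HasNormalPComplement p ↥(Subgroup.centralizer ({x} : Set G)))
    (a : G) (haP : a ∈ (P : Subgroup G)) (ha1 : a ≠ 1)
    (u : G) (hu : ∃ k : ℕ, orderOf u = p ^ k) (hu1 : u ≠ 1) :
    (∃ c : G, c * a * c⁻¹ = u) ∧ orderOf u = p ∧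
      Cfsg.HasNormalPComplement p ↥(Subgroup.centralizer ({u} : Set G)) := by
  have hp : p.Prime := Fact.out
  -- `u` lies in a conjugate of `P`
  have hzp : IsPGroup p (Subgroup.zpowers u) := by
    obtain ⟨k, hk⟩ := hu
    apply IsPGroup.of_card (n := k)
    rw [Nat.card_zpowers, hk]
  obtain ⟨Q, hQ⟩ := hzp.exists_le_sylow
  obtain ⟨h, hh⟩ := MulAction.exists_smul_eq G Q P
  have huQ : u ∈ (Q : Subgroup G) := hQ (Subgroup.mem_zpowers u)
  have hu' : h * u * h⁻¹ ∈ (P : Subgroup G) := by
    rw [← hh]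
    show h * u * h⁻¹ ∈ ((h • Q : Sylow p G) : Subgroup G)
    rw [Sylow.coe_subgroup_smul]
    exact ⟨u, huQ, by simp [MulAut.conj_apply]⟩
  set u' := h * u * h⁻¹ with hu'def
  have hu'1 : u' ≠ 1 := by
    intro h1
    apply hu1
    have : u = h⁻¹ * u' * h := by rw [hu'def]; group
    rw [this, h1]; group
  have hordu' : orderOf u' = p := by
    have hpow : u' ^ p = 1 := hPe.2 u' hu'
    exact orderOf_eq_prime hpow hu'1
  have hordu : orderOf u = p := by
    have : orderOf u' = orderOf u := by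
      have := (MulAut.conj h).orderOf_eq u
      rwa [MulAut.conj_apply] at this
    rw [← this]; exact hordu'
  obtain ⟨g1, hg1⟩ := hconj a haP u' hu' ha1 hu'1
  refine ⟨⟨h⁻¹ * g1, ?_⟩, hordu, ?_⟩
  · have : u = h⁻¹ * u' * h := by rw [hu'def]; group
    rw [this, ← hg1]; group
  · -- transport the normal p-complement of C(u') to C(u)
    have hnpc := hb u' hu' hordu'
    -- the isomorphism C(u') ≃* C(u), x ↦ h⁻¹ x h
    let e : ↥(Subgroup.centralizer ({u'} : Set G)) ≃* ↥(Subgroup.centralizer ({u} : Set G)) :=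
      { toFun := fun x => ⟨h⁻¹ * (x : G) * h, by
          have hx := Subgroup.mem_centralizer_singleton_iff.1 x.2
          rw [Subgroup.mem_centralizer_singleton_iff]
          have hx' : (x : G) * (h * u * h⁻¹) = (h * u * h⁻¹) * (x : G) := hx
          calc h⁻¹ * (x : G) * h * u = h⁻¹ * ((x : G) * (h * u * h⁻¹)) * h := by group
            _ = h⁻¹ * ((h * u * h⁻¹) * (x : G)) * h := by rw [hx']
            _ = u * (h⁻¹ * (x : G) * h) := by group⟩
        invFun := fun y => ⟨h * (y : G) * h⁻¹, by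
          have hy := Subgroup.mem_centralizer_singleton_iff.1 y.2
          rw [Subgroup.mem_centralizer_singleton_iff]
          calc h * (y : G) * h⁻¹ * u' = h * ((y : G) * u) * h⁻¹ := by rw [hu'def]; group
            _ = h * (u * (y : G)) * h⁻¹ := by rw [hy]
            _ = u' * (h * (y : G) * h⁻¹) := by rw [hu'def]; group⟩
        left_inv := fun x => by ext; simp only; group
        right_inv := fun y => by ext; simp only; group
        map_mul' := fun x y => by ext; simp only [Subgroup.coe_mul]; group }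
    exact Cfsg.Agent.Lib.L0.HasNormalPComplement.of_mulEquiv e hnpc

/-- **F2 / CONST.** Every character of the principal `p`-block is constant (with value `χ a`) on
the `p`-singular elements of `G`. -/
theorem const_on_singular (P : Sylow p G)
    (hPe : Cfsg.IsElementaryAbelian p (P : Subgroup G))
    (hconj : ∀ x ∈ (P : Subgroup G), ∀ y ∈ (P : Subgroup G), x ≠ 1 → y ≠ 1 →
      ∃ g : G, g * x * g⁻¹ = y)
    (hb : ∀ x ∈ (P : Subgroup G), orderOf x = p →
      Cfsg.HasNormalPComplement p ↥(Subgroup.centralizer ({x} : Set G)))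
    (M : Ideal Cfsg.AlgInt) (hM : Cfsg.IsPModular p M)
    (a : G) (haP : a ∈ (P : Subgroup G)) (ha1 : a ≠ 1)
    (χ : Cfsg.IrrCharacter G) (hχ : χ ∈ Cfsg.principalBlock M G)
    (g : G) (hg : p ∣ orderOf g) : (χ : G → ℂ) g = (χ : G → ℂ) a := by
  have hp : p.Prime := Fact.out
  obtain ⟨u, v, huv, hcomm, hu, hv⟩ :=
    Cfsg.Agent.Lib.H23.exists_isPPart hp g (isOfFinOrder_of_finite g)
  have hu1 : u ≠ 1 := by
    rintro rfl
    rw [one_mul] at huv
    rw [← huv] at hg
    exact hv hg
  obtain ⟨⟨c, hc⟩, -, hnpc⟩ := conj_data P hPe hconj hb a haP ha1 u hu hu1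
  have hvC : v ∈ Subgroup.centralizer ({u} : Set G) :=
    Subgroup.mem_centralizer_singleton_iff.2 hcomm.eq.symm
  have hv' : ¬ p ∣ orderOf (⟨v, hvC⟩ : ↥(Subgroup.centralizer ({u} : Set G))) := by
    rwa [← Subgroup.orderOf_coe]
  have hvcore : v ∈ Cfsg.centralizerPPrimeCore p u :=
    ⟨⟨v, hvC⟩, mem_pPrimeCore_of_npc hnpc _ hv', rfl⟩
  rw [← huv, Cfsg.Agent.S0942.result p M hM u hu v hvcore χ hχ, ← hc]
  exact Cfsg.Agent.Lib.H24.irr_conj χ a c

end Cfsg.Agent.Lib.H28.AEC
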