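/-
helper28 library: the affine maps `x ↦ u x + c` of the projective line over `ZMod 23` as permutations of the 24
points; the group `23:11` of the maps with `u` a square; index functions of permutations.
-/
import Cfsg.Agent.Lib.H28.WordChain

set_option autoImplicit false

namespace Cfsg.Agent.Lib.H28

open Cfsg

/-! ### Index functions -/

/-- The permutation `g` acts on the indices `0, …, 23` of the points as the function `f`. -/
def IsF (g : Equiv.Perm GolayPt) (f : ℕ → ℕ) : Prop := ∀ p, gIdx (g p) = f (gIdx p)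

theorem IsF.mul {g h : Equiv.Perm GolayPt} {f e : ℕ → ℕ} (hg : IsF g f) (hh : IsF h e) :
    IsF (g * h) (fun i => f (e i)) := by
  intro p
  rw [Equiv.Perm.mul_apply, hg, hh]

theorem IsF.congr {g : Equiv.Perm GolayPt} {f e : ℕ → ℕ} (hg : IsF g f) (H : ∀ i < 24, f i = e i) :
    IsF g e := by
  intro p
  rw [hg, H _ (gIdx_lt p)]

theorem IsF.eq_of {g h : Equiv.Perm GolayPt} {f e : ℕ → ℕ} (hg : IsF g f) (hh : IsF h e)
    (H : ∀ i < 24, f i = e i) : g = h := by
  apply Equiv.ext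
  intro p
  apply gIdx_injective
  rw [hg, hh, H _ (gIdx_lt p)]

theorem isF_one : IsF 1 (fun i => i) := fun _ => rfl

theorem isF_wordPerm (w : List ℕ) : IsF (wordPerm w) (evalPt w) := gIdx_wordPerm w

theorem isF_projInv : IsF projInv (fun i => tabT.getD i 0) := tabT_spec

/-- The index function of a table. -/
def tabF (t : List ℕ) (i : ℕ) : ℕ := t.getD i 0

/-! ### Affine maps -/

/-- The map `x ↦ u x + c` of `ZMod 23`. -/
def affE (u : (ZMod 23)ˣ) (c : ZMod 23) : Equiv.Perm (ZMod 23) :=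
  (Units.mulLeft u).trans (Equiv.addRight c)

/-- The map `x ↦ u x + c` of the 24 points, fixing the extra point. -/
def affP (u : (ZMod 23)ˣ) (c : ZMod 23) : Equiv.Perm GolayPt := Equiv.optionCongr (affE u c)

@[simp] theorem affP_some (u : (ZMod 23)ˣ) (c x : ZMod 23) : affP u c (some x) = some (u * x + c) := rfl

@[simp] theorem affP_none (u : (ZMod 23)ˣ) (c : ZMod 23) : affP u c none = none := rfl

theorem affP_mul (u v : (ZMod 23)ˣ) (c d : ZMod 23) : affP u c * affP v d = affP (u * v) (u * d + c) := by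
  apply Equiv.ext
  rintro (_ | x)
  · rfl
  · rw [Equiv.Perm.mul_apply, affP_some, affP_some, affP_some, Units.val_mul]
    congr 1
    ring

theorem affP_one : affP 1 0 = 1 := by
  apply Equiv.ext
  rintro (_ | x)
  · rfl
  · rw [affP_some, Units.val_one, one_mul, add_zero, Equiv.Perm.one_apply]

theorem affP_inv (u : (ZMod 23)ˣ) (c : ZMod 23) : (affP u c)⁻¹ = affP u⁻¹ (-(↑u⁻¹ * c)) := by
  rw [inv_eq_iff_mul_eq_one, affP_mul, mul_inv_cancel, ← affP_one]
  congr 1
  rw [mul_neg, ← mul_assoc, ← Units.val_mul, mul_inv_cancel, Units.val_one, one_mul, neg_add_cancel]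

theorem permS_eq_affP : permS = affP 1 1 := by
  apply Equiv.ext
  rintro (_ | x)
  · rfl
  · rw [affP_some, Units.val_one, one_mul]
    rfl

theorem mulLeft_eq_affP (u : (ZMod 23)ˣ) : Equiv.optionCongr (Units.mulLeft u) = affP u 0 := by
  apply Equiv.ext
  rintro (_ | x)
  · rfl
  · rw [affP_some, add_zero]
    rfl

theorem affP_pow (u : (ZMod 23)ˣ) (n : ℕ) : affP u 0 ^ n = affP (u ^ n) 0 := by
  induction n with
  | zero => rw [pow_zero, pow_zero, affP_one]
  | succ n ih => rw [pow_succ, ih, affP_mul, mul_zero, add_zero, pow_succ]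

theorem permS_pow (n : ℕ) : permS ^ n = affP 1 (n : ZMod 23) := by
  induction n with
  | zero => rw [pow_zero, Nat.cast_zero, affP_one]
  | succ n ih =>
    rw [pow_succ, ih, permS_eq_affP, affP_mul, mul_one, Units.val_one, one_mul, Nat.cast_succ, add_comm]

theorem affP_split (u : (ZMod 23)ˣ) (c : ZMod 23) : affP u c = affP 1 c * affP u 0 := by
  rw [affP_mul, one_mul, mul_zero, zero_add]

theorem affP_split' (u : (ZMod 23)ˣ) (c : ZMod 23) : affP u c = affP u 0 * affP 1 (↑u⁻¹ * c) := by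
  rw [affP_mul, mul_one, add_zero, ← mul_assoc, ← Units.val_mul, mul_inv_cancel, Units.val_one, one_mul]

/-! ### The squares -/

/-- The unit `2`. -/
def u2 : (ZMod 23)ˣ := ⟨2, 12, by decide, by decide⟩

theorem u2_val : (u2 : ZMod 23) = 2 := rfl

theorem u2_pow_eleven : u2 ^ 11 = 1 := by
  apply Units.ext
  rw [Units.val_pow_eq_pow_val, u2_val, Units.val_one]
  decide

theorem isSquare_u2_pow (k : ℕ) : IsSquare (u2 ^ k) := by
  have : IsSquare u2 := ⟨⟨5, 14, by decide, by decide⟩, by apply Units.ext; decide⟩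
  exact this.pow k

theorem exists_pow_of_isSquare {u : (ZMod 23)ˣ} (hu : IsSquare u) : ∃ k < 11, u = u2 ^ k := by
  obtain ⟨r, rfl⟩ := hu
  have : Fact (1 < 23) := ⟨by norm_num⟩
  have key : ∀ r : ZMod 23, r ≠ 0 → ∃ k < 11, r * r = 2 ^ k := by decide
  obtain ⟨k, hk, h⟩ := key (r : ZMod 23) r.ne_zero
  refine ⟨k, hk, ?_⟩
  apply Units.ext
  rw [Units.val_mul, h, Units.val_pow_eq_pow_val, u2_val]

/-- The element `x ↦ 2^k x + c`. -/
def bP (k c : ℕ) : Equiv.Perm GolayPt := affP (u2 ^ k) (c : ZMod 23)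

/-- The index function of `x ↦ 2^k x + c`. -/
def affF (k c i : ℕ) : ℕ := if i = 23 then 23 else (2 ^ k * i + c) % 23

theorem isF_bP (k c : ℕ) : IsF (bP k c) (affF k c) := by
  rintro (_ | x)
  · rfl
  · unfold bP affF
    rw [affP_some, gIdx_some, gIdx_some, if_neg (ne_of_lt (ZMod.val_lt x)), Units.val_pow_eq_pow_val, u2_val]
    conv_lhs => rw [← ZMod.natCast_zmod_val x]
    rw [← Nat.cast_ofNat (R := ZMod 23) (n := 2), ← Nat.cast_pow, ← Nat.cast_mul, ← Nat.cast_add,
      ZMod.val_natCast]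

theorem bP_mul (k c k' c' : ℕ) : bP k c * bP k' c' = bP (k + k') (2 ^ k * c' + c) := by
  unfold bP
  rw [affP_mul, pow_add, Units.val_pow_eq_pow_val, u2_val]
  congr 1
  push_cast
  ring

theorem bP_zero_zero : bP 0 0 = 1 := by
  unfold bP
  rw [pow_zero, Nat.cast_zero, affP_one]

/-- The group `23:11` of the maps `x ↦ u x + c` with `u` a square. -/
def Bsub : Subgroup (Equiv.Perm GolayPt) where
  carrier := {g | ∃ u : (ZMod 23)ˣ, ∃ c : ZMod 23, IsSquare u ∧ g = affP u c}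
  mul_mem' := by
    rintro _ _ ⟨u, c, hu, rfl⟩ ⟨v, d, hv, rfl⟩
    exact ⟨u * v, _, hu.mul hv, affP_mul u v c d⟩
  one_mem' := ⟨1, 0, IsSquare.one, affP_one.symm⟩
  inv_mem' := by
    rintro _ ⟨u, c, hu, rfl⟩
    exact ⟨u⁻¹, _, hu.inv, affP_inv u c⟩

theorem mem_Bsub {g : Equiv.Perm GolayPt} :
    g ∈ Bsub ↔ ∃ u : (ZMod 23)ˣ, ∃ c : ZMod 23, IsSquare u ∧ g = affP u c := Iff.rfl

theorem affP_mem_Bsub {u : (ZMod 23)ˣ} (hu : IsSquare u) (c : ZMod 23) : affP u c ∈ Bsub := ⟨u, c, hu, rfl⟩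

theorem bP_mem_Bsub (k c : ℕ) : bP k c ∈ Bsub := affP_mem_Bsub (isSquare_u2_pow k) _

theorem exists_bP_of_mem {g : Equiv.Perm GolayPt} (hg : g ∈ Bsub) : ∃ k < 11, ∃ c < 23, g = bP k c := by
  obtain ⟨u, c, hu, rfl⟩ := hg
  obtain ⟨k, hk, rfl⟩ := exists_pow_of_isSquare hu
  refine ⟨k, hk, c.val, ZMod.val_lt c, ?_⟩
  unfold bP
  rw [ZMod.natCast_zmod_val]

/-- Every element is `x ↦ 2^k (x + e)`. -/
theorem exists_bP_split_of_mem {g : Equiv.Perm GolayPt} (hg : g ∈ Bsub) :
    ∃ k < 11, ∃ e < 23, g = bP k 0 * bP 0 e := by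
  obtain ⟨u, c, hu, rfl⟩ := hg
  obtain ⟨k, hk, rfl⟩ := exists_pow_of_isSquare hu
  refine ⟨k, hk, (↑(u2 ^ k)⁻¹ * c : ZMod 23).val, ZMod.val_lt _, ?_⟩
  unfold bP
  rw [ZMod.natCast_zmod_val, pow_zero, Nat.cast_zero]
  exact affP_split' _ _

theorem Bsub_fix_none {g : Equiv.Perm GolayPt} (hg : g ∈ Bsub) : g none = none := by
  obtain ⟨u, c, -, rfl⟩ := hg
  rfl

theorem permS_mem_Bsub : permS ∈ Bsub := by
  rw [permS_eq_affP]
  exact affP_mem_Bsub IsSquare.one 1

/-- The generators of `23:11` of the statement. -/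
theorem closure_eq_Bsub : Subgroup.closure ({Equiv.optionCongr (Equiv.addRight (1 : ZMod 23))} ∪
    {g : Equiv.Perm GolayPt | ∃ u : (ZMod 23)ˣ, IsSquare u ∧ g = Equiv.optionCongr (Units.mulLeft u)}) = Bsub := by
  apply le_antisymm
  · rw [Subgroup.closure_le]
    rintro g (hg | ⟨u, hu, rfl⟩)
    · rw [Set.mem_singleton_iff] at hg
      rw [hg]
      exact permS_mem_Bsub
    · rw [mulLeft_eq_affP]
      exact affP_mem_Bsub hu 0
  · rintro _ ⟨u, c, hu, rfl⟩
    rw [affP_split, ← ZMod.natCast_zmod_val c, ← permS_pow]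
    apply Subgroup.mul_mem
    · apply Subgroup.pow_mem
      apply Subgroup.subset_closure
      left
      rfl
    · apply Subgroup.subset_closure
      right
      exact ⟨u, hu, (mulLeft_eq_affP u).symm⟩

theorem affP_injective {u v : (ZMod 23)ˣ} {c d : ZMod 23} (h : affP u c = affP v d) : u = v ∧ c = d := by
  have h0 := congrArg (fun g : Equiv.Perm GolayPt => g (some (0 : ZMod 23) : GolayPt)) h
  have h1 := congrArg (fun g : Equiv.Perm GolayPt => g (some (1 : ZMod 23) : GolayPt)) h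
  simp only [affP_some, mul_zero, zero_add, mul_one, Option.some.injEq] at h0 h1
  subst h0
  exact ⟨Units.ext (add_right_cancel h1), rfl⟩

theorem u2_pow_injective : ∀ k k' : Fin 11, u2 ^ k.val = u2 ^ k'.val → k = k' := by
  intro k k' h
  have h' := congrArg (fun u : (ZMod 23)ˣ => (u : ZMod 23)) h
  simp only [Units.val_pow_eq_pow_val, u2_val] at h'
  revert k k'
  decide

theorem card_Bsub : Nat.card ↥Bsub = 253 := by
  have hr : (Bsub : Set (Equiv.Perm GolayPt)) =
      Set.range (fun kc : Fin 11 × ZMod 23 => affP (u2 ^ kc.1.val) kc.2) := by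
    ext g
    constructor
    · rintro ⟨u, c, hu, rfl⟩
      obtain ⟨k, hk, rfl⟩ := exists_pow_of_isSquare hu
      exact ⟨(⟨k, hk⟩, c), rfl⟩
    · rintro ⟨kc, rfl⟩
      exact affP_mem_Bsub (isSquare_u2_pow _) _
  have hinj : Function.Injective (fun kc : Fin 11 × ZMod 23 => affP (u2 ^ kc.1.val) kc.2) := by
    rintro ⟨k, c⟩ ⟨k', c'⟩ h
    obtain ⟨h1, h2⟩ := affP_injective h
    rw [Prod.mk.injEq]
    exact ⟨u2_pow_injective k k' h1, h2⟩
  have : Nat.card ↥Bsub = Nat.card (Set.range (fun kc : Fin 11 × ZMod 23 => affP (u2 ^ kc.1.val) kc.2)) := by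
    rw [← hr]
    rfl
  rw [this, Nat.card_range_of_injective hinj, Nat.card_prod, Nat.card_eq_fintype_card, Nat.card_eq_fintype_card,
    Fintype.card_fin, ZMod.card]

end Cfsg.Agent.Lib.H28
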