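/-
helper28 library: a group of order 432 with two commuting elements of order 3 spanning a subgroup of order 9 and 48
coset representatives acting on it by distinct matrices has a normal subgroup of order 9 with quotient `GL(2,3)`.
-/
import Mathlib
import Cfsg.Agent.Lib.H1.TwoInvolutions
import Cfsg.Agent.Lib.H17.ElemAbGL

set_option autoImplicit false

namespace Cfsg.Agent.Lib.H28

open Cfsg.Agent.Lib.H1

section
variable {K : Type*} [Group K]

theorem card_GL_two_three : Nat.card (GL (Fin 2) (ZMod 3)) = 48 := by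
  rw [Matrix.card_GL_field, Fin.prod_univ_two]
  simp [ZMod.card]

/-- The map `(i, j) ↦ a ^ i * b ^ j` for commuting elements of order dividing 3. -/
noncomputable def pairHom (a b : K) (ha : a ^ 3 = 1) (hb : b ^ 3 = 1) (hab : a * b = b * a) :
    Multiplicative (ZMod 3) × Multiplicative (ZMod 3) →* K :=
  (zmodPowHom 3 a ha).noncommCoprod (zmodPowHom 3 b hb) (fun m n => by
    show Commute (a ^ _) (b ^ _)
    exact (Commute.pow_pow (show Commute a b from hab) _ _))

theorem pairHom_apply (a b : K) (ha : a ^ 3 = 1) (hb : b ^ 3 = 1) (hab : a * b = b * a) (i j : ZMod 3) :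
    pairHom a b ha hb hab (Multiplicative.ofAdd i, Multiplicative.ofAdd j) = a ^ i.val * b ^ j.val := rfl

theorem pairHom_pow_three (a b : K) (ha : a ^ 3 = 1) (hb : b ^ 3 = 1) (hab : a * b = b * a)
    (x : Multiplicative (ZMod 3) × Multiplicative (ZMod 3)) : pairHom a b ha hb hab x ^ 3 = 1 := by
  rw [← map_pow]
  have : x ^ 3 = 1 := by
    revert x
    decide
  rw [this, map_one]

theorem quotient_GL_of_data [Finite K] (hK : Nat.card K = 432) (a b : K) (ha : a ^ 3 = 1) (hb : b ^ 3 = 1)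
    (hab : a * b = b * a)
    (hinj : ∀ i j : ZMod 3, a ^ i.val * b ^ j.val = 1 → i = 0 ∧ j = 0)
    (t : Fin 48 → K) (E : Fin 48 → (ZMod 3 × ZMod 3) × (ZMod 3 × ZMod 3)) (hE : Function.Injective E)
    (hta : ∀ i, t i * a * (t i)⁻¹ = a ^ (E i).1.1.val * b ^ (E i).1.2.val)
    (htb : ∀ i, t i * b * (t i)⁻¹ = a ^ (E i).2.1.val * b ^ (E i).2.2.val)
    (i0 : Fin 48) (hi0 : E i0 = ((1, 0), (0, 1))) (ht0 : t i0 = 1) :
    ∃ (N : Subgroup K) (_ : N.Normal), Nat.card N = 9 ∧ Nonempty (K ⧸ N ≃* GL (Fin 2) (ZMod 3)) := by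
  classical
  set ψ := pairHom a b ha hb hab with hψ
  have hψinj : Function.Injective ψ := by
    rw [injective_iff_map_eq_one]
    rintro ⟨i, j⟩ h
    have h' : a ^ (Multiplicative.toAdd i).val * b ^ (Multiplicative.toAdd j).val = 1 := h
    obtain ⟨h1, h2⟩ := hinj _ _ h'
    apply Prod.ext
    · exact Multiplicative.toAdd.injective h1
    · exact Multiplicative.toAdd.injective h2
  set N : Subgroup K := ψ.range with hN
  have hN9 : Nat.card N = 9 := by
    rw [← Nat.card_congr (MonoidHom.ofInjective hψinj).toEquiv, Nat.card_prod]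
    simp [Nat.card_eq_fintype_card, ZMod.card]
  have hψmem : ∀ i j : ZMod 3, a ^ i.val * b ^ j.val ∈ N := fun i j =>
    ⟨(Multiplicative.ofAdd i, Multiplicative.ofAdd j), rfl⟩
  have haN : a ∈ N := by
    have := hψmem 1 0
    rwa [ZMod.val_one, ZMod.val_zero, pow_one, pow_zero, mul_one] at this
  have hbN : b ∈ N := by
    have := hψmem 0 1
    rwa [ZMod.val_one, ZMod.val_zero, pow_one, pow_zero, one_mul] at this
  have hNcomm : ∀ x ∈ N, ∀ y ∈ N, x * y = y * x := by
    rintro _ ⟨x, rfl⟩ _ ⟨y, rfl⟩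
    rw [← map_mul, ← map_mul, mul_comm]
  have hNexp : ∀ x ∈ N, x ^ 3 = 1 := by
    rintro _ ⟨x, rfl⟩
    exact pairHom_pow_three a b ha hb hab x
  have hNform : ∀ x ∈ N, ∃ i j : ZMod 3, x = a ^ i.val * b ^ j.val := by
    rintro _ ⟨⟨i, j⟩, rfl⟩
    exact ⟨Multiplicative.toAdd i, Multiplicative.toAdd j, rfl⟩
  -- conjugation by the representatives preserves `N`
  have htaN : ∀ i, t i * a * (t i)⁻¹ ∈ N := fun i => by rw [hta i]; exact hψmem _ _
  have htbN : ∀ i, t i * b * (t i)⁻¹ ∈ N := fun i => by rw [htb i]; exact hψmem _ _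
  have htN : ∀ i, ∀ x ∈ N, t i * x * (t i)⁻¹ ∈ N := by
    intro i x hx
    obtain ⟨u, v, rfl⟩ := hNform x hx
    have : t i * (a ^ u.val * b ^ v.val) * (t i)⁻¹
        = (t i * a * (t i)⁻¹) ^ u.val * (t i * b * (t i)⁻¹) ^ v.val := by
      rw [conj_pow, conj_pow]
      group
    rw [this]
    exact N.mul_mem (N.pow_mem (htaN i) _) (N.pow_mem (htbN i) _)
  -- elements of `N` act trivially on `N` by conjugation
  have hconjN : ∀ m ∈ N, ∀ x ∈ N, m * x * m⁻¹ = x := by
    intro m hm x hx
    rw [hNcomm m hm x hx, mul_inv_cancel_right]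
  -- the exponents are determined
  have hexp_inj : ∀ u v u' v' : ZMod 3, a ^ u.val * b ^ v.val = a ^ u'.val * b ^ v'.val → u = u' ∧ v = v' := by
    intro u v u' v' h
    have h1 : ψ (Multiplicative.ofAdd u, Multiplicative.ofAdd v)
        = ψ (Multiplicative.ofAdd u', Multiplicative.ofAdd v') := h
    have h2 := hψinj h1
    rw [Prod.mk.injEq] at h2
    exact ⟨Multiplicative.ofAdd.injective h2.1, Multiplicative.ofAdd.injective h2.2⟩
  -- the action of `m * t i` on `a`, `b` is that of `t i`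
  have hact : ∀ (m : K), m ∈ N → ∀ i j, m * t i = t j → i = j := by
    intro m hm i j h
    apply hE
    have e1 : t j * a * (t j)⁻¹ = t i * a * (t i)⁻¹ := by
      rw [← h]
      have : m * t i * a * (m * t i)⁻¹ = m * (t i * a * (t i)⁻¹) * m⁻¹ := by group
      rw [this, hconjN m hm _ (htaN i)]
    have e2 : t j * b * (t j)⁻¹ = t i * b * (t i)⁻¹ := by
      rw [← h]
      have : m * t i * b * (m * t i)⁻¹ = m * (t i * b * (t i)⁻¹) * m⁻¹ := by group
      rw [this, hconjN m hm _ (htbN i)]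
    rw [hta, hta] at e1
    rw [htb, htb] at e2
    obtain ⟨p1, p2⟩ := hexp_inj _ _ _ _ e1
    obtain ⟨p3, p4⟩ := hexp_inj _ _ _ _ e2
    exact (Prod.ext (Prod.ext p1 p2) (Prod.ext p3 p4)).symm
  -- every element is `n * t i`
  have hF : Function.Bijective (fun p : N × Fin 48 => (p.1 : K) * t p.2) := by
    apply Function.Injective.bijective_of_nat_card_le
    · rintro ⟨n, i⟩ ⟨n', j⟩ h
      have h' : (n : K) * t i = (n' : K) * t j := h
      have hij : i = j := by
        apply hact ((n' : K)⁻¹ * n) (N.mul_mem (N.inv_mem n'.2) n.2) i j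
        rw [mul_assoc, h', inv_mul_cancel_left]
      subst hij
      have : (n : K) = n' := mul_right_cancel h'
      rw [Prod.mk.injEq]
      exact ⟨Subtype.ext this, rfl⟩
    · rw [Nat.card_prod, hN9, hK]
      simp
  have hrep : ∀ k : K, ∃ n ∈ N, ∃ i, k = n * t i := by
    intro k
    obtain ⟨⟨n, i⟩, h⟩ := hF.2 k
    exact ⟨n, n.2, i, h.symm⟩
  have hNnormal : N.Normal := by
    constructor
    intro x hx k
    obtain ⟨n, hn, i, rfl⟩ := hrep k
    have : n * t i * x * (n * t i)⁻¹ = n * (t i * x * (t i)⁻¹) * n⁻¹ := by group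
    rw [this]
    exact N.mul_mem (N.mul_mem hn (htN i x hx)) (N.inv_mem hn)
  have hcent : Subgroup.centralizer (N : Set K) = N := by
    apply le_antisymm
    · intro c hc
      rw [Subgroup.mem_centralizer_iff] at hc
      obtain ⟨n, hn, i, rfl⟩ := hrep c
      have hti : ∀ x ∈ N, t i * x * (t i)⁻¹ = x := by
        intro x hx
        have h1 := hc x hx
        -- x * (n * t i) = n * t i * x
        have h2 : t i * x * (t i)⁻¹ = n⁻¹ * (n * t i * x * (n * t i)⁻¹) * n := by group
        rw [h2, ← h1]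
        have h3 : n⁻¹ * (x * (n * t i) * (n * t i)⁻¹) * n = n⁻¹ * x * n := by group
        rw [h3]
        have := hconjN n⁻¹ (N.inv_mem hn) x hx
        rwa [inv_inv] at this
      have e1 := hti a haN
      have e2 := hti b hbN
      rw [hta] at e1
      rw [htb] at e2
      have e1' : a ^ (E i).1.1.val * b ^ (E i).1.2.val = a ^ (1 : ZMod 3).val * b ^ (0 : ZMod 3).val := by
        rw [e1, ZMod.val_one, ZMod.val_zero, pow_one, pow_zero, mul_one]
      have e2' : a ^ (E i).2.1.val * b ^ (E i).2.2.val = a ^ (0 : ZMod 3).val * b ^ (1 : ZMod 3).val := by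
        rw [e2, ZMod.val_one, ZMod.val_zero, pow_one, pow_zero, one_mul]
      obtain ⟨p1, p2⟩ := hexp_inj _ _ _ _ e1'
      obtain ⟨p3, p4⟩ := hexp_inj _ _ _ _ e2'
      have : E i = E i0 := by
        rw [hi0]
        exact Prod.ext (Prod.ext p1 p2) (Prod.ext p3 p4)
      rw [hE this, ht0, mul_one]
      exact hn
    · intro x hx
      rw [Subgroup.mem_centralizer_iff]
      intro y hy
      exact hNcomm y hy x hx
  have := hNnormal
  have : Fact (Nat.Prime 3) := ⟨by norm_num⟩
  obtain ⟨φ, hφ⟩ := Cfsg.Agent.Lib.H17.exists_hom_GL_ker_eq_centralizer N 3 2 hNcomm hNexp (by rw [hN9]; norm_num)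
  rw [hcent] at hφ
  refine ⟨N, hNnormal, hN9, ?_⟩
  have e1 : K ⧸ N ≃* K ⧸ φ.ker := QuotientGroup.quotientMulEquivOfEq hφ.symm
  have e2 : K ⧸ φ.ker ≃* φ.range := QuotientGroup.quotientKerEquivRange φ
  have hq : Nat.card (K ⧸ N) = 48 := by
    have := Subgroup.card_eq_card_quotient_mul_card_subgroup N
    rw [hK, hN9] at this
    omega
  have hr : Nat.card φ.range = 48 := by
    rw [← Nat.card_congr (e1.trans e2).toEquiv, hq]
  have htop : φ.range = ⊤ := by
    rw [← Subgroup.card_eq_iff_eq_top, hr, card_GL_two_three]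
  have e3 : φ.range ≃* GL (Fin 2) (ZMod 3) := by
    rw [htop]
    exact Subgroup.topEquiv
  exact ⟨(e1.trans e2).trans e3⟩

end

end Cfsg.Agent.Lib.H28
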