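/-
Phase 2 of the S5630 project (helper28), task P2-E8, part b: `F^3` as a one-dimensional `K`-space and the
`F_2`-frame of Frobenius-fixed vectors.
-/
import Cfsg.Agent.Lib.H28.AschP2E8a

set_option autoImplicit false

namespace Cfsg.Agent.Lib.H28.AschP2E8

open Cfsg Cfsg.Geo Module
open scoped MatrixGroups Matrix

variable {F : Type*} [Field F] [Fintype F] {K : Subalgebra F (Matrix (Fin 3) (Fin 3) F)} {v : Fin 3 → F}

omit [Fintype F] in
theorem mulVec_eq_zero (hK : IsFieldSubalgebra 3 K) (hv : v ≠ 0) {x : Matrix (Fin 3) (Fin 3) F} (hx : x ∈ K)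
    (h : x *ᵥ v = 0) : x = 0 := by
  by_contra hx0
  obtain ⟨y, hy, hxy⟩ := hK.inv x hx hx0
  have h1 : y * x = 1 := by rw [← hK.comm x hx y hy, hxy]
  apply hv
  calc v = (y * x) *ᵥ v := by rw [h1, Matrix.one_mulVec]
    _ = y *ᵥ (x *ᵥ v) := by rw [Matrix.mulVec_mulVec]
    _ = 0 := by rw [h, Matrix.mulVec_zero]

omit [Fintype F] in
theorem mulVec_inj (hK : IsFieldSubalgebra 3 K) (hv : v ≠ 0) {x y : Matrix (Fin 3) (Fin 3) F} (hx : x ∈ K)
    (hy : y ∈ K) (h : x *ᵥ v = y *ᵥ v) : x = y := by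
  have := mulVec_eq_zero hK hv (K.sub_mem hx hy) (by rw [Matrix.sub_mulVec, h, sub_self])
  exact sub_eq_zero.1 this

/-- The orbit map `K → F^3`, `x ↦ x v`. -/
def orbitMap (K : Subalgebra F (Matrix (Fin 3) (Fin 3) F)) (v : Fin 3 → F) : K →ₗ[F] (Fin 3 → F) where
  toFun x := (x : Matrix (Fin 3) (Fin 3) F) *ᵥ v
  map_add' x y := by simp [Matrix.add_mulVec]
  map_smul' c x := by simp [Matrix.smul_mulVec]

omit [Fintype F] in
theorem exists_mulVec_eq (hK : IsFieldSubalgebra 3 K) (hv : v ≠ 0) (w : Fin 3 → F) :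
    ∃ x ∈ K, x *ᵥ v = w := by
  haveI : Module.Finite F K := Module.finite_of_finrank_pos (by rw [hK.finrank_eq]; norm_num)
  have hinj : Function.Injective (orbitMap K v) := by
    intro x y hxy
    exact Subtype.ext (mulVec_inj hK hv x.2 y.2 hxy)
  have hfin : finrank F K = finrank F (Fin 3 → F) := by rw [hK.finrank_eq]; simp
  obtain ⟨x, hx⟩ := (LinearMap.injective_iff_surjective_of_finrank_eq_finrank hfin).1 hinj w
  exact ⟨x.1, x.2, hx⟩

/-- A frame: three Frobenius-fixed elements of `K` whose images of `v` form a basis of `F^3`. -/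
structure Frame (K : Subalgebra F (Matrix (Fin 3) (Fin 3) F)) (v : Fin 3 → F) where
  e : Fin 3 → Matrix (Fin 3) (Fin 3) F
  mem : ∀ i, e i ∈ K
  fix : ∀ i, e i ^ 8 = e i
  B : Basis (Fin 3) F (Fin 3 → F)
  hB : ∀ i, B i = e i *ᵥ v

theorem exists_frame (hq : Fintype.card F = 4) (hK : IsFieldSubalgebra 3 K) (hv : v ≠ 0) :
    Nonempty (Frame K v) := by
  classical
  obtain ⟨ω, -, -, hω⟩ := exists_omega hq
  set S : Set (Fin 3 → F) := {w | ∃ e ∈ K, e ^ 8 = e ∧ w = e *ᵥ v} with hS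
  have hspan : Submodule.span F S = ⊤ := by
    rw [eq_top_iff]
    intro w _
    obtain ⟨x, hx, rfl⟩ := exists_mulVec_eq hK hv w
    obtain ⟨a, b, ha, ha8, hb, hb8, rfl⟩ := exists_decomp hq hK hω hx
    rw [Matrix.add_mulVec, Matrix.smul_mulVec]
    exact Submodule.add_mem _ (Submodule.subset_span ⟨a, ha, ha8, rfl⟩)
      (Submodule.smul_mem _ _ (Submodule.subset_span ⟨b, hb, hb8, rfl⟩))
  obtain ⟨f, hfS, -, hli⟩ := Submodule.exists_fun_fin_finrank_span_eq F S
  have hfin : finrank F (Submodule.span F S) = 3 := by rw [hspan]; simp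
  set f' : Fin 3 → (Fin 3 → F) := fun i => f (Fin.cast hfin.symm i) with hf'
  have hli' : LinearIndependent F f' := hli.comp _ (Fin.cast_injective _)
  have hmem : ∀ i, ∃ e ∈ K, e ^ 8 = e ∧ f' i = e *ᵥ v := fun i => hfS _
  choose e he he8 hev using hmem
  exact ⟨⟨e, he, he8, basisOfLinearIndependentOfCardEqFinrank hli' (by simp),
    fun i => by rw [coe_basisOfLinearIndependentOfCardEqFinrank]; exact hev i⟩⟩

end Cfsg.Agent.Lib.H28.AschP2E8
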