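/-
Phase 2 of the S5630 project (helper28), task P2-E8, part c: coordinates of Frobenius-fixed vectors in a frame
lie in the prime field.
-/
import Cfsg.Agent.Lib.H28.AschP2E8b

set_option autoImplicit false

namespace Cfsg.Agent.Lib.H28.AschP2E8

open Cfsg Cfsg.Geo Module
open scoped MatrixGroups Matrix

variable {F : Type*} [Field F] [Fintype F] {K : Subalgebra F (Matrix (Fin 3) (Fin 3) F)} {v : Fin 3 → F}

theorem coord_sq (hq : Fintype.card F = 4) (hK : IsFieldSubalgebra 3 K) (hv : v ≠ 0) (fr : Frame K v)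
    {y : Matrix (Fin 3) (Fin 3) F} (hy : y ∈ K) (hy8 : y ^ 8 = y) (i : Fin 3) :
    (fr.B.repr (y *ᵥ v) i) ^ 2 = fr.B.repr (y *ᵥ v) i := by
  set c := fr.B.repr (y *ᵥ v) with hc
  have h1 : y *ᵥ v = ∑ i, c i • fr.B i := (fr.B.sum_repr _).symm
  have h2 : y *ᵥ v = (∑ i, c i • fr.e i) *ᵥ v := by
    rw [h1, Matrix.sum_mulVec]
    refine Finset.sum_congr rfl fun i _ => ?_
    rw [fr.hB, Matrix.smul_mulVec]
  have hz : ∑ i, c i • fr.e i ∈ K := K.sum_mem fun i _ => K.smul_mem (fr.mem i) _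
  have h3 : y = ∑ i, c i • fr.e i := mulVec_inj hK hv hy hz h2
  have h4 : (∑ i, c i • fr.e i) ^ 8 = ∑ i, c i ^ 2 • fr.e i := by
    rw [Fin.sum_univ_three, Fin.sum_univ_three,
      frob_add hq hK (K.add_mem (K.smul_mem (fr.mem 0) _) (K.smul_mem (fr.mem 1) _)) (K.smul_mem (fr.mem 2) _),
      frob_add hq hK (K.smul_mem (fr.mem 0) _) (K.smul_mem (fr.mem 1) _),
      frob_smul hq, frob_smul hq, frob_smul hq, fr.fix, fr.fix, fr.fix]
  have h5 : ∑ i, (c i ^ 2 - c i) • fr.B i = 0 := by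
    have h6 : (∑ i, c i ^ 2 • fr.e i) *ᵥ v = (∑ i, c i • fr.e i) *ᵥ v := by
      rw [← h4, ← h3, hy8]
    rw [Matrix.sum_mulVec, Matrix.sum_mulVec] at h6
    have h7 : ∀ i, (c i ^ 2 - c i) • fr.B i = (c i ^ 2 • fr.e i) *ᵥ v - (c i • fr.e i) *ᵥ v := by
      intro i
      rw [fr.hB, Matrix.smul_mulVec, Matrix.smul_mulVec, sub_smul]
    rw [Finset.sum_congr rfl fun i _ => h7 i, Finset.sum_sub_distrib, h6, sub_self]
  have := Fintype.linearIndependent_iff.1 fr.B.linearIndependent _ h5 i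
  exact sub_eq_zero.1 this

/-- The matrix whose columns are the frame vectors. -/
noncomputable def Frame.P (fr : Frame K v) : Matrix (Fin 3) (Fin 3) F :=
  (Pi.basisFun F (Fin 3)).toMatrix fr.B

/-- Its inverse. -/
noncomputable def Frame.Pinv (fr : Frame K v) : Matrix (Fin 3) (Fin 3) F :=
  fr.B.toMatrix (Pi.basisFun F (Fin 3))

omit [Fintype F] in
theorem Frame.P_mul_Pinv (fr : Frame K v) : fr.P * fr.Pinv = 1 :=
  Basis.toMatrix_mul_toMatrix_flip _ _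

omit [Fintype F] in
theorem Frame.Pinv_mul_P (fr : Frame K v) : fr.Pinv * fr.P = 1 :=
  Basis.toMatrix_mul_toMatrix_flip _ _

omit [Fintype F] in
theorem Frame.P_mulVec_single (fr : Frame K v) (j : Fin 3) : fr.P *ᵥ Pi.single j 1 = fr.B j := by
  ext i
  simp [Frame.P, Basis.toMatrix_apply]

omit [Fintype F] in
theorem Frame.Pinv_mulVec (fr : Frame K v) (w : Fin 3 → F) : fr.Pinv *ᵥ w = fr.B.repr w := by
  have := Basis.toMatrix_mulVec_repr (Pi.basisFun F (Fin 3)) fr.B w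
  have h : ((Pi.basisFun F (Fin 3)).repr w : Fin 3 → F) = w := by
    ext i
    simp
  rw [h] at this
  exact this

omit [Fintype F] in
theorem Frame.conj_apply (fr : Frame K v) (m : Matrix (Fin 3) (Fin 3) F) (i j : Fin 3) :
    (fr.Pinv * m * fr.P) i j = fr.B.repr (m *ᵥ fr.B j) i := by
  have h1 : (fr.Pinv * m * fr.P) *ᵥ Pi.single j 1 = fr.B.repr (m *ᵥ fr.B j) := by
    rw [← Matrix.mulVec_mulVec, ← Matrix.mulVec_mulVec, fr.P_mulVec_single, fr.Pinv_mulVec]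
  have h2 := congrFun h1 i
  rw [Matrix.mulVec_single_one] at h2
  exact h2

theorem Frame.conj_entry_sq (hq : Fintype.card F = 4) (hK : IsFieldSubalgebra 3 K) (hv : v ≠ 0)
    (fr : Frame K v) (m : Matrix (Fin 3) (Fin 3) F)
    (hm : ∀ j, ∃ y ∈ K, y ^ 8 = y ∧ m *ᵥ fr.B j = y *ᵥ v) (i j : Fin 3) :
    ((fr.Pinv * m * fr.P) i j) ^ 2 = (fr.Pinv * m * fr.P) i j := by
  obtain ⟨y, hy, hy8, hmy⟩ := hm j
  rw [fr.conj_apply, hmy]
  exact coord_sq hq hK hv fr hy hy8 i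

end Cfsg.Agent.Lib.H28.AschP2E8
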