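/-
Phase 2 of the S5630 project (helper28), task P2-E8, part d: an element of `K` of determinant 1 has order
dividing 21.
-/
import Cfsg.Agent.Lib.H28.AschP2E8a

set_option autoImplicit false

namespace Cfsg.Agent.Lib.H28.AschP2E8

open Cfsg Cfsg.Geo Module Polynomial
open scoped MatrixGroups Matrix

variable {F : Type*} [Field F] [Fintype F] {K : Subalgebra F (Matrix (Fin 3) (Fin 3) F)}

/-- `K` contains a non-scalar matrix. -/
theorem exists_not_scalar (hK : IsFieldSubalgebra 3 K) :
    ∃ x ∈ K, ∀ c : F, x ≠ Matrix.scalar (Fin 3) c := by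
  by_contra hcon
  push Not at hcon
  have hle : Subalgebra.toSubmodule K ≤ Submodule.span F {(1 : Matrix (Fin 3) (Fin 3) F)} := by
    intro x hx
    obtain ⟨c, rfl⟩ := hcon x hx
    rw [Submodule.mem_span_singleton]
    exact ⟨c, by rw [Matrix.scalar_apply, ← Matrix.smul_one_eq_diagonal]⟩
  have h1 := Submodule.finrank_mono hle
  have h2 : finrank F (Subalgebra.toSubmodule K) = 3 := hK.finrank_eq
  have h3 : finrank F (Submodule.span F {(1 : Matrix (Fin 3) (Fin 3) F)}) = 1 :=
    finrank_span_singleton one_ne_zero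
  omega

/-- The determinant is not identically 1 on the non-zero elements of `K`. -/
theorem exists_det_ne_one (hq : Fintype.card F = 4) (hK : IsFieldSubalgebra 3 K) :
    ∃ x ∈ K, x ≠ 0 ∧ x.det ≠ 1 := by
  by_contra hcon
  push Not at hcon
  obtain ⟨x₀, hx₀, hns⟩ := exists_not_scalar hK
  set p : F[X] := x₀.charpoly - 1 with hp
  have heval : ∀ c ∈ (Finset.univ : Finset F), p.eval c = 0 := by
    intro c _
    rw [hp, eval_sub, eval_one, Matrix.eval_charpoly, sub_eq_zero]
    apply hcon
    · have : Matrix.scalar (Fin 3) c ∈ K := by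
        rw [Matrix.scalar_apply, ← Matrix.smul_one_eq_diagonal]
        exact K.smul_mem K.one_mem c
      exact K.sub_mem this hx₀
    · intro h
      exact hns c (sub_eq_zero.1 h).symm
  have hdeg : x₀.charpoly.natDegree = 3 := by
    rw [Matrix.charpoly_natDegree_eq_dim]; simp
  have hcard : p.natDegree < (Finset.univ : Finset F).card := by
    rw [Finset.card_univ, hq]
    have h1 : p.natDegree ≤ 3 := by
      rw [hp]
      refine (natDegree_sub_le _ _).trans ?_
      rw [hdeg, natDegree_one]
      simp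
    omega
  have hp0 := eq_zero_of_natDegree_lt_card_of_eval_eq_zero' p Finset.univ heval hcard
  rw [hp, sub_eq_zero] at hp0
  rw [hp0, natDegree_one] at hdeg
  omega

theorem card_units_K (hq : Fintype.card F = 4) (hK : IsFieldSubalgebra 3 K) : Nat.card (↥K)ˣ = 63 := by
  letI := fieldK hK
  have h := Nat.card_units K
  rw [natCard_K hq hK] at h
  exact h

/-- The unit of `K` attached to a non-zero element. -/
noncomputable def unitOf (hK : IsFieldSubalgebra 3 K) {x : Matrix (Fin 3) (Fin 3) F} (hx : x ∈ K)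
    (hx0 : x ≠ 0) : (↥K)ˣ :=
  ⟨⟨x, hx⟩, ⟨Classical.choose (hK.inv x hx hx0), (Classical.choose_spec (hK.inv x hx hx0)).1⟩,
    Subtype.ext (Classical.choose_spec (hK.inv x hx hx0)).2,
    Subtype.ext (by
      have h := Classical.choose_spec (hK.inv x hx hx0)
      show Classical.choose (hK.inv x hx hx0) * x = 1
      rw [← hK.comm x hx _ h.1, h.2])⟩

/-- The determinant as a homomorphism on the units of `K`. -/
noncomputable def detHom (K : Subalgebra F (Matrix (Fin 3) (Fin 3) F)) : (↥K)ˣ →* Fˣ :=
  Units.map ((Matrix.detMonoidHom (n := Fin 3) (R := F)).comp (K.val : ↥K →* Matrix (Fin 3) (Fin 3) F))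

theorem detHom_apply (K : Subalgebra F (Matrix (Fin 3) (Fin 3) F)) (u : (↥K)ˣ) :
    ((detHom K u : Fˣ) : F) = ((u : ↥K) : Matrix (Fin 3) (Fin 3) F).det := rfl

theorem pow_21_eq_one (hq : Fintype.card F = 4) (hK : IsFieldSubalgebra 3 K)
    {k : Matrix (Fin 3) (Fin 3) F} (hk : k ∈ K) (hk0 : k ≠ 0) (hdet : k.det = 1) : k ^ 21 = 1 := by
  classical
  haveI : Finite (↥K)ˣ := Nat.finite_of_card_ne_zero (by rw [card_units_K hq hK]; norm_num)
  have hcardF : Nat.card Fˣ = 3 := by
    rw [Nat.card_units, Nat.card_eq_fintype_card, hq]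
  haveI : Fact (Nat.card Fˣ).Prime := ⟨by rw [hcardF]; norm_num⟩
  -- the range of `detHom` is everything
  have hrange : (detHom K).range = ⊤ := by
    rcases (detHom K).range.eq_bot_or_eq_top_of_prime_card with h | h
    · exfalso
      obtain ⟨x, hx, hx0, hxdet⟩ := exists_det_ne_one hq hK
      have : detHom K (unitOf hK hx hx0) ∈ (detHom K).range := ⟨_, rfl⟩
      rw [h, Subgroup.mem_bot] at this
      apply hxdet
      have h2 := congrArg (fun u : Fˣ => (u : F)) this
      simpa [detHom_apply, unitOf] using h2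
    · exact h
  have hker : Nat.card (detHom K).ker = 21 := by
    have h1 := (detHom K).ker.card_mul_index
    rw [Subgroup.index_ker, hrange, Subgroup.card_top, hcardF, card_units_K hq hK] at h1
    omega
  have hmem : unitOf hK hk hk0 ∈ (detHom K).ker := by
    rw [MonoidHom.mem_ker]
    apply Units.ext
    rw [detHom_apply]
    simpa [unitOf] using hdet
  have h21 : (⟨unitOf hK hk hk0, hmem⟩ : (detHom K).ker) ^ 21 = 1 := by
    rw [← hker]
    exact pow_card_eq_one'
  have h3 := congrArg (fun u : (detHom K).ker => (((u : (↥K)ˣ) : ↥K) : Matrix (Fin 3) (Fin 3) F)) h21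
  simpa [unitOf] using h3

end Cfsg.Agent.Lib.H28.AschP2E8
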