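/-
Phase 2 of the S5630 project (helper28), task P2-E8: for `|F| = 4` the normaliser in `SL_3(F)` of a field
`K ≅ F_64` lies in a subfield group `(GL_3(2) · Z)^P`.
-/
import Cfsg.Agent.Lib.H28.AschP2E8c
import Cfsg.Agent.Lib.H28.AschP2E8d
import Cfsg.Agent.Lib.H28.AschP2E8e
import Cfsg.Agent.Lib.H28.GLBasic

set_option autoImplicit false

namespace Cfsg.Agent.Lib.H28.AschP2E8

open Cfsg Cfsg.Geo Module
open scoped MatrixGroups Matrix

variable {F : Type*} [Field F] [Fintype F] {K : Subalgebra F (Matrix (Fin 3) (Fin 3) F)} {v : Fin 3 → F}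

/-- The key step: an element of `N(K) ∩ SL` is a scalar times a matrix with entries in the prime field,
in the coordinates of a frame. -/
theorem exists_scalar_conj (hq : Fintype.card F = 4) (hK : IsFieldSubalgebra 3 K) (hv : v ≠ 0)
    (fr : Frame K v) (g : GL (Fin 3) F) (hgK : g ∈ subalgebraNormalizer K)
    (hdet : (g : Matrix (Fin 3) (Fin 3) F).det = 1) :
    ∃ c : F, c ≠ 0 ∧ ∀ i j,
      ((fr.Pinv * (c⁻¹ • (g : Matrix (Fin 3) (Fin 3) F)) * fr.P) i j) ^ 2 =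
        (fr.Pinv * (c⁻¹ • (g : Matrix (Fin 3) (Fin 3) F)) * fr.P) i j := by
  set gm : Matrix (Fin 3) (Fin 3) F := (g : Matrix (Fin 3) (Fin 3) F) with hgm
  set gi : Matrix (Fin 3) (Fin 3) F := ((g⁻¹ : GL (Fin 3) F) : Matrix (Fin 3) (Fin 3) F) with hgi
  have hgig : gi * gm = 1 := by rw [hgi, hgm, ← Units.val_mul, inv_mul_cancel, Units.val_one]
  have hconj : ∀ x ∈ K, gm * x * gi ∈ K := fun x hx => (hgK x).1 hx
  have hconj8 : ∀ x : Matrix (Fin 3) (Fin 3) F, (gm * x * gi) ^ 8 = gm * x ^ 8 * gi := fun x =>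
    Units.conj_pow g x 8
  -- `g v = k v`
  obtain ⟨k, hk, hkv⟩ := exists_mulVec_eq hK hv (gm *ᵥ v)
  have hk0 : k ≠ 0 := by
    rintro rfl
    rw [Matrix.zero_mulVec] at hkv
    apply hv
    calc v = (gi * gm) *ᵥ v := by rw [hgig, Matrix.one_mulVec]
      _ = gi *ᵥ (gm *ᵥ v) := by rw [Matrix.mulVec_mulVec]
      _ = 0 := by rw [← hkv, Matrix.mulVec_zero]
  obtain ⟨k', hk', hkk'⟩ := hK.inv k hk hk0
  have hk'k : k' * k = 1 := by rw [← hK.comm k hk k' hk', hkk']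
  -- the action of `g` on `K v`
  have hact : ∀ e : Matrix (Fin 3) (Fin 3) F, gm *ᵥ (e *ᵥ v) = ((gm * e * gi) * k) *ᵥ v := by
    intro e
    calc gm *ᵥ (e *ᵥ v) = (gm * e * (gi * gm)) *ᵥ v := by
          rw [hgig, mul_one, Matrix.mulVec_mulVec]
      _ = (gm * e * gi) *ᵥ (gm *ᵥ v) := by rw [← mul_assoc, Matrix.mulVec_mulVec]
      _ = ((gm * e * gi) * k) *ᵥ v := by rw [← hkv, Matrix.mulVec_mulVec]
  -- `h = k⁻¹ g` has coordinates in the prime field, hence determinant one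
  have hdetk : k.det = 1 := by
    have hent := fr.conj_entry_sq hq hK hv (k' * gm) (by
      intro j
      refine ⟨gm * fr.e j * gi, hconj _ (fr.mem j), by rw [hconj8, fr.fix], ?_⟩
      rw [fr.hB, ← Matrix.mulVec_mulVec, hact, Matrix.mulVec_mulVec]
      congr 1
      have hc := hK.comm k' hk' (gm * fr.e j * gi) (hconj _ (fr.mem j))
      rw [← mul_assoc, hc, mul_assoc, hk'k, mul_one])
    have hsq := det_sq_of_entries hq _ hent
    have hdetA : (fr.Pinv * (k' * gm) * fr.P).det = k'.det := by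
      rw [Matrix.det_mul, Matrix.det_mul, Matrix.det_mul, hdet, mul_one, mul_comm, ← mul_assoc,
        ← Matrix.det_mul, fr.P_mul_Pinv, Matrix.det_one, one_mul]
    rw [hdetA] at hsq
    have hkk : k'.det * k.det = 1 := by rw [← Matrix.det_mul, hk'k, Matrix.det_one]
    have hk'0 : k'.det ≠ 0 := left_ne_zero_of_mul_eq_one hkk
    have hk'1 : k'.det = 1 := by
      rcases eq_zero_or_one_of_sq hsq with h | h
      · exact absurd h hk'0
      · exact h
    rw [hk'1, one_mul] at hkk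
    exact hkk
  -- so `k^7` is a scalar `c`
  have hk21 := pow_21_eq_one hq hK hk hk0 hdetk
  obtain ⟨c, hc0, hc⟩ := scalar_of_cube hq hK (K.pow_mem hk 7) (by rw [← pow_mul]; exact hk21)
  have hc3 : c ^ 3 = 1 := pow_three hq hc0
  have hk8 : k ^ 8 = c • k := by
    rw [pow_succ, hc, smul_mul_assoc, one_mul]
  refine ⟨c, hc0, fr.conj_entry_sq hq hK hv (c⁻¹ • gm) ?_⟩
  intro j
  have hmem : gm * fr.e j * gi * k ∈ K := K.mul_mem (hconj _ (fr.mem j)) hk
  refine ⟨c⁻¹ • (gm * fr.e j * gi * k), K.smul_mem hmem _, ?_, ?_⟩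
  · rw [frob_smul hq, frob_mul hK (hconj _ (fr.mem j)) hk, hconj8, fr.fix, hk8, mul_smul_comm, smul_smul]
    congr 1
    have hci : c⁻¹ ^ 3 = 1 := by rw [inv_pow, hc3, inv_one]
    calc c⁻¹ ^ 2 * c = c⁻¹ ^ 3 * c ^ 2 := by
          field_simp
      _ = c⁻¹ := by
          rw [hci, one_mul]
          have : c ^ 2 * c = 1 := by rw [← pow_succ]; exact hc3
          exact (eq_inv_of_mul_eq_one_left this)
  · rw [fr.hB, Matrix.smul_mulVec, hact, Matrix.smul_mulVec]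

end Cfsg.Agent.Lib.H28.AschP2E8

namespace Cfsg.Agent.Lib.H28.AschP2

open Cfsg Cfsg.Geo Module Cfsg.Agent.Lib.H28.AschP2E8
open scoped MatrixGroups Matrix

variable {F : Type*} [Field F] [Fintype F]

/-- **P2-E8** (n = 3, `|F| = 4`): `N(K) ∩ SL_3(4)`, `K ≅ F_64`, lies in a subfield group `(GL_3(2) · Z)^P`. -/
theorem c3_n3_q4 (K : Subalgebra F (Matrix (Fin 3) (Fin 3) F)) (hK : IsFieldSubalgebra 3 K)
    (hq : Fintype.card F = 4) :
    ∃ (F₀ : Subfield F) (P : GL (Fin 3) F), Fintype.card F = Nat.card F₀ ^ 2 ∧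
      subalgebraNormalizer K ⊓ specialLinear (Fin 3) F ≤ subfieldSubgroup F₀ P := by
  classical
  set v : Fin 3 → F := Pi.single 0 1 with hvdef
  have hv : v ≠ 0 := by
    intro h
    have := congrFun h 0
    simp [hvdef] at this
  obtain ⟨fr⟩ := exists_frame hq hK hv
  set F₀ := primeSub hq with hF₀
  set P : GL (Fin 3) F := ⟨fr.P, fr.Pinv, fr.P_mul_Pinv, fr.Pinv_mul_P⟩ with hP
  refine ⟨F₀, P, by rw [natCard_primeSub hq, hq]; norm_num, ?_⟩
  intro g hg
  obtain ⟨hgK, hgS⟩ := hg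
  have hdet : (g : Matrix (Fin 3) (Fin 3) F).det = 1 := (Cfsg.Agent.Lib.H28.mem_specialLinear_iff g).1 hgS
  obtain ⟨c, hc0, hent⟩ := exists_scalar_conj hq hK hv fr g hgK hdet
  set A : Matrix (Fin 3) (Fin 3) F := fr.Pinv * (c⁻¹ • (g : Matrix (Fin 3) (Fin 3) F)) * fr.P with hA
  set A₀ : Matrix (Fin 3) (Fin 3) F₀ := Matrix.of fun i j => ⟨A i j, hent i j⟩ with hA₀
  have hA₀map : A₀.map F₀.subtype = A := by
    ext i j
    simp [hA₀]
  have hAdet : A.det ≠ 0 := by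
    rw [hA, Matrix.det_mul, Matrix.det_mul, Matrix.det_smul, hdet, mul_one]
    have h1 : fr.Pinv.det * fr.P.det = 1 := by rw [← Matrix.det_mul, fr.Pinv_mul_P, Matrix.det_one]
    have h2 : fr.Pinv.det * c⁻¹ ^ Fintype.card (Fin 3) * fr.P.det
        = c⁻¹ ^ Fintype.card (Fin 3) * (fr.Pinv.det * fr.P.det) := by ring
    rw [h2, h1, mul_one]
    exact pow_ne_zero _ (inv_ne_zero hc0)
  have hdet₀ : A₀.det ≠ 0 := by
    intro h0
    apply hAdet
    have h5 := (RingHom.map_det F₀.subtype A₀).symm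
    rw [h0, map_zero, RingHom.mapMatrix_apply, hA₀map] at h5
    exact h5
  let g₀ : GL (Fin 3) F₀ := Matrix.GeneralLinearGroup.mkOfDetNeZero A₀ hdet₀
  let sc : GL (Fin 3) F :=
    Units.map (Matrix.scalar (Fin 3) : F →+* Matrix (Fin 3) (Fin 3) F).toMonoidHom (Units.mk0 c hc0)
  have hsc : sc ∈ scalars (Fin 3) F := ⟨_, rfl⟩
  have hg' : Matrix.GeneralLinearGroup.map F₀.subtype g₀ * sc = P⁻¹ * g * P := by
    apply Units.ext
    rw [Units.val_mul, Units.val_mul, Units.val_mul]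
    change A₀.map F₀.subtype * Matrix.scalar (Fin 3) c = fr.Pinv * (g : Matrix (Fin 3) (Fin 3) F) * fr.P
    rw [hA₀map, hA, Matrix.scalar_apply, ← Matrix.smul_one_eq_diagonal, Matrix.mul_smul, Matrix.mul_one,
      Matrix.mul_smul, Matrix.smul_mul, smul_smul, mul_inv_cancel₀ hc0, one_smul]
  unfold subfieldSubgroup
  rw [Subgroup.mem_map]
  refine ⟨P⁻¹ * g * P, ?_, ?_⟩
  · rw [← hg']
    exact Subgroup.mul_mem_sup (MonoidHom.mem_range.mpr ⟨g₀, rfl⟩) hsc
  · simp only [MulEquiv.coe_toMonoidHom, MulAut.conj_apply]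
    group

end Cfsg.Agent.Lib.H28.AschP2
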