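/-
Phase 2 of the S5630 project (helper28): generic reduction for a maximal subgroup `H` of `SL_n(F)`:
against the statement of `main_strong`, `H` is in normal form `NF n F H` or in the residual class.
-/
import Cfsg.Agent.Lib.Lead.AschDefs2
import Cfsg.Agent.Lib.H28.GLBasic
import Cfsg.Agent.Lib.H5.AschP2B5
import Cfsg.Agent.Lib.H5.AschP2B3F2
import Cfsg.Agent.Lib.H20.AschP2B4B7
import Cfsg.Agent.Lib.H2.AschP2B2F1
import Cfsg.Agent.Lib.H3.AschP2F4
import Cfsg.Agent.Lib.H3.AschP2B6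
import Cfsg.Agent.Lib.H22.AschP2B8u
import Cfsg.Agent.Lib.H22.AschP2B8q
import Cfsg.Agent.Lib.H20.AschP2E1
import Cfsg.Agent.Lib.H20.AschP2E2
import Cfsg.Agent.Lib.H2.AschP2E5
import Cfsg.Agent.Lib.H15.AschP2E7

set_option autoImplicit false

namespace Cfsg.Agent.Lib.H28.AschP2

open Cfsg Cfsg.Geo Cfsg.Agent.Lib.Lead.Asch
open Cfsg.Agent.Lib.H5.AschP2
open Cfsg.Agent.Lib.H20.AschP2 Cfsg.Agent.Lib.H2.AschP2 Cfsg.Agent.Lib.H3.AschP2
open Cfsg.Agent.Lib.H22.AschP2 Cfsg.Agent.Lib.H15.AschP2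
open scoped MatrixGroups Matrix Kronecker

variable {F : Type*} [Field F] [Fintype F] {n : ℕ}

/-- The statement of `main_strong` in dimension `n`. -/
def MainStrong (n : ℕ) (F : Type*) [Field F] [Fintype F] : Prop :=
  ∀ H : Subgroup (GL (Fin n) F), STame H ∨ InLinearResidualClass H

/-- **P2-B1**: `SL_n` does not stabilise a proper non-zero subspace. -/
theorem not_sl_le_subspaceStabilizer (W : Submodule F (Fin n → F)) (h0 : W ≠ ⊥) (h1 : W ≠ ⊤) :
    ¬ specialLinear (Fin n) F ≤ subspaceStabilizer W := by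
  intro h
  exact (Cfsg.Agent.Lib.H28.stab_inf_sl_lt W h0 h1).ne (inf_eq_right.2 h)

/-! ## A. Generic assembly (helper28; PROVED from the statements above) -/

theorem eq_inf_of_maximal {G : Type*} [Group G] {K H M : Subgroup G} (hH : IsMaximalIn K H) (hHM : H ≤ M)
    (hM : ¬ K ≤ M) : H = M ⊓ K := by
  rcases hH.2 (M ⊓ K) (le_inf hHM hH.1.le) inf_le_right with h | h
  · exact h.symm
  · exact absurd (h ▸ inf_le_left) hM

/-- Normal form of a maximal subgroup of `SL_n(F)` which is not in the residual class (valid for all `n ≥ 3`;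
for `n = 3, 4` the rows need three more small-field containments). -/
def NF (n : ℕ) (F : Type*) [Field F] [Fintype F] (H : Subgroup (GL (Fin n) F)) : Prop :=
  (∃ W : Submodule F (Fin n → F), W ≠ ⊥ ∧ W ≠ ⊤ ∧ H = subspaceStabilizer W ⊓ specialLinear (Fin n) F) ∨
  (∃ (t m : ℕ) (D : Fin t → Submodule F (Fin n → F)), t * m = n ∧ (m = 1 → 5 ≤ Fintype.card F) ∧
      (m = 2 → 3 ≤ Fintype.card F) ∧ IsMDecomposition m D ∧
      H = decompositionStabilizer D ⊓ specialLinear (Fin n) F) ∨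
  (∃ (r : ℕ) (K : Subalgebra F (Matrix (Fin n) (Fin n) F)), r.Prime ∧ r ∣ n ∧ IsFieldSubalgebra r K ∧
      H = subalgebraNormalizer K ⊓ specialLinear (Fin n) F) ∨
  (∃ (n₁ n₂ : ℕ) (e : Fin n ≃ Fin n₁ × Fin n₂) (P : GL (Fin n) F), 2 ≤ n₁ ∧ n₁ < n₂ ∧ n₁ * n₂ = n ∧
      (n₁ = 2 → 3 ≤ Fintype.card F) ∧ H = tensorProductSubgroup n₁ n₂ e P ⊓ specialLinear (Fin n) F) ∨
  (∃ (F₀ : Subfield F) (r : ℕ) (P : GL (Fin n) F), r.Prime ∧ Fintype.card F = Nat.card F₀ ^ r ∧
      H = subfieldSubgroup F₀ P ⊓ specialLinear (Fin n) F) ∨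
  (∃ (r : ℕ) (R : Subgroup (GL (Fin n) F)) (k : ℕ), 1 ≤ k ∧ n = r ^ k ∧ IsLinearSymplecticTypeData r R ∧
      H = subgroupNormalizer R ⊓ specialLinear (Fin n) F) ∨
  (∃ (m t : ℕ) (e : Fin n ≃ (Fin t → Fin m)) (P : GL (Fin n) F), 3 ≤ m ∧ 2 ≤ t ∧ m ^ t = n ∧
      H = tensorWreathSubgroup m t e P ⊓ specialLinear (Fin n) F) ∨
  (∃ f : (Fin n → F) → (Fin n → F) → F, IsSymplecticForm f ∧ Even n ∧
      H = similarityGroup f ⊓ specialLinear (Fin n) F) ∨
  (∃ (σ : F ≃+* F) (f : (Fin n → F) → (Fin n → F) → F), IsUnitaryForm σ f ∧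
      H = similarityGroup f ⊓ specialLinear (Fin n) F) ∨
  (Odd (Fintype.card F) ∧ ∃ Q : (Fin n → F) → F, IsNondegenerateQuadraticForm Q ∧
      H = quadSimilarityGroup Q ⊓ specialLinear (Fin n) F)

theorem row_cases (hn : 3 ≤ n) (hmain : MainStrong n F) (H : Subgroup (GL (Fin n) F))
    (hH : IsMaximalIn (specialLinear (Fin n) F) H) : NF n F H ∨ InLinearResidualClass H := by
  rcases hmain H with hS | hres
  swap
  · exact Or.inr hres
  left
  have hq2 : 2 ≤ Fintype.card F := Fintype.one_lt_card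
  -- the three kinds of class-8 conclusions
  have c1 : ∀ W : Submodule F (Fin n → F), W ≠ ⊥ → W ≠ ⊤ → H ≤ subspaceStabilizer W → NF n F H := by
    intro W h0 h1 hle
    exact Or.inl ⟨W, h0, h1, eq_inf_of_maximal hH hle (not_sl_le_subspaceStabilizer W h0 h1)⟩
  have c3 : ∀ (r : ℕ) (K : Subalgebra F (Matrix (Fin n) (Fin n) F)), r.Prime → IsFieldSubalgebra r K →
      H ≤ subalgebraNormalizer K → NF n F H := by
    intro r K hr hK hle
    exact Or.inr (Or.inr (Or.inl ⟨r, K, hr, dvd_of_isFieldSubalgebra (by omega) r K hK, hK,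
      eq_inf_of_maximal hH hle (not_sl_le_subalgebraNormalizer hn r K hr hK)⟩))
  have c8s : ∀ f : (Fin n → F) → (Fin n → F) → F, IsSymplecticForm f → Even n → H ≤ similarityGroup f →
      NF n F H := by
    intro f hf he hle
    exact Or.inr (Or.inr (Or.inr (Or.inr (Or.inr (Or.inr (Or.inr (Or.inl ⟨f, hf, he,
      eq_inf_of_maximal hH hle (not_sl_le_similarityGroup_symplectic hn f hf)⟩)))))))
  have c8u : ∀ (σ : F ≃+* F) (f : (Fin n → F) → (Fin n → F) → F), IsUnitaryForm σ f → H ≤ similarityGroup f →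
      NF n F H := by
    intro σ f hf hle
    exact Or.inr (Or.inr (Or.inr (Or.inr (Or.inr (Or.inr (Or.inr (Or.inr (Or.inl ⟨σ, f, hf,
      eq_inf_of_maximal hH hle (not_sl_le_similarityGroup_unitary hn σ f hf)⟩))))))))
  have c8q : ∀ Q : (Fin n → F) → F, IsNondegenerateQuadraticForm Q → Odd (Fintype.card F) →
      H ≤ quadSimilarityGroup Q → NF n F H := by
    intro Q hQ ho hle
    exact Or.inr (Or.inr (Or.inr (Or.inr (Or.inr (Or.inr (Or.inr (Or.inr (Or.inr ⟨ho, Q, hQ,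
      eq_inf_of_maximal hH hle (not_sl_le_quadSimilarityGroup hn Q hQ)⟩))))))))
  rcases hS with h | h | h | h | h | h | h | h | h | h
  · -- C1
    obtain ⟨W, h0, h1, hle⟩ := h
    exact c1 W h0 h1 hle
  · -- C2
    obtain ⟨t, m, D, hD, hle⟩ := h
    have htm := mul_eq_of_isMDecomposition D hD
    by_cases hm1 : m = 1 ∧ Fintype.card F ≤ 4
    · obtain ⟨rfl, hq4⟩ := hm1
      have hq : Fintype.card F = 2 ∨ Fintype.card F = 3 ∨ Fintype.card F = 4 := by omega
      rcases hq with hq | hq | hq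
      · obtain ⟨W, h0, h1, hW⟩ := c2_m1_q2 D hD hq
        exact c1 W h0 h1 (hle.trans hW)
      · obtain ⟨Q, hQ, hle'⟩ := c2_m1_q3 D hD hq
        exact c8q Q hQ (by rw [hq]; decide) (hle.trans hle')
      · obtain ⟨σ, f, hf, hle'⟩ := c2_m1_q4 D hD hq
        exact c8u σ f hf (hle.trans hle')
    by_cases hm2 : m = 2 ∧ Fintype.card F = 2
    · obtain ⟨rfl, hq⟩ := hm2
      obtain ⟨f, hf, hle'⟩ := c2_m2_q2 D hD hq
      exact c8s f hf ⟨t, by omega⟩ (hle.trans hle')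
    exact Or.inr (Or.inl ⟨t, m, D, htm, fun h => by omega, fun h => by omega, hD,
      eq_inf_of_maximal hH hle (not_sl_le_decompositionStabilizer D hD)⟩)
  · -- C3
    obtain ⟨r, K, hr, hK, hle⟩ := h
    exact c3 r K hr hK hle
  · -- C4
    obtain ⟨n₁, n₂, e, P, h1, h2, hle⟩ := h
    have hcard : n₁ * n₂ = n := by
      have := Fintype.card_congr e
      simpa [Fintype.card_prod] using this.symm
    by_cases h2q : n₁ = 2 ∧ Fintype.card F = 2
    · obtain ⟨rfl, hq⟩ := h2q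
      obtain ⟨K, hK, hle'⟩ := c4_two_q2 n₂ e P hq (by omega)
      exact c3 2 K Nat.prime_two hK (hle.trans hle')
    exact Or.inr (Or.inr (Or.inr (Or.inl ⟨n₁, n₂, e, P, h1, h2, hcard, fun h => by omega,
      eq_inf_of_maximal hH hle (not_sl_le_tensorProductSubgroup n₁ n₂ e P h1 (by omega))⟩)))
  · -- C5
    obtain ⟨F₀, r, P, hr, hcard, hle⟩ := h
    exact Or.inr (Or.inr (Or.inr (Or.inr (Or.inl ⟨F₀, r, P, hr, hcard,
      eq_inf_of_maximal hH hle (not_sl_le_subfieldSubgroup (by omega) F₀ r P hr hcard)⟩))))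
  · -- C6
    obtain ⟨r, R, hR, hcl2, hle⟩ := h
    obtain ⟨k, hk, hnk⟩ := c6_dim hn r R hR hcl2
    exact Or.inr (Or.inr (Or.inr (Or.inr (Or.inr (Or.inl ⟨r, R, k, hk, hnk, hR,
      eq_inf_of_maximal hH hle (not_sl_le_subgroupNormalizer hn r R hR)⟩)))))
  · -- C7
    obtain ⟨m, t, e, P, h1, h2, hle⟩ := h
    have hcard : m ^ t = n := by
      have := Fintype.card_congr e
      simpa using this.symm
    exact Or.inr (Or.inr (Or.inr (Or.inr (Or.inr (Or.inr (Or.inl ⟨m, t, e, P, h1, h2, hcard,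
      eq_inf_of_maximal hH hle (not_sl_le_tensorWreathSubgroup m t e P (by omega) h2)⟩))))))
  · -- C8 symplectic
    obtain ⟨f, hf, he, _, hle⟩ := h
    exact c8s f hf he hle
  · -- C8 unitary
    obtain ⟨σ, f, hf, _, hle⟩ := h
    exact c8u σ f hf hle
  · -- C8 quadratic
    obtain ⟨Q, hQ, ho, _, hle⟩ := h
    exact c8q Q hQ ho hle

end Cfsg.Agent.Lib.H28.AschP2
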