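/-
Phase 2 of the S5630 project (helper28): the extra small-field cases of the rows n = 3 and n = 4.
-/
import Cfsg.Agent.Lib.H28.AschP2Gen
import Cfsg.Agent.Lib.H28.AschP2E8
import Cfsg.Agent.Lib.H17.AschP2E6
import Cfsg.Agent.Lib.H22.AschP2E4

set_option autoImplicit false

namespace Cfsg.Agent.Lib.H28.AschP2

open Cfsg Cfsg.Geo Cfsg.Agent.Lib.Lead.Asch
open Cfsg.Agent.Lib.H5.AschP2 Cfsg.Agent.Lib.H17.AschP2
open Cfsg.Agent.Lib.H22.AschP2
open scoped MatrixGroups Matrix Kronecker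

variable {F : Type*} [Field F] [Fintype F]

/-- n = 3, class 3, `|F| = 4`: the member is a subfield group. -/
theorem row3_c3 {H : Subgroup (GL (Fin 3) F)} (hH : IsMaximalIn (specialLinear (Fin 3) F) H)
    (K : Subalgebra F (Matrix (Fin 3) (Fin 3) F)) (hK : IsFieldSubalgebra 3 K)
    (hHe : H = subalgebraNormalizer K ⊓ specialLinear (Fin 3) F) (hq : Fintype.card F = 4) :
    ∃ (F₀ : Subfield F) (r : ℕ) (P : GL (Fin 3) F), r.Prime ∧ Fintype.card F = Nat.card F₀ ^ r ∧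
      H = subfieldSubgroup F₀ P ⊓ specialLinear (Fin 3) F := by
  obtain ⟨F₀, P, hcard, hle⟩ := c3_n3_q4 K hK hq
  refine ⟨F₀, 2, P, Nat.prime_two, hcard, ?_⟩
  exact eq_inf_of_maximal hH (hHe ▸ hle)
    (not_sl_le_subfieldSubgroup (by norm_num) F₀ 2 P Nat.prime_two hcard)

/-- n = 4, four lines, `|F| = 5`: impossible for a maximal subgroup. -/
theorem row4_m1 {H : Subgroup (GL (Fin 4) F)} (hH : IsMaximalIn (specialLinear (Fin 4) F) H)
    (D : Fin 4 → Submodule F (Fin 4 → F)) (hD : IsMDecomposition 1 D)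
    (hHe : H = decompositionStabilizer D ⊓ specialLinear (Fin 4) F) (hq : Fintype.card F = 5) : False :=
  Cfsg.Agent.Lib.H22.AschP2.c2_m1_q5_n4 D hD hq (hHe ▸ hH)

/-- n = 4, two blocks of dimension 2, `|F| = 3`: the member is a symplectic similarity group. -/
theorem row4_m2 {H : Subgroup (GL (Fin 4) F)} (hH : IsMaximalIn (specialLinear (Fin 4) F) H)
    (D : Fin 2 → Submodule F (Fin 4 → F)) (hD : IsMDecomposition 2 D)
    (hHe : H = decompositionStabilizer D ⊓ specialLinear (Fin 4) F) (hq : Fintype.card F = 3) :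
    ∃ f : (Fin 4 → F) → (Fin 4 → F) → F, IsSymplecticForm f ∧
      H = similarityGroup f ⊓ specialLinear (Fin 4) F := by
  obtain ⟨f, hf, hle⟩ := Cfsg.Agent.Lib.H17.AschP2.c2_m2_q3_n4 D hD hq
  exact ⟨f, hf, eq_inf_of_maximal hH (hHe ▸ hle)
    (not_sl_le_similarityGroup_symplectic (by norm_num) f hf)⟩

end Cfsg.Agent.Lib.H28.AschP2
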