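/-
Phase 2 of the S5630 project (helper28): the row n = 10 (S5838) against the statement of `main_strong`.
(generated by scratch/p2/genrows.py)
-/
import Cfsg.Agent.Lib.H28.AschP2Gen
import Cfsg.Agent.Lib.H28.AschP2Num

set_option autoImplicit false
set_option linter.unusedVariables false
set_option linter.unusedTactic false
set_option linter.unreachableTactic false

namespace Cfsg.Agent.Lib.H28.AschP2

open Cfsg Cfsg.Geo Cfsg.Agent.Lib.Lead.Asch
open scoped MatrixGroups Matrix Kronecker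

variable {F : Type*} [Field F] [Fintype F]

theorem row10 (hmain : MainStrong 10 F) (H : Subgroup (Matrix.GeneralLinearGroup (Fin 10) F)) (hH : Cfsg.Geo.IsMaximalIn (Cfsg.Geo.specialLinear (Fin 10) F) H) :
    (∃ W : Submodule F (Fin 10 → F), W ≠ ⊥ ∧ W ≠ ⊤ ∧ H = Cfsg.Geo.subspaceStabilizer W ⊓ Cfsg.Geo.specialLinear (Fin 10) F) ∨
    (5 ≤ Fintype.card F ∧ ∃ D : Fin 10 → Submodule F (Fin 10 → F), Cfsg.Geo.IsMDecomposition 1 D ∧ H = Cfsg.Geo.decompositionStabilizer D ⊓ Cfsg.Geo.specialLinear (Fin 10) F) ∨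
    (3 ≤ Fintype.card F ∧ ∃ D : Fin 5 → Submodule F (Fin 10 → F), Cfsg.Geo.IsMDecomposition 2 D ∧ H = Cfsg.Geo.decompositionStabilizer D ⊓ Cfsg.Geo.specialLinear (Fin 10) F) ∨
    (∃ D : Fin 2 → Submodule F (Fin 10 → F), Cfsg.Geo.IsMDecomposition 5 D ∧ H = Cfsg.Geo.decompositionStabilizer D ⊓ Cfsg.Geo.specialLinear (Fin 10) F) ∨
    (∃ K : Subalgebra F (Matrix (Fin 10) (Fin 10) F), Cfsg.Geo.IsFieldSubalgebra 5 K ∧ H = Cfsg.Geo.subalgebraNormalizer K ⊓ Cfsg.Geo.specialLinear (Fin 10) F) ∨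
    (∃ K : Subalgebra F (Matrix (Fin 10) (Fin 10) F), Cfsg.Geo.IsFieldSubalgebra 2 K ∧ H = Cfsg.Geo.subalgebraNormalizer K ⊓ Cfsg.Geo.specialLinear (Fin 10) F) ∨
    (3 ≤ Fintype.card F ∧ ∃ (e : Fin 10 ≃ Fin 2 × Fin 5) (P : Matrix.GeneralLinearGroup (Fin 10) F), H = Cfsg.Geo.tensorProductSubgroup 2 5 e P ⊓ Cfsg.Geo.specialLinear (Fin 10) F) ∨
    (∃ (F₀ : Subfield F) (r : ℕ) (P : Matrix.GeneralLinearGroup (Fin 10) F), r.Prime ∧ Fintype.card F = Nat.card F₀ ^ r ∧ H = Cfsg.Geo.subfieldSubgroup F₀ P ⊓ Cfsg.Geo.specialLinear (Fin 10) F) ∨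
    (Odd (Fintype.card F) ∧ ∃ Q : (Fin 10 → F) → F, Cfsg.Geo.IsNondegenerateQuadraticForm Q ∧ H = Cfsg.Geo.quadSimilarityGroup Q ⊓ Cfsg.Geo.specialLinear (Fin 10) F) ∨
    (∃ f : (Fin 10 → F) → (Fin 10 → F) → F, Cfsg.Geo.IsSymplecticForm f ∧ H = Cfsg.Geo.similarityGroup f ⊓ Cfsg.Geo.specialLinear (Fin 10) F) ∨
    (∃ (σ : F ≃+* F) (f : (Fin 10 → F) → (Fin 10 → F) → F), Cfsg.Geo.IsUnitaryForm σ f ∧ H = Cfsg.Geo.similarityGroup f ⊓ Cfsg.Geo.specialLinear (Fin 10) F) ∨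
    Cfsg.Geo.InLinearResidualClass H := by
  rcases row_cases (by norm_num) hmain H hH with hNF | hres
  swap
  · exact Or.inr (Or.inr (Or.inr (Or.inr (Or.inr (Or.inr (Or.inr (Or.inr (Or.inr (Or.inr (Or.inr (hres)))))))))))
  rcases hNF with h | h | h | h | h | h | h | h | h | h
  · -- C1
    exact Or.inl h
  · -- C2
    obtain ⟨t, m, D, htm, hq1, hq2, hD, hHe⟩ := h
    have ht := hD.two_le
    have hm := hD.pos
    have hmle : m ≤ 5 := by nlinarith [Nat.mul_le_mul_right m ht]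
    interval_cases m
    · obtain rfl : t = 10 := by omega
      exact Or.inr (Or.inl ⟨hq1 rfl, D, hD, hHe⟩)
    · obtain rfl : t = 5 := by omega
      exact Or.inr (Or.inr (Or.inl ⟨hq2 rfl, D, hD, hHe⟩))
    · exfalso; omega
    · exfalso; omega
    · obtain rfl : t = 2 := by omega
      exact Or.inr (Or.inr (Or.inr (Or.inl ⟨D, hD, hHe⟩)))
  · -- C3
    obtain ⟨r, K, hr, hdvd, hK, hHe⟩ := h
    have hrle : r ≤ 10 := Nat.le_of_dvd (by norm_num) hdvd
    have hr2 := hr.two_le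
    interval_cases r
    · exact Or.inr (Or.inr (Or.inr (Or.inr (Or.inr (Or.inl ⟨K, hK, hHe⟩)))))
    · exfalso; norm_num at hdvd
    · exfalso; norm_num at hr
    · exact Or.inr (Or.inr (Or.inr (Or.inr (Or.inl ⟨K, hK, hHe⟩))))
    · exfalso; norm_num at hr
    · exfalso; norm_num at hdvd
    · exfalso; norm_num at hr
    · exfalso; norm_num at hr
    · exfalso; norm_num at hr
  · -- C4
    obtain ⟨n₁, n₂, e, P, h1, h2, hprod, hq, hHe⟩ := h
    have hle : n₁ ≤ 10 := by nlinarith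
    interval_cases n₁
    · obtain rfl : n₂ = 5 := by omega
      exact Or.inr (Or.inr (Or.inr (Or.inr (Or.inr (Or.inr (Or.inl ⟨hq rfl, e, P, hHe⟩))))))
    · exfalso; omega
    · exfalso; omega
    · exfalso; omega
    · exfalso; omega
    · exfalso; omega
    · exfalso; omega
    · exfalso; omega
    · exfalso; omega
  · -- C5
    exact Or.inr (Or.inr (Or.inr (Or.inr (Or.inr (Or.inr (Or.inr (Or.inl h)))))))
  · -- C6
    obtain ⟨r, R, k, hk, hrk, hR, hHe⟩ := h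
    have hr := hR.symplecticType.prime
    have hr2 := hr.two_le
    have hk4 : k < 4 := by
      by_contra hcon
      have : 2 ^ 4 ≤ r ^ k :=
        (Nat.pow_le_pow_left hr2 4).trans (Nat.pow_le_pow_right (by omega) (by omega))
      omega
    have hrn : r ≤ 10 := by rw [hrk]; exact Nat.le_self_pow (by omega) r
    exfalso
    interval_cases k <;> interval_cases r <;> first | (norm_num at hrk; done) | (norm_num at hr; done)
  · -- C7
    obtain ⟨m, t, e, P, h1, h2, hpow, hHe⟩ := h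
    exfalso
    have h9 : 3 ^ 2 ≤ m ^ t := (Nat.pow_le_pow_left h1 2).trans (Nat.pow_le_pow_right (by omega) h2)
    have hm2 : m ^ 2 ≤ m ^ t := Nat.pow_le_pow_right (by omega) h2
    have hm4 : m < 4 := by nlinarith
    obtain rfl : m = 3 := by omega
    have ht3 : t < 3 := by
      by_contra hcon
      have : 3 ^ 3 ≤ 3 ^ t := Nat.pow_le_pow_right (by norm_num) (by omega)
      omega
    obtain rfl : t = 2 := by omega
    norm_num at hpow
  · -- C8 symplectic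
    obtain ⟨f, hf, he, hHe⟩ := h
    exact Or.inr (Or.inr (Or.inr (Or.inr (Or.inr (Or.inr (Or.inr (Or.inr (Or.inr (Or.inl ⟨f, hf, hHe⟩)))))))))
  · -- C8 unitary
    exact Or.inr (Or.inr (Or.inr (Or.inr (Or.inr (Or.inr (Or.inr (Or.inr (Or.inr (Or.inr (Or.inl h))))))))))
  · -- C8 quadratic
    exact Or.inr (Or.inr (Or.inr (Or.inr (Or.inr (Or.inr (Or.inr (Or.inr (Or.inl h))))))))

end Cfsg.Agent.Lib.H28.AschP2
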