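import Mathlib
import Cfsg.Agent.Lib.H8.BQ0

/-!
S4719 Part II piece (G4a) `card_le_pow_mul_card_inf_centralizer` (helper28): index of an intersection of
centralizers.  Also the two translations `|K| ≤ c |H|  ↔  |K : H| ≤ c`.
-/

set_option autoImplicit false

universe u

namespace Cfsg.Agent.Lib.H28.BQ

open Subgroup Cfsg.Agent.Lib.H8.BQ

theorem card_mul_relIndex_eq {Γ : Type u} [Group Γ] {H K : Subgroup Γ} (h : H ≤ K) :
    Nat.card H * H.relIndex K = Nat.card K := by
  have := relIndex_mul_relIndex (H := ⊥) (K := H) (L := K) bot_le h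
  rwa [relIndex_bot_left, relIndex_bot_left] at this

theorem relIndex_le_of_card_le {Γ : Type u} [Group Γ] [Finite Γ] {H K : Subgroup Γ} (h : H ≤ K)
    {c : ℕ} (hc : Nat.card K ≤ c * Nat.card H) : H.relIndex K ≤ c := by
  have h1 := card_mul_relIndex_eq h
  have hpos : 0 < Nat.card H := Nat.card_pos
  by_contra hlt
  push Not at hlt
  nlinarith

theorem card_le_of_relIndex_le {Γ : Type u} [Group Γ] {H K : Subgroup Γ} (h : H ≤ K)
    {c : ℕ} (hc : H.relIndex K ≤ c) : Nat.card K ≤ c * Nat.card H := by
  rw [← card_mul_relIndex_eq h, mul_comm]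
  exact Nat.mul_le_mul_right _ hc

/-- G4a. Index of an intersection of centralizers. -/
theorem card_le_pow_mul_card_inf_centralizer {Γ : Type u} [Group Γ] [Finite Γ] (G : Subgroup Γ)
    (S : Finset Γ) (c : ℕ)
    (hS : ∀ y ∈ S, Nat.card G ≤ c * Nat.card ↥(G ⊓ centralizer {y})) :
    Nat.card G ≤ c ^ S.card * Nat.card ↥(G ⊓ centralizer ((S : Finset Γ) : Set Γ)) := by
  classical
  have key : (G ⊓ centralizer ((S : Finset Γ) : Set Γ)).relIndex G ≤ c ^ S.card := by
    induction S using Finset.induction_on with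
    | empty =>
      have h0 : G ⊓ centralizer (((∅ : Finset Γ) : Finset Γ) : Set Γ) = G := by
        rw [Finset.coe_empty]
        ext g
        simp [Subgroup.mem_centralizer_iff]
      rw [h0, relIndex_self, Finset.card_empty, pow_zero]
    | insert y S' hy ih =>
      have hinf : G ⊓ centralizer ((insert y S' : Finset Γ) : Set Γ) =
          (G ⊓ centralizer {y}) ⊓ (G ⊓ centralizer ((S' : Finset Γ) : Set Γ)) := by
        ext g
        simp only [Subgroup.mem_inf, Subgroup.mem_centralizer_iff, Finset.coe_insert,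
          Set.mem_insert_iff, Finset.mem_coe, Set.mem_singleton_iff]
        constructor
        · rintro ⟨hg, h⟩
          exact ⟨⟨hg, fun x hx => h x (Or.inl hx)⟩, hg, fun x hx => h x (Or.inr hx)⟩
        · rintro ⟨⟨hg, h1⟩, _, h2⟩
          exact ⟨hg, fun x hx => hx.elim (h1 x) (h2 x)⟩
      rw [hinf, Finset.card_insert_of_notMem hy, pow_succ, mul_comm]
      refine le_trans relIndex_inf_le ?_
      exact Nat.mul_le_mul
        (relIndex_le_of_card_le inf_le_left (hS y (Finset.mem_insert_self _ _)))
        (ih (fun z hz => hS z (Finset.mem_insert_of_mem hz)))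
  exact card_le_of_relIndex_le inf_le_left key

end Cfsg.Agent.Lib.H28.BQ
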