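import Mathlib
import Cfsg.Agent.Lib.H8.BQ0

/-!
S4719 Part II piece (G5) `le_normalizer_inf_centralizer` (helper28): `C_G(X)` is normalized by whatever normalizes
`G` and `X`.
-/

set_option autoImplicit false

universe u

namespace Cfsg.Agent.Lib.H28.BQ

open Subgroup Cfsg.Agent.Lib.H8.BQ

/-- G5. `C_G(X)` is normalized by whatever normalizes `G` and `X`. -/
theorem le_normalizer_inf_centralizer {Γ : Type u} [Group Γ] (G X K : Subgroup Γ)
    (hKG : K ≤ normalizer (G : Set Γ)) (hKX : K ≤ normalizer (X : Set Γ)) :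
    K ≤ normalizer ((G ⊓ centralizer (X : Set Γ) : Subgroup Γ) : Set Γ) := by
  have key : ∀ k ∈ K, ∀ h ∈ G ⊓ centralizer (X : Set Γ),
      k * h * k⁻¹ ∈ G ⊓ centralizer (X : Set Γ) := by
    intro k hk h hh
    obtain ⟨hG, hC⟩ := Subgroup.mem_inf.1 hh
    refine Subgroup.mem_inf.2 ⟨(Subgroup.mem_normalizer_iff.1 (hKG hk) h).1 hG, ?_⟩
    rw [Subgroup.mem_centralizer_iff]
    intro x hx
    have hx' : k⁻¹ * x * k ∈ X := (Subgroup.mem_normalizer_iff''.1 (hKX hk) x).1 hx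
    have hcomm : k⁻¹ * x * k * h = h * (k⁻¹ * x * k) :=
      Subgroup.mem_centralizer_iff.1 hC _ hx'
    calc x * (k * h * k⁻¹) = k * ((k⁻¹ * x * k) * h) * k⁻¹ := by group
      _ = k * (h * (k⁻¹ * x * k)) * k⁻¹ := by rw [hcomm]
      _ = k * h * k⁻¹ * x := by group
  intro k hk
  rw [Subgroup.mem_normalizer_iff]
  intro h
  constructor
  · exact key k hk h
  · intro hh
    have h2 := key k⁻¹ (K.inv_mem hk) _ hh
    have e : k⁻¹ * (k * h * k⁻¹) * k⁻¹⁻¹ = h := by group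
    rwa [e] at h2

end Cfsg.Agent.Lib.H28.BQ
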