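import Mathlib
import Cfsg.Prelude.Def_TwoFusion
import Cfsg.Prelude.Def_CaseTheorems
import Cfsg.Agent.Lib.H28.CSL2Defs
import Cfsg.Agent.Lib.H12.SL2Syl2
import Cfsg.Agent.Lib.H10.CSL2D
import Cfsg.Agent.Lib.H10.CSL2E
import Cfsg.Agent.Lib.H11.CSL2A1
import Cfsg.Agent.Lib.H11.CSL2A2
import Cfsg.Agent.Lib.H27.CSL2ISO1
import Cfsg.Agent.Lib.H27.CSL2ISO2
import Cfsg.Agent.Lib.H27.CSL2ISO3
import Cfsg.Agent.Lib.H6.CSL2ISO4
import Cfsg.Agent.Lib.H9.CSL2B1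
import Cfsg.Agent.Lib.H9.CSL2B2

set_option autoImplicit false
set_option linter.unusedSectionVars false

/-!
# S3211: assembly (helper28)
-/

namespace Cfsg.Agent.Lib.H28.CSL2

open Cfsg.Agent.Lib.H12
open Cfsg.Agent.Lib.H10.CSL2 (cfg_of_hyp sup_oddCore_eq_top)
open Cfsg.Agent.Lib.H11.CSL2 (sl2_ex sl2_npow)
open Cfsg.Agent.Lib.H27.CSL2 (cfg_conj_inv cfg_exists_swap cfg_inv_cases cfg_no_inv)
open Cfsg.Agent.Lib.H6.CSL2 (cfg_no_swap)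
open Cfsg.Agent.Lib.H9.CSL2 (sLike_of_equiv sPow_of_equiv)


/-! ### Assembly -/

theorem cfg_isolated {G : Type*} [Group G] {L₁ L₂ : Subgroup G} {j n : G} (h : Cfg L₁ L₂ j n)
    {M : ℕ} (hP : SPow L₁ j M) (hj : orderOf j = 2) : Cfsg.IsIsolatedInvolution j := by
  refine ⟨hj, fun g hg => ?_⟩
  by_contra hne
  obtain ⟨x₁, hx₁, x₂, hx₂, h1, h2, hno⟩ := cfg_no_swap h hP
  obtain ⟨h', e1, e2⟩ := cfg_exists_swap h hx₁ hx₂ h1 h2 hg hne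
  exact hno h' e1 e2

theorem main {G : Type*} [Group G] [Finite G]
    {F₁ : Type*} [Field F₁] [Fintype F₁] {F₂ : Type*} [Field F₂] [Fintype F₂]
    (hF₁ : Odd (Fintype.card F₁)) (hF₂ : Odd (Fintype.card F₂)) (L₁ L₂ : Subgroup G)
    (e₁ : ↥L₁ ≃* Matrix.SpecialLinearGroup (Fin 2) F₁) (e₂ : ↥L₂ ≃* Matrix.SpecialLinearGroup (Fin 2) F₂)
    (hc : ∀ x ∈ L₁, ∀ y ∈ L₂, x * y = y * x) (j : G) (hj : orderOf j = 2) (hm : L₁ ⊓ L₂ = Subgroup.zpowers j)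
    (hle : L₁ ⊔ L₂ ≤ Subgroup.centralizer ({j} : Set G)) (hi : (L₁ ⊔ L₂).relIndex (Subgroup.centralizer ({j} : Set G)) = 2) (n : G) (hn : n ∈ Subgroup.centralizer ({j} : Set G))
    (hn2 : n ^ 2 = j) (hswap : L₁.map (MulAut.conj n).toMonoidHom = L₂) :
    Subgroup.centralizer ({j} : Set G) ⊔ Cfsg.oddCore G = ⊤ := by
  have hjm : j ∈ L₁ ⊓ L₂ := by rw [hm]; exact Subgroup.mem_zpowers j
  have hs1 := sLike_of_equiv hF₁ L₁ e₁ j hj hjm.1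
  have hs2 := sLike_of_equiv hF₂ L₂ e₂ j hj hjm.2
  obtain ⟨M, hP⟩ := sPow_of_equiv hF₁ L₁ e₁ j hj hjm.1
  have h24 : 2 < Nat.card L₁ := by
    rw [Nat.card_congr e₁.toEquiv]
    have : Fact (Nat.Prime 2) := ⟨Nat.prime_two⟩
    obtain ⟨Q⟩ := (inferInstance : Nonempty (Sylow 2 (Matrix.SpecialLinearGroup (Fin 2) F₁)))
    have h8 := eight_dvd_card_sylow hF₁ Q
    have h9 := Subgroup.card_subgroup_dvd_card (Q : Subgroup (Matrix.SpecialLinearGroup (Fin 2) F₁))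
    have := Nat.le_of_dvd Nat.card_pos (dvd_trans h8 h9)
    omega
  have hcfg := cfg_of_hyp L₁ L₂ j n hs1 hs2 h24 hc hm hle hi hn hn2 hswap
  exact sup_oddCore_eq_top j (cfg_isolated hcfg hP hj)

end Cfsg.Agent.Lib.H28.CSL2
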