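import Cfsg.Agent.Lib.H28.CYBURN
import Cfsg.Agent.Lib.H28.AECONST

/-!
# S1950 piece CONST (helper28): the S0942-ready consequence of BURN = F1

Cyclic Sylow `p`-subgroups: a character of the principal `p`-block takes the value `χ s` on the
whole `p`-section of a nontrivial `p`-element `s` (`χ (s * v) = χ s` for `p`-regular `v ∈ C_G(s)`),
and more generally `χ g = χ u` when `u` is the (nontrivial) `p`-part of `g`.
-/

set_option autoImplicit false

open Cfsg

namespace Cfsg.Agent.Lib.H28.CY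

variable {G : Type*} [Group G] [Finite G] {p : ℕ} [Fact p.Prime]

/-- a `p`-regular element of `C_G(s)` lies in `O_{p'}(C_G(s))` (`s` a nontrivial `p`-element, cyclic
Sylow `p`-subgroups) -/
theorem mem_centralizerPPrimeCore (P : Sylow p G) (hP : IsCyclic ↥(P : Subgroup G))
    (s : G) (k : ℕ) (hs : orderOf s = p ^ k) (hs1 : s ≠ 1)
    (v : G) (hsv : s * v = v * s) (hv : ¬ p ∣ orderOf v) :
    v ∈ Cfsg.centralizerPPrimeCore p s := by
  have hnpc := centralizer_hasNormalPComplement_of_pElement P hP s k hs hs1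
  have hvC : v ∈ Subgroup.centralizer ({s} : Set G) :=
    Subgroup.mem_centralizer_singleton_iff.2 hsv.symm
  have hv' : ¬ p ∣ orderOf (⟨v, hvC⟩ : ↥(Subgroup.centralizer ({s} : Set G))) := by
    rwa [← Subgroup.orderOf_coe]
  exact ⟨⟨v, hvC⟩, Cfsg.Agent.Lib.H28.AEC.mem_pPrimeCore_of_npc hnpc _ hv', rfl⟩

/-- **CONST (cyclic Sylow)**: `χ ∈ B_0`, `s` a nontrivial `p`-element, `v` a `p`-regular element
commuting with `s`: `χ (s * v) = χ s`. -/
theorem principalBlock_apply_mul (P : Sylow p G) (hP : IsCyclic ↥(P : Subgroup G))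
    (M : Ideal Cfsg.AlgInt) (hM : Cfsg.IsPModular p M)
    (s : G) (k : ℕ) (hs : orderOf s = p ^ k) (hs1 : s ≠ 1)
    (v : G) (hsv : s * v = v * s) (hv : ¬ p ∣ orderOf v)
    (χ : Cfsg.IrrCharacter G) (hχ : χ ∈ Cfsg.principalBlock M G) :
    (χ : G → ℂ) (s * v) = (χ : G → ℂ) s :=
  Cfsg.Agent.S0942.result p M hM s ⟨k, hs⟩ v
    (mem_centralizerPPrimeCore P hP s k hs hs1 v hsv hv) χ hχ

/-- **CONST (cyclic Sylow)**, `p`-part form: every `p`-singular `g` has a nontrivial `p`-element `u`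
(its `p`-part, a power of `g`... here just: `g = u * v`, `u`, `v` commuting) with `χ g = χ u` for all
`χ ∈ B_0`. -/
theorem principalBlock_apply_eq_pPart (P : Sylow p G) (hP : IsCyclic ↥(P : Subgroup G))
    (M : Ideal Cfsg.AlgInt) (hM : Cfsg.IsPModular p M)
    (g : G) (hg : p ∣ orderOf g) :
    ∃ u v : G, u * v = g ∧ Commute u v ∧ (∃ k : ℕ, orderOf u = p ^ k) ∧ u ≠ 1 ∧
      ¬ p ∣ orderOf v ∧
      ∀ χ : Cfsg.IrrCharacter G, χ ∈ Cfsg.principalBlock M G →
        (χ : G → ℂ) g = (χ : G → ℂ) u := by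
  have hp : p.Prime := Fact.out
  obtain ⟨u, v, huv, hcomm, hu, hv⟩ :=
    Cfsg.Agent.Lib.H23.exists_isPPart hp g (isOfFinOrder_of_finite g)
  have hu1 : u ≠ 1 := by
    rintro rfl
    rw [one_mul] at huv
    rw [← huv] at hg
    exact hv hg
  obtain ⟨k, hk⟩ := hu
  refine ⟨u, v, huv, hcomm, ⟨k, hk⟩, hu1, hv, ?_⟩
  intro χ hχ
  rw [← huv]
  exact principalBlock_apply_mul P hP M hM u k hk hu1 v hcomm.eq hv χ hχ

end Cfsg.Agent.Lib.H28.CY
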