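import Mathlib
import Cfsg.Prelude.Def_Local
import Cfsg.Agent.Lib.H12.CYDefs
import Cfsg.Agent.Lib.H28.CYKER
import Cfsg.Agent.Lib.H4.CYFUS
import Cfsg.Agent.Lib.H1.PSolvOfSolv

/-!
# S1950 piece E2 = `two_le_card_fusE` in the EXACT signature of `tools/blueprints/S1950_sigs_h12.lean`
(helper28)

`G` simple, not `p`-solvable, cyclic Sylow `p`-subgroup `P ∋ z` of order `p`: `|fusE p z| ≥ 2`.
-/

set_option autoImplicit false

namespace Cfsg.Agent.Lib.H28.CY

open Cfsg Cfsg.Agent.Lib.H12.CY

variable {G : Type*} [Group G] [Finite G] {p : ℕ} [Fact p.Prime]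

/-- A simple group with a normal `p`-complement is `p`-solvable (it is a `p`-group or a `p'`-group…
here: the complement is `⊥` or `⊤`). -/
theorem isPSolvable_of_hasNormalPComplement_of_simple [IsSimpleGroup G]
    (h : Cfsg.HasNormalPComplement p G) {z : G} (hz : orderOf z = p) : Cfsg.IsPSolvable p G := by
  have hp : p.Prime := Fact.out
  obtain ⟨Q, N, hN, hc⟩ := h
  rcases hN.eq_bot_or_eq_top with h0 | h1
  · -- `Q = ⊤`, `G` is a `p`-group, hence solvable
    have hQtop : (Q : Subgroup G) = ⊤ := by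
      have h1 := hc.card_mul_card
      rw [h0, Subgroup.card_bot, one_mul] at h1
      exact Subgroup.card_eq_iff_eq_top (Q : Subgroup G) |>.1 h1
    have hG : IsPGroup p G := by
      intro g
      obtain ⟨k, hk⟩ := Q.isPGroup' ⟨g, by rw [hQtop]; trivial⟩
      exact ⟨k, by simpa using congrArg Subtype.val hk⟩
    have hnil : Group.IsNilpotent G := hG.isNilpotent
    have hsol : Group.IsSolvable G := inferInstance
    exact Cfsg.Agent.Lib.H1.PSolvOfSolv.isPSolvable_of_isSolvable p G
  · -- `N = ⊤` forces `Q = ⊥`, impossible as `p ∣ |G|`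
    exfalso
    have h2 := hc.card_mul_card
    rw [h1, Subgroup.card_top] at h2
    have hQ1 : Nat.card (Q : Subgroup G) = 1 := by
      have hpos : 0 < Nat.card G := Nat.card_pos
      have : Nat.card G * Nat.card (Q : Subgroup G) = Nat.card G * 1 := by rw [h2, mul_one]
      exact Nat.eq_of_mul_eq_mul_left hpos this
    have hdvd : p ∣ Nat.card G := by
      rw [← hz]; exact orderOf_dvd_natCard z
    have hQdvd : p ∣ Nat.card (Q : Subgroup G) := by
      have := Q.dvd_card_of_dvd_card hdvd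
      exact this
    rw [hQ1] at hQdvd
    exact hp.one_lt.ne' (Nat.dvd_one.1 hQdvd)

/-- E2. -/
theorem two_le_card_fusE [IsSimpleGroup G] (P : Sylow p G) (hP : IsCyclic ↥(P : Subgroup G))
    (hns : ¬ Cfsg.IsPSolvable p G) {z : G} (hzP : z ∈ (P : Subgroup G)) (hz : orderOf z = p) :
    2 ≤ (fusE p z).card := by
  have hp : p.Prime := Fact.out
  have hz1 : z ≠ 1 := by
    intro h
    rw [h, orderOf_one] at hz
    exact hp.one_lt.ne hz
  have hnc : ¬ Cfsg.HasNormalPComplement p G := fun h =>
    hns (isPSolvable_of_hasNormalPComplement_of_simple h hz)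
  obtain ⟨g, -, j, hgj, hne⟩ := exists_conj_eq_pow_ne P hP hnc z hzP hz
  have hjval : z ^ ((j : ZMod p)).val = z ^ j := Cfsg.Agent.Lib.H4.CY.pow_natCast_val hz j
  have hjmem : (j : ZMod p) ∈ fusE p z := by
    rw [mem_fusE]
    refine ⟨?_, ?_⟩
    · intro h0
      have : z ^ j = 1 := by
        rw [← hjval, h0, ZMod.val_zero, pow_zero]
      rw [this] at hgj
      apply hz1
      have : z = g⁻¹ * (g * z * g⁻¹) * g := by group
      rw [this, hgj]; group
    · rw [hjval, ← hgj]
      exact (isConj_iff.2 ⟨g, rfl⟩).symm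
  have hj1 : (j : ZMod p) ≠ 1 := by
    intro h1
    apply hne
    rw [← hjval, h1]
    exact Cfsg.Agent.Lib.H4.CY.pow_val_one
  have h1mem : (1 : ZMod p) ∈ fusE p z := Cfsg.Agent.Lib.H4.CY.fusE_one_mem hz
  have hsub : ({(1 : ZMod p), (j : ZMod p)} : Finset (ZMod p)) ⊆ fusE p z := by
    intro x hx
    rw [Finset.mem_insert, Finset.mem_singleton] at hx
    rcases hx with rfl | rfl
    · exact h1mem
    · exact hjmem
  have hcard : ({(1 : ZMod p), (j : ZMod p)} : Finset (ZMod p)).card = 2 :=
    Finset.card_pair (Ne.symm hj1)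
  rw [← hcard]
  exact Finset.card_le_card hsub

end Cfsg.Agent.Lib.H28.CY
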