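import Mathlib
import Cfsg.Agent.Lib.H12.CYDefs
import Cfsg.Agent.Lib.H18.CYEND1
import Cfsg.Agent.Lib.H4.CYFUS
import Cfsg.Agent.Lib.H28.CYSIGA
import Cfsg.Agent.Lib.H23.BlockPrincipal
import Cfsg.Agent.Lib.H24.CharBasic
import Cfsg.Agent.Lib.L0.PRegCongP

/-!
# S1950 piece END1G, core (helper28): the case `e < p - 1`

`end1g_core`: the exact statement `end1g` of `tools/blueprints/S1950_sigs_h12.lean` with the two
final forms `orth'` and `star'` (of `tools/blueprints/S1950_final_forms_h12.lean`) as explicit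
hypotheses for one `p`-modular ideal `M`; glue of END1' (helper18), FUS (helper4), CHARZ, KER.
-/

set_option autoImplicit false

namespace Cfsg.Agent.Lib.H28.CY

open Cfsg Cfsg.Agent.Lib.H12.CY
open scoped ComplexConjugate

variable {G : Type*} [Group G] [Finite G] {p : ℕ} [Fact p.Prime]

theorem end1g_core [IsSimpleGroup G] (P : Sylow p G)
    {z : G} (hz : orderOf z = p) (he2 : 2 ≤ (fusE p z).card)
    (hE : (fusE p z).card < p - 1)
    (M : Ideal Cfsg.AlgInt) (hM : Cfsg.IsPModular p M)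
    (horth : ∀ (a c : ZMod p), a ≠ 0 → c ≠ 0 → ∀ [Decidable (∃ t ∈ fusE p z, a = c * t)],
      ∑ᶠ χ ∈ Cfsg.principalBlock M G, (χ : G → ℂ) (z ^ a.val) * conj ((χ : G → ℂ) (z ^ c.val)) =
        if (∃ t ∈ fusE p z, a = c * t) then (Nat.card ↥(P : Subgroup G) : ℂ) else 0)
    (hstar : ∀ (a b c : ZMod p), a ≠ 0 → b ≠ 0 → c ≠ 0 →
      ∀ [DecidablePred (fun j : ZMod p => ∃ t ∈ fusE p z, j * a + b = c * t)],
      ∑ᶠ χ ∈ Cfsg.principalBlock M G,
          (χ : G → ℂ) (z ^ a.val) * (χ : G → ℂ) (z ^ b.val) * conj ((χ : G → ℂ) (z ^ c.val)) /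
            (χ : G → ℂ) 1 =
        ((Nat.card ↥(P : Subgroup G) : ℂ) / ((fusE p z).card : ℂ)) *
          (((fusE p z).filter (fun j : ZMod p => ∃ t ∈ fusE p z, j * a + b = c * t)).card : ℂ)) :
    False := by
  classical
  have hp : p.Prime := Fact.out
  have : Fintype G := Fintype.ofFinite G
  have : Finite (IrrCharacter G) := Cfsg.Agent.Lib.H24.finite_irr
  have hMp : M.IsPrime := Cfsg.Agent.Lib.H23.isPrime_of_isPModular hM
  have hz1 : z ≠ 1 := by
    intro h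
    rw [h, orderOf_one] at hz
    exact hp.one_lt.ne hz
  set B : Set (IrrCharacter G) := principalBlock M G with hB
  set s : Finset (IrrCharacter G) := (Set.toFinite B).toFinset with hs
  have hi₀ : Cfsg.Agent.Lib.H24.trivialIrr G ∈ s :=
    (Set.Finite.mem_toFinset _).2 Cfsg.Agent.Lib.H23.trivialIrr_mem_principalBlock
  have hsum : ∀ F : IrrCharacter G → ℂ, ∑ᶠ χ ∈ B, F χ = ∑ χ ∈ s, F χ := fun F =>
    finsum_mem_eq_finite_toFinset_sum F (Set.toFinite B)
  have hpow0 : z ^ (0 : ZMod p).val = 1 := by rw [ZMod.val_zero, pow_zero]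
  refine Cfsg.Agent.Lib.H18.CY.end1' s (ZMod.stdAddChar (N := p)) (ZMod.isPrimitive_stdAddChar p)
    (fusE p z) (Cfsg.Agent.Lib.H4.CY.fusE_zero_not_mem z) (Cfsg.Agent.Lib.H4.CY.fusE_one_mem hz)
    (fun x hx y hy => Cfsg.Agent.Lib.H4.CY.fusE_mul_mem hz hx hy)
    (fun x hx => Cfsg.Agent.Lib.H4.CY.fusE_inv_mem hz hx) he2 hE
    (fun χ a => (χ : G → ℂ) (z ^ a.val)) (Nat.card ↥(P : Subgroup G))
    (Cfsg.Agent.Lib.H24.trivialIrr G) hi₀ (fun a => rfl) ?_ ?_ ?_ ?_ ?_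
  · -- degrees
    intro χ _
    obtain ⟨n, hn0, hn⟩ := Cfsg.Agent.Lib.H24.irr_one_eq χ
    refine ⟨n, hn0, ?_⟩
    show (χ : G → ℂ) (z ^ (0 : ZMod p).val) = n
    rw [hpow0, hn]
  · -- multiplicities
    intro χ _ k
    exact charz hz (ZMod.stdAddChar (N := p)) (χ : G → ℂ)
      (Cfsg.Agent.Lib.L0.isCharacter_of_irr χ.2) k
  · -- kernel
    intro χ _ hne h
    apply hne
    have h' : (χ : G → ℂ) z = (χ : G → ℂ) 1 := by
      have h1 : (χ : G → ℂ) (z ^ (1 : ZMod p).val) = (χ : G → ℂ) (z ^ (0 : ZMod p).val) := h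
      rwa [Cfsg.Agent.Lib.H4.CY.pow_val_one, hpow0] at h1
    have := eq_one_of_apply_eq χ hz1 h'
    exact Subtype.ext this
  · -- (O)
    intro a c ha hc inst
    rw [← hsum]
    exact @horth a c ha hc inst
  · -- (**)
    intro a b c ha hb hc inst
    rw [← hsum]
    have h := @hstar a b c ha hb hc inst
    simp only [hpow0]
    exact h

end Cfsg.Agent.Lib.H28.CY
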