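import Mathlib
import Cfsg.Agent.Lib.H28.CYEND1G
import Cfsg.Agent.Lib.H6.CYORTH
import Cfsg.Agent.Lib.H8.CYSTAR

/-!
# S1950 pieces ORTH' (final form) and END1G (EXACT sig of `tools/blueprints/S1950_sigs_h12.lean`)
(helper28): wrappers on helper6's `H6.CYS.orth`, helper8's `H8.CYE.star'` and `end1g_core`.
-/

set_option autoImplicit false

namespace Cfsg.Agent.Lib.H28.CY

open Cfsg Cfsg.Agent.Lib.H12.CY
open scoped ComplexConjugate

variable {G : Type*} [Group G] [Finite G] {p : ℕ} [Fact p.Prime]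

/-- ORTH' (the statement of `tools/blueprints/S1950_final_forms_h12.lean`). -/
theorem orth' (P : Sylow p G) (hP : IsCyclic ↥(P : Subgroup G)) (M : Ideal Cfsg.AlgInt) (hM : Cfsg.IsPModular p M)
    {z : G} (hzP : z ∈ (P : Subgroup G)) (hz : orderOf z = p) (a c : ZMod p) (ha : a ≠ 0) (hc : c ≠ 0)
    [Decidable (∃ t ∈ fusE p z, a = c * t)] :
    ∑ᶠ χ ∈ Cfsg.principalBlock M G, (χ : G → ℂ) (z ^ a.val) * conj ((χ : G → ℂ) (z ^ c.val)) =
      if (∃ t ∈ fusE p z, a = c * t) then (Nat.card ↥(P : Subgroup G) : ℂ) else 0 := by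
  rw [Cfsg.Agent.Lib.H6.CYS.orth P hP M hM hzP hz ha hc]
  have hiff : a * c⁻¹ ∈ fusE p z ↔ ∃ t ∈ fusE p z, a = c * t := by
    constructor
    · intro h
      refine ⟨a * c⁻¹, h, ?_⟩
      rw [mul_comm a, ← mul_assoc, mul_inv_cancel₀ hc, one_mul]
    · rintro ⟨t, ht, rfl⟩
      rw [mul_comm c t, mul_assoc, mul_inv_cancel₀ hc, mul_one]
      exact ht
  by_cases h : a * c⁻¹ ∈ fusE p z
  · rw [if_pos h, if_pos (hiff.1 h)]
  · rw [if_neg h, if_neg (fun h' => h (hiff.2 h'))]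

/-- END1G. -/
theorem end1g [IsSimpleGroup G] (P : Sylow p G) (hP : IsCyclic ↥(P : Subgroup G))
    (hc : ∀ x y : G, orderOf x = p → orderOf y = p → Cfsg.IsPSolvable p ↥(Subgroup.closure ({x, y} : Set G)))
    {z : G} (hzP : z ∈ (P : Subgroup G)) (hz : orderOf z = p) (he2 : 2 ≤ (fusE p z).card)
    (hE : (fusE p z).card < p - 1) : False := by
  have hp : p.Prime := Fact.out
  obtain ⟨M, hM⟩ := Cfsg.Agent.Lib.L0.PRegP.exists_isPModular hp
  refine end1g_core P hz he2 hE M hM ?_ ?_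
  · intro a c ha hc' inst
    exact @orth' G _ _ p _ P hP M hM z hzP hz a c ha hc' inst
  · intro a b c ha hb hc' inst
    exact @Cfsg.Agent.Lib.H8.CYE.star' G _ _ p _ P hP hc M hM z hzP hz a b c ha hb hc' inst

end Cfsg.Agent.Lib.H28.CY
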