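import Mathlib

set_option autoImplicit false

/-!
# Elementary computations with central elements

Braid relations and central rescalings, and the commutator homomorphism `x ↦ ⁅x, y⁆`
on the elements commuting with `y` modulo the centre.
-/

namespace Cfsg.Agent.Lib.H28.CentralTools

open Subgroup

variable {Γ : Type*} [Group Γ]

theorem cen_comm {k : Γ} (hk : k ∈ center Γ) (x : Γ) : k * x = x * k :=
  ((mem_center_iff.mp hk) x).symm

theorem cen_commute {k : Γ} (hk : k ∈ center Γ) (x : Γ) : Commute k x := cen_comm hk x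

/-- a braid relation of length three up to a central element is repaired by rescaling -/
theorem braid3_fix {x y k : Γ} (hk : k ∈ center Γ) (h : x * y * x = y * x * y * k) :
    x * (y * k) * x = (y * k) * x * (y * k) := by
  have c := cen_comm hk
  calc x * (y * k) * x = x * y * (k * x) := by group
    _ = x * y * (x * k) := by rw [c x]
    _ = (x * y * x) * k := by group
    _ = y * x * y * k * k := by rw [h]
    _ = y * x * (y * k) * k := by group
    _ = y * x * (k * y) * k := by rw [c y]
    _ = y * (x * k) * y * k := by group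
    _ = y * (k * x) * y * k := by rw [c x]
    _ = (y * k) * x * (y * k) := by group

/-- a braid relation of length five up to a central element is repaired by rescaling -/
theorem braid5_fix {x y k : Γ} (hk : k ∈ center Γ)
    (h : x * y * x * y * x = y * x * y * x * y * k) :
    x * (y * k) * x * (y * k) * x = (y * k) * x * (y * k) * x * (y * k) := by
  have c := cen_comm hk
  calc x * (y * k) * x * (y * k) * x = x * y * (k * x) * y * (k * x) := by group
    _ = x * y * (x * k) * y * (x * k) := by rw [c x]
    _ = x * y * x * (k * y) * x * k := by group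
    _ = x * y * x * (y * k) * x * k := by rw [c y]
    _ = x * y * x * y * (k * x) * k := by group
    _ = x * y * x * y * (x * k) * k := by rw [c x]
    _ = (x * y * x * y * x) * k * k := by group
    _ = y * x * y * x * y * k * k * k := by rw [h]
    _ = y * x * y * x * (y * k) * k * k := by group
    _ = y * x * y * x * (k * y) * k * k := by rw [c y]
    _ = y * x * y * (x * k) * y * k * k := by group
    _ = y * x * y * (k * x) * y * k * k := by rw [c x]
    _ = y * x * (y * k) * x * (y * k) * k := by group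
    _ = y * x * (k * y) * x * (y * k) * k := by rw [c y]
    _ = y * (x * k) * y * x * (y * k) * k := by group
    _ = y * (k * x) * y * x * (y * k) * k := by rw [c x]
    _ = (y * k) * x * y * x * (y * k) * k := by group
    _ = (y * k) * x * y * x * (k * (y * k)) := by rw [c (y * k)]; group
    _ = (y * k) * x * y * (x * k) * (y * k) := by group
    _ = (y * k) * x * y * (k * x) * (y * k) := by rw [c x]
    _ = (y * k) * x * (y * k) * x * (y * k) := by group

/-- common central rescaling preserves a braid relation of length three -/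
theorem braid3_scale {x y k : Γ} (hk : k ∈ center Γ) (h : x * y * x = y * x * y) :
    (x * k) * (y * k) * (x * k) = (y * k) * (x * k) * (y * k) := by
  have c := cen_comm hk
  have e1 : (x * k) * (y * k) * (x * k) = (x * y * x) * (k * k * k) := by
    calc (x * k) * (y * k) * (x * k) = x * (k * y) * (k * x) * k := by group
      _ = x * (y * k) * (x * k) * k := by rw [c y, c x]
      _ = x * y * (k * x) * k * k := by group
      _ = x * y * (x * k) * k * k := by rw [c x]
      _ = (x * y * x) * (k * k * k) := by group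
  have e2 : (y * k) * (x * k) * (y * k) = (y * x * y) * (k * k * k) := by
    calc (y * k) * (x * k) * (y * k) = y * (k * x) * (k * y) * k := by group
      _ = y * (x * k) * (y * k) * k := by rw [c y, c x]
      _ = y * x * (k * y) * k * k := by group
      _ = y * x * (y * k) * k * k := by rw [c y]
      _ = (y * x * y) * (k * k * k) := by group
  rw [e1, e2, h]

theorem mul_central_pow {x k : Γ} (hk : k ∈ center Γ) (n : ℕ) : (x * k) ^ n = x ^ n * k ^ n :=
  ((cen_commute hk x).symm).mul_pow n

/-- common central rescaling preserves a braid relation of length five -/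
theorem braid5_scale {x y k : Γ} (hk : k ∈ center Γ)
    (h : x * y * x * y * x = y * x * y * x * y) :
    (x * k) * (y * k) * (x * k) * (y * k) * (x * k) =
      (y * k) * (x * k) * (y * k) * (x * k) * (y * k) := by
  have c := cen_comm hk
  have key : ∀ p q : Γ, (p * k) * (q * k) * (p * k) * (q * k) * (p * k) =
      (p * q * p * q * p) * (k * k * k * k * k) := by
    intro p q
    calc (p * k) * (q * k) * (p * k) * (q * k) * (p * k)
        = p * (k * q) * (k * p) * (k * q) * (k * p) * k := by group
      _ = p * (q * k) * (p * k) * (q * k) * (p * k) * k := by rw [c q, c p]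
      _ = p * q * (k * p) * (k * q) * (k * p) * k * k := by group
      _ = p * q * (p * k) * (q * k) * (p * k) * k * k := by rw [c q, c p]
      _ = p * q * p * (k * q) * (k * p) * k * k * k := by group
      _ = p * q * p * (q * k) * (p * k) * k * k * k := by rw [c q, c p]
      _ = p * q * p * q * (k * p) * k * k * k * k := by group
      _ = p * q * p * q * (p * k) * k * k * k * k := by rw [c p]
      _ = (p * q * p * q * p) * (k * k * k * k * k) := by group
  rw [key x y, key y x, h]

/-- braided elements have the same square, when it is central -/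
theorem sq_eq_of_braid3 {x y : Γ} (hx : x * x ∈ center Γ) (h : x * y * x = y * x * y) :
    y * y = x * x := by
  have hy : y = (x * y) * x * (x * y)⁻¹ := by
    have : (x * y) * x = y * (x * y) := by rw [← mul_assoc y, ← h]
    rw [this]; group
  have c := cen_comm hx
  calc y * y = (x * y) * x * (x * y)⁻¹ * ((x * y) * x * (x * y)⁻¹) := by rw [← hy]
    _ = (x * y) * (x * x) * (x * y)⁻¹ := by group
    _ = (x * x) * (x * y) * (x * y)⁻¹ := by rw [← c (x * y)]
    _ = x * x := by group

theorem sq_eq_of_braid5 {x y : Γ} (hx : x * x ∈ center Γ)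
    (h : x * y * x * y * x = y * x * y * x * y) : y * y = x * x := by
  have hy : y = (x * y * x * y) * x * (x * y * x * y)⁻¹ := by
    have : (x * y * x * y) * x = y * (x * y * x * y) := by
      rw [h]; group
    rw [this]; group
  have c := cen_comm hx
  calc y * y = (x * y * x * y) * x * (x * y * x * y)⁻¹ *
        ((x * y * x * y) * x * (x * y * x * y)⁻¹) := by rw [← hy]
    _ = (x * y * x * y) * (x * x) * (x * y * x * y)⁻¹ := by group
    _ = (x * x) * (x * y * x * y) * (x * y * x * y)⁻¹ := by rw [← c (x * y * x * y)]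
    _ = x * x := by group

/-! ### The commutator homomorphism -/

open scoped commutatorElement

/-- the elements whose commutator with `y` is central -/
def commSub (y : Γ) : Subgroup Γ where
  carrier := {x | ⁅x, y⁆ ∈ center Γ}
  one_mem' := by
    show ⁅(1 : Γ), y⁆ ∈ center Γ
    rw [commutatorElement_one_left]
    exact one_mem _
  mul_mem' := by
    intro x₁ x₂ h₁ h₂
    show ⁅x₁ * x₂, y⁆ ∈ center Γ
    have : ⁅x₁ * x₂, y⁆ = ⁅x₁, y⁆ * ⁅x₂, y⁆ := by
      have c := cen_comm h₂
      rw [commutatorElement_def, commutatorElement_def, commutatorElement_def]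
      calc x₁ * x₂ * y * (x₁ * x₂)⁻¹ * y⁻¹
          = x₁ * (x₂ * y * x₂⁻¹ * y⁻¹) * y * x₁⁻¹ * y⁻¹ := by group
        _ = x₁ * y * x₁⁻¹ * y⁻¹ * (x₂ * y * x₂⁻¹ * y⁻¹) := by
          rw [← commutatorElement_def x₂ y, ← c x₁]
          rw [mul_assoc _ y, mul_assoc _ (y * x₁⁻¹), mul_assoc ⁅x₂, y⁆, c]
          group
    rw [this]
    exact mul_mem h₁ h₂
  inv_mem' := by
    intro x h
    show ⁅x⁻¹, y⁆ ∈ center Γ
    have : ⁅x⁻¹, y⁆ = ⁅x, y⁆⁻¹ := by
      have c := cen_comm h
      have e : ⁅x⁻¹, y⁆ = x⁻¹ * ⁅x, y⁆⁻¹ * x := by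
        rw [commutatorElement_def, commutatorElement_def]; group
      rw [e, ← cen_comm (inv_mem h) x⁻¹]
      group
    rw [this]
    exact inv_mem h

theorem mem_commSub {x y : Γ} : x ∈ commSub y ↔ ⁅x, y⁆ ∈ center Γ := Iff.rfl

theorem comm_mul_of_mem {x₁ x₂ y : Γ} (h₂ : x₂ ∈ commSub y) :
    ⁅x₁ * x₂, y⁆ = ⁅x₁, y⁆ * ⁅x₂, y⁆ := by
  have c := cen_comm (mem_commSub.mp h₂)
  rw [commutatorElement_def, commutatorElement_def, commutatorElement_def]
  calc x₁ * x₂ * y * (x₁ * x₂)⁻¹ * y⁻¹
      = x₁ * (x₂ * y * x₂⁻¹ * y⁻¹) * y * x₁⁻¹ * y⁻¹ := by group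
    _ = x₁ * y * x₁⁻¹ * y⁻¹ * (x₂ * y * x₂⁻¹ * y⁻¹) := by
      rw [← commutatorElement_def x₂ y, ← c x₁]
      rw [mul_assoc _ y, mul_assoc _ (y * x₁⁻¹), mul_assoc ⁅x₂, y⁆, c]
      group

/-- the commutator homomorphism `x ↦ ⁅x, y⁆` -/
def commHom (y : Γ) : commSub y →* center Γ :=
  MonoidHom.mk' (fun x => ⟨⁅(x : Γ), y⁆, x.2⟩) (by
    intro x₁ x₂
    apply Subtype.ext
    show ⁅(x₁ : Γ) * (x₂ : Γ), y⁆ = ⁅(x₁ : Γ), y⁆ * ⁅(x₂ : Γ), y⁆
    exact comm_mul_of_mem x₂.2)

theorem commHom_apply (y : Γ) (x : commSub y) : ((commHom y x : center Γ) : Γ) = ⁅(x : Γ), y⁆ := rfl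

theorem central_mem_commSub {k : Γ} (hk : k ∈ center Γ) (y : Γ) : k ∈ commSub y := by
  rw [mem_commSub, commutatorElement_def, cen_comm hk y, mul_inv_cancel_right, mul_inv_cancel]
  exact one_mem _

theorem comm_central {k : Γ} (hk : k ∈ center Γ) (y : Γ) : ⁅k, y⁆ = 1 := by
  rw [commutatorElement_def, cen_comm hk y, mul_inv_cancel_right, mul_inv_cancel]

/-- conjugate elements (modulo the centre) have the same commutator with `y` -/
theorem comm_eq_of_conj {y x x' t : Γ} (hx : x ∈ commSub y) (ht : t ∈ commSub y)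
    (h : (t * x * t⁻¹)⁻¹ * x' ∈ center Γ) : x' ∈ commSub y ∧ ⁅x', y⁆ = ⁅x, y⁆ := by
  set k := (t * x * t⁻¹)⁻¹ * x' with hk
  have hx' : x' = t * x * t⁻¹ * k := by rw [hk]; group
  have hkm : k ∈ commSub y := central_mem_commSub h y
  have hmem : x' ∈ commSub y := by
    rw [hx']
    exact mul_mem (mul_mem (mul_mem ht hx) (inv_mem ht)) hkm
  refine ⟨hmem, ?_⟩
  let f := commHom y
  have e1 : f ⟨x', hmem⟩ = f ⟨t, ht⟩ * f ⟨x, hx⟩ * (f ⟨t, ht⟩)⁻¹ * f ⟨k, hkm⟩ := by
    rw [← map_inv, ← map_mul, ← map_mul, ← map_mul]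
    congr 1
    apply Subtype.ext
    exact hx'
  have e2 : f ⟨k, hkm⟩ = 1 := by
    apply Subtype.ext
    exact comm_central h y
  rw [e2, mul_one, mul_comm' (f ⟨t, ht⟩), mul_inv_cancel_right] at e1
  exact congrArg Subtype.val e1

end Cfsg.Agent.Lib.H28.CentralTools
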