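import Cfsg.Agent.Lib.H28.CentralTools

set_option autoImplicit false

/-! # Further computations with central elements: the lemmas used for the Hall–Janko group -/

namespace Cfsg.Agent.Lib.H28.CentralTools

open Subgroup
open scoped commutatorElement

variable {Γ : Type*} [Group Γ]

/-- three conjugate elements `a, b, c` commuting with `y` modulo the centre, with `a²` and
`(abc)^5` central, commute with `y` -/
theorem comm_eq_one_of_triple {y a b c : Γ} (ha : a ∈ commSub y) (hb : b ∈ commSub y)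
    (hc : c ∈ commSub y) (haa : a * a ∈ center Γ)
    (hab : ((a * b * a * b) * a * (a * b * a * b)⁻¹)⁻¹ * b ∈ center Γ)
    (hbc : ((b * c) * b * (b * c)⁻¹)⁻¹ * c ∈ center Γ)
    (h5 : (a * b * c) ^ 5 ∈ center Γ) : ⁅a, y⁆ = 1 ∧ ⁅b, y⁆ = 1 ∧ ⁅c, y⁆ = 1 := by
  have hb' := (comm_eq_of_conj ha (mul_mem (mul_mem (mul_mem ha hb) ha) hb) hab).2
  have hc' := (comm_eq_of_conj hb (mul_mem hb hc) hbc).2
  let f := commHom y
  set κ := f ⟨a, ha⟩ with hκ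
  have fb : f ⟨b, hb⟩ = κ := Subtype.ext hb'
  have fc : f ⟨c, hc⟩ = κ := Subtype.ext (hc'.trans hb')
  have h15 : κ ^ 15 = 1 := by
    have e : (⟨(a * b * c) ^ 5, central_mem_commSub h5 y⟩ : commSub y) =
        (⟨a, ha⟩ * ⟨b, hb⟩ * ⟨c, hc⟩) ^ 5 := Subtype.ext (by simp)
    have : f ⟨(a * b * c) ^ 5, central_mem_commSub h5 y⟩ = 1 :=
      Subtype.ext (comm_central h5 y)
    rw [e, map_pow, map_mul, map_mul, fb, fc, ← hκ] at this
    have e2 : κ ^ 15 = (κ * κ * κ) ^ 5 := by rw [← pow_three', ← pow_mul]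
    rw [e2]; exact this
  have h2 : κ ^ 2 = 1 := by
    have e : (⟨a * a, central_mem_commSub haa y⟩ : commSub y) = ⟨a, ha⟩ * ⟨a, ha⟩ :=
      Subtype.ext rfl
    have : f ⟨a * a, central_mem_commSub haa y⟩ = 1 := Subtype.ext (comm_central haa y)
    rw [e, map_mul, ← hκ] at this
    rw [pow_two]; exact this
  have h1 : κ = 1 := by
    have e : κ = κ ^ 15 * ((κ ^ 2) ^ 7)⁻¹ := by
      rw [← pow_mul, eq_mul_inv_iff_mul_eq, ← pow_succ']
    rw [e, h15, h2]; simp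
  have ha1 : ⁅a, y⁆ = 1 := by
    have := congrArg Subtype.val h1
    exact this
  exact ⟨ha1, hb'.trans ha1, (hc'.trans hb').trans ha1⟩

theorem central_pull {z : Γ} (hz : z ∈ center Γ) (x y : Γ) : x * z * y = z * (x * y) := by
  rw [← cen_comm hz x, mul_assoc]

theorem central_inv_mem {z : Γ} (hz : z ∈ center Γ) : z⁻¹ ∈ center Γ := inv_mem hz

/-- conjugating `q = c d⁻¹ c d` by `c` inverts it up to `(c²)²` -/
theorem q_conj_c {c d : Γ} (hc2 : c * c ∈ center Γ) :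
    c * (c * d⁻¹ * c * d) * c⁻¹ * (c * d⁻¹ * c * d) = (c * c) * (c * c) := by
  calc c * (c * d⁻¹ * c * d) * c⁻¹ * (c * d⁻¹ * c * d)
      = (c * c) * d⁻¹ * (c * c) * d := by group
    _ = (c * c) * (d⁻¹ * (c * c) * d) := by group
    _ = (c * c) * ((c * c) * (d⁻¹ * d)) := by rw [central_pull hc2]
    _ = (c * c) * (c * c) := by group

/-- conjugating `q = c d⁻¹ c d` by `d` inverts it up to `(c²)²` -/
theorem q_conj_d {c d : Γ} (hc2 : c * c ∈ center Γ) (hd2 : d * d ∈ center Γ) :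
    d * (c * d⁻¹ * c * d) * d⁻¹ * (c * d⁻¹ * c * d) = (c * c) * (c * c) := by
  have hd2' : (d * d)⁻¹ ∈ center Γ := inv_mem hd2
  calc d * (c * d⁻¹ * c * d) * d⁻¹ * (c * d⁻¹ * c * d)
      = (d * c * d⁻¹) * (c * c) * (d⁻¹ * c * d) := by group
    _ = (c * c) * ((d * c * d⁻¹) * (d⁻¹ * c * d)) := by rw [central_pull hc2]
    _ = (c * c) * ((d * c) * (d * d)⁻¹ * (c * d)) := by group
    _ = (c * c) * ((d * d)⁻¹ * ((d * c) * (c * d))) := by rw [central_pull hd2']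
    _ = (c * c) * ((d * d)⁻¹ * (d * (c * c) * d)) := by group
    _ = (c * c) * ((d * d)⁻¹ * ((c * c) * (d * d))) := by rw [central_pull hc2]
    _ = (c * c) * ((d * d)⁻¹ * (c * c) * (d * d)) := by group
    _ = (c * c) * ((c * c) * ((d * d)⁻¹ * (d * d))) := by rw [central_pull hc2]
    _ = (c * c) * (c * c) := by group

/-- if `a = q² k` with `k` central and `a` commutes with `d` then `q⁴ = (c²)⁴` and `a` commutes
with `c`, where `q = c d⁻¹ c d` -/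
theorem q_lemma {a c d : Γ} (hc2 : c * c ∈ center Γ) (hd2 : d * d ∈ center Γ)
    (hk : ((c * d⁻¹ * c * d) ^ 2)⁻¹ * a ∈ center Γ) (had : a * d = d * a) :
    (c * d⁻¹ * c * d) ^ 4 = (c * c) ^ 4 ∧ a * c = c * a := by
  obtain ⟨q, hq⟩ : ∃ q, q = c * d⁻¹ * c * d := ⟨_, rfl⟩
  obtain ⟨z, hz⟩ : ∃ z, z = c * c := ⟨_, rfl⟩
  rw [← hq] at hk ⊢
  rw [← hz] at hc2 ⊢
  have h1 : c * q * c⁻¹ * q = z * z := by rw [hq, hz]; exact q_conj_c (hz ▸ hc2)
  have h2 : d * q * d⁻¹ * q = z * z := by rw [hq, hz]; exact q_conj_d (hz ▸ hc2) hd2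
  obtain ⟨k, hkd⟩ : ∃ k, k = (q ^ 2)⁻¹ * a := ⟨_, rfl⟩
  rw [← hkd] at hk
  have ha : a = q ^ 2 * k := by rw [hkd]; group
  have hz2 : z * z ∈ center Γ := mul_mem hc2 hc2
  -- conjugates of q
  have e1 : c * q * c⁻¹ = (z * z) * q⁻¹ := by rw [← h1]; group
  have e2 : d * q * d⁻¹ = (z * z) * q⁻¹ := by rw [← h2]; group
  -- (z z q⁻¹)^2 = (z z)^2 q⁻²
  have sq : ((z * z) * q⁻¹) ^ 2 = (z * z) ^ 2 * (q ^ 2)⁻¹ := by
    rw [(cen_commute hz2 q⁻¹).mul_pow, inv_pow]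
  -- d commutes with q^2
  have hdq : d * q ^ 2 * d⁻¹ = q ^ 2 := by
    have : q ^ 2 = a * k⁻¹ := by rw [ha]; group
    rw [this]
    calc d * (a * k⁻¹) * d⁻¹ = (d * a) * k⁻¹ * d⁻¹ := by group
      _ = (a * d) * k⁻¹ * d⁻¹ := by rw [had]
      _ = a * (d * k⁻¹ * d⁻¹) := by group
      _ = a * (k⁻¹ * (d * d⁻¹)) := by rw [central_pull (inv_mem hk)]
      _ = a * k⁻¹ := by group
  have hdq' : d * q ^ 2 * d⁻¹ = (d * q * d⁻¹) ^ 2 := by rw [pow_two, pow_two]; group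
  have key : q ^ 2 = (z * z) ^ 2 * (q ^ 2)⁻¹ := by
    rw [← sq, ← e2, ← hdq', hdq]
  have h4 : q ^ 4 = z ^ 4 := by
    have : q ^ 4 = q ^ 2 * q ^ 2 := by group
    rw [this]
    nth_rewrite 1 [key]
    have : (z * z) ^ 2 = z ^ 4 := by rw [← pow_two, ← pow_mul]
    rw [this]; group
  refine ⟨h4, ?_⟩
  -- c commutes with q^2
  have hcq : c * q ^ 2 * c⁻¹ = q ^ 2 := by
    have : c * q ^ 2 * c⁻¹ = (c * q * c⁻¹) ^ 2 := by rw [pow_two, pow_two]; group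
    rw [this, e1, sq, ← key]
  have : c * a * c⁻¹ = a := by
    rw [ha]
    calc c * (q ^ 2 * k) * c⁻¹ = (c * q ^ 2) * k * c⁻¹ := by group
      _ = k * ((c * q ^ 2) * c⁻¹) := by rw [central_pull hk]
      _ = k * q ^ 2 := by rw [hcq]
      _ = q ^ 2 * k := cen_comm hk _
  calc a * c = (c * a * c⁻¹) * c := by rw [this]
    _ = c * a := by group

/-- the product `b d` inverts `g = b c d⁻¹ c d` -/
theorem inv_lemma {b c d : Γ} (hb : b * b = 1) (hc : c * c = 1) (hd2 : d * d ∈ center Γ)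
    (hbd : b * d = d * b) :
    (b * d) * (b * c * d⁻¹ * c * d) * (b * d)⁻¹ = (b * c * d⁻¹ * c * d)⁻¹ := by
  have hb' : b⁻¹ = b := inv_eq_of_mul_eq_one_left hb
  have hc' : c⁻¹ = c := inv_eq_of_mul_eq_one_left hc
  have hd' : d = d⁻¹ * (d * d) := by group
  have e1 : (b * d) * (b * c * d⁻¹ * c * d) * (b * d)⁻¹ = d * c * d⁻¹ * c * b := by
    calc (b * d) * (b * c * d⁻¹ * c * d) * (b * d)⁻¹
        = (b * d) * b * c * d⁻¹ * c * b⁻¹ := by group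
      _ = (d * b) * b * c * d⁻¹ * c * b⁻¹ := by rw [hbd]
      _ = d * (b * b) * c * d⁻¹ * c * b⁻¹ := by group
      _ = d * c * d⁻¹ * c * b := by rw [hb, hb']; group
  have e2 : (b * c * d⁻¹ * c * d)⁻¹ = d⁻¹ * c * d * c * b := by
    calc (b * c * d⁻¹ * c * d)⁻¹ = d⁻¹ * c⁻¹ * d * c⁻¹ * b⁻¹ := by group
      _ = d⁻¹ * c * d * c * b := by rw [hb', hc']
  have e3 : d * c * d⁻¹ * c = d⁻¹ * c * d * c := by
    calc d * c * d⁻¹ * c = d⁻¹ * (d * d) * (c * d⁻¹ * c) := by group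
      _ = (d * d) * (d⁻¹ * (c * d⁻¹ * c)) := by rw [central_pull hd2]
      _ = (d⁻¹ * c * d⁻¹) * (d * d) * c := by rw [central_pull hd2]; group
      _ = d⁻¹ * c * d * c := by group
  rw [e1, e2, e3]

/-- the computation in a central extension of the alternating group of degree four: if `e² = ζ`,
`w³ = κ` with `κ² = 1` and `(w e)³ = ζ`, all central, then `ζ² = 1` -/
theorem a4_special {w e ζ κ : Γ} (hζ : ζ ∈ center Γ) (hκ : κ ∈ center Γ) (hκ2 : κ * κ = 1)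
    (he : e * e = ζ) (hw : w * w * w = κ) (hwe : w * e * (w * e) * (w * e) = ζ) :
    ζ * ζ = 1 := by
  obtain ⟨e₁, he₁⟩ : ∃ x, x = w * e * w⁻¹ := ⟨_, rfl⟩
  obtain ⟨e₂, he₂⟩ : ∃ x, x = w * w * e * w⁻¹ * w⁻¹ := ⟨_, rfl⟩
  have hκi : κ⁻¹ = κ := inv_eq_of_mul_eq_one_left hκ2
  -- (e w)^3 = ζ
  have h0 : e * w * (e * w) * (e * w) = ζ := by
    calc e * w * (e * w) * (e * w) = e * (w * e * (w * e) * (w * e)) * e⁻¹ := by group
      _ = e * ζ * e⁻¹ := by rw [hwe]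
      _ = ζ * (e * e⁻¹) := central_pull hζ _ _
      _ = ζ := by group
  -- (1)
  have h1 : e * e₁ * e₂ = ζ * κ := by
    calc e * e₁ * e₂ = e * w * (e * w) * (e * w) * (w * w * w)⁻¹ := by rw [he₁, he₂]; group
      _ = ζ * κ := by rw [h0, hw, hκi]
  have h22 : e₂ * e₂ = ζ := by
    calc e₂ * e₂ = (w * w) * (e * e) * (w * w)⁻¹ := by rw [he₂]; group
      _ = (w * w) * ζ * (w * w)⁻¹ := by rw [he]
      _ = ζ * ((w * w) * (w * w)⁻¹) := central_pull hζ _ _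
      _ = ζ := by group
  have h11 : e₁ * e₁ = ζ := by
    calc e₁ * e₁ = w * (e * e) * w⁻¹ := by rw [he₁]; group
      _ = w * ζ * w⁻¹ := by rw [he]
      _ = ζ * (w * w⁻¹) := central_pull hζ _ _
      _ = ζ := by group
  have hM : ζ * κ ∈ center Γ := mul_mem hζ hκ
  have hMM : ζ * κ * (ζ * κ) = ζ * ζ := by
    calc ζ * κ * (ζ * κ) = ζ * (κ * ζ * κ) := by group
      _ = ζ * (ζ * (κ * κ)) := by rw [central_pull hζ]
      _ = ζ * ζ := by rw [hκ2, mul_one]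
  -- (3)
  have h3 : e * e₁ * (e * e₁) = ζ := by
    have hP : e * e₁ = ζ * κ * e₂⁻¹ := by rw [← h1]; group
    calc e * e₁ * (e * e₁) = ζ * κ * e₂⁻¹ * (ζ * κ * e₂⁻¹) := by rw [hP]
      _ = ζ * κ * (e₂⁻¹ * (ζ * κ) * e₂⁻¹) := by group
      _ = ζ * κ * ((ζ * κ) * (e₂⁻¹ * e₂⁻¹)) := by rw [central_pull hM]
      _ = (ζ * κ * (ζ * κ)) * (e₂ * e₂)⁻¹ := by group
      _ = ζ * ζ * ζ⁻¹ := by rw [hMM, h22]
      _ = ζ := by group
  -- (4)
  have hζi := inv_mem hζ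
  have hei : e⁻¹ = e * ζ⁻¹ := by rw [← he]; group
  have he₁i : e₁⁻¹ = e₁ * ζ⁻¹ := by rw [← h11]; group
  have h4 : ⁅e, e₁⁆ = ζ⁻¹ := by
    rw [commutatorElement_def, hei, he₁i]
    calc e * e₁ * (e * ζ⁻¹) * (e₁ * ζ⁻¹) = (e * e₁ * e) * ζ⁻¹ * e₁ * ζ⁻¹ := by group
      _ = ζ⁻¹ * ((e * e₁ * e) * e₁) * ζ⁻¹ := by rw [central_pull hζi]
      _ = ζ⁻¹ * (e * e₁ * (e * e₁)) * ζ⁻¹ := by group
      _ = ζ⁻¹ := by rw [h3]; group
  -- (5)
  have hmem : e ∈ commSub e₁ := by rw [mem_commSub, h4]; exact hζi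
  have h5 : ⁅e * e, e₁⁆ = ⁅e, e₁⁆ * ⁅e, e₁⁆ := comm_mul_of_mem hmem
  rw [he, comm_central hζ, h4] at h5
  -- 1 = ζ⁻¹ * ζ⁻¹
  calc ζ * ζ = ζ * ζ * (ζ⁻¹ * ζ⁻¹) := by rw [← h5, mul_one]
    _ = 1 := by group

end Cfsg.Agent.Lib.H28.CentralTools
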