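/-
helper28 data: orbit certificates for the trios through the base octad.
-/
import Cfsg.Agent.Lib.H28.SextTrioBase
import Cfsg.Agent.Lib.H28.M24OctadOrbits

set_option autoImplicit false

namespace Cfsg.Agent.Lib.H28

def octTrioPairWords : List (List ℕ) := [[3, 0, 0, 3, 3, 0, 4, 0, 2, 1], [4, 4, 1, 1, 3, 0, 0]]

/-- Key invariant: the key contains the base octad. -/
def thruK (k : List ℕ) : ℕ := if k.contains baseOctad then 1 else 0

/-- Key invariant: the key contains the base octad and is not the base trio. -/
def thruK2 (k : List ℕ) : ℕ := if k.contains baseOctad && (k != trio0Key) then 1 else 0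

def thruCert : List (ℕ × ℕ × ℕ) := [(879, 0, 3193), (879, 1, 2534), (3193, 0, 3648), (3193, 1, 3410), (2534, 0, 2796), (3648, 0, 3780), (3648, 1, 1416), (3410, 0, 2914), (3410, 1, 2342), (2796, 0, 3728), (3780, 0, 3329), (3780, 1, 3545), (2914, 0, 2102), (3728, 0, 1693)]

def thruCert2 : List (ℕ × ℕ × ℕ) := [(879, 0, 2796), (879, 1, 2102), (2796, 0, 3545), (2796, 1, 1416), (2102, 0, 3728), (2102, 1, 3780), (1416, 0, 2342), (1416, 1, 3193), (3780, 0, 1693), (2342, 1, 3410), (3193, 0, 2914), (1693, 1, 3648), (3648, 0, 2534)]

theorem thruCert_ok : checkK (wordTis octGenWords) trioKs 879 thruCert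
    ((List.range 3795).filter (fun i => thruK (getK trioKs i) == 1)) = true := by decide +kernel

theorem thruCert2_ok : checkK (wordTis octTrioPairWords) trioKs 879 thruCert2
    ((List.range 3795).filter (fun i => thruK2 (getK trioKs i) == 1)) = true := by decide +kernel

theorem thru_count : ((flatK trioKs 3795).filter (fun k => k.contains baseOctad)).length = 15 := by decide +kernel

end Cfsg.Agent.Lib.H28
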