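/-
helper28 data: orbit certificates, stabilizer of the base quartet on the quartets of the base dodecad.
-/
import Cfsg.Agent.Lib.H28.KeyClasses
import Cfsg.Agent.Lib.H28.QuartetKeys

set_option autoImplicit false

namespace Cfsg.Agent.Lib.H28

def quart0Key : List ℕ := [7, 336, 70144, 270344]

def quartGenWords : List (List ℕ) := [[1, 3, 1, 1, 3, 1, 2, 0, 4, 1, 4, 4], [3, 1, 4, 0, 3, 0, 4, 1, 3, 0, 4, 4, 0, 3]]

set_option maxRecDepth 1000000 in
def quartQuartCert0 : List (ℕ × ℕ × ℕ) := []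

set_option maxRecDepth 1000000 in
def quartQuartCert1 : List (ℕ × ℕ × ℕ) := [(1, 0, 2), (1, 1, 127), (2, 0, 3), (2, 1, 128), (127, 0, 151), (127, 1, 158), (3, 1, 129), (151, 0, 59), (151, 1, 31), (158, 0, 98), (129, 0, 169)]

set_option maxRecDepth 1000000 in
def quartQuartCert2 : List (ℕ × ℕ × ℕ) := [(4, 0, 209), (4, 1, 93), (209, 0, 27), (209, 1, 102), (93, 0, 26), (93, 1, 103), (27, 1, 10), (102, 0, 66), (102, 1, 41), (26, 0, 5), (26, 1, 214), (103, 0, 106), (103, 1, 84), (10, 0, 90), (10, 1, 180), (66, 0, 116), (66, 1, 51), (41, 0, 216), (41, 1, 76), (5, 1, 165), (214, 0, 37), (214, 1, 137), (106, 0, 73), (106, 1, 17), (84, 1, 12), (90, 0, 18), (180, 0, 23), (180, 1, 65), (116, 1, 46), (51, 0, 205), (51, 1, 126), (216, 1, 52), (76, 0, 179), (76, 1, 185), (165, 0, 85), (165, 1, 75), (137, 1, 119), (73, 1, 47), (17, 0, 11), (17, 1, 176), (12, 1, 32), (18, 1, 15), (23, 1, 197), (65, 0, 70), (65, 1, 81), (46, 0, 145), (46, 1, 112), (205, 0, 134), (205, 1, 130), (126, 1, 188),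 (52, 0, 42), (52, 1, 117), (179, 0, 80), (179, 1, 121), (185, 0, 88), (185, 1, 108), (119, 0, 69), (47, 0, 77), (47, 1, 113), (11, 0, 182), (32, 0, 87), (32, 1, 109), (15, 0, 210), (197, 1, 60), (70, 0, 122), (145, 1, 133), (134, 1, 105), (42, 0, 123), (108, 0, 115), (108, 1, 49), (109, 1, 22)]

set_option maxRecDepth 1000000 in
def quartQuartCert3 : List (ℕ × ℕ × ℕ) := [(6, 0, 212), (6, 1, 167), (212, 0, 24), (212, 1, 48), (167, 0, 184), (167, 1, 217), (24, 1, 132), (48, 0, 181), (48, 1, 124), (184, 0, 68), (184, 1, 72), (217, 1, 218), (132, 0, 44), (181, 0, 110), (181, 1, 202), (124, 1, 16), (72, 1, 135), (218, 1, 14), (202, 1, 207), (16, 0, 9), (16, 1, 186), (135, 0, 40), (135, 1, 20), (14, 0, 78), (9, 0, 211), (186, 0, 64)]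

set_option maxRecDepth 1000000 in
def quartQuartCert4 : List (ℕ × ℕ × ℕ) := [(7, 0, 201), (7, 1, 166), (201, 0, 25), (201, 1, 101), (166, 0, 146), (166, 1, 175), (25, 1, 152), (101, 0, 203), (101, 1, 171), (146, 0, 61), (146, 1, 215), (175, 0, 195), (175, 1, 38), (152, 0, 58), (152, 1, 157), (203, 0, 164), (203, 1, 53), (171, 1, 89), (61, 1, 177), (215, 0, 139), (215, 1, 136), (195, 0, 74), (195, 1, 19), (38, 1, 13), (157, 0, 34), (157, 1, 35), (164, 1, 45), (53, 0, 168), (53, 1, 153), (89, 0, 57), (89, 1, 187), (177, 0, 83), (139, 1, 148), (136, 0, 43), (136, 1, 118), (74, 1, 194), (19, 0, 8), (19, 1, 138), (13, 0, 99), (13, 1, 183), (34, 0, 200), (34, 1, 206), (35, 0, 71), (35, 1, 82), (45, 0, 178), (45, 1, 111), (168, 0, 149), (168, 1, 161), (153, 1, 100), (57, 0, 174), (57, 1, 163), (187, 0, 86), (187, 1, 107), (83, 0, 170), (148, 0, 54), (148, 1, 189), (43, 0, 204), (43, 1, 79), (118, 0, 160), (194, 0, 94), (194, 1, 55), (8, 0, 154), (138, 0, 193), (99, 0, 21), (99, 1,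 67), (183, 0, 140), (183, 1, 144), (200, 1, 97), (206, 0, 29), (206, 1, 190), (71, 0, 199), (178, 0, 131), (178, 1, 30), (111, 0, 172), (149, 1, 213), (161, 1, 95), (100, 0, 156), (174, 1, 192), (163, 1, 141), (86, 1, 143), (107, 1, 147), (54, 0, 104), (189, 1, 150), (204, 1, 208), (160, 1, 96), (94, 0, 142), (154, 1, 114), (193, 0, 92), (193, 1, 91), (21, 1, 191), (67, 0, 173), (140, 0, 33), (140, 1, 159), (144, 0, 63), (97, 0, 62), (29, 1, 120), (190, 0, 198), (143, 0, 28), (147, 1, 36), (150, 0, 56), (208, 0, 162), (208, 1, 155), (91, 1, 50), (191, 0, 196), (173, 0, 39), (173, 1, 219), (62, 0, 125)]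

def quartQuartJ : List ℕ := [4012, 1096, 367, 448, 205]

def quartQuartN : ℕ → ℕ := fun j => if j = 4012 then 1 else if j = 1096 then 12 else if j = 367 then 72 else if j = 448 then 27 else if j = 205 then 108 else 0

set_option maxHeartbeats 4000000 in
theorem quartQuart_certs : ∀ j ∈ quartQuartJ, ∃ (start : ℕ) (cert : List (ℕ × ℕ × ℕ)),
    checkK (wordTis quartGenWords) quartKs start cert ((List.range 220).filter (fun i => pairInvK quart0Key (getK quartKs i) == j)) = true := by
  intro j hj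
  unfold quartQuartJ at hj
  simp only [List.mem_cons, List.not_mem_nil, or_false] at hj
  rcases hj with rfl | rfl | rfl | rfl | rfl
  · exact ⟨0, quartQuartCert0, by decide +kernel⟩
  · exact ⟨1, quartQuartCert1, by decide +kernel⟩
  · exact ⟨4, quartQuartCert2, by decide +kernel⟩
  · exact ⟨6, quartQuartCert3, by decide +kernel⟩
  · exact ⟨7, quartQuartCert4, by decide +kernel⟩

set_option maxHeartbeats 4000000 in
theorem quartQuart_all : (flatK quartKs 220).all (fun k => quartQuartJ.contains (pairInvK quart0Key k)) = true := by decide +kernel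

set_option maxHeartbeats 4000000 in
theorem quartQuart_counts : ∀ j ∈ quartQuartJ, ((flatK quartKs 220).filter (fun k => pairInvK quart0Key k == j)).length = quartQuartN j := by
  have h : quartQuartJ.all (fun j => ((flatK quartKs 220).filter (fun k => pairInvK quart0Key k == j)).length == quartQuartN j) = true := by
    decide +kernel
  intro j hj
  have := List.all_eq_true.1 h j hj
  rwa [beq_iff_eq] at this

theorem quartQuart_pos : ∀ j ∈ quartQuartJ, 0 < quartQuartN j := by decide

end Cfsg.Agent.Lib.H28
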