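/-
helper28 data: orbit certificates, stabilizer of the base sextet on octads.
-/
import Cfsg.Agent.Lib.H28.SextTrioBase

set_option autoImplicit false

namespace Cfsg.Agent.Lib.H28

set_option maxRecDepth 1000000 in
def sextOctCert0 : List (ℕ × ℕ) := [(2048, 0), (2048, 1), (2184, 0), (2184, 1), (2185, 0), (2185, 1), (2432, 0), (2432, 1), (3144, 0), (3144, 1), (386, 0), (386, 1), (72, 0), (72, 1), (1129, 0), (1129, 1), (1408, 1), (11, 0), (11, 1), (2129, 0), (241, 0), (241, 1), (2312, 0), (2312, 1), (1025, 0), (1025, 1), (3330, 0), (3330, 1), (514, 0), (514, 1), (99, 0), (99, 1), (259, 0), (259, 1), (145, 0), (145, 1), (2210, 1), (50, 0), (50, 1), (832, 0), (832, 1), (456, 0), (456, 1), (168, 0), (168, 1), (3074, 0), (3074, 1), (131, 1), (3273, 0), (3273, 1), (186, 0), (186, 1), (2569, 0), (2569, 1), (149, 0), (3, 1), (528, 0), (528, 1), (2115, 1), (2224, 1), (2090, 0), (2090, 1), (321, 1), (1625, 0), (1625, 1), (41, 0), (41, 1), (913, 0), (913, 1), (2648, 0), (2648,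 1), (164, 0), (164, 1), (320, 1), (2273, 0), (2273, 1), (2304, 0), (2304, 1), (577, 1), (3217, 0), (3217, 1), (2075, 0), (2075, 1), (1104, 0), (1104, 1), (1426, 1), (2122, 0), (2122, 1), (289, 0), (289, 1), (1872, 0), (1872, 1), (898, 1), (2189, 0), (2189, 1), (2086, 1), (17, 0), (17, 1), (552, 0), (552, 1), (1412, 0), (1412, 1), (3097, 0), (3097, 1), (840, 1), (2433, 0), (2433, 1), (664, 0), (664, 1), (32, 0), (32, 1), (1826, 1), (262, 0), (262, 1), (2322, 1), (2560, 1), (610, 0), (610, 1), (1380, 0), (1380, 1), (936, 1), (2316, 0), (2316, 1), (20, 0), (20, 1), (3104, 0), (3104, 1), (130, 0), (130, 1), (713, 0), (713, 1), (2256, 1), (40, 0), (40, 1), (1029, 0), (1186, 1), (435, 1), (280, 0), (3112, 0), (3112, 1), (258, 0), (258, 1), (1394, 0), (1394, 1), (409, 0), (409, 1), (153, 0), (153, 1), (82, 0), (82, 1), (545, 0), (545, 1), (1632, 0), (1632, 1), (1319, 0), (1319, 1), (3189, 0), (398, 1), (73, 0), (73, 1), (537, 1), (58, 0), (58, 1), (1280, 0), (1280, 1), (2816,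 1), (3140, 0), (3140, 1), (98, 1), (1450, 0), (1450, 1), (394, 1), (36, 0), (36, 1), (800, 0), (800, 1), (325, 0), (325, 1), (1664, 1), (567, 1), (1201, 1), (1037, 0), (1037, 1), (529, 0), (529, 1), (660, 0), (3148, 0), (3148, 1), (1570, 0), (1570, 1), (1636, 1), (452, 0), (452, 1), (169, 1), (2100, 0), (2100, 1), (2305, 0), (1152, 0), (650, 0), (650, 1), (2057, 0), (2057, 1), (2128, 0), (2128, 1), (778, 0), (196, 0), (196, 1), (329, 0), (272, 1), (1536, 1), (3086, 0), (3086, 1), (595, 0), (595, 1), (881, 0), (881, 1), (3480, 0), (522, 1), (65, 0), (65, 1), (1200, 1), (1121, 0), (1121, 1), (818, 0), (818, 1), (362, 1), (2400, 0), (2400, 1), (306, 1), (449, 0), (2097, 1), (2586, 0), (2586, 1), (1540, 0), (1540, 1), (1544, 1), (518, 0), (518, 1), (1095, 0), (690, 1), (1190, 1), (266, 0), (266, 1), (2049, 1), (2308, 0), (2353, 0), (785, 1), (1112, 0), (1058, 0), (1058, 1), (3244, 1), (3220, 1), (138, 0), (3600, 0), (3393, 0), (3393, 1), (2674, 0), (2674, 1), (113, 0),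 (113, 1), (2052, 0), (1665, 0), (576, 1), (677, 1), (2118, 1), (33, 1), (1094, 1), (788, 0), (788, 1), (2882, 1), (2, 0), (2436, 0), (2436, 1), (2612, 0), (2612, 1), (1420, 0), (2132, 0), (2132, 1), (2144, 0), (2144, 1), (3649, 0), (3649, 1), (210, 1), (3088, 1), (2817, 0), (1108, 0), (1033, 0), (160, 1), (1288, 0), (193, 1), (417, 0), (7, 0), (7, 1), (1413, 1), (2595, 0), (2595, 1), (276, 0), (276, 1), (618, 1), (804, 0), (21, 0), (21, 1), (642, 1), (2657, 1), (1972, 1), (1585, 1), (200, 1), (553, 0), (553, 1), (2864, 0), (2864, 1), (90, 0), (2825, 0), (2825, 1), (929, 1), (412, 0), (412, 1), (3612, 1), (135, 1), (3079, 0), (2900, 1), (594, 1), (2393, 0), (1072, 1), (1161, 1), (2268, 0), (226, 1), (293, 0), (293, 1), (1328, 1), (3089, 0), (2378, 1), (273, 1), (3744, 1), (1066, 1), (673, 1), (2082, 1), (2053, 0), (2053, 1), (24, 0), (2688, 1), (1042, 0), (636, 1), (25, 0), (676, 0), (676, 1), (2956, 0), (1289, 0), (2696, 0), (3722, 0), (2754, 0), (3108, 0), (705, 0),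 (705, 1), (3264, 1), (2071, 0), (668, 1), (416, 1), (532, 0), (54, 0), (1281, 0), (1236, 0), (903, 1), (64, 1), (1668, 0), (986, 1), (44, 0), (271, 0), (3348, 0), (1090, 1), (2639, 1), (1682, 0), (581, 0), (581, 1), (536, 1), (76, 1), (3105, 0), (2338, 1), (2564, 1), (1929, 1), (1043, 0), (1024, 1), (2745, 1)]

set_option maxRecDepth 1000000 in
def sextOctCert1 : List (ℕ × ℕ) := [(3072, 0), (3072, 1), (3208, 0), (3208, 1), (1034, 0), (1034, 1), (3456, 0), (3456, 1), (203, 0), (203, 1), (3329, 0), (3329, 1), (18, 0), (18, 1), (1216, 1), (2282, 0), (2282, 1), (2307, 1), (81, 0), (1234, 0), (1234, 1), (171, 0), (171, 1), (2081, 0), (2081, 1), (1297, 0), (1297, 1), (3139, 0), (3139, 1), (385, 0), (385, 1), (600, 0), (600, 1), (57, 0), (57, 1), (42, 0), (42, 1), (1057, 1), (2386, 0), (2386, 1), (283, 0), (283, 1), (592, 0), (592, 1), (2178, 0), (2178, 1), (521, 0), (521, 1), (1122, 0), (1122, 1), (290, 0), (290, 1), (1155, 0), (1155, 1), (154, 0), (154, 1), (74, 0), (74,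 1), (224, 0), (224, 1), (2848, 0), (2848, 1), (389, 0), (298, 0), (298, 1), (768, 0), (768, 1), (265, 0), (2577, 0), (2577, 1), (1539, 0), (1539, 1), (225, 0), (225, 1), (440, 0), (440, 1), (304, 0), (304, 1), (568, 0), (568, 1), (261, 0), (261, 1), (129, 1), (217, 1), (2826, 0), (2826, 1), (4, 0), (4, 1), (3073, 0), (659, 0), (659, 1), (2121, 0), (2121, 1), (560, 0), (560, 1), (1035, 0), (1035, 1), (2259, 1), (2345, 0), (2345, 1), (464, 0), (464, 1), (2321, 1), (2064, 0), (2064, 1), (8, 0), (8, 1), (1600, 0), (1600, 1), (2760, 0), (2760, 1), (2604, 1), (70, 0), (70, 1), (337, 0), (337, 1), (688, 1), (2632, 0), (1061, 0), (1061, 1), (322, 1), (674, 1), (269, 0), (269, 1), (1547, 0), (1547, 1), (22, 0), (22, 1), (2058, 1), (2624, 0), (2624, 1), (352, 0), (352, 1), (992, 1), (104, 0), (104, 1), (1825, 0), (1825, 1), (824, 0), (824, 1), (900, 1), (2134, 0), (1344, 0), (1344, 1), (3009, 0), (3009, 1), (61, 0), (61, 1), (12, 0), (1, 0), (1162, 1), (547, 0), (547, 1), (2434,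 1), (136, 0), (136, 1), (2592, 0), (2592, 1), (772, 0), (772, 1), (1283, 1), (3090, 0), (344, 0), (344, 1), (450, 1), (2600, 0), (2600, 1), (96, 0), (96, 1), (353, 0), (353, 1), (1320, 0), (1320, 1), (176, 0), (2328, 0), (2328, 1), (128, 1), (3584, 0), (3584, 1), (1158, 0), (896, 1), (1101, 0), (5, 0), (2193, 0), (2193, 1), (114, 1), (2336, 0), (2336, 1), (1861, 0), (1861, 1), (2960, 0), (2960, 1), (1030, 0), (1030, 1), (1538, 0), (1538, 1), (49, 0), (596, 0), (596, 1), (334, 0), (1056, 0), (3859, 0), (3859, 1), (2093, 0), (1296, 0), (1296, 1), (1048, 0), (648, 0), (648, 1), (2112, 0), (2720, 0), (2720, 1), (613, 0), (613, 1), (256, 0), (256, 1), (641, 0), (641, 1), (3650, 0), (3650, 1), (550, 1), (864, 1), (2853, 0), (2853, 1), (181, 0), (181, 1), (1096, 0), (163, 0), (163, 1), (706, 1), (108, 0), (294, 1), (769, 0), (769, 1), (2324, 0), (2050, 1), (1107, 1), (2563, 0), (2563, 1), (2581, 0), (2168, 0), (2168, 1), (264, 0), (1217, 0), (1217, 1), (2704, 1), (653, 0),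 (653, 1), (2628, 1), (1060, 0), (1075, 0), (1075, 1), (1193, 0), (1440, 0), (1136, 1), (904, 0), (525, 0), (513, 0), (513, 1), (66, 0), (66, 1), (1696, 0), (1352, 0), (1352, 1), (546, 1), (2544, 1), (2472, 1), (1688, 0), (1688, 1), (2190, 0), (3077, 1), (100, 0), (100, 1), (2062, 1), (162, 1), (1808, 0), (1808, 1), (1704, 1), (38, 0), (493, 0), (493, 1), (1045, 0), (147, 0), (3593, 1), (3094, 0), (3094, 1), (564, 1), (260, 0), (260, 1), (2373, 0), (2373, 1), (3080, 0), (3168, 0), (3362, 1), (1312, 0), (2840, 1), (640, 1), (1740, 0), (644, 1), (2209, 0), (2209, 1), (2562, 1), (30, 0), (1556, 1), (1572, 1), (710, 0), (1581, 0), (46, 1), (1984, 1), (3336, 0), (720, 1), (85, 1), (586, 1), (2085, 1), (228, 1), (1176, 0), (275, 0), (2691, 1), (686, 1), (776, 0), (2368, 0), (2380, 1), (3076, 0), (3115, 0), (3115, 1), (786, 1), (1088, 0), (1922, 1), (2822, 1), (9, 1), (3592, 0), (3408, 0), (35, 0), (1557, 0), (2059, 0), (2068, 1), (1648, 0), (326, 1), (608, 1), (2099, 1), (1038,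 0), (1189, 1), (773, 1), (2245, 0), (2244, 1), (146, 1), (2076, 0), (2310, 1), (517, 0), (517, 1), (384, 1), (1172, 1), (3376, 1), (123, 0), (539, 1), (3200, 1), (3968, 1), (1272, 1), (336, 0)]

set_option maxRecDepth 1000000 in
def sextOctCert2 : List (ℕ × ℕ) := [(3840, 0), (3840, 1), (1728, 0), (1728, 1), (47, 0), (1552, 0), (199, 0), (199, 1), (2311, 1), (1576, 1), (23, 1), (208, 1), (56, 0), (2320, 0)]

def sextOctJ : List ℕ := [1050, 402, 20004]

def sextOctN : ℕ → ℕ := fun j => if j = 1050 then 384 else if j = 402 then 360 else if j = 20004 then 15 else 0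

set_option maxHeartbeats 4000000 in
theorem sextOct_certs : ∀ j ∈ sextOctJ, ∃ (start : ℕ) (cert : List (ℕ × ℕ)),
    orbCheck (wordTis sextGenWords) start cert (octMasks.filter (fun m => (fun m => setInvK m sext0Key) m == j)) = true := by
  intro j hj
  unfold sextOctJ at hj
  simp only [List.mem_cons, List.not_mem_nil, or_false] at hj
  rcases hj with rfl | rfl | rfl
  · exact ⟨14919680, sextOctCert0, by decide +kernel⟩
  · exact ⟨5405696, sextOctCert1, by decide +kernel⟩
  · exact ⟨1351424, sextOctCert2, by decide +kernel⟩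

set_option maxHeartbeats 4000000 in
theorem sextOct_all : octMasks.all (fun m => sextOctJ.contains ((fun m => setInvK m sext0Key) m)) = true := by decide +kernel

set_option maxHeartbeats 4000000 in
theorem sextOct_counts : ∀ j ∈ sextOctJ, (octMasks.filter (fun m => (fun m => setInvK m sext0Key) m == j)).length = sextOctN j := by
  have h : sextOctJ.all (fun j => (octMasks.filter (fun m => (fun m => setInvK m sext0Key) m == j)).length == sextOctN j) = true := by
    decide +kernel
  intro j hj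
  have := List.all_eq_true.1 h j hj
  rwa [beq_iff_eq] at this

theorem sextOct_pos : ∀ j ∈ sextOctJ, 0 < sextOctN j := by decide

end Cfsg.Agent.Lib.H28
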