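/-
helper28 data: orbit certificates, stabilizer of the base trio on octads.
-/
import Cfsg.Agent.Lib.H28.SextTrioBase

set_option autoImplicit false

namespace Cfsg.Agent.Lib.H28

set_option maxRecDepth 1000000 in
def trioOctCert0 : List (ℕ × ℕ) := [(2048, 0), (2048, 1), (912, 0), (912, 1), (321, 0), (321, 1), (832, 0), (832, 1), (290, 0), (290, 1), (3072, 0), (3072, 1), (44, 0), (44, 1), (1104, 0), (1104, 1), (224, 0), (224, 1), (521, 0), (521, 1), (1056, 0), (1056, 1), (2692, 0), (2072, 0), (2072, 1), (46, 0), (46, 1), (3717, 0), (3717, 1), (1536, 0), (1536, 1), (22, 0), (22, 1), (1548, 0), (1548, 1), (3076, 0), (3076, 1), (2656, 0), (8, 0), (8, 1), (264, 0), (264, 1), (1301, 0), (1301, 1), (2754, 0), (2754, 1), (2208, 0), (2208, 1), (15, 0), (15, 1), (811, 0), (811, 1), (1796, 0), (1796, 1), (210, 0), (210, 1), (596, 0), (596, 1), (576, 0), (576, 1), (145, 0), (145, 1), (7, 0), (7, 1), (2566, 0), (2566, 1), (2674, 0), (2674, 1), (600, 0), (600, 1), (134, 0), (134,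 1), (2581, 0), (2581, 1), (1740, 0), (1740, 1), (560, 0), (560, 1), (196, 0), (196, 1), (2848, 0), (2848, 1), (297, 0), (297, 1), (2, 1), (567, 0), (567, 1), (1489, 0), (1489, 1), (320, 0), (320, 1), (904, 0), (904, 1), (1408, 1), (2099, 0), (2099, 1), (588, 0), (588, 1), (2153, 0), (2153, 1), (1064, 0), (338, 0), (338, 1), (881, 0), (881, 1), (1045, 0), (1045, 1), (2115, 0), (2115, 1), (3650, 0), (3650, 1), (650, 0), (3392, 1), (269, 0), (269, 1), (512, 0), (3, 0), (3, 1), (2563, 0), (2563, 1), (648, 0), (648, 1), (451, 0), (451, 1), (773, 0), (773, 1), (3273, 0), (3273, 1), (1035, 0), (1035, 1), (1648, 0), (1648, 1), (67, 0), (67, 1), (259, 0), (259, 1), (769, 1), (2242, 1), (522, 0), (522, 1), (1122, 0), (1122, 1), (528, 1), (2632, 0), (2632, 1), (1038, 0), (1038, 1), (1042, 0), (581, 0), (581, 1), (2504, 0), (2504, 1), (1320, 0), (1320, 1), (56, 1), (1121, 0), (1121, 1), (2433, 0), (2433, 1), (75, 0), (75, 1), (1670, 0), (1040, 0), (1040, 1), (114, 0), (114, 1),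 (3844, 0), (2344, 0), (2344, 1), (2160, 0), (2160, 1), (108, 0), (108, 1), (57, 0), (57, 1), (653, 0), (653, 1), (3074, 1), (1394, 0), (1394, 1), (964, 0), (3244, 0), (3244, 1), (3080, 0), (3080, 1), (824, 1), (1281, 0), (1281, 1), (291, 1), (1608, 0), (1608, 1), (1058, 0), (1058, 1), (2322, 1), (986, 1), (1413, 0), (1413, 1), (2305, 0), (2305, 1), (1217, 0), (1217, 1), (148, 0), (148, 1), (613, 0), (304, 1), (550, 0), (550, 1), (2592, 0), (2592, 1), (2900, 0), (1, 0), (1, 1), (133, 0), (133, 1), (2245, 0), (2245, 1), (2060, 0), (352, 0), (352, 1), (385, 1), (1793, 0), (1793, 1), (288, 0), (288, 1), (2882, 1), (812, 0), (1440, 0), (1440, 1), (400, 0), (400, 1), (2853, 0), (2853, 1), (2328, 1), (1352, 1), (1426, 0), (1426, 1), (1557, 0), (1557, 1), (2112, 0), (2321, 0), (2321, 1), (289, 0), (289, 1), (2184, 0), (2184, 1), (2657, 0), (2657, 1), (141, 0), (1049, 1), (2114, 0), (2114, 1), (3296, 0), (3296, 1), (136, 0), (136, 1), (547, 0), (529, 0), (529, 1), (785, 1),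 (1094, 0), (1094, 1), (2564, 0), (32, 0), (32, 1), (2600, 0), (2600, 1), (1084, 0), (3330, 1), (1048, 0), (1048, 1), (1236, 1), (384, 0), (384, 1), (293, 0), (293, 1), (1061, 0), (1061, 1), (2180, 0), (2180, 1), (835, 1), (20, 0), (20, 1), (2259, 0), (2259, 1), (1037, 0), (1037, 1), (3202, 0), (3202, 1), (706, 0), (172, 0), (172, 1), (3108, 0), (3108, 1), (1176, 1), (1090, 0), (1090, 1), (1594, 0), (1600, 0), (40, 0), (1030, 0), (1030, 1), (2150, 0), (2150, 1), (2696, 0), (2696, 1), (409, 0), (409, 1), (1033, 1), (1078, 0), (1078, 1), (1622, 0), (1622, 1), (686, 0), (3600, 0), (3600, 1), (2228, 0), (2268, 0), (2268, 1), (1319, 0), (768, 0), (768, 1), (432, 1), (3364, 0), (3364, 1), (1636, 0), (2192, 1), (525, 0), (3220, 0), (3220, 1), (2215, 0), (2215, 1), (162, 0), (262, 0), (2864, 0), (2864, 1), (2436, 0), (2472, 0), (2472, 1), (1024, 1), (21, 1), (2826, 0), (2826, 1), (3162, 1), (3115, 0), (2639, 0), (3592, 0), (216, 0), (1221, 0), (1221, 1), (1218, 1), (2308, 0),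 (2308, 1), (258, 1), (900, 0), (900, 1), (1158, 1), (2560, 0), (2560, 1), (2978, 0), (2978, 1), (1816, 0), (1816, 1), (1380, 1), (100, 0), (100, 1), (268, 1), (3489, 1), (2080, 0), (2080, 1), (618, 0), (618, 1), (28, 0), (3189, 0), (3189, 1), (2068, 0), (206, 1), (3617, 0), (482, 0), (482, 1), (181, 0), (517, 1), (2098, 0), (2098, 1), (582, 0), (582, 1), (1412, 0), (1412, 1), (132, 0), (132, 1), (2082, 1), (520, 0), (520, 1), (1189, 0), (1189, 1), (2468, 1), (2312, 0), (2312, 1), (1480, 1), (1284, 1), (818, 0), (818, 1), (275, 0), (275, 1), (1665, 0), (1665, 1), (5, 0), (5, 1), (3208, 0), (3208, 1), (1052, 0), (1052, 1), (2612, 1), (2121, 0), (2121, 1), (336, 0), (336, 1), (326, 0), (326, 1), (171, 0), (171, 1), (1543, 1), (2576, 0), (2576, 1), (710, 0), (710, 1), (2076, 0), (3148, 1), (744, 0), (744, 1), (58, 0), (58, 1), (116, 0), (116, 1), (548, 0), (548, 1), (2071, 0), (2071, 1), (2710, 0), (2710, 1), (2400, 0), (2058, 1), (1704, 1), (2062, 1), (3612, 1), (406,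 1), (3009, 0), (101, 1), (770, 1), (903, 1), (6, 0), (546, 0), (660, 0), (2324, 0), (1601, 0), (2090, 1), (1544, 0), (1544, 1), (2202, 0), (1625, 0), (154, 0), (3077, 0), (2077, 0), (725, 0), (725, 1), (1183, 0), (1183, 1), (3652, 0), (3652, 1), (752, 0), (192, 1), (2336, 0), (298, 1), (153, 0), (3859, 0), (1107, 0), (594, 0), (123, 0), (2256, 1), (138, 0), (138, 1), (3250, 1), (586, 1), (539, 1), (1190, 0), (1190, 1), (394, 1), (1972, 0), (1610, 0), (1610, 1), (2118, 0), (98, 1), (786, 0), (2443, 1), (1800, 1), (797, 1), (200, 0), (200, 1), (2216, 1), (2393, 0), (2691, 0), (2691, 1), (225, 1), (2066, 0), (169, 0), (169, 1), (1763, 0), (1763, 1), (992, 1), (1312, 1), (3586, 1), (144, 0), (130, 0), (2156, 0), (66, 0), (66, 1), (2648, 0), (2244, 0), (2185, 0), (2185, 1), (713, 0), (713, 1), (96, 1), (3632, 0), (3632, 1), (1034, 0), (1668, 0), (1668, 1), (1072, 0), (2956, 1), (3341, 1), (1129, 0), (1028, 0), (1162, 1), (1554, 0), (146, 0), (2816, 0), (2760, 1), (3097,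 0), (1128, 0), (1128, 1), (393, 1), (1095, 0), (1095, 1), (2689, 1), (514, 1), (564, 0), (518, 0), (2688, 1), (1164, 0), (2404, 0), (2316, 0), (10, 0), (10, 1), (1632, 0), (104, 0), (2104, 0), (2745, 0), (2745, 1), (93, 1), (3170, 1), (17, 1), (226, 0), (280, 1), (2825, 1), (176, 1), (2086, 0), (2586, 0), (1858, 0), (1200, 1), (2210, 1), (1539, 0), (676, 0), (553, 0), (553, 1), (1152, 0), (537, 0), (452, 1), (3139, 0), (3139, 1), (532, 0), (41, 1), (1155, 1), (1806, 0), (1929, 0), (147, 0), (579, 0), (579, 1), (199, 0), (199, 1), (2052, 0), (2052, 1), (2569, 0), (2569, 1), (659, 0), (870, 1), (3264, 1), (420, 0), (420, 1), (544, 0), (77, 0), (77, 1), (82, 0), (2434, 1), (1872, 0), (1096, 0), (1096, 1), (898, 1), (422, 1), (3526, 1), (2840, 0), (72, 1), (1252, 0), (48, 0), (449, 1), (2353, 0), (2353, 1), (456, 0), (456, 1), (1234, 1), (2051, 0), (11, 1), (1556, 0), (2122, 0), (273, 1), (3203, 0), (3203, 1), (2113, 0), (2113, 1), (2144, 0), (610, 1), (3104, 0), (140,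 0), (140, 1), (193, 1), (300, 0), (2129, 1), (2817, 0), (1161, 0), (204, 0), (3094, 1), (568, 1), (1324, 0), (1324, 1), (3348, 0), (160, 0), (1283, 1), (595, 0), (3722, 0), (690, 1), (309, 1), (3144, 1), (2190, 1), (1289, 1), (3073, 0), (577, 1), (334, 0), (3140, 0), (3217, 1), (2134, 0), (608, 0), (3393, 1), (2450, 0), (2128, 0), (1825, 1), (3362, 0), (2200, 1), (1134, 1), (1201, 1), (641, 0), (644, 0), (372, 0)]

set_option maxRecDepth 1000000 in
def trioOctCert1 : List (ℕ × ℕ) := [(3584, 0), (464, 1)]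

set_option maxRecDepth 1000000 in
def trioOctCert2 : List (ℕ × ℕ) := [(256, 0), (256, 1), (2320, 0), (2320, 1), (493, 0), (493, 1), (896, 0), (896, 1), (294, 0), (294, 1), (1066, 0), (1066, 1), (1572, 0), (1572, 1), (2624, 1), (168, 0), (168, 1), (2059, 0), (1581, 0), (1581, 1), (61, 0), (61, 1), (3152, 0), (3152, 1), (94, 0), (94, 1), (3792, 0), (3792, 1), (76, 0), (76, 1), (552, 0), (552, 1), (1029, 1), (417, 1), (362, 1), (1808, 1), (2602, 1), (1547, 0), (1547, 1), (1424, 1), (343, 0), (1059, 0), (519, 1), (1728, 1), (18, 0), (3622, 0), (3622, 1), (592, 0), (592, 1), (3112, 1), (3105, 0), (3105, 1), (246, 1), (3456, 0), (113, 0), (208, 1), (435, 0), (3079, 1), (265, 0), (265, 1), (2880, 0), (217, 1), (1552, 1), (1088, 0), (1168, 0), (412, 0), (412, 1), (3408, 0), (3408, 1), (1538, 0), (2960, 1), (9, 0), (9, 1), (2704, 1), (2050, 0), (2050, 1), (283, 0), (3200, 0), (186, 1), (99, 0), (308, 0), (2496, 1), (640, 0)]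

def trioOctJ : List ℕ := [10200, 100000002, 20001]

def trioOctN : ℕ → ℕ := fun j => if j = 10200 then 672 else if j = 100000002 then 3 else if j = 20001 then 84 else 0

set_option maxHeartbeats 4000000 in
theorem trioOct_certs : ∀ j ∈ trioOctJ, ∃ (start : ℕ) (cert : List (ℕ × ℕ)),
    orbCheck (wordTis trioGenWords) start cert (octMasks.filter (fun m => (fun m => setInvK m trio0Key) m == j)) = true := by
  intro j hj
  unfold trioOctJ at hj
  simp only [List.mem_cons, List.not_mem_nil, or_false] at hj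
  rcases hj with rfl | rfl | rfl
  · exact ⟨14919680, trioOctCert0, by decide +kernel⟩
  · exact ⟨2702848, trioOctCert1, by decide +kernel⟩
  · exact ⟨4038912, trioOctCert2, by decide +kernel⟩

set_option maxHeartbeats 4000000 in
theorem trioOct_all : octMasks.all (fun m => trioOctJ.contains ((fun m => setInvK m trio0Key) m)) = true := by decide +kernel

set_option maxHeartbeats 4000000 in
theorem trioOct_counts : ∀ j ∈ trioOctJ, (octMasks.filter (fun m => (fun m => setInvK m trio0Key) m == j)).length = trioOctN j := by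
  have h : trioOctJ.all (fun j => (octMasks.filter (fun m => (fun m => setInvK m trio0Key) m == j)).length == trioOctN j) = true := by
    decide +kernel
  intro j hj
  have := List.all_eq_true.1 h j hj
  rwa [beq_iff_eq] at this

theorem trioOct_pos : ∀ j ∈ trioOctJ, 0 < trioOctN j := by decide

end Cfsg.Agent.Lib.H28
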