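/-
helper28 library: maximality of a stabilizer from its class structure on its own orbit.
-/
import Cfsg.Agent.Lib.H28.Primitive
import Cfsg.Agent.Lib.H28.SuborbitClasses

set_option autoImplicit false

namespace Cfsg.Agent.Lib.H28

theorem isCoatom_stabilizer_of_classes {G β : Type*} [Group G] [Finite G] [MulAction G β] [DecidableEq β]
    [Finite β] (F : Set β) (hF : ∀ (g : G), ∀ x ∈ F, g • x ∈ F) (a : β)
    (htr : ∀ y ∈ F, ∃ g : G, g • a = y) (ha : a ∈ F)
    (c : β → ℕ) (J : List ℕ) (N : ℕ → ℕ)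
    (hT : ∀ x ∈ F, ∀ y ∈ F, c x = c y → ∃ g : G, g • a = a ∧ g • x = y)
    (hn : ∀ j ∈ J, {y | y ∈ F ∧ c y = j}.ncard = N j)
    (hall : ∀ y ∈ F, c y ∈ J) (M : ℕ) (hcard : F.ncard = M) (hM : 1 < M)
    (harith : ∀ A ∈ J.toFinset.powerset, c a ∈ A → (∑ j ∈ A, N j) ∣ M →
      ∑ j ∈ A, N j = 1 ∨ ∑ j ∈ A, N j = M) :
    IsCoatom (MulAction.stabilizer G a) := by
  classical
  have hfin : F.Finite := Set.toFinite F
  have hmemΩ : ∀ y, y ∈ hfin.toFinset ↔ y ∈ F := fun y => Set.Finite.mem_toFinset hfin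
  have hΩcard : hfin.toFinset.card = M := by rw [← Set.ncard_eq_toFinset_card F hfin, hcard]
  have := isCoatom_stabilizer_of_suborbits (G := G) a hfin.toFinset
    (fun y => by
      rw [hmemΩ]
      constructor
      · exact htr y
      · rintro ⟨g, rfl⟩; exact hF g a ha)
    c J.toFinset
    (fun y hy => by rw [List.mem_toFinset]; exact hall y ((hmemΩ y).1 hy))
    (fun y hy y' hy' hc => by
      obtain ⟨g, hga, hgy⟩ := hT y ((hmemΩ y).1 hy) y' ((hmemΩ y').1 hy') hc
      exact ⟨g, MulAction.mem_stabilizer_iff.2 hga, hgy⟩)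
    (by rw [hΩcard]; exact hM) N
    (fun j hj => by
      rw [List.mem_toFinset] at hj
      rw [← hn j hj, ← Set.ncard_coe_finset]
      congr 1
      ext y
      rw [Finset.mem_coe, Finset.mem_filter, hmemΩ, Set.mem_ofPred_eq])
    (by rw [hΩcard]; exact harith)
  exact this

end Cfsg.Agent.Lib.H28
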