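import Cfsg.Agent.Lib.H17.CosetCert

set_option autoImplicit false

/-!
# Certified coset enumeration, directed version (arbitrary generators)

A variant of helper17's `CosetCert` in which the facts `(a, x, b)` are used only in the forward
direction `γ x • c a = c b`, so that the generators need not be involutions.  Inverses of
generators are handled by listing them as further letters together with the relators `x x⁻¹`.
-/

namespace Cfsg.Agent.Lib.H28.CosetCertD

open Cfsg.Agent.Lib.H17.CosetCert (force force_eq BT factOf WT act act_append act_injective
  act_eq_smul Valid Inv inv_zero WordsOK tb tb_eq_testBit maskOf maskOf_nil maskOf_cons tb_maskOf)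

section checker

variable (F : ℕ → ℕ × ℕ × ℕ) (ng B : ℕ)

/-- one step of `walkD` -/
noncomputable def walkStepD (s : ℕ) (ih : ℕ → ℕ → List ℕ → Option (ℕ × ℕ × List ℕ))
    (c cur : ℕ) (rem : List ℕ) : Option (ℕ × ℕ × List ℕ) :=
  force (Nat.mod c B) fun f =>
  force (Nat.div c B) fun c' =>
  cond (Nat.ble s f) none
    (match F f with
      | (a, x, b) =>
        cond (Nat.ble ng x)
          (cond (Nat.beq cur a) (ih c' b rem) (cond (Nat.beq cur b) (ih c' a rem) none))
          (match rem with
            | [] => none
            | y :: rem' =>
              cond (Nat.beq x y)
                (cond (Nat.beq cur a) (ih c' b rem') none)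
                none))

/-- follow `n` old facts (ids `< s`, read as base-`B` digits of `c`) from `cur`, consuming
letters of `rem`; returns the remaining code, the end node and the remaining letters -/
noncomputable def walkD (s : ℕ) (n : ℕ) : ℕ → ℕ → List ℕ → Option (ℕ × ℕ × List ℕ) :=
  Nat.rec (motive := fun _ => ℕ → ℕ → List ℕ → Option (ℕ × ℕ × List ℕ))
    (fun c cur rem => some (c, cur, rem))
    (fun _ ih => walkStepD F ng B s ih)
    n

theorem walk_zeroD (s c cur : ℕ) (rem : List ℕ) :
    walkD F ng B s 0 c cur rem = some (c, cur, rem) := rfl

theorem walk_succD (s n c cur : ℕ) (rem : List ℕ) :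
    walkD F ng B s (n + 1) c cur rem = walkStepD F ng B s (walkD F ng B s n) c cur rem := rfl

/-- the final part of a scan step: the new fact `(a, x, b)` then `nq` old facts back to `k` -/
noncomputable def finishD (s cnt k a x b nq c : ℕ) (rem : List ℕ) : Option ℕ :=
  cond (Nat.ble ng x)
    (match walkD F ng B s nq c b rem with
      | some (_, k', []) => cond (Nat.beq k' k) (some cnt) none
      | _ => none)
    (match rem with
      | [] => none
      | y :: rem2 =>
        cond (Nat.beq x y)
          (match walkD F ng B s nq c b rem2 with
            | some (_, k', []) => cond (Nat.beq k' k) (some cnt) none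
            | _ => none)
          none)

/-- check step number `s` (encoded as `c`) with `cnt` nodes defined; returns the new node count.
Encoding: digit `0` for a definition; otherwise digits `w+1, k, |pre|, |post|, pre…, post…`. -/
noncomputable def checkStepD (words : WT) (s cnt c : ℕ) : Option ℕ :=
  force (Nat.mod c B) fun tag =>
  match F s with
  | (a, x, b) =>
    Nat.rec (motive := fun _ => Option ℕ)
      (cond (Nat.ble cnt a) none
        (cond (Nat.beq b cnt) (cond (Nat.ble ng x) none (some (Nat.succ cnt))) none))
      (fun w _ =>
        force (Nat.div c B) fun c1 =>
        force (Nat.mod c1 B) fun k =>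
        force (Nat.div c1 B) fun c2 =>
        force (Nat.mod c2 B) fun np =>
        force (Nat.div c2 B) fun c3 =>
        force (Nat.mod c3 B) fun nq =>
        force (Nat.div c3 B) fun c4 =>
        match WT.get words w with
        | none => none
        | some (wd, isRel) =>
          cond (isRel || Nat.beq k 0)
            (cond (Nat.ble cnt a) none
              (cond (Nat.ble cnt b) none
                (match walkD F ng B s np c4 k wd with
                  | none => none
                  | some (c5, p, rem1) =>
                    cond (Nat.beq p a) (finishD F ng B s cnt k a x b nq c5 rem1) none)))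
            none)
      tag

/-- check a list of encoded steps, starting at step number `s` with `cnt` nodes -/
noncomputable def checkStepsD (words : WT) (L : List ℕ) : ℕ → ℕ → Option ℕ :=
  List.rec (motive := fun _ => ℕ → ℕ → Option ℕ) (fun _ cnt => some cnt)
    (fun c _ ih s cnt =>
      match checkStepD F ng B words s cnt c with
      | some cnt' => force cnt' fun cnt'' => force (Nat.succ s) fun s' => ih s' cnt''
      | none => none) L

theorem checkSteps_nilD (words : WT) (s cnt : ℕ) :
    checkStepsD F ng B words [] s cnt = some cnt := rfl

theorem checkSteps_consD (words : WT) (c : ℕ) (L : List ℕ) (s cnt : ℕ) :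
    checkStepsD F ng B words (c :: L) s cnt =
      match checkStepD F ng B words s cnt c with
      | some cnt' => checkStepsD F ng B words L (s + 1) cnt'
      | none => none := by
  change (match checkStepD F ng B words s cnt c with
      | some cnt' => force cnt' fun cnt'' => force (Nat.succ s) fun s' =>
          checkStepsD F ng B words L s' cnt''
      | none => none) = _
  cases checkStepD F ng B words s cnt c with
  | none => rfl
  | some cnt' => simp only [force_eq]

end checker

section sound

variable {G Q : Type*} [Group G] [MulAction G Q]
variable (F : ℕ → ℕ × ℕ × ℕ) (ng B : ℕ) (γ : ℕ → G)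

theorem walk_soundD (c : ℕ → Q) (s : ℕ)
    (hval : ∀ f < s, Valid ng γ c (F f)) (n : ℕ) :
    ∀ (code cur : ℕ) (rem : List ℕ) (code' cur' : ℕ) (rem' : List ℕ),
      walkD F ng B s n code cur rem = some (code', cur', rem') →
      ∃ u, rem = u ++ rem' ∧ c cur' = act γ u (c cur) := by
  induction n with
  | zero =>
    intro code cur rem code' cur' rem' h
    rw [walk_zeroD] at h
    simp only [Option.some.injEq, Prod.mk.injEq] at h
    obtain ⟨-, rfl, rfl⟩ := h
    exact ⟨[], rfl, rfl⟩
  | succ n ih =>
    intro code cur rem code' cur' rem' h
    rw [walk_succD] at h
    unfold walkStepD at h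
    simp only [force_eq] at h
    cases hsf : Nat.ble s (Nat.mod code B) with
    | true => rw [hsf] at h; exact absurd h (by simp)
    | false =>
      rw [hsf] at h
      simp only [cond_false] at h
      have hlt : Nat.mod code B < s := by
        by_contra hcon
        have : Nat.ble s (Nat.mod code B) = true := Nat.ble_eq.mpr (not_lt.mp hcon)
        rw [this] at hsf
        exact absurd hsf (by simp)
      have hv := hval _ hlt
      rcases hF : F (Nat.mod code B) with ⟨a, x, b⟩
      rw [hF] at h hv
      simp only [] at h
      unfold Valid at hv
      simp only [] at hv
      cases hngx : Nat.ble ng x with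
      | true =>
        rw [hngx] at h
        simp only [cond_true] at h
        have hle : ng ≤ x := Nat.ble_eq.mp hngx
        have heq := hv.2 hle
        cases hca : Nat.beq cur a with
        | true =>
          rw [hca] at h
          simp only [cond_true] at h
          have : cur = a := Nat.eq_of_beq_eq_true hca
          subst this
          obtain ⟨u, hu, hc⟩ := ih _ _ _ _ _ _ h
          exact ⟨u, hu, by rw [hc, heq]⟩
        | false =>
          rw [hca] at h
          simp only [cond_false] at h
          cases hcb : Nat.beq cur b with
          | true =>
            rw [hcb] at h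
            simp only [cond_true] at h
            have : cur = b := Nat.eq_of_beq_eq_true hcb
            subst this
            obtain ⟨u, hu, hc⟩ := ih _ _ _ _ _ _ h
            exact ⟨u, hu, by rw [hc, heq]⟩
          | false => rw [hcb] at h; exact absurd h (by simp)
      | false =>
        rw [hngx] at h
        simp only [cond_false] at h
        have hlt' : x < ng := by
          by_contra hcon
          have : Nat.ble ng x = true := Nat.ble_eq.mpr (not_lt.mp hcon)
          rw [this] at hngx
          exact absurd hngx (by simp)
        have hact := hv.1 hlt'
        cases rem with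
        | nil => exact absurd h (by simp)
        | cons y rem2 =>
          simp only [] at h
          cases hxy : Nat.beq x y with
          | false => rw [hxy] at h; exact absurd h (by simp)
          | true =>
            rw [hxy] at h
            simp only [cond_true] at h
            have : x = y := Nat.eq_of_beq_eq_true hxy
            subst this
            cases hca : Nat.beq cur a with
            | true =>
              rw [hca] at h
              simp only [cond_true] at h
              have : cur = a := Nat.eq_of_beq_eq_true hca
              subst this
              obtain ⟨u, hu, hc⟩ := ih _ _ _ _ _ _ h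
              refine ⟨x :: u, by rw [hu]; rfl, ?_⟩
              rw [hc]
              change act γ u (c b) = act γ u (γ x • c cur)
              rw [hact]
            | false => rw [hca] at h; exact absurd h (by simp)

theorem finish_soundD (c : ℕ → Q) (s : ℕ)
    (hval : ∀ f < s, Valid ng γ c (F f)) (cnt k a x b nq code : ℕ) (rem : List ℕ) (cnt' : ℕ)
    (h : finishD F ng B s cnt k a x b nq code rem = some cnt') :
    cnt' = cnt ∧ ((x < ng ∧ ∃ u, rem = x :: u ∧ c k = act γ u (c b)) ∨
      (ng ≤ x ∧ c k = act γ rem (c b))) := by
  unfold finishD at h
  cases hngx : Nat.ble ng x with
  | true =>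
    rw [hngx] at h
    simp only [cond_true] at h
    have hle : ng ≤ x := Nat.ble_eq.mp hngx
    cases hw : walkD F ng B s nq code b rem with
    | none => rw [hw] at h; exact absurd h (by simp)
    | some r =>
      obtain ⟨c', k', rem'⟩ := r
      rw [hw] at h
      cases rem' with
      | cons _ _ => exact absurd h (by simp)
      | nil =>
        simp only [] at h
        cases hk : Nat.beq k' k with
        | false => rw [hk] at h; exact absurd h (by simp)
        | true =>
          rw [hk] at h
          simp only [cond_true, Option.some.injEq] at h
          have : k' = k := Nat.eq_of_beq_eq_true hk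
          subst this
          obtain ⟨u, hu, hc⟩ := walk_soundD F ng B γ c s hval nq _ _ _ _ _ _ hw
          rw [List.append_nil] at hu
          subst hu
          exact ⟨h.symm, Or.inr ⟨hle, hc⟩⟩
  | false =>
    rw [hngx] at h
    simp only [cond_false] at h
    have hlt' : x < ng := by
      by_contra hcon
      have : Nat.ble ng x = true := Nat.ble_eq.mpr (not_lt.mp hcon)
      rw [this] at hngx
      exact absurd hngx (by simp)
    cases rem with
    | nil => exact absurd h (by simp)
    | cons y rem2 =>
      simp only [] at h
      cases hxy : Nat.beq x y with
      | false => rw [hxy] at h; exact absurd h (by simp)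
      | true =>
        rw [hxy] at h
        simp only [cond_true] at h
        have : x = y := Nat.eq_of_beq_eq_true hxy
        subst this
        cases hw : walkD F ng B s nq code b rem2 with
        | none => rw [hw] at h; exact absurd h (by simp)
        | some r =>
          obtain ⟨c', k', rem'⟩ := r
          rw [hw] at h
          cases rem' with
          | cons _ _ => exact absurd h (by simp)
          | nil =>
            simp only [] at h
            cases hk : Nat.beq k' k with
            | false => rw [hk] at h; exact absurd h (by simp)
            | true =>
              rw [hk] at h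
              simp only [cond_true, Option.some.injEq] at h
              have : k' = k := Nat.eq_of_beq_eq_true hk
              subst this
              obtain ⟨u, hu, hc⟩ := walk_soundD F ng B γ c s hval nq _ _ _ _ _ _ hw
              rw [List.append_nil] at hu
              subst hu
              exact ⟨h.symm, Or.inl ⟨hlt', rem2, rfl, hc⟩⟩

/-- the invariant after `s` steps with `cnt` nodes: some assignment of points to the nodes makes
all facts so far valid -/

theorem checkStep_soundD (q0 : Q) (words : WT)
    (hw : WordsOK γ q0 words) (s cnt code cnt' : ℕ) (hI : Inv F ng γ q0 s cnt)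
    (h : checkStepD F ng B words s cnt code = some cnt') : Inv F ng γ q0 (s + 1) cnt' := by
  obtain ⟨hpos, c, hc0, hfacts⟩ := hI
  unfold checkStepD at h
  simp only [force_eq] at h
  rcases hF : F s with ⟨a, x, b⟩
  rw [hF] at h
  simp only [] at h
  cases htag : Nat.mod code B with
  | zero =>
    rw [htag] at h
    simp only [Nat.rec_zero] at h
    cases h1 : Nat.ble cnt a with
    | true => rw [h1] at h; exact absurd h (by simp)
    | false =>
      rw [h1] at h
      simp only [cond_false] at h
      cases h2 : Nat.beq b cnt with
      | false => rw [h2] at h; exact absurd h (by simp)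
      | true =>
        rw [h2] at h
        simp only [cond_true] at h
        cases h3 : Nat.ble ng x with
        | true => rw [h3] at h; exact absurd h (by simp)
        | false =>
          rw [h3] at h
          simp only [cond_false, Option.some.injEq] at h
          have ha : a < cnt := by
            by_contra hcon
            have : Nat.ble cnt a = true := Nat.ble_eq.mpr (not_lt.mp hcon)
            rw [this] at h1
            exact absurd h1 (by simp)
          have hb : b = cnt := Nat.eq_of_beq_eq_true h2
          have hx : x < ng := by
            by_contra hcon
            have : Nat.ble ng x = true := Nat.ble_eq.mpr (not_lt.mp hcon)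
            rw [this] at h3
            exact absurd h3 (by simp)
          subst hb
          subst h
          refine ⟨Nat.succ_pos _, Function.update c b (γ x • c a), ?_, ?_⟩
          · rw [Function.update_of_ne (by omega)]
            exact hc0
          · intro f hf
            rcases Nat.lt_succ_iff_lt_or_eq.mp hf with hlt | heq
            · obtain ⟨h1', h2', hv⟩ := hfacts f hlt
              refine ⟨by omega, by omega, ?_⟩
              unfold Valid at hv ⊢
              rw [Function.update_of_ne (by omega), Function.update_of_ne (by omega)]
              exact hv
            · subst heq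
              rw [hF]
              refine ⟨by simp only []; omega, by simp only []; omega, ?_⟩
              unfold Valid
              simp only []
              refine ⟨fun _ => ?_, fun hle => absurd hle (by omega)⟩
              rw [Function.update_self, Function.update_of_ne (by omega)]
  | succ w =>
    rw [htag] at h
    simp only at h
    cases hget : WT.get words w with
    | none => rw [hget] at h; exact absurd h (by simp)
    | some v =>
      obtain ⟨wd, isRel⟩ := v
      rw [hget] at h
      simp only [] at h
      have hmem := WT.get_mem words w _ hget
      obtain ⟨hrel, hsg⟩ := hw _ hmem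
      simp only [] at hrel hsg
      -- abbreviations
      cases hk0 : (isRel || Nat.beq (Nat.mod (Nat.div code B) B) 0) with
      | false => rw [hk0] at h; exact absurd h (by simp)
      | true =>
        rw [hk0] at h
        simp only [cond_true] at h
        cases h1 : Nat.ble cnt a with
        | true => rw [h1] at h; exact absurd h (by simp)
        | false =>
          rw [h1] at h
          simp only [cond_false] at h
          cases h2 : Nat.ble cnt b with
          | true => rw [h2] at h; exact absurd h (by simp)
          | false =>
            rw [h2] at h
            simp only [cond_false] at h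
            have ha : a < cnt := by
              by_contra hcon
              have : Nat.ble cnt a = true := Nat.ble_eq.mpr (not_lt.mp hcon)
              rw [this] at h1
              exact absurd h1 (by simp)
            have hb : b < cnt := by
              by_contra hcon
              have : Nat.ble cnt b = true := Nat.ble_eq.mpr (not_lt.mp hcon)
              rw [this] at h2
              exact absurd h2 (by simp)
            have hval : ∀ f < s, Valid ng γ c (F f) := fun f hf => (hfacts f hf).2.2
            generalize hkdef : Nat.mod (Nat.div code B) B = k at h hk0
            cases hwalk : walkD F ng B s (Nat.mod (Nat.div (Nat.div code B) B) B)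
                (Nat.div (Nat.div (Nat.div (Nat.div code B) B) B) B) k wd with
            | none => rw [hwalk] at h; exact absurd h (by simp)
            | some r =>
              obtain ⟨c5, p, rem1⟩ := r
              rw [hwalk] at h
              simp only [] at h
              cases hpa : Nat.beq p a with
              | false => rw [hpa] at h; exact absurd h (by simp)
              | true =>
                rw [hpa] at h
                simp only [cond_true] at h
                have : p = a := Nat.eq_of_beq_eq_true hpa
                subst this
                obtain ⟨u1, hu1, hc1⟩ := walk_soundD F ng B γ c s hval _ _ _ _ _ _ _ hwalk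
                obtain ⟨hcnt, hfin⟩ := finish_soundD F ng B γ c s hval _ _ _ _ _ _ _ _ _ h
                subst hcnt
                -- the word fixes `c k`
                have hfix : act γ wd (c k) = c k := by
                  cases isRel with
                  | true => exact hrel rfl _
                  | false =>
                    simp only [Bool.false_or] at hk0
                    have : k = 0 := Nat.eq_of_beq_eq_true hk0
                    subst this
                    rw [hc0]
                    exact hsg rfl
                refine ⟨hpos, c, hc0, ?_⟩
                intro f hf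
                rcases Nat.lt_succ_iff_lt_or_eq.mp hf with hlt | heq
                · exact hfacts f hlt
                · subst heq
                  rw [hF]
                  refine ⟨ha, hb, ?_⟩
                  unfold Valid
                  simp only []
                  rcases hfin with ⟨hx, u2, hu2, hc2⟩ | ⟨hx, hc2⟩
                  · refine ⟨fun _ => ?_, fun hle => absurd hle (by omega)⟩
                    apply act_injective γ u2
                    rw [← hc2, ← hfix, hu1, hu2, act_append, ← hc1]
                    rfl
                  · refine ⟨fun hlt => absurd hlt (by omega), fun _ => ?_⟩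
                    apply act_injective γ rem1
                    rw [← hc2, ← hfix, hu1, act_append, ← hc1]

theorem checkSteps_soundD (q0 : Q) (words : WT)
    (hw : WordsOK γ q0 words) (L : List ℕ) :
    ∀ (s cnt cnt' : ℕ), Inv F ng γ q0 s cnt →
      checkStepsD F ng B words L s cnt = some cnt' → Inv F ng γ q0 (s + L.length) cnt' := by
  induction L with
  | nil =>
    intro s cnt cnt' hI h
    rw [checkSteps_nilD] at h
    simp only [Option.some.injEq] at h
    subst h
    exact hI
  | cons c L ih =>
    intro s cnt cnt' hI h
    rw [checkSteps_consD] at h
    cases hstep : checkStepD F ng B words s cnt c with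
    | none => rw [hstep] at h; exact absurd h (by simp)
    | some cnt1 =>
      rw [hstep] at h
      simp only [] at h
      have := ih _ _ _ (checkStep_soundD F ng B γ q0 words hw s cnt c cnt1 hI hstep) h
      have e : s + (c :: L).length = s + 1 + L.length := by
        rw [List.length_cons]; omega
      rw [e]
      exact this

/-! ## The final table -/


noncomputable def rowStepD (M mask i : ℕ) (ih : ℕ → ℕ → Bool) (x c : ℕ) : Bool :=
  force (Nat.mod c B) fun f =>
  force (Nat.div c B) fun c' =>
  cond (Nat.ble M f) false
    (match F f with
      | (a, x', b) =>
        cond (Nat.beq x' x)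
          (cond (Nat.beq a i) (cond (tb mask b) (force (Nat.succ x) fun x1 => ih x1 c') false)
            false)
          false)

/-- check `n` entries of the row of node `i`, from generator `x` on: entry `y` must be a fact
`(i, y, j)` with `j` in the mask -/
noncomputable def checkRowD (M mask i : ℕ) (n : ℕ) : ℕ → ℕ → Bool :=
  Nat.rec (motive := fun _ => ℕ → ℕ → Bool) (fun _ _ => true)
    (fun _ ih => rowStepD F B M mask i ih) n

theorem checkRow_zeroD (M mask i x c : ℕ) : checkRowD F B M mask i 0 x c = true := rfl

theorem checkRow_succD (M mask i n x c : ℕ) :
    checkRowD F B M mask i (n + 1) x c = rowStepD F B M mask i (checkRowD F B M mask i n) x c := rfl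

theorem checkRow_soundD (M mask i : ℕ) (n : ℕ) : ∀ (x c : ℕ),
    checkRowD F B M mask i n x c = true → ∀ y, x ≤ y → y < x + n →
      ∃ f < M, ∃ j, tb mask j = true ∧ F f = (i, y, j) := by
  induction n with
  | zero => intro x c _ y h1 h2; omega
  | succ n ih =>
    intro x c h y h1 h2
    rw [checkRow_succD] at h
    unfold rowStepD at h
    simp only [force_eq] at h
    cases hM : Nat.ble M (Nat.mod c B) with
    | true => rw [hM] at h; exact absurd h (by simp)
    | false =>
      rw [hM] at h
      simp only [cond_false] at h
      have hlt : Nat.mod c B < M := by
        by_contra hcon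
        have : Nat.ble M (Nat.mod c B) = true := Nat.ble_eq.mpr (not_lt.mp hcon)
        rw [this] at hM
        exact absurd hM (by simp)
      rcases hF : F (Nat.mod c B) with ⟨a, x', b⟩
      rw [hF] at h
      simp only [] at h
      cases hx : Nat.beq x' x with
      | false => rw [hx] at h; exact absurd h (by simp)
      | true =>
        rw [hx] at h
        simp only [cond_true] at h
        have : x' = x := Nat.eq_of_beq_eq_true hx
        subst this
        have key : checkRowD F B M mask i n (Nat.succ x') (Nat.div c B) = true ∧
            ∃ j, tb mask j = true ∧ F (Nat.mod c B) = (i, x', j) := by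
          cases hai : Nat.beq a i with
          | true =>
            rw [hai] at h
            simp only [cond_true] at h
            have : a = i := Nat.eq_of_beq_eq_true hai
            subst this
            cases hb : tb mask b with
            | false => rw [hb] at h; exact absurd h (by simp)
            | true =>
              rw [hb] at h
              simp only [cond_true] at h
              exact ⟨h, b, hb, hF⟩
          | false => rw [hai] at h; exact absurd h (by simp)
        obtain ⟨hrest, j, hj, hFj⟩ := key
        rcases Nat.eq_or_lt_of_le h1 with heq | hlt'
        · subst heq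
          exact ⟨_, hlt, j, hj, hFj⟩
        · exact ih _ _ hrest y hlt' (by omega)

/-- check all rows: row code `c` has digits `i, f_0, …, f_{ng-1}` -/
noncomputable def checkRowsD (M mask : ℕ) (L : List ℕ) : Bool :=
  List.rec (motive := fun _ => Bool) true
    (fun c _ ih =>
      force (Nat.mod c B) fun i =>
      force (Nat.div c B) fun c' =>
      cond (checkRowD F B M mask i ng 0 c') ih false) L

theorem checkRows_nilD (M mask : ℕ) : checkRowsD F ng B M mask [] = true := rfl

theorem checkRows_consD (M mask c : ℕ) (L : List ℕ) :
    checkRowsD F ng B M mask (c :: L) =
      cond (checkRowD F B M mask (Nat.mod c B) ng 0 (Nat.div c B))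
        (checkRowsD F ng B M mask L) false := by
  change force (Nat.mod c B) (fun i => force (Nat.div c B) fun c' =>
    cond (checkRowD F B M mask i ng 0 c') (checkRowsD F ng B M mask L) false) = _
  rw [force_eq, force_eq]

theorem checkRows_appendD (M mask : ℕ) (L1 L2 : List ℕ) :
    checkRowsD F ng B M mask (L1 ++ L2) =
      (checkRowsD F ng B M mask L1 && checkRowsD F ng B M mask L2) := by
  induction L1 with
  | nil => simp [checkRows_nilD]
  | cons c L ih =>
    rw [List.cons_append, checkRows_consD, checkRows_consD, ih]
    cases checkRowD F B M mask (Nat.mod c B) ng 0 (Nat.div c B) <;> simp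

theorem checkRows_soundD (M mask : ℕ) (L : List ℕ) (h : checkRowsD F ng B M mask L = true) :
    ∀ c ∈ L, ∀ y < ng, ∃ f < M, ∃ j, tb mask j = true ∧
      F f = (Nat.mod c B, y, j) := by
  induction L with
  | nil => intro c hc; exact absurd hc (by simp)
  | cons c0 L ih =>
    rw [checkRows_consD] at h
    cases hrow : checkRowD F B M mask (Nat.mod c0 B) ng 0 (Nat.div c0 B) with
    | false => rw [hrow] at h; exact absurd h (by simp)
    | true =>
      rw [hrow] at h
      simp only [cond_true] at h
      intro c hc y hy
      rcases List.mem_cons.mp hc with rfl | hc'
      · exact checkRow_soundD F B M mask _ ng 0 _ hrow y (Nat.zero_le _) (by omega)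
      · exact ih h c hc' y hy

/-- **Upper bound.** A certified trace with a closed final table shows that the points of the
rows cover the transitive `G`-set `Q`. -/
theorem coveredD (q0 : Q) (M cnt : ℕ) (hI : Inv F ng γ q0 M cnt)
    (rows : List ℕ) (mask : ℕ) (hmask : maskOf B rows 0 = mask) (h0 : tb mask 0 = true)
    (hrows : checkRowsD F ng B M mask rows = true)
    (hgen : Subgroup.closure {g : G | ∃ x < ng, g = γ x} = ⊤)
    [MulAction.IsPretransitive G Q] :
    ∃ c : ℕ → Q, ∀ q : Q, ∃ r ∈ rows, q = c (Nat.mod r B) := by
  obtain ⟨-, c, hc0, hfacts⟩ := hI
  refine ⟨c, ?_⟩
  have hlive : ∀ j, tb mask j = true → ∃ r ∈ rows, Nat.mod r B = j := by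
    intro j hj
    rw [← hmask] at hj
    rcases tb_maskOf B rows 0 j hj with h | h
    · rw [tb_eq_testBit, Nat.zero_testBit] at h
      exact absurd h (by simp)
    · exact h
  have hrs := checkRows_soundD F ng B M mask rows hrows
  -- the coveredD set is closed under the generators
  have hclosed : ∀ x < ng, ∀ q : Q, (∃ r ∈ rows, q = c (Nat.mod r B)) →
      ∃ r ∈ rows, γ x • q = c (Nat.mod r B) := by
    intro x hx q ⟨r, hr, hq⟩
    obtain ⟨f, hf, j, hj, hFj⟩ := hrs r hr x hx
    obtain ⟨r', hr', hj'⟩ := hlive j hj
    obtain ⟨-, -, hv⟩ := hfacts f hf
    refine ⟨r', hr', ?_⟩
    rw [hj', hq]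
    unfold Valid at hv
    rw [hFj] at hv
    exact hv.1 hx
  have hall : ∀ g : G, ∀ q : Q, (∃ r ∈ rows, q = c (Nat.mod r B)) →
      ∃ r ∈ rows, g • q = c (Nat.mod r B) := by
    intro g
    have hg : g ∈ Subgroup.closure {g : G | ∃ x < ng, g = γ x} := by rw [hgen]; trivial
    induction hg using Subgroup.closure_induction with
    | mem g hg =>
      obtain ⟨x, hx, rfl⟩ := hg
      exact hclosed x hx
    | one => intro q hq; rw [one_smul]; exact hq
    | mul g1 g2 _ _ ih1 ih2 =>
      intro q hq
      rw [mul_smul]
      exact ih1 _ (ih2 _ hq)
    | inv g _ ih =>
      -- `g⁻¹ • q` : use finiteness-free argument via generators being involutions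
      intro q hq
      -- the set of coveredD points is finite and `g •` maps it injectively into itself
      classical
      let S : Finset Q := (rows.map fun r => c (Nat.mod r B)).toFinset
      have hS : ∀ q : Q, q ∈ S ↔ ∃ r ∈ rows, q = c (Nat.mod r B) := by
        intro q
        simp only [S, List.mem_toFinset, List.mem_map]
        constructor
        · rintro ⟨r, hr, rfl⟩; exact ⟨r, hr, rfl⟩
        · rintro ⟨r, hr, rfl⟩; exact ⟨r, hr, rfl⟩
      have hmaps : ∀ q ∈ S, g • q ∈ S := fun q hq => (hS _).mpr (ih q ((hS q).mp hq))
      have hsurj : Set.SurjOn (fun q => g • q) (S : Set Q) (S : Set Q) :=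
        Finset.surjOn_of_injOn_of_card_le (fun q => g • q) hmaps
          (fun a _ b _ hab => MulAction.injective g hab) le_rfl
      obtain ⟨q', hq', hqq⟩ := hsurj (Finset.mem_coe.mpr ((hS q).mpr hq))
      have : g⁻¹ • q = q' := by
        rw [← hqq]
        simp
      rw [this]
      exact (hS q').mp (Finset.mem_coe.mp hq')
  intro q
  obtain ⟨g, rfl⟩ := MulAction.exists_smul_eq G q0 q
  apply hall
  obtain ⟨r, hr, hr0⟩ := hlive 0 h0
  exact ⟨r, hr, by rw [hr0, hc0]⟩

theorem card_leD (q0 : Q) (M cnt : ℕ) (hI : Inv F ng γ q0 M cnt)
    (rows : List ℕ) (mask : ℕ) (hmask : maskOf B rows 0 = mask) (h0 : tb mask 0 = true)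
    (hrows : checkRowsD F ng B M mask rows = true)
    (hgen : Subgroup.closure {g : G | ∃ x < ng, g = γ x} = ⊤)
    [MulAction.IsPretransitive G Q] :
    Finite Q ∧ Nat.card Q ≤ rows.length := by
  obtain ⟨c, hc⟩ := coveredD F ng B γ q0 M cnt hI rows mask hmask h0 hrows hgen
  let φ : Fin rows.length → Q := fun t => c (Nat.mod (rows.get t) B)
  have hφ : Function.Surjective φ := by
    intro q
    obtain ⟨r, hr, hq⟩ := hc q
    obtain ⟨t, ht⟩ := List.get_of_mem hr
    exact ⟨t, by simp only [φ]; rw [ht, hq]⟩
  refine ⟨Finite.of_surjective φ hφ, ?_⟩
  have := Nat.card_le_card_of_surjective φ hφ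
  rwa [Nat.card_fin] at this

end sound
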