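import Mathlib

/-!
# Coxeter groups with central squares (helper28)

For a Coxeter matrix `M` with entries in `{1, 2, 3}` we consider the group `Wt M` generated by
`σ_i` subject to the braid relations, exact commutation for `M i j = 2`, and `σ_i ^ 2 = σ_j ^ 2`
central.  The kernel `K` of the degree map `Wt M → ℤ` embeds into the Coxeter group, with image in
the kernel of the sign character.  Consequence: a *perfect* group generated by elements `s i`
satisfying these relations has order at most `|W| / 2`.
-/

set_option autoImplicit false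

namespace Cfsg.Agent.Lib.H28.CoxSpin

local notation "of" => FreeGroup.of

universe u v

variable {B : Type u} (M : CoxeterMatrix B)

/-- Relators of the cover with central squares. -/
def relsT : Set (FreeGroup B) :=
  {r | ∃ i j, M i j = 3 ∧ r = of i * of j * of i * (of j * of i * of j)⁻¹} ∪
  {r | ∃ i j, M i j = 2 ∧ r = of i * of j * (of j * of i)⁻¹} ∪
  {r | ∃ i j, r = of i * of i * (of j * of j)⁻¹} ∪
  {r | ∃ i k, r = of i * of i * of k * (of k * (of i * of i))⁻¹}

/-- The cover. -/
abbrev Wt : Type u := PresentedGroup (relsT M)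

/-- Its generators. -/
def sg (i : B) : Wt M := PresentedGroup.of i

variable {M}

theorem sg_braid {i j : B} (h : M i j = 3) : sg M i * sg M j * sg M i = sg M j * sg M i * sg M j := by
  have hr : of i * of j * of i * (of j * of i * of j)⁻¹ ∈ relsT M :=
    Or.inl (Or.inl (Or.inl ⟨i, j, h, rfl⟩))
  have h1 := PresentedGroup.one_of_mem hr
  rw [_root_.map_mul, _root_.map_inv, mul_inv_eq_one] at h1
  simpa only [sg, PresentedGroup.of, _root_.map_mul] using h1

theorem sg_comm {i j : B} (h : M i j = 2) : sg M i * sg M j = sg M j * sg M i := by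
  have hr : of i * of j * (of j * of i)⁻¹ ∈ relsT M :=
    Or.inl (Or.inl (Or.inr ⟨i, j, h, rfl⟩))
  have h1 := PresentedGroup.one_of_mem hr
  rw [_root_.map_mul, _root_.map_inv, mul_inv_eq_one] at h1
  simpa only [sg, PresentedGroup.of, _root_.map_mul] using h1

theorem sg_sq (i j : B) : sg M i * sg M i = sg M j * sg M j := by
  have hr : of i * of i * (of j * of j)⁻¹ ∈ relsT M :=
    Or.inl (Or.inr ⟨i, j, rfl⟩)
  have h1 := PresentedGroup.one_of_mem hr
  rw [_root_.map_mul, _root_.map_inv, mul_inv_eq_one] at h1
  simpa only [sg, PresentedGroup.of, _root_.map_mul] using h1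

theorem sg_sq_comm (i k : B) : sg M i * sg M i * sg M k = sg M k * (sg M i * sg M i) := by
  have hr : of i * of i * of k * (of k * (of i * of i))⁻¹ ∈ relsT M :=
    Or.inr ⟨i, k, rfl⟩
  have h1 := PresentedGroup.one_of_mem hr
  rw [_root_.map_mul, _root_.map_inv, mul_inv_eq_one] at h1
  simpa only [sg, PresentedGroup.of, _root_.map_mul] using h1

/-- Homomorphisms out of the cover. -/
def liftT {G : Type v} [Group G] (f : B → G)
    (hb : ∀ i j, M i j = 3 → f i * f j * f i = f j * f i * f j)
    (hc : ∀ i j, M i j = 2 → f i * f j = f j * f i)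
    (hs : ∀ i j, f i * f i = f j * f j)
    (hz : ∀ i k, f i * f i * f k = f k * (f i * f i)) : Wt M →* G :=
  PresentedGroup.toGroup (f := f) (by
    intro r hr
    rcases hr with ((⟨i, j, h, rfl⟩ | ⟨i, j, h, rfl⟩) | ⟨i, j, rfl⟩) | ⟨i, k, rfl⟩
    · simp only [_root_.map_mul, _root_.map_inv, FreeGroup.lift_apply_of, mul_inv_eq_one]
      exact hb i j h
    · simp only [_root_.map_mul, _root_.map_inv, FreeGroup.lift_apply_of, mul_inv_eq_one]
      exact hc i j h
    · simp only [_root_.map_mul, _root_.map_inv, FreeGroup.lift_apply_of, mul_inv_eq_one]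
      exact hs i j
    · simp only [_root_.map_mul, _root_.map_inv, FreeGroup.lift_apply_of, mul_inv_eq_one]
      exact hz i k)

@[simp] theorem liftT_sg {G : Type v} [Group G] (f : B → G)
    (hb : ∀ i j, M i j = 3 → f i * f j * f i = f j * f i * f j)
    (hc : ∀ i j, M i j = 2 → f i * f j = f j * f i)
    (hs : ∀ i j, f i * f i = f j * f j)
    (hz : ∀ i k, f i * f i * f k = f k * (f i * f i)) (i : B) :
    liftT f hb hc hs hz (sg M i) = f i :=
  PresentedGroup.toGroup.of _

theorem closure_sg : Subgroup.closure (Set.range (sg M)) = ⊤ :=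
  PresentedGroup.closure_range_of _

theorem hom_ext {G : Type v} [Group G] {φ ψ : Wt M →* G} (h : ∀ i, φ (sg M i) = ψ (sg M i)) :
    φ = ψ :=
  PresentedGroup.ext h

end Cfsg.Agent.Lib.H28.CoxSpin
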