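import Cfsg.Agent.Lib.H28.CoxSpinA

/-!
# Coxeter groups with central squares, II: the degree trick (helper28)
-/

set_option autoImplicit false

namespace Cfsg.Agent.Lib.H28.CoxSpin

universe u v

variable {B : Type u} {M : CoxeterMatrix B}

/-- The degree map. -/
def deg : Wt M →* Multiplicative ℤ :=
  liftT (fun _ => Multiplicative.ofAdd (1 : ℤ)) (fun _ _ _ => rfl) (fun _ _ _ => rfl)
    (fun _ _ => rfl) (fun _ _ => rfl)

@[simp] theorem deg_sg (i : B) : deg (sg M i) = Multiplicative.ofAdd (1 : ℤ) := liftT_sg _ _ _ _ _ i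

theorem simple_inv (i : B) : (M.simple i)⁻¹ = M.simple i := by
  have h := M.toCoxeterSystem.inv_simple i
  rwa [CoxeterMatrix.toCoxeterSystem_simple] at h

theorem simple_sq (i : B) : M.simple i * M.simple i = 1 := by
  have h := M.toCoxeterSystem.simple_mul_simple_self i
  rwa [CoxeterMatrix.toCoxeterSystem_simple] at h

theorem simple_pow (i j : B) : (M.simple i * M.simple j) ^ M i j = 1 := by
  have h := M.toCoxeterSystem.simple_mul_simple_pow i j
  rwa [CoxeterMatrix.toCoxeterSystem_simple] at h

theorem simple_braid {i j : B} (h : M i j = 3) :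
    M.simple i * M.simple j * M.simple i = M.simple j * M.simple i * M.simple j := by
  have h1 := simple_pow (M := M) i j
  rw [h, pow_three] at h1
  have h2 : M.simple i * M.simple j * M.simple i = (M.simple j * M.simple i * M.simple j)⁻¹ := by
    rw [eq_inv_iff_mul_eq_one]
    rw [← h1]
    group
  rw [h2, mul_inv_rev, mul_inv_rev, simple_inv, simple_inv, mul_assoc]

theorem simple_comm {i j : B} (h : M i j = 2) :
    M.simple i * M.simple j = M.simple j * M.simple i := by
  have h1 := simple_pow (M := M) i j
  rw [h, pow_two] at h1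
  have h2 : M.simple i * M.simple j = (M.simple i * M.simple j)⁻¹ := by
    rw [eq_inv_iff_mul_eq_one]
    exact h1
  rw [h2, mul_inv_rev, simple_inv, simple_inv]

/-- The projection to the Coxeter group. -/
def proj : Wt M →* M.Group :=
  liftT (fun i => M.simple i) (fun _ _ h => simple_braid h) (fun _ _ h => simple_comm h)
    (fun i j => by rw [simple_sq, simple_sq]) (fun i k => by rw [simple_sq, one_mul, mul_one])

@[simp] theorem proj_sg (i : B) : proj (sg M i) = M.simple i := liftT_sg _ _ _ _ _ i

/-- The common square. -/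
def alpha (i0 : B) : Wt M := sg M i0 * sg M i0

theorem alpha_eq (i0 i : B) : sg M i * sg M i = alpha (M := M) i0 := sg_sq i i0

theorem alpha_comm (i0 : B) (x : Wt M) : alpha i0 * x = x * alpha i0 := by
  have hx : x ∈ Subgroup.closure (Set.range (sg M)) := by rw [closure_sg]; exact Subgroup.mem_top _
  induction hx using Subgroup.closure_induction with
  | mem y hy =>
    obtain ⟨k, rfl⟩ := hy
    exact sg_sq_comm i0 k
  | one => rw [mul_one, one_mul]
  | mul y z _ _ hy hz => rw [← mul_assoc, hy, mul_assoc, hz, mul_assoc]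
  | inv y _ hy =>
    exact (Commute.inv_right (show Commute _ _ from hy)).eq

instance alpha_normal (i0 : B) : (Subgroup.zpowers (alpha (M := M) i0)).Normal := by
  constructor
  intro n hn g
  obtain ⟨k, rfl⟩ := Subgroup.mem_zpowers_iff.1 hn
  have h : g * alpha i0 ^ k * g⁻¹ = alpha (M := M) i0 ^ k := by
    have hc : Commute (alpha (M := M) i0) g := alpha_comm i0 g
    have := (hc.zpow_left k).eq
    rw [mul_inv_eq_iff_eq_mul, this]
  rw [h]
  exact Subgroup.zpow_mem_zpowers _ k

theorem deg_alpha (i0 : B) : deg (alpha (M := M) i0) = Multiplicative.ofAdd (2 : ℤ) := by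
  unfold alpha
  rw [map_mul, deg_sg]
  rfl

section
variable (hM : ∀ i j : B, M i j = 1 ∨ M i j = 2 ∨ M i j = 3) (i0 : B)
include hM

theorem liftable_quot :
    M.IsLiftable (fun i => (QuotientGroup.mk (sg M i) : Wt M ⧸ Subgroup.zpowers (alpha (M := M) i0))) := by
  intro i j
  change ((QuotientGroup.mk (sg M i) : Wt M ⧸ Subgroup.zpowers (alpha (M := M) i0)) *
    QuotientGroup.mk (sg M j)) ^ M i j = 1
  rw [← QuotientGroup.mk_mul, ← QuotientGroup.mk_pow, QuotientGroup.eq_one_iff]
  rcases hM i j with h | h | h
  · have hij : i = j := by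
      by_contra hne
      exact M.off_diagonal i j hne h
    subst hij
    rw [h, pow_one, alpha_eq i0 i]
    exact Subgroup.mem_zpowers _
  · rw [h, pow_two]
    have e : sg M i * sg M j * (sg M i * sg M j) = alpha (M := M) i0 ^ 2 := by
      have h1 : sg M j * sg M i = sg M i * sg M j := (sg_comm h).symm
      calc sg M i * sg M j * (sg M i * sg M j) = sg M i * (sg M j * sg M i) * sg M j := by group
        _ = (sg M i * sg M i) * (sg M j * sg M j) := by rw [h1]; group
        _ = alpha (M := M) i0 ^ 2 := by rw [alpha_eq i0 i, alpha_eq i0 j, pow_two]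
    rw [e]
    exact Subgroup.pow_mem _ (Subgroup.mem_zpowers _) 2
  · rw [h, pow_three]
    have e : sg M i * sg M j * (sg M i * sg M j * (sg M i * sg M j)) = alpha (M := M) i0 ^ 3 := by
      have hb := sg_braid h
      have ha : ∀ k, sg M k * sg M k = alpha (M := M) i0 := fun k => alpha_eq i0 k
      calc sg M i * sg M j * (sg M i * sg M j * (sg M i * sg M j))
          = (sg M i * sg M j * sg M i) * (sg M j * sg M i * sg M j) := by group
        _ = (sg M i * sg M j * sg M i) * (sg M i * sg M j * sg M i) := by rw [← hb]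
        _ = sg M i * sg M j * (sg M i * sg M i) * sg M j * sg M i := by group
        _ = sg M i * sg M j * alpha i0 * sg M j * sg M i := by rw [ha]
        _ = alpha i0 * (sg M i * (sg M j * sg M j) * sg M i) := by
            rw [mul_assoc (sg M i), ← alpha_comm i0 (sg M j), ← mul_assoc, ← alpha_comm i0 (sg M i)]
            group
        _ = alpha i0 * (sg M i * alpha i0 * sg M i) := by rw [ha]
        _ = alpha i0 * (alpha i0 * (sg M i * sg M i)) := by
            rw [← alpha_comm i0 (sg M i)]; group
        _ = alpha (M := M) i0 ^ 3 := by rw [ha, pow_three]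
    rw [e]
    exact Subgroup.pow_mem _ (Subgroup.mem_zpowers _) 3

/-- The section modulo `alpha`. -/
noncomputable def back : M.Group →* Wt M ⧸ Subgroup.zpowers (alpha (M := M) i0) :=
  M.toCoxeterSystem.lift ⟨_, liftable_quot hM i0⟩

theorem back_simple (i : B) : back hM i0 (M.simple i) = QuotientGroup.mk (sg M i) := by
  have h := M.toCoxeterSystem.lift_apply_simple (liftable_quot hM i0) i
  rwa [CoxeterMatrix.toCoxeterSystem_simple] at h

theorem back_comp_proj : (back hM i0).comp proj = QuotientGroup.mk' (Subgroup.zpowers (alpha (M := M) i0)) := by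
  apply hom_ext
  intro i
  rw [MonoidHom.comp_apply, proj_sg, back_simple]
  rfl

theorem ker_proj_le : (proj (M := M)).ker ≤ Subgroup.zpowers (alpha (M := M) i0) := by
  intro x hx
  have h1 : (back hM i0).comp proj x = 1 := by
    rw [MonoidHom.comp_apply, MonoidHom.mem_ker.1 hx, map_one]
  rw [back_comp_proj hM i0] at h1
  exact (QuotientGroup.eq_one_iff x).1 h1

/-- The projection is injective on the kernel of the degree. -/
theorem eq_one_of_deg_of_proj (i0 : B) {x : Wt M} (hd : deg x = 1) (hp : proj x = 1) : x = 1 := by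
  obtain ⟨n, rfl⟩ := Subgroup.mem_zpowers_iff.1 (ker_proj_le hM i0 (MonoidHom.mem_ker.2 hp))
  rw [map_zpow, deg_alpha] at hd
  have h2 : (2 : ℤ) * n = 0 := by
    have : Multiplicative.toAdd ((Multiplicative.ofAdd (2 : ℤ)) ^ n) = Multiplicative.toAdd (1 : Multiplicative ℤ) := by
      rw [hd]
    rw [toAdd_zpow, toAdd_ofAdd, toAdd_one, smul_eq_mul] at this
    linarith
  have hn : n = 0 := by omega
  rw [hn, zpow_zero]

end

/-- The sign character of the Coxeter group. -/
noncomputable def sign : M.Group →* Multiplicative (ZMod 2) :=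
  M.toCoxeterSystem.lift ⟨fun _ => Multiplicative.ofAdd (1 : ZMod 2), by
    intro i j
    have : (Multiplicative.ofAdd (1 : ZMod 2)) * Multiplicative.ofAdd (1 : ZMod 2) = 1 := by decide
    change (Multiplicative.ofAdd (1 : ZMod 2) * Multiplicative.ofAdd (1 : ZMod 2)) ^ M i j = 1
    rw [this, one_pow]⟩

theorem sign_simple (i : B) : sign (M.simple i) = Multiplicative.ofAdd (1 : ZMod 2) := by
  have h := M.toCoxeterSystem.lift_apply_simple (G := Multiplicative (ZMod 2))
    (f := fun _ => Multiplicative.ofAdd (1 : ZMod 2)) (by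
      intro i j
      have : (Multiplicative.ofAdd (1 : ZMod 2)) * Multiplicative.ofAdd (1 : ZMod 2) = 1 := by decide
      change (Multiplicative.ofAdd (1 : ZMod 2) * Multiplicative.ofAdd (1 : ZMod 2)) ^ M i j = 1
      rw [this, one_pow]) i
  rwa [CoxeterMatrix.toCoxeterSystem_simple] at h

/-- Reduction of the degree modulo two. -/
def red : Multiplicative ℤ →* Multiplicative (ZMod 2) := AddMonoidHom.toMultiplicative (Int.castAddHom (ZMod 2))

theorem sign_proj : (sign (M := M)).comp proj = red.comp deg := by
  apply hom_ext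
  intro i
  rw [MonoidHom.comp_apply, MonoidHom.comp_apply, proj_sg, sign_simple, deg_sg]
  rfl

theorem sign_proj_of_deg {x : Wt M} (hd : deg x = 1) : sign (proj x) = 1 := by
  have h := DFunLike.congr_fun (sign_proj (M := M)) x
  rw [MonoidHom.comp_apply, MonoidHom.comp_apply, hd, map_one] at h
  exact h

theorem card_ker_sign [Nonempty B] [Finite M.Group] :
    Nat.card (sign (M := M)).ker * 2 = Nat.card M.Group := by
  have hs : Function.Surjective (sign (M := M)) := by
    intro y
    obtain ⟨i⟩ := ‹Nonempty B›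
    have hy : y = 1 ∨ y = Multiplicative.ofAdd (1 : ZMod 2) := by
      revert y; decide
    rcases hy with rfl | rfl
    · exact ⟨1, map_one _⟩
    · exact ⟨M.simple i, sign_simple i⟩
  have h1 := Subgroup.card_mul_index (sign (M := M)).ker
  rw [Subgroup.index_ker, MonoidHom.range_eq_top.2 hs, Subgroup.card_top] at h1
  have h2 : Nat.card (Multiplicative (ZMod 2)) = 2 := by
    rw [Nat.card_eq_fintype_card]; rfl
  rw [h2] at h1
  exact h1

/-- The main bound: the kernel of the degree has at most `|W| / 2` elements. -/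
theorem card_ker_deg [Nonempty B] [Finite M.Group] (hM : ∀ i j : B, M i j = 1 ∨ M i j = 2 ∨ M i j = 3) :
    Finite (deg (M := M)).ker ∧ Nat.card (deg (M := M)).ker * 2 ≤ Nat.card M.Group := by
  obtain ⟨i0⟩ := ‹Nonempty B›
  let f : (deg (M := M)).ker → (sign (M := M)).ker := fun x =>
    ⟨proj x.1, MonoidHom.mem_ker.2 (sign_proj_of_deg (MonoidHom.mem_ker.1 x.2))⟩
  have hf : Function.Injective f := by
    intro x y hxy
    have h1 : proj x.1 = proj y.1 := congrArg Subtype.val hxy
    have h2 : proj (x.1 * y.1⁻¹) = 1 := by rw [map_mul, map_inv, h1, mul_inv_cancel]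
    have h3 : deg (x.1 * y.1⁻¹) = 1 := by
      rw [map_mul, map_inv, MonoidHom.mem_ker.1 x.2, MonoidHom.mem_ker.1 y.2, inv_one, mul_one]
    have h4 := eq_one_of_deg_of_proj hM i0 h3 h2
    apply Subtype.ext
    exact mul_inv_eq_one.1 h4
  have hfin : Finite (deg (M := M)).ker := Finite.of_injective f hf
  refine ⟨hfin, ?_⟩
  rw [← card_ker_sign (M := M)]
  exact Nat.mul_le_mul_right 2 (Nat.card_le_card_of_injective f hf)

/-- **Main theorem.** A perfect group generated by elements satisfying the braid relations, exact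
commutation and having a common central square has at most `|W| / 2` elements. -/
theorem card_le_of_perfect [Nonempty B] [Finite M.Group]
    (hM : ∀ i j : B, M i j = 1 ∨ M i j = 2 ∨ M i j = 3)
    {Γ : Type v} [Group Γ] (s : B → Γ)
    (hb : ∀ i j, M i j = 3 → s i * s j * s i = s j * s i * s j)
    (hc : ∀ i j, M i j = 2 → s i * s j = s j * s i)
    (hs : ∀ i j, s i * s i = s j * s j)
    (hz : ∀ i k, s i * s i * s k = s k * (s i * s i))
    (hgen : Subgroup.closure (Set.range s) = ⊤) (hperf : commutator Γ = ⊤) :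
    Finite Γ ∧ Nat.card Γ * 2 ≤ Nat.card M.Group := by
  obtain ⟨hfin, hcard⟩ := card_ker_deg (M := M) hM
  let φ : Wt M →* Γ := liftT s hb hc hs hz
  have hφs : Function.Surjective φ := by
    rw [← MonoidHom.range_eq_top, eq_top_iff, ← hgen, Subgroup.closure_le]
    rintro _ ⟨i, rfl⟩
    exact ⟨sg M i, liftT_sg _ _ _ _ _ i⟩
  have h1 : commutator (Wt M) ≤ (deg (M := M)).ker := Abelianization.commutator_subset_ker _
  have h2 : (commutator (Wt M)).map φ = commutator Γ := by
    rw [commutator_def, Subgroup.map_commutator, Subgroup.map_top_of_surjective _ hφs,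
      ← commutator_def]
  have h3 : ∀ γ : Γ, ∃ x : (deg (M := M)).ker, φ x.1 = γ := by
    intro γ
    have hγ : γ ∈ (commutator (Wt M)).map φ := by rw [h2, hperf]; exact Subgroup.mem_top _
    obtain ⟨x, hx, rfl⟩ := hγ
    exact ⟨⟨x, h1 hx⟩, rfl⟩
  let g : (deg (M := M)).ker → Γ := fun x => φ x.1
  have hg : Function.Surjective g := h3
  have hfinΓ : Finite Γ := Finite.of_surjective g hg
  refine ⟨hfinΓ, le_trans (Nat.mul_le_mul_right 2 (Nat.card_le_card_of_surjective g hg)) hcard⟩

end Cfsg.Agent.Lib.H28.CoxSpin
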