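import Cfsg.Agent.Lib.H28.CoxSpinB
import Cfsg.Prelude.Def_KGroupFacts

/-!
# Stem extensions of perfect quotients of Coxeter groups (helper28)

Generic part: given a stem extension `σ : Γ →* G` of a perfect group `G`, and lifts `s i` of
generators of `G` which satisfy the braid relations exactly, have a common square, and commute up
to one central element `c` of order at most two, the order of `Γ` is at most `|W|`.
-/

set_option autoImplicit false

namespace Cfsg.Agent.Lib.H28.CoxSpin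

open scoped commutatorElement

universe u v w

/-! ### elementary identities -/

section Basic

variable {Γ : Type*} [Group Γ]

/-- The defect of the braid relation. -/
def bz (x y : Γ) : Γ := x * y * x * (y * x * y)⁻¹

theorem braid_fix {x y : Γ} (hz : ∀ g : Γ, bz x y * g = g * bz x y) :
    x * (y * bz x y) * x = (y * bz x y) * x * (y * bz x y) := by
  have e : x * y * x = bz x y * (y * x * y) := by unfold bz; group
  calc x * (y * bz x y) * x = x * y * (bz x y * x) := by group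
    _ = x * y * (x * bz x y) := by rw [hz x]
    _ = (x * y * x) * bz x y := by group
    _ = bz x y * (y * x * y) * bz x y := by rw [e]
    _ = (y * x * y) * bz x y * bz x y := by rw [hz (y * x * y)]
    _ = y * x * (y * bz x y) * bz x y := by group
    _ = y * (x * bz x y) * y * bz x y := by
        rw [mul_assoc (y * x), ← hz y]; group
    _ = y * (bz x y * x) * y * bz x y := by rw [hz x]
    _ = (y * bz x y) * x * (y * bz x y) := by group

theorem conj_of_braid {x y : Γ} (h : x * y * x = y * x * y) : (x * y) * x * (x * y)⁻¹ = y := by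
  calc (x * y) * x * (x * y)⁻¹ = (x * y * x) * y⁻¹ * x⁻¹ := by group
    _ = (y * x * y) * y⁻¹ * x⁻¹ := by rw [h]
    _ = y := by group

theorem sq_eq_of_braid {x y : Γ} (h : x * y * x = y * x * y) (hx : ∀ g : Γ, x * x * g = g * (x * x)) :
    y * y = x * x := by
  have h1 := conj_of_braid h
  calc y * y = ((x * y) * x * (x * y)⁻¹) * ((x * y) * x * (x * y)⁻¹) := by rw [h1]
    _ = (x * y) * (x * x) * (x * y)⁻¹ := by group
    _ = (x * x) * (x * y) * (x * y)⁻¹ := by rw [← hx (x * y)]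
    _ = x * x := by group

theorem comm_sq {x y : Γ} (hc : ∀ g : Γ, ⁅x, y⁆ * g = g * ⁅x, y⁆) (hx : ∀ g : Γ, x * x * g = g * (x * x)) :
    ⁅x, y⁆ * ⁅x, y⁆ = 1 := by
  have e : x * y = ⁅x, y⁆ * (y * x) := by rw [commutatorElement_def]; group
  have h1 : x * x * y = ⁅x, y⁆ * ⁅x, y⁆ * (y * (x * x)) := by
    calc x * x * y = x * (x * y) := by group
      _ = x * (⁅x, y⁆ * (y * x)) := by rw [e]
      _ = (x * ⁅x, y⁆) * (y * x) := by group
      _ = (⁅x, y⁆ * x) * (y * x) := by rw [hc x]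
      _ = ⁅x, y⁆ * (x * y) * x := by group
      _ = ⁅x, y⁆ * (⁅x, y⁆ * (y * x)) * x := by rw [e]
      _ = ⁅x, y⁆ * ⁅x, y⁆ * (y * (x * x)) := by group
  rw [hx y] at h1
  have h2 : (1 : Γ) * (y * (x * x)) = ⁅x, y⁆ * ⁅x, y⁆ * (y * (x * x)) := by rw [one_mul]; exact h1
  exact (mul_right_cancel h2).symm

theorem comm_symm {x y : Γ} (h2 : ⁅x, y⁆ * ⁅x, y⁆ = 1) : ⁅y, x⁆ = ⁅x, y⁆ := by
  have h1 : ⁅y, x⁆ = ⁅x, y⁆⁻¹ := (commutatorElement_inv x y).symm
  rw [h1]
  exact inv_eq_of_mul_eq_one_left h2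

/-- Moving one entry of a central commutator along a braid relation. -/
theorem comm_move {x y z : Γ} (h : y * z * y = z * y * z)
    (hy : ∀ g : Γ, ⁅x, y⁆ * g = g * ⁅x, y⁆) (hz : ∀ g : Γ, ⁅x, z⁆ * g = g * ⁅x, z⁆) :
    ⁅x, z⁆ = ⁅x, y⁆ := by
  set w := y * z with hw
  have h1 : w * y * w⁻¹ = z := conj_of_braid h
  -- conjugating `x` by `w` multiplies it by a central element
  have ey : y * x * y⁻¹ = ⁅x, y⁆⁻¹ * x := by rw [commutatorElement_def]; group
  have ez : z * x * z⁻¹ = ⁅x, z⁆⁻¹ * x := by rw [commutatorElement_def]; group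
  have hyi : ∀ g : Γ, ⁅x, y⁆⁻¹ * g = g * ⁅x, y⁆⁻¹ := fun g =>
    (Commute.inv_left (show Commute _ _ from hy g)).eq
  have hzi : ∀ g : Γ, ⁅x, z⁆⁻¹ * g = g * ⁅x, z⁆⁻¹ := fun g =>
    (Commute.inv_left (show Commute _ _ from hz g)).eq
  have h2 : w * x * w⁻¹ = (⁅x, z⁆⁻¹ * ⁅x, y⁆⁻¹) * x := by
    calc w * x * w⁻¹ = y * (z * x * z⁻¹) * y⁻¹ := by rw [hw]; group
      _ = y * (⁅x, z⁆⁻¹ * x) * y⁻¹ := by rw [ez]
      _ = (y * ⁅x, z⁆⁻¹) * x * y⁻¹ := by group
      _ = (⁅x, z⁆⁻¹ * y) * x * y⁻¹ := by rw [hzi y]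
      _ = ⁅x, z⁆⁻¹ * (y * x * y⁻¹) := by group
      _ = ⁅x, z⁆⁻¹ * (⁅x, y⁆⁻¹ * x) := by rw [ey]
      _ = (⁅x, z⁆⁻¹ * ⁅x, y⁆⁻¹) * x := by group
  set ζ := ⁅x, z⁆⁻¹ * ⁅x, y⁆⁻¹ with hζ
  have hζc : ∀ g : Γ, ζ * g = g * ζ := by
    intro g
    rw [hζ, mul_assoc, hyi g, ← mul_assoc, hzi g, mul_assoc]
  -- the commutator of the conjugates
  have h3 : ⁅w * x * w⁻¹, w * y * w⁻¹⁆ = w * ⁅x, y⁆ * w⁻¹ := by
    rw [commutatorElement_def, commutatorElement_def]; group
  have h4 : w * ⁅x, y⁆ * w⁻¹ = ⁅x, y⁆ := by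
    rw [← hy w]; group
  have h5 : ⁅ζ * x, z⁆ = ⁅x, z⁆ := by
    rw [commutatorElement_def, commutatorElement_def]
    calc ζ * x * z * (ζ * x)⁻¹ * z⁻¹ = ζ * (x * z * x⁻¹) * ζ⁻¹ * z⁻¹ := by group
      _ = (x * z * x⁻¹) * ζ * ζ⁻¹ * z⁻¹ := by rw [hζc (x * z * x⁻¹)]
      _ = x * z * x⁻¹ * z⁻¹ := by group
  rw [← h5, ← h2, ← h4, ← h3, h1]

end Basic

/-! ### the generic bound -/

variable {B : Type u} {M : CoxeterMatrix B}

theorem card_le_of_lifts [Nonempty B] [Finite M.Group]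
    (hM : ∀ i j : B, M i j = 1 ∨ M i j = 2 ∨ M i j = 3)
    {Γ : Type v} {G : Type w} [Group Γ] [Group G] (σ : Γ →* G) (hσ : Cfsg.IsStemExtension σ)
    (hperfG : commutator G = ⊤) (s : B → Γ)
    (hgenG : Subgroup.closure (Set.range (fun i => σ (s i))) = ⊤)
    (hb : ∀ i j, M i j = 3 → s i * s j * s i = s j * s i * s j)
    (hs : ∀ i j, s i * s i = s j * s j) (hsk : ∀ i, σ (s i * s i) = 1)
    (c : Γ) (hc : ∀ i j, M i j = 2 → s i * s j = c * (s j * s i))
    (hck : σ c = 1) (hc2 : c * c = 1) :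
    Finite Γ ∧ Nat.card Γ ≤ Nat.card M.Group := by
  obtain ⟨hsurj, hcen, hder⟩ := hσ
  have central : ∀ {z : Γ}, σ z = 1 → ∀ g : Γ, z * g = g * z := fun {z} hz g =>
    (Subgroup.mem_center_iff.1 (hcen (MonoidHom.mem_ker.2 hz)) g).symm
  -- `Γ` is perfect
  have hperfΓ : commutator Γ = ⊤ := by
    rw [eq_top_iff]
    intro γ _
    have h1 : σ γ ∈ (commutator Γ).map σ := by
      rw [commutator_def, Subgroup.map_commutator, Subgroup.map_top_of_surjective _ hsurj,
        ← commutator_def, hperfG]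
      exact Subgroup.mem_top _
    obtain ⟨δ, hδ, hδγ⟩ := h1
    have h2 : δ⁻¹ * γ ∈ σ.ker := by
      rw [MonoidHom.mem_ker, map_mul, map_inv, hδγ, inv_mul_cancel]
    have h3 : γ = δ * (δ⁻¹ * γ) := by group
    rw [h3]
    exact Subgroup.mul_mem _ hδ (hder h2)
  -- `Γ` is generated by the lifts
  have hgenΓ : Subgroup.closure (Set.range s) = ⊤ := by
    set E := Subgroup.closure (Set.range s) with hE
    have h1 : E.map σ = ⊤ := by
      rw [hE, MonoidHom.map_closure, ← Set.range_comp]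
      exact hgenG
    have h2 : ∀ γ : Γ, ∃ e ∈ E, ∃ z ∈ σ.ker, γ = e * z := by
      intro γ
      have : σ γ ∈ E.map σ := by rw [h1]; exact Subgroup.mem_top _
      obtain ⟨e, he, heγ⟩ := this
      refine ⟨e, he, e⁻¹ * γ, ?_, by group⟩
      rw [MonoidHom.mem_ker, map_mul, map_inv, heγ, inv_mul_cancel]
    have h3 : commutator Γ ≤ E := by
      rw [commutator_def, Subgroup.commutator_le]
      intro g1 _ g2 _
      obtain ⟨e1, he1, z1, hz1, rfl⟩ := h2 g1
      obtain ⟨e2, he2, z2, hz2, rfl⟩ := h2 g2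
      have hz1c := central (MonoidHom.mem_ker.1 hz1)
      have hz2c := central (MonoidHom.mem_ker.1 hz2)
      have e : ⁅e1 * z1, e2 * z2⁆ = ⁅e1, e2⁆ := by
        rw [commutatorElement_def, commutatorElement_def]
        calc e1 * z1 * (e2 * z2) * (e1 * z1)⁻¹ * (e2 * z2)⁻¹
            = e1 * (z1 * (e2 * z2 * z1⁻¹ * e1⁻¹ * z2⁻¹ * e2⁻¹)) := by group
          _ = e1 * ((e2 * z2 * z1⁻¹ * e1⁻¹ * z2⁻¹ * e2⁻¹) * z1) := by rw [hz1c]
          _ = e1 * e2 * (z2 * (z1⁻¹ * e1⁻¹ * z2⁻¹ * e2⁻¹ * z1)) := by group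
          _ = e1 * e2 * ((z1⁻¹ * e1⁻¹ * z2⁻¹ * e2⁻¹ * z1) * z2) := by rw [hz2c]
          _ = e1 * e2 * z1⁻¹ * e1⁻¹ * (z2⁻¹ * (e2⁻¹ * z1 * z2)) := by group
          _ = e1 * e2 * z1⁻¹ * e1⁻¹ * ((e2⁻¹ * z1 * z2) * z2⁻¹) := by
              rw [(Commute.inv_left (show Commute z2 (e2⁻¹ * z1 * z2) from hz2c _)).eq]
          _ = e1 * e2 * (z1⁻¹ * (e1⁻¹ * e2⁻¹ * z1)) := by group
          _ = e1 * e2 * ((e1⁻¹ * e2⁻¹ * z1) * z1⁻¹) := by
              rw [(Commute.inv_left (show Commute z1 (e1⁻¹ * e2⁻¹ * z1) from hz1c _)).eq]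
          _ = e1 * e2 * e1⁻¹ * e2⁻¹ := by group
      rw [e]
      exact E.mul_mem (E.mul_mem (E.mul_mem he1 he2) (E.inv_mem he1)) (E.inv_mem he2)
    rw [eq_top_iff, ← hperfΓ]
    exact h3
  -- pass to the quotient by `c`
  have hcc := central hck
  have hn : (Subgroup.zpowers c).Normal := by
    constructor
    intro n hn g
    obtain ⟨k, rfl⟩ := Subgroup.mem_zpowers_iff.1 hn
    have hcomm : Commute c g := hcc g
    have h : g * c ^ k * g⁻¹ = c ^ k := by
      rw [mul_inv_eq_iff_eq_mul, (hcomm.zpow_left k).eq]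
    rw [h]
    exact Subgroup.zpow_mem_zpowers _ k
  let Q := Γ ⧸ Subgroup.zpowers c
  let q : Γ →* Q := QuotientGroup.mk' (Subgroup.zpowers c)
  have hq : Function.Surjective q := QuotientGroup.mk'_surjective _
  have hqc : q c = 1 := (QuotientGroup.eq_one_iff c).2 (Subgroup.mem_zpowers c)
  have hmain := card_le_of_perfect (M := M) hM (fun i => q (s i))
    (fun i j h => by rw [← map_mul, ← map_mul, hb i j h, map_mul, map_mul])
    (fun i j h => by rw [← map_mul, hc i j h, map_mul, hqc, one_mul, map_mul])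
    (fun i j => by rw [← map_mul, ← map_mul, hs i j])
    (fun i k => by
      simp only [← map_mul]
      rw [central (hsk i) (s k)])
    (by
      have := congrArg (Subgroup.map q) hgenΓ
      rw [MonoidHom.map_closure, Subgroup.map_top_of_surjective _ hq, ← Set.range_comp] at this
      exact this)
    (by
      rw [commutator_def, ← Subgroup.map_top_of_surjective _ hq, ← Subgroup.map_commutator,
        ← commutator_def, hperfΓ])
  obtain ⟨hfinQ, hcardQ⟩ := hmain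
  -- the order of `c`
  have hord : c ^ 2 = 1 := by rw [pow_two]; exact hc2
  have hfo : IsOfFinOrder c := isOfFinOrder_iff_pow_eq_one.2 ⟨2, by norm_num, hord⟩
  have hfinZ : Finite (Subgroup.zpowers c) := (hfo.finite_zpowers).to_subtype
  have hfinΓ : Finite Γ := by
    have e := Subgroup.groupEquivQuotientProdSubgroup (s := Subgroup.zpowers c)
    exact Finite.of_equiv _ e.symm
  refine ⟨hfinΓ, ?_⟩
  have h1 : Nat.card Γ = Nat.card Q * Nat.card (Subgroup.zpowers c) :=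
    Subgroup.card_eq_card_quotient_mul_card_subgroup _
  have h2 : Nat.card (Subgroup.zpowers c) ≤ 2 := by
    rw [Nat.card_zpowers]
    exact Nat.le_of_dvd (by norm_num) (orderOf_dvd_of_pow_eq_one hord)
  calc Nat.card Γ = Nat.card Q * Nat.card (Subgroup.zpowers c) := h1
    _ ≤ Nat.card Q * 2 := Nat.mul_le_mul_left _ h2
    _ ≤ Nat.card M.Group := hcardQ

end Cfsg.Agent.Lib.H28.CoxSpin
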