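import Cfsg.Agent.Lib.H28.CoxSpinC

/-!
# Stem extensions of perfect quotients of `W(E₇)` (helper28)

`G` is a perfect group generated by seven elements `t i` satisfying the Coxeter relations of type
`E₇`.  Every finite stem extension `Γ` of `G` has order at most `|W(E₇)|`.
-/

set_option autoImplicit false

namespace Cfsg.Agent.Lib.H28.CoxSpin

open scoped commutatorElement

universe v w

variable {Γ : Type v} {G : Type w} [Group Γ] [Group G]

theorem lift_step (σ : Γ →* G) {x y : Γ} {a b : G} (hx : σ x = a) (hy : σ y = b)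
    (hab : a * b * a = b * a * b) (hcen : σ.ker ≤ Subgroup.center Γ) :
    σ (y * bz x y) = b ∧ x * (y * bz x y) * x = (y * bz x y) * x * (y * bz x y) := by
  have hk : σ (bz x y) = 1 := by
    unfold bz
    rw [map_mul, map_inv, map_mul, map_mul, map_mul, map_mul, hx, hy, hab, mul_inv_cancel]
  refine ⟨by rw [map_mul, hk, hy, mul_one], braid_fix ?_⟩
  intro g
  exact (Subgroup.mem_center_iff.1 (hcen (MonoidHom.mem_ker.2 hk)) g).symm

theorem E7_cases : ∀ i j : Fin 7, CoxeterMatrix.E₇ i j = 1 ∨ CoxeterMatrix.E₇ i j = 2 ∨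
    CoxeterMatrix.E₇ i j = 3 := by
  intro i j
  fin_cases i <;> fin_cases j <;> decide

section

variable (σ : Γ →* G) (hσ : Cfsg.IsStemExtension σ) (t : Fin 7 → G)
  (htb : ∀ i j, CoxeterMatrix.E₇ i j = 3 → t i * t j * t i = t j * t i * t j)

include hσ htb in
theorem exists_braid_lifts : ∃ s : Fin 7 → Γ, (∀ i, σ (s i) = t i) ∧
    ∀ i j, CoxeterMatrix.E₇ i j = 3 → s i * s j * s i = s j * s i * s j := by
  obtain ⟨hsurj, hcen, -⟩ := hσ
  choose u hu using fun i => hsurj (t i)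
  obtain ⟨e2, b02⟩ := lift_step σ (hu 0) (hu 2) (htb 0 2 (by decide)) hcen
  obtain ⟨e3, b23⟩ := lift_step σ e2 (hu 3) (htb 2 3 (by decide)) hcen
  obtain ⟨e1, b31⟩ := lift_step σ e3 (hu 1) (htb 3 1 (by decide)) hcen
  obtain ⟨e4, b34⟩ := lift_step σ e3 (hu 4) (htb 3 4 (by decide)) hcen
  obtain ⟨e5, b45⟩ := lift_step σ e4 (hu 5) (htb 4 5 (by decide)) hcen
  obtain ⟨e6, b56⟩ := lift_step σ e5 (hu 6) (htb 5 6 (by decide)) hcen
  set s0 := u 0
  set s2 := u 2 * bz s0 (u 2)
  set s3 := u 3 * bz s2 (u 3)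
  set s1 := u 1 * bz s3 (u 1)
  set s4 := u 4 * bz s3 (u 4)
  set s5 := u 5 * bz s4 (u 5)
  set s6 := u 6 * bz s5 (u 6)
  refine ⟨![s0, s1, s2, s3, s4, s5, s6], ?_, ?_⟩
  · intro i
    fin_cases i
    · exact hu 0
    · exact e1
    · exact e2
    · exact e3
    · exact e4
    · exact e5
    · exact e6
  · intro i j h
    fin_cases i <;> fin_cases j <;>
      first
      | exact absurd h (by decide)
      | exact b02 | exact b02.symm | exact b23 | exact b23.symm | exact b31 | exact b31.symm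
      | exact b34 | exact b34.symm | exact b45 | exact b45.symm | exact b56 | exact b56.symm

end

/-- The main bound for `E₇`. -/
theorem card_le_E7 [Finite CoxeterMatrix.E₇.Group] (σ : Γ →* G) (hσ : Cfsg.IsStemExtension σ)
    (hperfG : commutator G = ⊤) (t : Fin 7 → G)
    (hgen : Subgroup.closure (Set.range t) = ⊤)
    (ht1 : ∀ i, t i * t i = 1)
    (htb : ∀ i j, CoxeterMatrix.E₇ i j = 3 → t i * t j * t i = t j * t i * t j)
    (htc : ∀ i j, CoxeterMatrix.E₇ i j = 2 → t i * t j = t j * t i) :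
    Finite Γ ∧ Nat.card Γ ≤ Nat.card CoxeterMatrix.E₇.Group := by
  obtain ⟨s, hst, hb⟩ := exists_braid_lifts σ hσ t htb
  have hcen := hσ.2.1
  have central : ∀ {z : Γ}, σ z = 1 → ∀ g : Γ, z * g = g * z := fun {z} hz g =>
    (Subgroup.mem_center_iff.1 (hcen (MonoidHom.mem_ker.2 hz)) g).symm
  have hsk : ∀ i, σ (s i * s i) = 1 := fun i => by rw [map_mul, hst, ht1]
  -- squares
  have sq : ∀ i j, CoxeterMatrix.E₇ i j = 3 → s j * s j = s i * s i := fun i j h =>
    sq_eq_of_braid (hb i j h) (central (hsk i))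
  have q2 : s 2 * s 2 = s 0 * s 0 := sq 0 2 (by decide)
  have q3 : s 3 * s 3 = s 0 * s 0 := (sq 2 3 (by decide)).trans q2
  have q1 : s 1 * s 1 = s 0 * s 0 := (sq 3 1 (by decide)).trans q3
  have q4 : s 4 * s 4 = s 0 * s 0 := (sq 3 4 (by decide)).trans q3
  have q5 : s 5 * s 5 = s 0 * s 0 := (sq 4 5 (by decide)).trans q4
  have q6 : s 6 * s 6 = s 0 * s 0 := (sq 5 6 (by decide)).trans q5
  have hsq0 : ∀ i, s i * s i = s 0 * s 0 := by
    intro i
    fin_cases i
    · rfl
    · exact q1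
    · exact q2
    · exact q3
    · exact q4
    · exact q5
    · exact q6
  have hs : ∀ i j, s i * s i = s j * s j := fun i j => (hsq0 i).trans (hsq0 j).symm
  -- commutators
  have ck : ∀ i j, CoxeterMatrix.E₇ i j = 2 → σ ⁅s i, s j⁆ = 1 := by
    intro i j h
    rw [commutatorElement_def, map_mul, map_mul, map_mul, map_inv, map_inv, hst, hst, htc i j h]
    group
  have cc : ∀ i j, CoxeterMatrix.E₇ i j = 2 → ∀ g : Γ, ⁅s i, s j⁆ * g = g * ⁅s i, s j⁆ :=
    fun i j h => central (ck i j h)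
  have c2 : ∀ i j, CoxeterMatrix.E₇ i j = 2 → ⁅s i, s j⁆ * ⁅s i, s j⁆ = 1 := fun i j h =>
    comm_sq (cc i j h) (central (hsk i))
  have sym : ∀ i j, CoxeterMatrix.E₇ i j = 2 → ⁅s j, s i⁆ = ⁅s i, s j⁆ := fun i j h =>
    comm_symm (c2 i j h)
  have mv : ∀ i j k, CoxeterMatrix.E₇ i j = 2 → CoxeterMatrix.E₇ j k = 3 →
      CoxeterMatrix.E₇ i k = 2 → ⁅s i, s k⁆ = ⁅s i, s j⁆ := fun i j k h1 h2 h3 =>
    comm_move (hb j k h2) (cc i j h1) (cc i k h3)
  set c := ⁅s 0, s 1⁆ with hcdef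
  have p01 : ⁅s 0, s 1⁆ = c := rfl
  have p03 : ⁅s 0, s 3⁆ = c := (mv 0 1 3 (by decide) (by decide) (by decide)).trans p01
  have p04 : ⁅s 0, s 4⁆ = c := (mv 0 3 4 (by decide) (by decide) (by decide)).trans p03
  have p05 : ⁅s 0, s 5⁆ = c := (mv 0 4 5 (by decide) (by decide) (by decide)).trans p04
  have p06 : ⁅s 0, s 6⁆ = c := (mv 0 5 6 (by decide) (by decide) (by decide)).trans p05
  have p60 : ⁅s 6, s 0⁆ = c := (sym 0 6 (by decide)).trans p06
  have p62 : ⁅s 6, s 2⁆ = c := (mv 6 0 2 (by decide) (by decide) (by decide)).trans p60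
  have p26 : ⁅s 2, s 6⁆ = c := (sym 6 2 (by decide)).trans p62
  have p25 : ⁅s 2, s 5⁆ = c := (mv 2 6 5 (by decide) (by decide) (by decide)).trans p26
  have p24 : ⁅s 2, s 4⁆ = c := (mv 2 5 4 (by decide) (by decide) (by decide)).trans p25
  have p52 : ⁅s 5, s 2⁆ = c := (sym 2 5 (by decide)).trans p25
  have p53 : ⁅s 5, s 3⁆ = c := (mv 5 2 3 (by decide) (by decide) (by decide)).trans p52
  have p35 : ⁅s 3, s 5⁆ = c := (sym 5 3 (by decide)).trans p53
  have p63 : ⁅s 6, s 3⁆ = c := (mv 6 2 3 (by decide) (by decide) (by decide)).trans p62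
  have p36 : ⁅s 3, s 6⁆ = c := (sym 6 3 (by decide)).trans p63
  have p61 : ⁅s 6, s 1⁆ = c := (mv 6 3 1 (by decide) (by decide) (by decide)).trans p63
  have p16 : ⁅s 1, s 6⁆ = c := (sym 6 1 (by decide)).trans p61
  have p64 : ⁅s 6, s 4⁆ = c := (mv 6 3 4 (by decide) (by decide) (by decide)).trans p63
  have p46 : ⁅s 4, s 6⁆ = c := (sym 6 4 (by decide)).trans p64
  have p15 : ⁅s 1, s 5⁆ = c := (mv 1 6 5 (by decide) (by decide) (by decide)).trans p16
  have p14 : ⁅s 1, s 4⁆ = c := (mv 1 5 4 (by decide) (by decide) (by decide)).trans p15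
  have p10 : ⁅s 1, s 0⁆ = c := (sym 0 1 (by decide)).trans p01
  have p12 : ⁅s 1, s 2⁆ = c := (mv 1 0 2 (by decide) (by decide) (by decide)).trans p10
  have p30 : ⁅s 3, s 0⁆ = c := (sym 0 3 (by decide)).trans p03
  have p40 : ⁅s 4, s 0⁆ = c := (sym 0 4 (by decide)).trans p04
  have p50 : ⁅s 5, s 0⁆ = c := (sym 0 5 (by decide)).trans p05
  have p21 : ⁅s 2, s 1⁆ = c := (sym 1 2 (by decide)).trans p12
  have p41 : ⁅s 4, s 1⁆ = c := (sym 1 4 (by decide)).trans p14
  have p51 : ⁅s 5, s 1⁆ = c := (sym 1 5 (by decide)).trans p15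
  have p42 : ⁅s 4, s 2⁆ = c := (sym 2 4 (by decide)).trans p24
  have hall : ∀ i j, CoxeterMatrix.E₇ i j = 2 → ⁅s i, s j⁆ = c := by
    intro i j h
    fin_cases i <;> fin_cases j <;>
      first
      | exact absurd h (by decide)
      | exact p01 | exact p03 | exact p04 | exact p05 | exact p06
      | exact p10 | exact p12 | exact p14 | exact p15 | exact p16
      | exact p21 | exact p24 | exact p25 | exact p26
      | exact p30 | exact p35 | exact p36
      | exact p40 | exact p41 | exact p42 | exact p46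
      | exact p50 | exact p51 | exact p52 | exact p53
      | exact p60 | exact p61 | exact p62 | exact p63 | exact p64
  have hc : ∀ i j, CoxeterMatrix.E₇ i j = 2 → s i * s j = c * (s j * s i) := by
    intro i j h
    rw [← hall i j h, commutatorElement_def]
    group
  have hgenG : Subgroup.closure (Set.range (fun i => σ (s i))) = ⊤ := by
    have : (fun i => σ (s i)) = t := funext hst
    rw [this]
    exact hgen
  exact card_le_of_lifts (M := CoxeterMatrix.E₇) E7_cases σ hσ hperfG s hgenG hb hs hsk c hc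
    (ck 0 1 (by decide)) (c2 0 1 (by decide))

end Cfsg.Agent.Lib.H28.CoxSpin
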