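import Cfsg.Agent.Lib.H28.CoxSpinB

/-!
# The spin cover of a simply laced Coxeter group (helper28)

For a Coxeter matrix `M` with entries in `{1, 2, 3}` and a base point `i0` we consider the group
`Wh M i0` generated by `σ_i` subject to the braid relations, `σ_i ^ 2 = α` where `α = σ_{i0} ^ 2`,
`α ^ 2 = 1`, and the twisted commutation `σ_i σ_j = α σ_j σ_i` for `M i j = 2`.  It is an
extension of a quotient of the Coxeter group by `⟨α⟩`, so it has at most `2 |W|` elements.
-/

set_option autoImplicit false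

namespace Cfsg.Agent.Lib.H28.CoxSpin

local notation "of" => FreeGroup.of

universe u v

variable {B : Type u} (M : CoxeterMatrix B) (i0 : B)

/-- Relators of the spin cover. -/
def relsH : Set (FreeGroup B) :=
  {r | ∃ i j, M i j = 3 ∧ r = of i * of j * of i * (of j * of i * of j)⁻¹} ∪
  {r | ∃ i j, M i j = 2 ∧ r = of i * of j * (of i0 * of i0 * (of j * of i))⁻¹} ∪
  {r | ∃ i, r = of i * of i * (of i0 * of i0)⁻¹} ∪
  {r | r = of i0 * of i0 * (of i0 * of i0)}

/-- The spin cover. -/
abbrev Wh : Type u := PresentedGroup (relsH M i0)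

/-- Its generators. -/
def sh (i : B) : Wh M i0 := PresentedGroup.of i

/-- The central element. -/
def al : Wh M i0 := sh M i0 i0 * sh M i0 i0

variable {M i0}

theorem sh_braid {i j : B} (h : M i j = 3) :
    sh M i0 i * sh M i0 j * sh M i0 i = sh M i0 j * sh M i0 i * sh M i0 j := by
  have hr : of i * of j * of i * (of j * of i * of j)⁻¹ ∈ relsH M i0 :=
    Or.inl (Or.inl (Or.inl ⟨i, j, h, rfl⟩))
  have h1 := PresentedGroup.one_of_mem hr
  rw [_root_.map_mul, _root_.map_inv, mul_inv_eq_one] at h1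
  simpa only [sh, PresentedGroup.of, _root_.map_mul] using h1

theorem sh_tw {i j : B} (h : M i j = 2) :
    sh M i0 i * sh M i0 j = al M i0 * (sh M i0 j * sh M i0 i) := by
  have hr : of i * of j * (of i0 * of i0 * (of j * of i))⁻¹ ∈ relsH M i0 :=
    Or.inl (Or.inl (Or.inr ⟨i, j, h, rfl⟩))
  have h1 := PresentedGroup.one_of_mem hr
  rw [_root_.map_mul, _root_.map_inv, mul_inv_eq_one] at h1
  simpa only [al, sh, PresentedGroup.of, _root_.map_mul] using h1

theorem sh_sq (i : B) : sh M i0 i * sh M i0 i = al M i0 := by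
  have hr : of i * of i * (of i0 * of i0)⁻¹ ∈ relsH M i0 :=
    Or.inl (Or.inr ⟨i, rfl⟩)
  have h1 := PresentedGroup.one_of_mem hr
  rw [_root_.map_mul, _root_.map_inv, mul_inv_eq_one] at h1
  simpa only [al, sh, PresentedGroup.of, _root_.map_mul] using h1

theorem al_sq : al M i0 * al M i0 = 1 := by
  have hr : of i0 * of i0 * (of i0 * of i0) ∈ relsH M i0 := Or.inr rfl
  have h1 := PresentedGroup.one_of_mem hr
  simpa only [al, sh, PresentedGroup.of, _root_.map_mul] using h1

/-- Homomorphisms out of the spin cover. -/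
def liftH {G : Type v} [Group G] (f : B → G)
    (hb : ∀ i j, M i j = 3 → f i * f j * f i = f j * f i * f j)
    (ht : ∀ i j, M i j = 2 → f i * f j = f i0 * f i0 * (f j * f i))
    (hs : ∀ i, f i * f i = f i0 * f i0)
    (h4 : f i0 * f i0 * (f i0 * f i0) = 1) : Wh M i0 →* G :=
  PresentedGroup.toGroup (f := f) (by
    intro r hr
    rcases hr with ((⟨i, j, h, rfl⟩ | ⟨i, j, h, rfl⟩) | ⟨i, rfl⟩) | rfl
    · simp only [_root_.map_mul, _root_.map_inv, FreeGroup.lift_apply_of, mul_inv_eq_one]
      exact hb i j h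
    · simp only [_root_.map_mul, _root_.map_inv, FreeGroup.lift_apply_of, mul_inv_eq_one]
      exact ht i j h
    · simp only [_root_.map_mul, _root_.map_inv, FreeGroup.lift_apply_of, mul_inv_eq_one]
      exact hs i
    · simp only [_root_.map_mul, FreeGroup.lift_apply_of]
      exact h4)

@[simp] theorem liftH_sh {G : Type v} [Group G] (f : B → G)
    (hb : ∀ i j, M i j = 3 → f i * f j * f i = f j * f i * f j)
    (ht : ∀ i j, M i j = 2 → f i * f j = f i0 * f i0 * (f j * f i))
    (hs : ∀ i, f i * f i = f i0 * f i0)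
    (h4 : f i0 * f i0 * (f i0 * f i0) = 1) (i : B) :
    liftH f hb ht hs h4 (sh M i0 i) = f i :=
  PresentedGroup.toGroup.of _

theorem liftH_al {G : Type v} [Group G] (f : B → G)
    (hb : ∀ i j, M i j = 3 → f i * f j * f i = f j * f i * f j)
    (ht : ∀ i j, M i j = 2 → f i * f j = f i0 * f i0 * (f j * f i))
    (hs : ∀ i, f i * f i = f i0 * f i0)
    (h4 : f i0 * f i0 * (f i0 * f i0) = 1) :
    liftH f hb ht hs h4 (al M i0) = f i0 * f i0 := by
  unfold al
  rw [map_mul, liftH_sh]

theorem closure_sh : Subgroup.closure (Set.range (sh M i0)) = ⊤ :=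
  PresentedGroup.closure_range_of _

theorem al_comm (x : Wh M i0) : al M i0 * x = x * al M i0 := by
  have hx : x ∈ Subgroup.closure (Set.range (sh M i0)) := by
    rw [closure_sh]; exact Subgroup.mem_top _
  induction hx using Subgroup.closure_induction with
  | mem y hy =>
    obtain ⟨k, rfl⟩ := hy
    rw [← sh_sq k, mul_assoc]
  | one => rw [mul_one, one_mul]
  | mul y z _ _ hy hz => rw [← mul_assoc, hy, mul_assoc, hz, mul_assoc]
  | inv y _ hy =>
    exact (Commute.inv_right (show Commute _ _ from hy)).eq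

instance al_normal : (Subgroup.zpowers (al M i0)).Normal := by
  constructor
  intro n hn g
  obtain ⟨k, rfl⟩ := Subgroup.mem_zpowers_iff.1 hn
  have h : g * al M i0 ^ k * g⁻¹ = al M i0 ^ k := by
    have hc : Commute (al M i0) g := al_comm g
    have := (hc.zpow_left k).eq
    rw [mul_inv_eq_iff_eq_mul, this]
  rw [h]
  exact Subgroup.zpow_mem_zpowers _ k

theorem card_zpowers_al_le : Nat.card (Subgroup.zpowers (al M i0)) ≤ 2 := by
  rw [Nat.card_zpowers]
  have h : al M i0 ^ 2 = 1 := by rw [pow_two, al_sq]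
  exact Nat.le_of_dvd (by norm_num) (orderOf_dvd_of_pow_eq_one h)

section

variable (hM : ∀ i j : B, M i j = 1 ∨ M i j = 2 ∨ M i j = 3)
include hM

theorem liftable_quotH :
    M.IsLiftable (fun i => (QuotientGroup.mk (sh M i0 i) : Wh M i0 ⧸ Subgroup.zpowers (al M i0))) := by
  have hal : (QuotientGroup.mk (al M i0) : Wh M i0 ⧸ Subgroup.zpowers (al M i0)) = 1 :=
    (QuotientGroup.eq_one_iff _).2 (Subgroup.mem_zpowers _)
  have hsq : ∀ i, (QuotientGroup.mk (sh M i0 i) : Wh M i0 ⧸ Subgroup.zpowers (al M i0)) *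
      QuotientGroup.mk (sh M i0 i) = 1 := by
    intro i
    rw [← QuotientGroup.mk_mul, sh_sq, hal]
  intro i j
  change ((QuotientGroup.mk (sh M i0 i) : Wh M i0 ⧸ Subgroup.zpowers (al M i0)) *
    QuotientGroup.mk (sh M i0 j)) ^ M i j = 1
  rcases hM i j with h | h | h
  · have hij : i = j := by
      by_contra hne
      exact M.off_diagonal i j hne h
    subst hij
    rw [h, pow_one, hsq]
  · rw [h, pow_two]
    have h1 : (QuotientGroup.mk (sh M i0 i) : Wh M i0 ⧸ Subgroup.zpowers (al M i0)) *
        QuotientGroup.mk (sh M i0 j) = QuotientGroup.mk (sh M i0 j) * QuotientGroup.mk (sh M i0 i) := by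
      rw [← QuotientGroup.mk_mul, sh_tw h, QuotientGroup.mk_mul, hal, one_mul, QuotientGroup.mk_mul]
    have ha := hsq i
    have hb := hsq j
    generalize (QuotientGroup.mk (sh M i0 i) : Wh M i0 ⧸ Subgroup.zpowers (al M i0)) = a at *
    generalize (QuotientGroup.mk (sh M i0 j) : Wh M i0 ⧸ Subgroup.zpowers (al M i0)) = b at *
    calc a * b * (a * b) = a * b * (b * a) := by rw [h1]
      _ = a * (b * b) * a := by group
      _ = 1 := by rw [hb, mul_one, ha]
  · rw [h, pow_three]
    have h1 : (QuotientGroup.mk (sh M i0 i) : Wh M i0 ⧸ Subgroup.zpowers (al M i0)) *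
        QuotientGroup.mk (sh M i0 j) * QuotientGroup.mk (sh M i0 i) =
        QuotientGroup.mk (sh M i0 j) * QuotientGroup.mk (sh M i0 i) * QuotientGroup.mk (sh M i0 j) := by
      rw [← QuotientGroup.mk_mul, ← QuotientGroup.mk_mul, sh_braid h, QuotientGroup.mk_mul,
        QuotientGroup.mk_mul]
    have ha := hsq i
    have hb := hsq j
    generalize (QuotientGroup.mk (sh M i0 i) : Wh M i0 ⧸ Subgroup.zpowers (al M i0)) = a at *
    generalize (QuotientGroup.mk (sh M i0 j) : Wh M i0 ⧸ Subgroup.zpowers (al M i0)) = b at *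
    calc a * b * (a * b * (a * b)) = (a * b * a) * (b * a * b) := by group
      _ = (a * b * a) * (a * b * a) := by rw [← h1]
      _ = a * b * (a * a) * b * a := by group
      _ = a * (b * b) * a := by rw [ha]; group
      _ = 1 := by rw [hb, mul_one, ha]

/-- The Coxeter group maps onto the quotient by `⟨α⟩`. -/
noncomputable def backH : M.Group →* Wh M i0 ⧸ Subgroup.zpowers (al M i0) :=
  M.toCoxeterSystem.lift ⟨_, liftable_quotH hM⟩

theorem backH_simple (i : B) : backH (i0 := i0) hM (M.simple i) = QuotientGroup.mk (sh M i0 i) := by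
  have h := M.toCoxeterSystem.lift_apply_simple (liftable_quotH (i0 := i0) hM) i
  rwa [CoxeterMatrix.toCoxeterSystem_simple] at h

theorem backH_surjective : Function.Surjective (backH (i0 := i0) hM) := by
  rw [← MonoidHom.range_eq_top, eq_top_iff]
  have h1 : (Subgroup.closure (Set.range (sh M i0))).map
      (QuotientGroup.mk' (Subgroup.zpowers (al M i0))) = ⊤ := by
    rw [closure_sh, Subgroup.map_top_of_surjective _ (QuotientGroup.mk'_surjective _)]
  rw [← h1, MonoidHom.map_closure, Subgroup.closure_le]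
  rintro _ ⟨_, ⟨i, rfl⟩, rfl⟩
  exact ⟨M.simple i, backH_simple hM i⟩

/-- The spin cover has at most `2 |W|` elements. -/
theorem card_Wh_le [Finite M.Group] :
    Finite (Wh M i0) ∧ Nat.card (Wh M i0) ≤ 2 * Nat.card M.Group := by
  have hQ : Finite (Wh M i0 ⧸ Subgroup.zpowers (al M i0)) :=
    Finite.of_surjective _ (backH_surjective (i0 := i0) hM)
  have hA : Finite (Subgroup.zpowers (al M i0)) := by
    have h : al M i0 ^ 2 = 1 := by rw [pow_two, al_sq]
    have h2 : IsOfFinOrder (al M i0) := isOfFinOrder_iff_pow_eq_one.2 ⟨2, by norm_num, h⟩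
    apply Nat.finite_of_card_ne_zero
    rw [Nat.card_zpowers]
    exact (h2.orderOf_pos).ne'
  have hfin : Finite (Wh M i0) := by
    apply Nat.finite_of_card_ne_zero
    rw [Subgroup.card_eq_card_quotient_mul_card_subgroup (Subgroup.zpowers (al M i0))]
    exact Nat.mul_ne_zero Nat.card_pos.ne' Nat.card_pos.ne'
  refine ⟨hfin, ?_⟩
  rw [Subgroup.card_eq_card_quotient_mul_card_subgroup (Subgroup.zpowers (al M i0)), mul_comm]
  exact Nat.mul_le_mul card_zpowers_al_le
    (Nat.card_le_card_of_surjective _ (backH_surjective (i0 := i0) hM))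

end

end Cfsg.Agent.Lib.H28.CoxSpin
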