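import Mathlib
import Cfsg.Agent.Lib.H3.DF0

/-!
# S4316, piece D1 (helper28): two planes of `A` meet nontrivially.
-/

set_option autoImplicit false

universe u

namespace Cfsg.Agent.Lib.H28.DF

open Subgroup Cfsg.Agent.Lib.H3.DF
open scoped commutatorElement Pointwise

variable {Γ : Type u} [Group Γ] [Finite Γ]

/-- D1. Two planes of `A` meet nontrivially (`|B ∩ B'| |B B'| = q^4`, `B B' ⊆ A`, `|A| = q^3`;
product formula: `Cfsg.Agent.Lib.H16.card_mul_set`). -/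
theorem exists_mem_inf_ne_one {q : ℕ} [Fact q.Prime] (A B B' : Subgroup Γ) (hA : IsE3 q A)
    (hB : IsPlane q A B) (hB' : IsPlane q A B') : ∃ c, c ∈ B ∧ c ∈ B' ∧ c ≠ 1 := by
  classical
  by_contra hne
  push_neg at hne
  have hq : 2 ≤ q := (Fact.out : q.Prime).two_le
  have hbot : B ⊓ B' = ⊥ := by
    rw [eq_bot_iff]
    intro c hc
    rw [Subgroup.mem_inf] at hc
    rw [Subgroup.mem_bot]
    exact hne c hc.1 hc.2
  have hprod := Cfsg.Agent.Lib.H16.card_mul_set B B'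
  rw [hbot, Subgroup.card_bot, mul_one, hB.2, hB'.2] at hprod
  have hsub : ((B : Set Γ) * (B' : Set Γ) : Set Γ) ⊆ (A : Set Γ) := by
    rintro _ ⟨x, hx, y, hy, rfl⟩
    exact A.mul_mem (hB.1 hx) (hB'.1 hy)
  have hle : Nat.card ((B : Set Γ) * (B' : Set Γ) : Set Γ) ≤ Nat.card A :=
    Nat.card_mono (Set.toFinite _) hsub
  rw [hprod, hA.card] at hle
  have h3 : 0 < q ^ 3 := pow_pos (by omega) 3
  have : q ^ 3 * 2 ≤ q ^ 2 * q ^ 2 := by
    calc q ^ 3 * 2 ≤ q ^ 3 * q := Nat.mul_le_mul_left _ hq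
      _ = q ^ 2 * q ^ 2 := by ring
  omega

end Cfsg.Agent.Lib.H28.DF
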