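import Mathlib

/-!
# S4316, piece D12 (helper28): a group generated by `|s|` subgroups of order `≤ m` has order `≤ |T'| m^|s|`.
Pure Mathlib.
-/

set_option autoImplicit false

universe u

namespace Cfsg.Agent.Lib.H28.DF

open Subgroup
open scoped commutatorElement Pointwise

variable {Γ : Type u} [Group Γ] [Finite Γ]

omit [Finite Γ] in
/-- `|N H| ≤ |N| |H|` when `H` normalizes `N`. -/
theorem card_sup_le_mul_d12 (N H : Subgroup Γ) (hLE : H ≤ normalizer (N : Set Γ)) :
    Nat.card ↥(N ⊔ H) ≤ Nat.card N * Nat.card H := by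
  classical
  have hcoe : ((N ⊔ H : Subgroup Γ) : Set Γ) = (N : Set Γ) * (H : Set Γ) :=
    coe_mul_of_right_le_normalizer_left N H hLE
  have h1 : Nat.card ↥(N ⊔ H) = Nat.card (((N : Set Γ) * (H : Set Γ) : Set Γ)) := by
    rw [← hcoe]; rfl
  rw [h1]
  exact Set.natCard_mul_le

omit [Finite Γ] in
/-- A subgroup between `T'` and `T` is normalized by `T`. -/
theorem le_normalizer_of_comm_le_d12 {T U : Subgroup Γ} (h1 : ⁅T, T⁆ ≤ U) (h2 : U ≤ T) :
    T ≤ normalizer (U : Set Γ) := by
  intro x hx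
  have key : ∀ y ∈ T, ∀ u ∈ U, y * u * y⁻¹ ∈ U := by
    intro y hy u hu
    have hc : ⁅y, u⁆ ∈ U := h1 (Subgroup.commutator_mem_commutator hy (h2 hu))
    have : y * u * y⁻¹ = ⁅y, u⁆ * u := by
      rw [commutatorElement_def]; group
    rw [this]
    exact U.mul_mem hc hu
  rw [mem_normalizer_iff]
  intro u
  constructor
  · intro hu
    exact key x hx u hu
  · intro hu
    have := key x⁻¹ (T.inv_mem hx) _ hu
    simpa [mul_assoc] using this

/-- D12. A group generated by `|s|` subgroups of order `≤ m` has order `≤ |T'| m^|s|` (`T' K_1 ⋯ K_j` is a subgroup,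
of order `≤ |T'| |K_1| ⋯ |K_j|`: subgroups containing `T'` are normal in `T`). -/
theorem card_le_commutator_mul_pow (T : Subgroup Γ) (s : Finset Γ) (K : Γ → Subgroup Γ) (m : ℕ)
    (hT : T = ⨆ a ∈ s, K a) (hK : ∀ a ∈ s, Nat.card (K a) ≤ m) :
    Nat.card T ≤ Nat.card ↥⁅T, T⁆ * m ^ s.card := by
  classical
  have hKT : ∀ a ∈ s, K a ≤ T := by
    intro a ha
    rw [hT]
    exact le_biSup K ha
  have main : ∀ s' : Finset Γ, s' ⊆ s →
      Nat.card ↥(⁅T, T⁆ ⊔ ⨆ a ∈ s', K a) ≤ Nat.card ↥⁅T, T⁆ * m ^ s'.card := by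
    intro s'
    induction s' using Finset.induction_on with
    | empty =>
      intro _
      simp
    | insert a s'' ha ih =>
      intro hsub
      have has : a ∈ s := hsub (Finset.mem_insert_self a s'')
      have hsub' : s'' ⊆ s := fun x hx => hsub (Finset.mem_insert_of_mem hx)
      have ih' := ih hsub'
      set U : Subgroup Γ := ⁅T, T⁆ ⊔ ⨆ b ∈ s'', K b with hU
      have hUT : U ≤ T := by
        have hcT : ⁅T, T⁆ ≤ T := by
          rw [Subgroup.commutator_le]
          intro x hx y hy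
          rw [commutatorElement_def]
          exact T.mul_mem (T.mul_mem (T.mul_mem hx hy) (T.inv_mem hx)) (T.inv_mem hy)
        refine sup_le hcT ?_
        refine iSup₂_le ?_
        intro b hb
        exact hKT b (hsub' hb)
      have hnorm : K a ≤ normalizer (U : Set Γ) :=
        (hKT a has).trans (le_normalizer_of_comm_le_d12 le_sup_left hUT)
      have heq : ⁅T, T⁆ ⊔ ⨆ b ∈ insert a s'', K b = U ⊔ K a := by
        rw [Finset.iSup_insert, hU]
        rw [sup_comm (K a), sup_assoc]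
      rw [heq, Finset.card_insert_of_notMem ha, pow_succ, ← mul_assoc]
      calc Nat.card ↥(U ⊔ K a) ≤ Nat.card U * Nat.card (K a) :=
            card_sup_le_mul_d12 U (K a) hnorm
        _ ≤ (Nat.card ↥⁅T, T⁆ * m ^ s''.card) * m := Nat.mul_le_mul ih' (hK a has)
  have hle : T ≤ ⁅T, T⁆ ⊔ ⨆ a ∈ s, K a := by
    conv_lhs => rw [hT]
    exact le_sup_right
  exact (Subgroup.card_le_of_le hle).trans (main s (Finset.Subset.refl s))

end Cfsg.Agent.Lib.H28.DF
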