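import Mathlib
import Cfsg.Agent.Lib.H3.DF0
import Cfsg.Agent.Lib.H28.DFD1

/-!
# S4316, piece D5 (helper28): commutators of elements of `C_G(B)` and `C_G(B')` lie in one `K_c`.
-/

set_option autoImplicit false

universe u

namespace Cfsg.Agent.Lib.H28.DF

open Subgroup Cfsg.Agent.Lib.H3.DF
open scoped commutatorElement

variable {Γ : Type u} [Group Γ] [Finite Γ]

/-- D5. Commutators of elements of `C_G(B)` and `C_G(B')` lie in one `K_c`. (D1.) -/
theorem exists_commutator_mem_Kc {q m : ℕ} [Fact q.Prime] {G A : Subgroup Γ} (h : DHyp q m G A)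
    {B B' : Subgroup Γ} (hB : IsPlane q A B) (hB' : IsPlane q A B') :
    ∃ c ∈ A, c ≠ 1 ∧ ∀ x ∈ HB G B, ∀ k ∈ HB G B', ⁅x, k⁆ ∈ Kc G c := by
  obtain ⟨c, hcB, hcB', hc1⟩ := exists_mem_inf_ne_one A B B' h.e3 hB hB'
  refine ⟨c, hB.1 hcB, hc1, ?_⟩
  intro x hx k hk
  have hxG : x ∈ Gc G c := by
    unfold HB at hx
    unfold Gc
    rw [Subgroup.mem_inf] at hx ⊢
    refine ⟨hx.1, ?_⟩
    rw [Subgroup.mem_centralizer_iff] at hx ⊢
    intro y hy
    rw [Set.mem_singleton_iff] at hy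
    subst hy
    exact hx.2 y hcB
  have hkG : k ∈ Gc G c := by
    unfold HB at hk
    unfold Gc
    rw [Subgroup.mem_inf] at hk ⊢
    refine ⟨hk.1, ?_⟩
    rw [Subgroup.mem_centralizer_iff] at hk ⊢
    intro y hy
    rw [Set.mem_singleton_iff] at hy
    subst hy
    exact hk.2 y hcB'
  unfold Kc
  exact Subgroup.commutator_mem_commutator hxG hkG

end Cfsg.Agent.Lib.H28.DF
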