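/-
helper28 library: the stabilizer of a complementary pair of dodecads on sextets (396, 495, 880).
-/
import Cfsg.Agent.Lib.H28.CertDodSext
import Cfsg.Agent.Lib.H28.M12

set_option autoImplicit false

namespace Cfsg.Agent.Lib.H28

open Cfsg
open scoped Pointwise

theorem decL_dodPairKey : decL dodPairKey = {ptsMask dod0, Finset.univ \ ptsMask dod0} := by
  have h : ptsMask dod0c = Finset.univ \ ptsMask dod0 := by
    ext p
    rw [mem_ptsMask_dod0c, Finset.mem_sdiff]
    simp
  ext s
  rw [mem_decL, ← h]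
  show (∃ m ∈ [dod0, dod0c], ptsMask m = s) ↔ _
  simp only [List.mem_cons, List.not_mem_nil, or_false, Finset.mem_insert, Finset.mem_singleton]
  constructor
  · rintro ⟨m, rfl | rfl, rfl⟩
    · exact Or.inl rfl
    · exact Or.inr rfl
  · rintro (rfl | rfl)
    · exact ⟨dod0, Or.inl rfl, rfl⟩
    · exact ⟨dod0c, Or.inr rfl, rfl⟩

theorem smul_univ_sdiff (g : Equiv.Perm GolayPt) (d : Finset GolayPt) :
    g • (Finset.univ \ d) = Finset.univ \ g • d := by
  rw [Finset.smul_finset_sdiff, Finset.smul_finset_univ]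

theorem smul_decL_dodPairKey (g : Equiv.Perm GolayPt) :
    g • decL dodPairKey = {g • ptsMask dod0, Finset.univ \ g • ptsMask dod0} := by
  rw [decL_dodPairKey, smul_family_eq_image, Finset.image_insert, Finset.image_singleton, smul_univ_sdiff]

theorem dodPair_sextet_structure (g0 : ↥M24) :
    (∀ j ∈ dodSextJ, ∃ X ∈ sextets, pairInv (g0 • decL dodPairKey) X = j ∧
      (MulAction.orbit ↥(MulAction.stabilizer ↥M24 (g0 • decL dodPairKey)) X).ncard = dodSextN j) ∧
    (∀ X ∈ sextets, MulAction.orbit ↥(MulAction.stabilizer ↥M24 (g0 • decL dodPairKey)) X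
      = {y | y ∈ sextets ∧ pairInv (g0 • decL dodPairKey) y = pairInv (g0 • decL dodPairKey) X}) ∧
    (∀ y ∈ sextets, pairInv (g0 • decL dodPairKey) y ∈ dodSextJ) :=
  key_class_structure (decL dodPairKey) sextets (fun g _ hx => smul_mem_sextets' g hx) sextKs 1771
    (fun _ hy => exists_sextKey hy) (fun _ hk => decL_mem_sextets (sextKey_ok hk)) sextKs_inj sextKs_nodup
    pairInv pairInv_smul' (pairInvK dodPairKey)
    (fun _ hk => pairInv_decL dodPairKey_keyOK (sextKey_keyOK hk))
    dodPairGenWords dodPairGenWords_smul dodSextJ dodSextN dodSext_all dodSext_certs dodSext_counts dodSext_pos g0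

end Cfsg.Agent.Lib.H28
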