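/-
S2546 / S2547 piece BTU (architect helper8): `B = T U`, `T ∩ U = 1`, `B` normalises `U`.
-/
import Cfsg.Agent.Lib.H8.FBNRefl

set_option autoImplicit false

namespace Cfsg.Agent.Lib.H28.FBN

open Matrix Cfsg.Agent.Lib.H12.DCos Cfsg.Agent.Lib.H8.FBN

variable {F : Type*} [Field F] {n : ℕ} (φ : F →+* F)

/-- the diagonal of an upper triangular element of `GS φ` -/
theorem diag_mul_of_mem_Bs (b : ↥(GS (n := n) φ)) (hb : b ∈ Bs φ) (k : Fin n) :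
    (b.1 : Matrix (Fin n) (Fin n) F) k k * φ ((b.1 : Matrix (Fin n) (Fin n) F) k.rev k.rev) = 1 := by
  have h := congrFun (congrFun (mul_star_self φ b) k) k
  rw [IsUp.mul_diag hb (IsUp.star φ hb), Matrix.one_apply_eq, Cfsg.Agent.Lib.H8.FBN.star_apply] at h
  exact h

theorem diagPart_mul_star (b : ↥(GS (n := n) φ)) (hb : b ∈ Bs φ) :
    Matrix.diagonal (fun i => (b.1 : Matrix (Fin n) (Fin n) F) i i) *
      star φ (Matrix.diagonal (fun i => (b.1 : Matrix (Fin n) (Fin n) F) i i)) = 1 := by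
  ext k l
  rw [Matrix.diagonal_mul, Cfsg.Agent.Lib.H8.FBN.star_apply]
  by_cases h : k = l
  · subst h
    rw [Matrix.diagonal_apply_eq, Matrix.one_apply_eq]
    exact diag_mul_of_mem_Bs φ b hb k
  · rw [Matrix.diagonal_apply_ne _ (fun h' => h (Fin.rev_injective h').symm), map_zero, mul_zero,
      Matrix.one_apply_ne h]

/-- BTU (1) -/
theorem Bs_eq_Ts_mul_Us (b : ↥(GS (n := n) φ)) (hb : b ∈ Bs φ) : ∃ t ∈ Ts φ, ∃ u ∈ Us φ, b = t * u := by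
  set t : ↥(GS (n := n) φ) := mkGS φ (Matrix.diagonal (fun i => (b.1 : Matrix (Fin n) (Fin n) F) i i))
    (diagPart_mul_star φ b hb) with ht
  have htT : t ∈ Ts φ := by
    intro k l hkl
    show Matrix.diagonal (fun i => (b.1 : Matrix (Fin n) (Fin n) F) i i) k l = 0
    exact Matrix.diagonal_apply_ne _ hkl
  have htB : t ∈ Bs φ := Ts_le_Bs htT
  refine ⟨t, htT, t⁻¹ * b, ?_, by rw [mul_inv_cancel_left]⟩
  have hup : t⁻¹ * b ∈ Bs φ := (Bs φ).mul_mem ((Bs φ).inv_mem htB) hb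
  refine ⟨hup, fun k => ?_⟩
  have hinvB : IsUp ((t⁻¹ : ↥(GS (n := n) φ)).1 : Matrix (Fin n) (Fin n) F) := (Bs φ).inv_mem htB
  rw [val_mul, IsUp.mul_diag hinvB hb, inv_apply, mkGS_val, Matrix.diagonal_apply_eq, mul_comm]
  exact diag_mul_of_mem_Bs φ b hb k

/-- BTU (2) -/
theorem eq_one_of_mem_Ts_of_mem_Us (g : ↥(GS (n := n) φ)) (ht : g ∈ Ts φ) (hu : g ∈ Us φ) : g = 1 := by
  apply ext_val
  ext k l
  by_cases h : k = l
  · subst h
    rw [hu.2 k, val_one, Matrix.one_apply_eq]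
  · rw [ht k l h, val_one, Matrix.one_apply_ne h]

/-- BTU (3) -/
theorem Us_conj_mem (b u : ↥(GS (n := n) φ)) (hb : b ∈ Bs φ) (hu : u ∈ Us φ) : b⁻¹ * u * b ∈ Us φ := by
  have hbi : b⁻¹ ∈ Bs φ := (Bs φ).inv_mem hb
  have h1 : b⁻¹ * u ∈ Bs φ := (Bs φ).mul_mem hbi (Us_le_Bs hu)
  refine ⟨(Bs φ).mul_mem h1 hb, fun k => ?_⟩
  have e1 : ((b⁻¹ * u * b : ↥(GS (n := n) φ)).1 : Matrix (Fin n) (Fin n) F) k k =
      ((b⁻¹ * u : ↥(GS (n := n) φ)).1 : Matrix (Fin n) (Fin n) F) k k * (b.1 : Matrix (Fin n) (Fin n) F) k k := by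
    rw [val_mul]
    exact IsUp.mul_diag h1 hb k
  have e2 : ((b⁻¹ * u : ↥(GS (n := n) φ)).1 : Matrix (Fin n) (Fin n) F) k k =
      ((b⁻¹ : ↥(GS (n := n) φ)).1 : Matrix (Fin n) (Fin n) F) k k * (u.1 : Matrix (Fin n) (Fin n) F) k k := by
    rw [val_mul]
    exact IsUp.mul_diag hbi hu.1 k
  have e3 : ((b⁻¹ : ↥(GS (n := n) φ)).1 : Matrix (Fin n) (Fin n) F) k k * (b.1 : Matrix (Fin n) (Fin n) F) k k = 1 := by
    have h := IsUp.mul_diag (A := ((b⁻¹ : ↥(GS (n := n) φ)).1 : Matrix (Fin n) (Fin n) F))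
      (B := (b.1 : Matrix (Fin n) (Fin n) F)) hbi hb k
    rw [← h, ← val_mul, inv_mul_cancel, val_one, Matrix.one_apply_eq]
  rw [e1, e2, hu.2 k, mul_one, e3]

end Cfsg.Agent.Lib.H28.FBN
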