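import Cfsg.Agent.Lib.H28.CoxSpinD
import Cfsg.Agent.Lib.H17.Fi23Glue
import Cfsg.Prelude.Def_KGroupFacts

set_option autoImplicit false
set_option maxRecDepth 100000

/-!
# Stem extensions of `Fi₂₃`: lifts satisfying the braid and commutation relations (helper28)

For a stem extension `σ : Γ →* Fi₂₃` we lift the ten generators along the tree `Y₃₄₂` so that the
braid relations hold exactly.  The squares of the lifts are then one central element, the
commutators of non-adjacent lifts are one central element `c` of order at most two, and `c = 1`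
because the ninth power of the Coxeter element of the `E₇` sub-diagram is central while `j`
commutes with its seven letters up to `c`.
-/

namespace Cfsg.Agent.Lib.H28.Fi23Norm

open Cfsg.Spor Cfsg.Agent.Lib.H28.CoxSpin Cfsg.Agent.Lib.H17.Fi23Glue

open scoped commutatorElement

/-- the Coxeter label of two generators -/
abbrev lbl (u v : Gen) : ℕ := coxLabel Cfsg.Spor.Fi23.edges u v

/-- the generators of `Fi₂₃` -/
noncomputable def T (u : Gen) : Cfsg.Spor.Fi23 := PresentedGroup.of u

theorem T_sq (u : Gen) : T u * T u = 1 := of_mul_self u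

theorem T_pow (u v : Gen) : (T u * T v) ^ lbl u v = 1 := by
  have hmem : (FreeGroup.of u * FreeGroup.of v) ^ coxLabel Cfsg.Spor.Fi23.edges u v ∈ rels :=
    Or.inl ⟨u, mem_nodes u, v, mem_nodes v, rfl⟩
  have := PresentedGroup.one_of_mem hmem
  rw [map_pow, map_mul] at this
  exact this

section generic

variable {K : Type*} [Group K]

theorem braid_of_pow {x y : K} (hx : x * x = 1) (hy : y * y = 1) (h : (x * y) ^ 3 = 1) :
    x * y * x = y * x * y := by
  have hxi : x⁻¹ = x := inv_eq_of_mul_eq_one_left hx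
  have hyi : y⁻¹ = y := inv_eq_of_mul_eq_one_left hy
  have h1 : (x * y * x) * (y * x * y) = 1 := by
    rw [← h]; simp only [pow_succ, pow_zero, one_mul, mul_assoc]
  have h2 : x * y * x = (y * x * y)⁻¹ := eq_inv_of_mul_eq_one_left h1
  rw [h2, mul_inv_rev, mul_inv_rev, hxi, hyi, mul_assoc]

theorem comm_of_pow {x y : K} (hx : x * x = 1) (hy : y * y = 1) (h : (x * y) ^ 2 = 1) :
    x * y = y * x := by
  have hxi : x⁻¹ = x := inv_eq_of_mul_eq_one_left hx
  have hyi : y⁻¹ = y := inv_eq_of_mul_eq_one_left hy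
  have h1 : (x * y) * (x * y) = 1 := by rw [← h, pow_two]
  have h2 : x * y = (x * y)⁻¹ := eq_inv_of_mul_eq_one_left h1
  rw [h2, mul_inv_rev, hxi, hyi]

theorem pow3_of_braid {x y : K} (hx : x * x = 1) (hy : y * y = 1)
    (h : x * y * x = y * x * y) : (x * y) ^ 3 = 1 := by
  have e : (x * y) ^ 3 = (x * y * x) * (y * x * y) := by
    simp only [pow_succ, pow_zero, one_mul, mul_assoc]
  rw [e, h]
  calc y * x * y * (y * x * y) = y * x * (y * y) * x * y := by group
    _ = y * (x * x) * y := by rw [hy]; group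
    _ = 1 := by rw [hx, mul_one, hy]

theorem pow2_of_comm {x y : K} (hx : x * x = 1) (hy : y * y = 1)
    (h : x * y = y * x) : (x * y) ^ 2 = 1 := by
  rw [pow_two]
  calc x * y * (x * y) = x * (y * x) * y := by group
    _ = x * (x * y) * y := by rw [h]
    _ = (x * x) * (y * y) := by group
    _ = 1 := by rw [hx, hy, one_mul]

/-- multiplying the entries of a list by a central element -/
theorem prod_map_central (c : K) (hc : ∀ g : K, c * g = g * c) (l : List K) :
    (l.map fun y => c * y).prod = c ^ l.length * l.prod := by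
  induction l with
  | nil => simp
  | cons a l ih =>
    rw [List.map_cons, List.prod_cons, ih, List.length_cons, List.prod_cons, pow_succ]
    have h1 : a * c ^ l.length = c ^ l.length * a :=
      ((Commute.pow_left (show Commute c a from hc a) l.length).eq).symm
    calc c * a * (c ^ l.length * l.prod) = c * (a * c ^ l.length) * l.prod := by group
      _ = c * (c ^ l.length * a) * l.prod := by rw [h1]
      _ = (c * c ^ l.length) * (a * l.prod) := by group
      _ = c ^ l.length * c * (a * l.prod) := by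
          rw [(Commute.pow_right (Commute.refl c) l.length).eq]

theorem conj_list_prod (x : K) (l : List K) :
    x * l.prod * x⁻¹ = (l.map fun y => x * y * x⁻¹).prod := by
  induction l with
  | nil => simp
  | cons a l ih =>
    rw [List.prod_cons, List.map_cons, List.prod_cons, ← ih]
    group

end generic

theorem T_braid (u v : Gen) (h : lbl u v = 3) : T u * T v * T u = T v * T u * T v := by
  have := T_pow u v
  rw [h] at this
  exact braid_of_pow (T_sq u) (T_sq v) this

theorem T_comm (u v : Gen) (h : lbl u v = 2) : T u * T v = T v * T u := by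
  have := T_pow u v
  rw [h] at this
  exact comm_of_pow (T_sq u) (T_sq v) this

theorem T_cox9 : (T .a * T .b * T .c * T .d * T .e * T .f * T .h) ^ 9 = 1 := by
  have hmem : (Cfsg.Spor.Fi23.a * Cfsg.Spor.Fi23.b * Cfsg.Spor.Fi23.c * Cfsg.Spor.Fi23.d *
      Cfsg.Spor.Fi23.e * Cfsg.Spor.Fi23.f * Cfsg.Spor.Fi23.h) ^ 9 ∈ rels :=
    Or.inr (by simp [Cfsg.Spor.Fi23.extra])
  have := PresentedGroup.one_of_mem hmem
  simp only [map_pow, map_mul] at this
  exact this

theorem T_spider : (T .d * T .c * T .b * T .d * T .e * T .f * T .d * T .h * T .i) ^ 10 = 1 := by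
  have hmem : (Cfsg.Spor.Fi23.d * Cfsg.Spor.Fi23.c * Cfsg.Spor.Fi23.b * Cfsg.Spor.Fi23.d *
      Cfsg.Spor.Fi23.e * Cfsg.Spor.Fi23.f * Cfsg.Spor.Fi23.d * Cfsg.Spor.Fi23.h *
      Cfsg.Spor.Fi23.i) ^ 10 ∈ rels :=
    Or.inr (by simp [Cfsg.Spor.Fi23.extra])
  have := PresentedGroup.one_of_mem hmem
  simp only [map_pow, map_mul] at this
  exact this

universe v

variable {Γ : Type v} [Group Γ]

theorem exists_braid_lifts (σ : Γ →* Cfsg.Spor.Fi23) (hσ : Cfsg.IsStemExtension σ) :
    ∃ s : Gen → Γ, (∀ u, σ (s u) = T u) ∧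
      ∀ u v, lbl u v = 3 → s u * s v * s u = s v * s u * s v := by
  obtain ⟨hsurj, hcen, -⟩ := hσ
  choose w hw using fun u => hsurj (T u)
  obtain ⟨ec, bdc⟩ := lift_step σ (hw .d) (hw .c) (T_braid .d .c (by decide)) hcen
  obtain ⟨eb, bcb⟩ := lift_step σ ec (hw .b) (T_braid .c .b (by decide)) hcen
  obtain ⟨ea, bba⟩ := lift_step σ eb (hw .a) (T_braid .b .a (by decide)) hcen
  obtain ⟨ee, bde⟩ := lift_step σ (hw .d) (hw .e) (T_braid .d .e (by decide)) hcen
  obtain ⟨ef, bef⟩ := lift_step σ ee (hw .f) (T_braid .e .f (by decide)) hcen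
  obtain ⟨eg, bfg⟩ := lift_step σ ef (hw .g) (T_braid .f .g (by decide)) hcen
  obtain ⟨ej, bgj⟩ := lift_step σ eg (hw .j) (T_braid .g .j (by decide)) hcen
  obtain ⟨eh, bdh⟩ := lift_step σ (hw .d) (hw .h) (T_braid .d .h (by decide)) hcen
  obtain ⟨ei, bhi⟩ := lift_step σ eh (hw .i) (T_braid .h .i (by decide)) hcen
  set sd := w .d
  set sc := w .c * bz sd (w .c)
  set sb := w .b * bz sc (w .b)
  set sa := w .a * bz sb (w .a)
  set se := w .e * bz sd (w .e)
  set sf := w .f * bz se (w .f)
  set sg := w .g * bz sf (w .g)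
  set sj := w .j * bz sg (w .j)
  set sh := w .h * bz sd (w .h)
  set si := w .i * bz sh (w .i)
  refine ⟨fun u => match u with
    | .a => sa | .b => sb | .c => sc | .d => sd | .e => se | .f => sf | .g => sg | .j => sj
    | .h => sh | .i => si, ?_, ?_⟩
  · intro u
    cases u
    · exact ea
    · exact eb
    · exact ec
    · exact hw .d
    · exact ee
    · exact ef
    · exact eg
    · exact ej
    · exact eh
    · exact ei
  · intro u v h
    cases u <;> cases v <;>
      first
      | exact absurd h (by decide)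
      | exact bdc | exact bdc.symm | exact bcb | exact bcb.symm | exact bba | exact bba.symm
      | exact bde | exact bde.symm | exact bef | exact bef.symm | exact bfg | exact bfg.symm
      | exact bgj | exact bgj.symm | exact bdh | exact bdh.symm | exact bhi | exact bhi.symm

/-- **Lifts satisfying the Coxeter relations up to a common central square.** -/
theorem exists_cox_lifts (σ : Γ →* Cfsg.Spor.Fi23) (hσ : Cfsg.IsStemExtension σ) :
    ∃ s : Gen → Γ, (∀ u, σ (s u) = T u) ∧
      (∀ u v, lbl u v = 3 → s u * s v * s u = s v * s u * s v) ∧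
      (∀ u v, lbl u v = 2 → s u * s v = s v * s u) ∧
      (∀ u v, s u * s u = s v * s v) := by
  obtain ⟨s, hst, hb⟩ := exists_braid_lifts σ hσ
  have hcen := hσ.2.1
  have central : ∀ {z : Γ}, σ z = 1 → ∀ g : Γ, z * g = g * z := fun {z} hz g =>
    (Subgroup.mem_center_iff.1 (hcen (MonoidHom.mem_ker.2 hz)) g).symm
  have hsk : ∀ u, σ (s u * s u) = 1 := fun u => by rw [map_mul, hst, T_sq]
  -- squares
  have sq : ∀ u v, lbl u v = 3 → s v * s v = s u * s u := fun u v h =>
    sq_eq_of_braid (hb u v h) (central (hsk u))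
  have qc : s .c * s .c = s .d * s .d := sq .d .c (by decide)
  have qb : s .b * s .b = s .d * s .d := (sq .c .b (by decide)).trans qc
  have qa : s .a * s .a = s .d * s .d := (sq .b .a (by decide)).trans qb
  have qe : s .e * s .e = s .d * s .d := sq .d .e (by decide)
  have qf : s .f * s .f = s .d * s .d := (sq .e .f (by decide)).trans qe
  have qg : s .g * s .g = s .d * s .d := (sq .f .g (by decide)).trans qf
  have qj : s .j * s .j = s .d * s .d := (sq .g .j (by decide)).trans qg
  have qh : s .h * s .h = s .d * s .d := sq .d .h (by decide)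
  have qi : s .i * s .i = s .d * s .d := (sq .h .i (by decide)).trans qh
  have hsq0 : ∀ u, s u * s u = s .d * s .d := by
    intro u
    cases u
    · exact qa
    · exact qb
    · exact qc
    · rfl
    · exact qe
    · exact qf
    · exact qg
    · exact qj
    · exact qh
    · exact qi
  have hs : ∀ u v, s u * s u = s v * s v := fun u v => (hsq0 u).trans (hsq0 v).symm
  -- commutators
  have ck : ∀ u v, lbl u v = 2 → σ ⁅s u, s v⁆ = 1 := by
    intro u v h
    rw [commutatorElement_def, map_mul, map_mul, map_mul, map_inv, map_inv, hst, hst,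
      T_comm u v h]
    group
  have cc : ∀ u v, lbl u v = 2 → ∀ g : Γ, ⁅s u, s v⁆ * g = g * ⁅s u, s v⁆ :=
    fun u v h => central (ck u v h)
  have c2 : ∀ u v, lbl u v = 2 → ⁅s u, s v⁆ * ⁅s u, s v⁆ = 1 := fun u v h =>
    comm_sq (cc u v h) (central (hsk u))
  have sym : ∀ u v, lbl u v = 2 → ⁅s v, s u⁆ = ⁅s u, s v⁆ := fun u v h =>
    comm_symm (c2 u v h)
  have mv : ∀ u v x, lbl u v = 2 → lbl v x = 3 → lbl u x = 2 → ⁅s u, s x⁆ = ⁅s u, s v⁆ :=
    fun u v x h1 h2 h3 => comm_move (hb v x h2) (cc u v h1) (cc u x h3)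
  set c := ⁅s .a, s .c⁆ with hcdef
  have p_ac : ⁅s .a, s .c⁆ = c := rfl
  have p_ca : ⁅s .c, s .a⁆ = c := (sym .a .c (by decide)).trans p_ac
  have p_ad : ⁅s .a, s .d⁆ = c := (mv .a .c .d (by decide) (by decide) (by decide)).trans p_ac
  have p_da : ⁅s .d, s .a⁆ = c := (sym .a .d (by decide)).trans p_ad
  have p_ah : ⁅s .a, s .h⁆ = c := (mv .a .d .h (by decide) (by decide) (by decide)).trans p_ad
  have p_ae : ⁅s .a, s .e⁆ = c := (mv .a .d .e (by decide) (by decide) (by decide)).trans p_ad
  have p_db : ⁅s .d, s .b⁆ = c := (mv .d .a .b (by decide) (by decide) (by decide)).trans p_da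
  have p_ha : ⁅s .h, s .a⁆ = c := (sym .a .h (by decide)).trans p_ah
  have p_ai : ⁅s .a, s .i⁆ = c := (mv .a .h .i (by decide) (by decide) (by decide)).trans p_ah
  have p_ea : ⁅s .e, s .a⁆ = c := (sym .a .e (by decide)).trans p_ae
  have p_af : ⁅s .a, s .f⁆ = c := (mv .a .e .f (by decide) (by decide) (by decide)).trans p_ae
  have p_bd : ⁅s .b, s .d⁆ = c := (sym .d .b (by decide)).trans p_db
  have p_hb : ⁅s .h, s .b⁆ = c := (mv .h .a .b (by decide) (by decide) (by decide)).trans p_ha
  have p_ia : ⁅s .i, s .a⁆ = c := (sym .a .i (by decide)).trans p_ai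
  have p_eb : ⁅s .e, s .b⁆ = c := (mv .e .a .b (by decide) (by decide) (by decide)).trans p_ea
  have p_fa : ⁅s .f, s .a⁆ = c := (sym .a .f (by decide)).trans p_af
  have p_ag : ⁅s .a, s .g⁆ = c := (mv .a .f .g (by decide) (by decide) (by decide)).trans p_af
  have p_bh : ⁅s .b, s .h⁆ = c := (mv .b .d .h (by decide) (by decide) (by decide)).trans p_bd
  have p_be : ⁅s .b, s .e⁆ = c := (mv .b .d .e (by decide) (by decide) (by decide)).trans p_bd
  have p_hc : ⁅s .h, s .c⁆ = c := (mv .h .b .c (by decide) (by decide) (by decide)).trans p_hb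
  have p_ib : ⁅s .i, s .b⁆ = c := (mv .i .a .b (by decide) (by decide) (by decide)).trans p_ia
  have p_ec : ⁅s .e, s .c⁆ = c := (mv .e .b .c (by decide) (by decide) (by decide)).trans p_eb
  have p_fb : ⁅s .f, s .b⁆ = c := (mv .f .a .b (by decide) (by decide) (by decide)).trans p_fa
  have p_ga : ⁅s .g, s .a⁆ = c := (sym .a .g (by decide)).trans p_ag
  have p_aj : ⁅s .a, s .j⁆ = c := (mv .a .g .j (by decide) (by decide) (by decide)).trans p_ag
  have p_bi : ⁅s .b, s .i⁆ = c := (mv .b .h .i (by decide) (by decide) (by decide)).trans p_bh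
  have p_bf : ⁅s .b, s .f⁆ = c := (mv .b .e .f (by decide) (by decide) (by decide)).trans p_be
  have p_ch : ⁅s .c, s .h⁆ = c := (sym .h .c (by decide)).trans p_hc
  have p_ic : ⁅s .i, s .c⁆ = c := (mv .i .b .c (by decide) (by decide) (by decide)).trans p_ib
  have p_ce : ⁅s .c, s .e⁆ = c := (sym .e .c (by decide)).trans p_ec
  have p_fc : ⁅s .f, s .c⁆ = c := (mv .f .b .c (by decide) (by decide) (by decide)).trans p_fb
  have p_gb : ⁅s .g, s .b⁆ = c := (mv .g .a .b (by decide) (by decide) (by decide)).trans p_ga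
  have p_ja : ⁅s .j, s .a⁆ = c := (sym .a .j (by decide)).trans p_aj
  have p_bg : ⁅s .b, s .g⁆ = c := (mv .b .f .g (by decide) (by decide) (by decide)).trans p_bf
  have p_ci : ⁅s .c, s .i⁆ = c := (mv .c .h .i (by decide) (by decide) (by decide)).trans p_ch
  have p_id : ⁅s .i, s .d⁆ = c := (mv .i .c .d (by decide) (by decide) (by decide)).trans p_ic
  have p_cf : ⁅s .c, s .f⁆ = c := (mv .c .e .f (by decide) (by decide) (by decide)).trans p_ce
  have p_fd : ⁅s .f, s .d⁆ = c := (mv .f .c .d (by decide) (by decide) (by decide)).trans p_fc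
  have p_gc : ⁅s .g, s .c⁆ = c := (mv .g .b .c (by decide) (by decide) (by decide)).trans p_gb
  have p_jb : ⁅s .j, s .b⁆ = c := (mv .j .a .b (by decide) (by decide) (by decide)).trans p_ja
  have p_bj : ⁅s .b, s .j⁆ = c := (mv .b .g .j (by decide) (by decide) (by decide)).trans p_bg
  have p_di : ⁅s .d, s .i⁆ = c := (sym .i .d (by decide)).trans p_id
  have p_ie : ⁅s .i, s .e⁆ = c := (mv .i .d .e (by decide) (by decide) (by decide)).trans p_id
  have p_cg : ⁅s .c, s .g⁆ = c := (mv .c .f .g (by decide) (by decide) (by decide)).trans p_cf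
  have p_df : ⁅s .d, s .f⁆ = c := (sym .f .d (by decide)).trans p_fd
  have p_fh : ⁅s .f, s .h⁆ = c := (mv .f .d .h (by decide) (by decide) (by decide)).trans p_fd
  have p_gd : ⁅s .g, s .d⁆ = c := (mv .g .c .d (by decide) (by decide) (by decide)).trans p_gc
  have p_jc : ⁅s .j, s .c⁆ = c := (mv .j .b .c (by decide) (by decide) (by decide)).trans p_jb
  have p_ei : ⁅s .e, s .i⁆ = c := (sym .i .e (by decide)).trans p_ie
  have p_if : ⁅s .i, s .f⁆ = c := (mv .i .e .f (by decide) (by decide) (by decide)).trans p_ie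
  have p_cj : ⁅s .c, s .j⁆ = c := (mv .c .g .j (by decide) (by decide) (by decide)).trans p_cg
  have p_dg : ⁅s .d, s .g⁆ = c := (mv .d .f .g (by decide) (by decide) (by decide)).trans p_df
  have p_hf : ⁅s .h, s .f⁆ = c := (sym .f .h (by decide)).trans p_fh
  have p_fi : ⁅s .f, s .i⁆ = c := (mv .f .h .i (by decide) (by decide) (by decide)).trans p_fh
  have p_gh : ⁅s .g, s .h⁆ = c := (mv .g .d .h (by decide) (by decide) (by decide)).trans p_gd
  have p_ge : ⁅s .g, s .e⁆ = c := (mv .g .d .e (by decide) (by decide) (by decide)).trans p_gd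
  have p_jd : ⁅s .j, s .d⁆ = c := (mv .j .c .d (by decide) (by decide) (by decide)).trans p_jc
  have p_eh : ⁅s .e, s .h⁆ = c := (mv .e .i .h (by decide) (by decide) (by decide)).trans p_ei
  have p_ig : ⁅s .i, s .g⁆ = c := (mv .i .f .g (by decide) (by decide) (by decide)).trans p_if
  have p_dj : ⁅s .d, s .j⁆ = c := (mv .d .g .j (by decide) (by decide) (by decide)).trans p_dg
  have p_hg : ⁅s .h, s .g⁆ = c := (mv .h .f .g (by decide) (by decide) (by decide)).trans p_hf
  have p_he : ⁅s .h, s .e⁆ = c := (mv .h .f .e (by decide) (by decide) (by decide)).trans p_hf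
  have p_gi : ⁅s .g, s .i⁆ = c := (mv .g .h .i (by decide) (by decide) (by decide)).trans p_gh
  have p_eg : ⁅s .e, s .g⁆ = c := (sym .g .e (by decide)).trans p_ge
  have p_jh : ⁅s .j, s .h⁆ = c := (mv .j .d .h (by decide) (by decide) (by decide)).trans p_jd
  have p_je : ⁅s .j, s .e⁆ = c := (mv .j .d .e (by decide) (by decide) (by decide)).trans p_jd
  have p_ij : ⁅s .i, s .j⁆ = c := (mv .i .g .j (by decide) (by decide) (by decide)).trans p_ig
  have p_hj : ⁅s .h, s .j⁆ = c := (mv .h .g .j (by decide) (by decide) (by decide)).trans p_hg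
  have p_ej : ⁅s .e, s .j⁆ = c := (mv .e .g .j (by decide) (by decide) (by decide)).trans p_eg
  have p_ji : ⁅s .j, s .i⁆ = c := (mv .j .h .i (by decide) (by decide) (by decide)).trans p_jh
  have p_jf : ⁅s .j, s .f⁆ = c := (mv .j .e .f (by decide) (by decide) (by decide)).trans p_je
  have p_fj : ⁅s .f, s .j⁆ = c := (sym .j .f (by decide)).trans p_jf
  have hall : ∀ u v, lbl u v = 2 → ⁅s u, s v⁆ = c := by
    intro u v h
    cases u <;> cases v <;>
      first
      | exact absurd h (by decide)
      | exact p_ac | exact p_ca | exact p_ad | exact p_da | exact p_ah | exact p_ae | exact p_db | exact p_ha | exact p_ai | exact p_ea | exact p_af | exact p_bd | exact p_hb | exact p_ia | exact p_eb | exact p_fa | exact p_ag | exact p_bh | exact p_be | exact p_hc | exact p_ib | exact p_ec | exact p_fb | exact p_ga | exact p_aj | exact p_bi | exact p_bf | exact p_ch | exact p_ic | exact p_ce | exact p_fc | exact p_gb | exact p_ja | exact p_bg | exact p_ci | exact p_id | exact p_cf | exact p_fd | exact p_gc |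 exact p_jb | exact p_bj | exact p_di | exact p_ie | exact p_cg | exact p_df | exact p_fh | exact p_gd | exact p_jc | exact p_ei | exact p_if | exact p_cj | exact p_dg | exact p_hf | exact p_fi | exact p_gh | exact p_ge | exact p_jd | exact p_eh | exact p_ig | exact p_dj | exact p_hg | exact p_he | exact p_gi | exact p_eg | exact p_jh | exact p_je | exact p_ij | exact p_hj | exact p_ej | exact p_ji | exact p_jf | exact p_fj
  have hcc : ∀ g : Γ, c * g = g * c := cc .a .c (by decide)
  have hc2 : c * c = 1 := c2 .a .c (by decide)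
  -- the ninth power of the Coxeter element of `E₇`
  set L : List Γ := [s .a, s .b, s .c, s .d, s .e, s .f, s .h] with hL
  have hLprod : L.prod = s .a * s .b * s .c * s .d * s .e * s .f * s .h := by
    simp [hL, mul_assoc]
  have hUk : σ (L.prod ^ 9) = 1 := by
    rw [hLprod, map_pow, map_mul, map_mul, map_mul, map_mul, map_mul, map_mul, hst, hst, hst,
      hst, hst, hst, hst]
    exact T_cox9
  have hUc := central hUk
  have hconj : ∀ y, lbl .j y = 2 → s .j * s y * (s .j)⁻¹ = c * s y := by
    intro y h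
    have h1 := hall .j y h
    rw [commutatorElement_def] at h1
    calc s .j * s y * (s .j)⁻¹ = (s .j * s y * (s .j)⁻¹ * (s y)⁻¹) * s y := by group
      _ = c * s y := by rw [h1]
  have e1 : s .j * L.prod * (s .j)⁻¹ = c ^ 7 * L.prod := by
    rw [conj_list_prod]
    have : (L.map fun y => s .j * y * (s .j)⁻¹) = L.map fun y => c * y := by
      simp only [hL, List.map_cons, List.map_nil]
      rw [hconj .a (by decide), hconj .b (by decide), hconj .c (by decide),
        hconj .d (by decide), hconj .e (by decide), hconj .f (by decide), hconj .h (by decide)]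
    rw [this, prod_map_central c hcc]
    rfl
  have e2 : (s .j * L.prod * (s .j)⁻¹) ^ 9 = L.prod ^ 9 := by
    rw [conj_pow]
    calc s .j * L.prod ^ 9 * (s .j)⁻¹ = (s .j * L.prod ^ 9) * (s .j)⁻¹ := rfl
      _ = (L.prod ^ 9 * s .j) * (s .j)⁻¹ := by rw [← hUc (s .j)]
      _ = L.prod ^ 9 := by group
  have e3 : (c ^ 7 * L.prod) ^ 9 = c * L.prod ^ 9 := by
    have hcomm : Commute (c ^ 7) L.prod := Commute.pow_left (show Commute c L.prod from hcc _) 7
    rw [hcomm.mul_pow, ← pow_mul]
    have : c ^ (7 * 9) = c := by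
      have h2 : c ^ 2 = 1 := by rw [pow_two]; exact hc2
      calc c ^ (7 * 9) = (c ^ 2) ^ 31 * c := by rw [← pow_mul, ← pow_succ]
        _ = c := by rw [h2, one_pow, one_mul]
    rw [this]
  have hc1 : c = 1 := by
    rw [e1, e3] at e2
    have : c * L.prod ^ 9 = 1 * L.prod ^ 9 := by rw [one_mul]; exact e2
    exact mul_right_cancel this
  refine ⟨s, hst, hb, ?_, hs⟩
  intro u v h
  have h1 := hall u v h
  rw [hc1, commutatorElement_def] at h1
  calc s u * s v = (s u * s v * (s u)⁻¹ * (s v)⁻¹) * (s v * s u) := by group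
    _ = s v * s u := by rw [h1, one_mul]

end Cfsg.Agent.Lib.H28.Fi23Norm
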