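import Cfsg.Agent.Lib.H28.Fi23Norm
import Cfsg.Agent.Lib.H6.CoxOrders2
import Cfsg.Agent.Lib.H6.CoxLB4

set_option autoImplicit false
set_option maxRecDepth 100000

/-!
# Stem extensions of `Fi₂₃`: involutory lifts (helper28)

The lifts of `Fi23Norm.exists_cox_lifts` are rescaled by one central element so that they become
involutions satisfying the Coxeter relations of `Y₃₄₂` and the relation `(a b c d e f h)^9 = 1`.
The rescaling uses that the 18th power of the lifted Coxeter element of `E₇` is the 63rd power of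
the common square, which holds in the group `Wt E₇` of `CoxSpinA`.
-/

namespace Cfsg.Agent.Lib.H28.Fi23Norm

open Cfsg.Spor Cfsg.Agent.Lib.H28.CoxSpin Cfsg.Agent.Lib.H17.Fi23Glue Equiv

/-- the letters `a b c d e f h` in the numbering of `E₇` -/
def wE7 : List ℕ := [6, 5, 4, 3, 2, 0, 1]

open Cfsg.Agent.Lib.H6.CoxTC Cfsg.Agent.Lib.H6.CoxTC.Data Cfsg.Agent.Lib.H6.CoxLB
  Cfsg.Agent.Lib.H6.CoxLB.Data Cfsg.Agent.Lib.H6.CoxOrders in
theorem cox_E7_pow :
    (CoxeterMatrix.E₇.simple 6 * CoxeterMatrix.E₇.simple 5 * CoxeterMatrix.E₇.simple 4 *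
      CoxeterMatrix.E₇.simple 3 * CoxeterMatrix.E₇.simple 2 * CoxeterMatrix.E₇.simple 0 *
      CoxeterMatrix.E₇.simple 1) ^ 18 = 1 := by
  have hfin : Finite CoxeterMatrix.E₇.Group := ub_E7.1
  have hinj := (lb_of_checks CoxeterMatrix.E₇ invOKE7 hmE7 relsOKE7 levelsE7 chainOKE7).2 (by
    rw [chainProdE7]; exact ub_E7.2)
  apply hinj
  rw [map_one, map_pow, map_mul, map_mul, map_mul, map_mul, map_mul, map_mul, rho_simple,
    rho_simple, rho_simple, rho_simple, rho_simple, rho_simple, rho_simple]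
  have hw : ∀ a ∈ wE7, a < 7 := by decide
  have hp : powOK tblE7 56 wE7 18 = true := by decide +kernel
  have h1 : ((wE7.map (pPerm invOKE7)).prod) ^ 18 = 1 := by
    ext x
    rw [pow_val invOKE7 hw, Perm.one_apply]
    unfold powOK at hp
    simp only [List.all_eq_true, List.mem_range, beq_iff_eq] at hp
    exact hp x.val x.isLt
  have h2 : (wE7.map (pPerm invOKE7)).prod = pPerm invOKE7 6 * pPerm invOKE7 5 *
      pPerm invOKE7 4 * pPerm invOKE7 3 * pPerm invOKE7 2 * pPerm invOKE7 0 * pPerm invOKE7 1 := by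
    simp [wE7, mul_assoc]
  rw [h2] at h1
  exact h1

universe v

variable {Γ : Type v} [Group Γ]

/-- the generators at the nodes of `E₇` (numbering of Mathlib) -/
def e7g : Fin 7 → Gen := ![.f, .h, .e, .d, .c, .b, .a]

theorem e7g_braid : ∀ i j : Fin 7, CoxeterMatrix.E₇ i j = 3 → lbl (e7g i) (e7g j) = 3 := by
  intro i j
  fin_cases i <;> fin_cases j <;> decide

theorem e7g_comm : ∀ i j : Fin 7, CoxeterMatrix.E₇ i j = 2 → lbl (e7g i) (e7g j) = 2 := by
  intro i j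
  fin_cases i <;> fin_cases j <;> decide

/-- the 18th power of the lifted Coxeter element of `E₇` -/
theorem sq_cox (s : Gen → Γ)
    (hb : ∀ u v, lbl u v = 3 → s u * s v * s u = s v * s u * s v)
    (hc : ∀ u v, lbl u v = 2 → s u * s v = s v * s u)
    (hs : ∀ u v, s u * s u = s v * s v)
    (hz : ∀ u (g : Γ), s u * s u * g = g * (s u * s u)) :
    (s .a * s .b * s .c * s .d * s .e * s .f * s .h) ^ 18 = (s .d * s .d) ^ 63 := by
  let f : Fin 7 → Γ := fun i => s (e7g i)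
  have fb : ∀ i j, CoxeterMatrix.E₇ i j = 3 → f i * f j * f i = f j * f i * f j :=
    fun i j h => hb _ _ (e7g_braid i j h)
  have fc : ∀ i j, CoxeterMatrix.E₇ i j = 2 → f i * f j = f j * f i :=
    fun i j h => hc _ _ (e7g_comm i j h)
  have fs : ∀ i j, f i * f i = f j * f j := fun i j => hs _ _
  have fz : ∀ i k, f i * f i * f k = f k * (f i * f i) := fun i k => hz _ _
  let φ : Wt CoxeterMatrix.E₇ →* Γ := liftT (M := CoxeterMatrix.E₇) f fb fc fs fz
  have hφ : ∀ i, φ (sg CoxeterMatrix.E₇ i) = f i := fun i => liftT_sg f fb fc fs fz i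
  set wt : Wt CoxeterMatrix.E₇ := sg CoxeterMatrix.E₇ 6 * sg CoxeterMatrix.E₇ 5 *
    sg CoxeterMatrix.E₇ 4 * sg CoxeterMatrix.E₇ 3 * sg CoxeterMatrix.E₇ 2 *
    sg CoxeterMatrix.E₇ 0 * sg CoxeterMatrix.E₇ 1 with hwt
  have hd : deg (wt ^ 18 * ((alpha (M := CoxeterMatrix.E₇) 3) ^ 63)⁻¹) = 1 := by
    rw [map_mul, map_inv, map_pow, map_pow, deg_alpha, hwt, map_mul, map_mul, map_mul, map_mul,
      map_mul, map_mul, deg_sg, deg_sg, deg_sg, deg_sg, deg_sg, deg_sg, deg_sg]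
    rfl
  have hp : proj (wt ^ 18 * ((alpha (M := CoxeterMatrix.E₇) 3) ^ 63)⁻¹) = 1 := by
    have ha : proj (alpha (M := CoxeterMatrix.E₇) 3) = 1 := by
      unfold alpha
      rw [map_mul, proj_sg, simple_sq]
    rw [map_mul, map_inv, map_pow, map_pow, ha, one_pow, inv_one, mul_one, hwt, map_mul, map_mul,
      map_mul, map_mul, map_mul, map_mul, proj_sg, proj_sg, proj_sg, proj_sg, proj_sg, proj_sg,
      proj_sg]
    exact cox_E7_pow
  have hX := eq_one_of_deg_of_proj E7_cases 3 hd hp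
  have h1 : wt ^ 18 = (alpha (M := CoxeterMatrix.E₇) 3) ^ 63 := by
    rw [mul_inv_eq_one] at hX
    exact hX
  have h2 := congrArg φ h1
  rw [map_pow, map_pow, hwt, map_mul, map_mul, map_mul, map_mul, map_mul, map_mul, hφ, hφ, hφ,
    hφ, hφ, hφ, hφ] at h2
  have h3 : φ (alpha (M := CoxeterMatrix.E₇) 3) = f 3 * f 3 := by
    unfold alpha
    rw [map_mul, hφ]
  rw [h3] at h2
  exact h2

theorem cmul {z : Γ} (hz : ∀ g : Γ, z * g = g * z) (x y : Γ) :
    (z * x) * (z * y) = z * z * (x * y) := by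
  calc (z * x) * (z * y) = z * (x * z) * y := by group
    _ = z * (z * x) * y := by rw [hz x]
    _ = z * z * (x * y) := by group

theorem cmul3 {z : Γ} (hz : ∀ g : Γ, z * g = g * z) (x y w : Γ) :
    (z * x) * (z * y) * (z * w) = z * z * z * (x * y * w) := by
  rw [cmul hz]
  calc z * z * (x * y) * (z * w) = z * z * ((x * y) * z) * w := by group
    _ = z * z * (z * (x * y)) * w := by rw [hz (x * y)]
    _ = z * z * z * (x * y * w) := by group

theorem braid_scale {x y z : Γ} (hz : ∀ g : Γ, z * g = g * z) (h : x * y * x = y * x * y) :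
    (z * x) * (z * y) * (z * x) = (z * y) * (z * x) * (z * y) := by
  rw [cmul3 hz, cmul3 hz, h]

/-- **Involutory lifts satisfying the relations of `Fi₂₃` except possibly the spider relation.** -/
theorem exists_good_lifts (σ : Γ →* Cfsg.Spor.Fi23) (hσ : Cfsg.IsStemExtension σ) :
    ∃ s : Gen → Γ, (∀ u, σ (s u) = T u) ∧ (∀ u, s u * s u = 1) ∧
      (∀ u v, lbl u v = 3 → s u * s v * s u = s v * s u * s v) ∧
      (∀ u v, lbl u v = 2 → s u * s v = s v * s u) ∧
      (s .a * s .b * s .c * s .d * s .e * s .f * s .h) ^ 9 = 1 := by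
  obtain ⟨s, hst, hb, hc, hs⟩ := exists_cox_lifts σ hσ
  have hcen := hσ.2.1
  have central : ∀ {z : Γ}, σ z = 1 → ∀ g : Γ, z * g = g * z := fun {z} hz g =>
    (Subgroup.mem_center_iff.1 (hcen (MonoidHom.mem_ker.2 hz)) g).symm
  have hsk : ∀ u, σ (s u * s u) = 1 := fun u => by rw [map_mul, hst, T_sq]
  set ζ := s .d * s .d with hζ
  have hζk : σ ζ = 1 := hsk .d
  set W := s .a * s .b * s .c * s .d * s .e * s .f * s .h with hW
  have hUk : σ (W ^ 9) = 1 := by
    rw [hW, map_pow, map_mul, map_mul, map_mul, map_mul, map_mul, map_mul, hst, hst, hst, hst,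
      hst, hst, hst]
    exact T_cox9
  have hUc := central hUk
  have h18 : W ^ 18 = ζ ^ 63 := sq_cox s hb hc hs (fun u g => central (hsk u) g)
  set τ := W ^ 9 * (ζ ^ 31)⁻¹ with hτ
  have hτk : σ τ = 1 := by
    rw [hτ, map_mul, hUk, map_inv, map_pow, hζk]
    simp
  have hτc := central hτk
  have hcomm : Commute (W ^ 9) ((ζ ^ 31)⁻¹) := hUc _
  have hτ2 : τ * τ = ζ := by
    have e0 : (W ^ 9) ^ 2 = ζ ^ 63 := by rw [← pow_mul]; exact h18
    rw [← pow_two, hτ, hcomm.mul_pow, e0]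
    group
  have hτ63 : τ ^ 63 = W ^ 9 := by
    have e1 : (W ^ 9) ^ 63 = W ^ 9 * (ζ ^ 63) ^ 31 := by
      rw [← h18, ← pow_mul, ← pow_mul, ← pow_add]
    rw [hτ, hcomm.mul_pow, e1]
    group
  have hτi : ∀ g : Γ, τ⁻¹ * g = g * τ⁻¹ := fun g =>
    (Commute.inv_left (show Commute τ g from hτc g)).eq
  refine ⟨fun u => τ⁻¹ * s u, ?_, ?_, ?_, ?_, ?_⟩
  · intro u
    rw [map_mul, map_inv, hτk, inv_one, one_mul, hst]
  · intro u
    show τ⁻¹ * s u * (τ⁻¹ * s u) = 1
    rw [cmul hτi, hs u .d, ← hζ, ← hτ2]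
    group
  · intro u v h
    exact braid_scale hτi (hb u v h)
  · intro u v h
    show τ⁻¹ * s u * (τ⁻¹ * s v) = τ⁻¹ * s v * (τ⁻¹ * s u)
    rw [cmul hτi, cmul hτi, hc u v h]
  · show (τ⁻¹ * s .a * (τ⁻¹ * s .b) * (τ⁻¹ * s .c) * (τ⁻¹ * s .d) * (τ⁻¹ * s .e) * (τ⁻¹ * s .f) *
      (τ⁻¹ * s .h)) ^ 9 = 1
    have e : τ⁻¹ * s .a * (τ⁻¹ * s .b) * (τ⁻¹ * s .c) * (τ⁻¹ * s .d) * (τ⁻¹ * s .e) *
        (τ⁻¹ * s .f) * (τ⁻¹ * s .h) = τ⁻¹ ^ 7 * W := by
      have h1 := prod_map_central τ⁻¹ hτi [s .a, s .b, s .c, s .d, s .e, s .f, s .h]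
      simp only [List.map_cons, List.map_nil, List.prod_cons, List.prod_nil, mul_one,
        List.length_cons, List.length_nil] at h1
      rw [hW]
      simp only [mul_assoc] at h1 ⊢
      exact h1
    have hc7 : Commute (τ⁻¹ ^ 7) W := Commute.pow_left (show Commute τ⁻¹ W from hτi W) 7
    rw [e, hc7.mul_pow, ← pow_mul, inv_pow, hτ63]
    group

end Cfsg.Agent.Lib.H28.Fi23Norm
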