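import Cfsg.Agent.Lib.H28.Fi23Norm2
import Cfsg.Agent.Lib.H28.Fi23S.Main
import Cfsg.Agent.Lib.H28.StemPres

set_option autoImplicit false
set_option maxRecDepth 100000

/-!
# The Schur multiplier of `Fi₂₃` is trivial: every stem extension is an isomorphism (helper28)
-/

namespace Cfsg.Agent.Lib.H28.Fi23Norm

open Cfsg.Spor Cfsg.Agent.Lib.H28.CoxSpin Cfsg.Agent.Lib.H17.Fi23Glue Cfsg.Agent.Lib.H17.CoxGlue
open Cfsg.Agent.Lib.H28.Fi23S (relL coxL sqL longL SW coxW lab spider_eq_one)

universe v

variable {Γ : Type v} [Group Γ]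

theorem lbl_cases (u v : Gen) (h : u ≠ v) : lbl u v = 2 ∨ lbl u v = 3 := by
  revert h
  cases u <;> cases v <;> decide

theorem cox_pow (s : Gen → Γ) (hinv : ∀ u, s u * s u = 1)
    (hb : ∀ u v, lbl u v = 3 → s u * s v * s u = s v * s u * s v)
    (hc : ∀ u v, lbl u v = 2 → s u * s v = s v * s u) (u v : Gen) (h : u ≠ v) :
    (s u * s v) ^ lbl u v = 1 := by
  rcases lbl_cases u v h with h2 | h3
  · rw [h2]
    exact pow2_of_comm (hinv u) (hinv v) (hc u v h2)
  · rw [h3]
    exact pow3_of_braid (hinv u) (hinv v) (hb u v h3)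

theorem prod_blocks {K : Type*} [Group K] (f : ℕ → K) (blk : List ℕ) (m : ℕ) :
    (((List.replicate m blk).flatten).map f).prod = ((blk.map f).prod) ^ m := by
  induction m with
  | zero => simp
  | succ m ih =>
    rw [List.replicate_succ, List.flatten_cons, List.map_append, List.prod_append, ih, pow_succ']

/-- the labels of the nine letters of `Y₂₄₂` agree with those of `Y₃₄₂` -/
theorem lab_eq_lbl : ∀ x < 9, ∀ y < 9, x < y →
    lab x y = lbl (gen (x + 1)) (gen (y + 1)) ∧ gen (x + 1) ≠ gen (y + 1) := by
  decide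

/-- the pairs of letters, in the order of `relW` -/
def pairs10 : List (ℕ × ℕ) :=
  (List.range 10).flatMap fun x => ((List.range 10).filter fun y => x < y).map fun y => (x, y)

/-- the labels of `Y₃₄₂` on letters -/
def m10 (x y : ℕ) : ℕ := lbl (gen x) (gen y)

/-- the ninth power of the Coxeter word of `E₇` -/
def CW : List ℕ := (List.replicate 9 [0, 1, 2, 3, 4, 5, 8]).flatten

theorem relW_eq : relW = (pairs10.map fun p => pairW p.1 p.2 (m10 p.1 p.2)) ++
    [SW.map (· + 1), CW] ++ ((List.range 10).map fun x => [x, x]) ++ [[]] := by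
  decide

theorem pairs10_spec : ∀ p ∈ pairs10, gen p.1 ≠ gen p.2 := by
  decide

theorem SW_mem_relW : SW.map (· + 1) ∈ relW := by
  decide

/-- **Every stem extension of `Fi₂₃` has trivial kernel.** -/
theorem ker_eq_bot (σ : Γ →* Cfsg.Spor.Fi23) (hσ : Cfsg.IsStemExtension σ) : σ.ker = ⊥ := by
  obtain ⟨s, hst, hinv, hb, hc, hcox9⟩ := exists_good_lifts σ hσ
  have hcen := hσ.2.1
  have central : ∀ {z : Γ}, σ z = 1 → ∀ g : Γ, z * g = g * z := fun {z} hz g =>
    (Subgroup.mem_center_iff.1 (hcen (MonoidHom.mem_ker.2 hz)) g).symm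
  have hpow := cox_pow s hinv hb hc
  -- the nine letters of `Y₂₄₂`
  let g : ℕ → Γ := fun k => s (gen (k + 1))
  have hginv : ∀ k, g k * g k = 1 := fun k => hinv _
  -- the tenth power of the spider is central
  have hSk : σ ((SW.map g).prod) = 1 := by
    rw [map_list_prod, List.map_map]
    have e : SW.map (⇑σ ∘ g) = ((SW.map (· + 1)).map gen).map (PresentedGroup.of (rels := rels)) := by
      rw [List.map_map, List.map_map]
      apply List.map_congr_left
      intro k _
      exact hst _
    rw [e]
    exact relW_trivial _ SW_mem_relW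
  have hSc := central hSk
  have hSr : (SW.reverse.map g).prod = ((SW.map g).prod)⁻¹ := by
    rw [List.map_reverse]
    exact Cfsg.Agent.Lib.H17.CosetCert.prod_reverse_of_invol_list _ (fun x hx => by
      obtain ⟨k, -, rfl⟩ := List.mem_map.mp hx
      exact hginv k)
  have hrelL : ∀ w ∈ relL, (w.map g).prod = 1 := by
    intro w hw
    unfold relL at hw
    rw [List.mem_append, List.mem_append, List.mem_append] at hw
    rcases hw with ((hw | hw) | hw) | hw
    · unfold coxL at hw
      rw [List.mem_flatMap] at hw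
      obtain ⟨x, hx, hw⟩ := hw
      rw [List.mem_map] at hw
      obtain ⟨y, hy, rfl⟩ := hw
      rw [List.mem_filter] at hy
      have hx9 : x < 9 := List.mem_range.mp hx
      have hy9 : y < 9 := List.mem_range.mp hy.1
      have hxy : x < y := by simpa using hy.2
      obtain ⟨h1, h2⟩ := lab_eq_lbl x hx9 y hy9 hxy
      unfold coxW
      rw [Cfsg.Agent.Lib.H28.Fi23S.prod_pairs, h1]
      exact hpow _ _ h2
    · unfold sqL at hw
      obtain ⟨x, -, rfl⟩ := List.mem_map.mp hw
      simpa using hginv x
    · rw [List.mem_singleton] at hw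
      subst hw
      simp
    · unfold longL at hw
      obtain ⟨x, -, rfl⟩ := List.mem_map.mp hw
      simp only [List.map_append, List.prod_append, List.map_cons, List.map_nil, List.prod_cons,
        List.prod_nil, mul_one, hSr]
      calc (SW.map g).prod * g x * ((SW.map g).prod)⁻¹ * g x
          = (g x * (SW.map g).prod) * ((SW.map g).prod)⁻¹ * g x := by rw [hSc (g x)]
        _ = g x * g x := by group
        _ = 1 := hginv x
  have hS1 : (SW.map g).prod = 1 := spider_eq_one g hrelL
  -- all relator words are trivial on the lifts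
  have hW : ∀ w ∈ relW, ((w.map gen).map s).prod = 1 := by
    intro w hw
    rw [relW_eq, List.mem_append, List.mem_append, List.mem_append] at hw
    rcases hw with ((hw | hw) | hw) | hw
    · obtain ⟨p, hp, rfl⟩ := List.mem_map.mp hw
      rw [List.map_map, prod_pairW]
      exact hpow _ _ (pairs10_spec p hp)
    · rw [List.mem_cons, List.mem_singleton] at hw
      rcases hw with rfl | rfl
      · rw [List.map_map, List.map_map]
        exact hS1
      · unfold CW
        rw [List.map_map, prod_blocks]
        have e : ([0, 1, 2, 3, 4, 5, 8].map (s ∘ gen)).prod =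
            s .a * s .b * s .c * s .d * s .e * s .f * s .h := by
          simp [gen, mul_assoc]
        rw [e]
        exact hcox9
    · obtain ⟨x, -, rfl⟩ := List.mem_map.mp hw
      simpa using hinv (gen x)
    · rw [List.mem_singleton] at hw
      subst hw
      simp
  have hrels := lift_rels s hinv hW
  have hle := Cfsg.Agent.Lib.H28.StemPres.ker_le_of_relator_values σ hcen hσ.2.2 s hst ⊥ bot_le
    (fun r hr => by rw [Subgroup.mem_bot]; exact hrels r hr)
  exact le_bot_iff.mp hle

end Cfsg.Agent.Lib.H28.Fi23Norm
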