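/-
helper28 library: 6-subsets of the 24 points under M24: full symmetric group induced, pointwise stabilizers of
order 16 or 3, setwise stabilizer of order 2160.
-/
import Cfsg.Agent.Lib.H28.M24Six
import Cfsg.Agent.Lib.H28.M24OctadPair

set_option autoImplicit false

namespace Cfsg.Agent.Lib.H28

open scoped Pointwise
open Cfsg

theorem inf_fixing_ptsMask (m : ℕ) (L : List ℕ) (hL : ∀ k ∈ L, k < 24)
    (h : ∀ z < 24, m.testBit z = true ↔ z ∈ L) :
    M24 ⊓ fixingSubgroup (Equiv.Perm GolayPt) (ptsMask m : Set GolayPt) = fixSub M24 L := by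
  ext g
  rw [Subgroup.mem_inf, mem_fixingSubgroup_iff, mem_fixSub]
  constructor
  · rintro ⟨h1, h2⟩
    refine ⟨h1, ?_⟩
    intro k hk
    have hk24 := hL k hk
    apply h2
    rw [Finset.mem_coe, mem_ptsMask, gIdx_gPt hk24]
    exact (h k hk24).2 hk
  · rintro ⟨h1, h2⟩
    refine ⟨h1, ?_⟩
    intro p hp
    rw [Finset.mem_coe, mem_ptsMask] at hp
    have := h2 (gIdx p) ((h _ (gIdx_lt p)).1 hp)
    rw [gPt_gIdx] at this
    exact this

/-- The base 6-set inside the base octad and the base 6-set in no octad. -/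
def six0in : ℕ := 8388655
def six0out : ℕ := 8388639

theorem six0in_spec : ∀ z < 24, six0in.testBit z = true ↔ z ∈ [5, 3, 2, 1, 0, 23] := by decide +kernel
theorem six0out_spec : ∀ z < 24, six0out.testBit z = true ↔ z ∈ levelFix 6 := by decide +kernel

theorem fixing_six0in : M24 ⊓ fixingSubgroup (Equiv.Perm GolayPt) (ptsMask six0in : Set GolayPt) = K0 :=
  inf_fixing_ptsMask _ _ (by decide) six0in_spec

theorem fixing_six0out :
    M24 ⊓ fixingSubgroup (Equiv.Perm GolayPt) (ptsMask six0out : Set GolayPt) = fixSub M24 (levelFix 6) :=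
  inf_fixing_ptsMask _ _ (by decide) six0out_spec

theorem card_fixSub_level6 : Nat.card (fixSub M24 (levelFix 6)) = 3 := by
  have h1 := card_fixSub_le M24 (levelFix 6) 5 _ (level_le 6 (by norm_num))
  have h2 := card_fixSub_ge M24 (levelFix 6) 5 (ptsOf (levelSet 6)) (by
    intro x hx
    obtain ⟨g, hg, hgx⟩ := level_ge 6 (by norm_num) x hx
    rw [mem_fixSub] at hg
    exact ⟨g, mem_fixSub.2 ⟨genSubgroup_le_M24 hg.1, hg.2⟩, hgx⟩)
  have h3 : fixSub M24 (5 :: levelFix 6) = ⊥ := fixSub_M24_top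
  have h4 : (ptsOf (levelSet 6)).card = 3 := levelSet_card 6 (by norm_num)
  rw [h3, Subgroup.card_bot, h4] at h1 h2
  omega

theorem base6in_mem (i : Fin 6) : base6in i ∈ ptsMask six0in := by
  rw [mem_ptsMask]
  unfold base6in
  revert i; decide +kernel

theorem base6out_mem (i : Fin 6) : base6out i ∈ ptsMask six0out := by
  rw [mem_ptsMask]
  unfold base6out
  revert i; decide +kernel

theorem mem_six0in {p : GolayPt} (hp : p ∈ ptsMask six0in) : ∃ i, base6in i = p := by
  rw [mem_ptsMask] at hp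
  have : ∀ z < 24, six0in.testBit z = true → ∃ i : Fin 6, [23, 0, 1, 2, 3, 5].getD i.val 0 = z := by
    decide +kernel
  obtain ⟨i, hi⟩ := this _ (gIdx_lt p) hp
  exact ⟨i, by unfold base6in; rw [hi, gPt_gIdx]⟩

theorem mem_six0out {p : GolayPt} (hp : p ∈ ptsMask six0out) : ∃ i, base6out i = p := by
  rw [mem_ptsMask] at hp
  have : ∀ z < 24, six0out.testBit z = true → ∃ i : Fin 6, [23, 0, 1, 2, 3, 4].getD i.val 0 = z := by
    decide +kernel
  obtain ⟨i, hi⟩ := this _ (gIdx_lt p) hp
  exact ⟨i, by unfold base6out; rw [hi, gPt_gIdx]⟩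

/-- Every 6-set is an `M24`-image of one of the two base 6-sets. -/
theorem exists_smul_six (E : Finset GolayPt) (hE : E.card = 6) :
    ((∃ o ∈ octads, E ⊆ o) → ∃ g ∈ M24, g • ptsMask six0in = E) ∧
    ((¬ ∃ o ∈ octads, E ⊆ o) → ∃ g ∈ M24, g • ptsMask six0out = E) := by
  have e := Finset.equivFinOfCardEq hE
  have hxinj : Function.Injective (fun i : Fin 6 => ((e.symm i : ↥E) : GolayPt)) :=
    Subtype.val_injective.comp e.symm.injective
  have hiff : (∃ o ∈ octads, ∀ i : Fin 6, ((e.symm i : ↥E) : GolayPt) ∈ o) ↔ ∃ o ∈ octads, E ⊆ o := by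
    constructor
    · rintro ⟨o, ho, h⟩
      refine ⟨o, ho, fun p hp => ?_⟩
      have := h (e ⟨p, hp⟩)
      rwa [Equiv.symm_apply_apply] at this
    · rintro ⟨o, ho, h⟩
      exact ⟨o, ho, fun i => h (e.symm i).2⟩
  have h6in : (ptsMask six0in).card = 6 := by rw [card_ptsMask]; decide +kernel
  have h6out : (ptsMask six0out).card = 6 := by rw [card_ptsMask]; decide +kernel
  obtain ⟨h1, h2⟩ := exists_map_base6 _ hxinj
  constructor
  · intro ho
    obtain ⟨g, hg, hmap⟩ := h1 (hiff.2 ho)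
    refine ⟨g, hg, ?_⟩
    apply Finset.eq_of_subset_of_card_le
    · intro q hq
      rw [Finset.mem_smul_finset] at hq
      obtain ⟨p, hp, rfl⟩ := hq
      obtain ⟨i, rfl⟩ := mem_six0in hp
      rw [Equiv.Perm.smul_def, hmap i]
      exact (e.symm i).2
    · rw [Finset.card_smul_finset, h6in, hE]
  · intro ho
    obtain ⟨g, hg, hmap⟩ := h2 (fun h => ho (hiff.1 h))
    refine ⟨g, hg, ?_⟩
    apply Finset.eq_of_subset_of_card_le
    · intro q hq
      rw [Finset.mem_smul_finset] at hq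
      obtain ⟨p, hp, rfl⟩ := hq
      obtain ⟨i, rfl⟩ := mem_six0out hp
      rw [Equiv.Perm.smul_def, hmap i]
      exact (e.symm i).2
    · rw [Finset.card_smul_finset, h6out, hE]

/-- Cardinality of a conjugated pointwise stabilizer. -/
theorem card_fixing_smul {g0 : Equiv.Perm GolayPt} (hg0 : g0 ∈ M24) (s : Finset GolayPt) :
    Nat.card ↥(M24 ⊓ fixingSubgroup (Equiv.Perm GolayPt) ((g0 • s : Finset GolayPt) : Set GolayPt)) =
      Nat.card ↥(M24 ⊓ fixingSubgroup (Equiv.Perm GolayPt) (s : Set GolayPt)) := by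
  refine Nat.card_congr (conjSubgroupEquiv g0 _ _ ?_).toEquiv.symm
  intro x
  rw [Subgroup.mem_inf, Subgroup.mem_inf, mem_fixing_smul_iff]
  constructor
  · rintro ⟨h1, h2⟩
    exact ⟨M24.mul_mem (M24.mul_mem (M24.inv_mem hg0) h1) hg0, h2⟩
  · rintro ⟨h1, h2⟩
    refine ⟨?_, h2⟩
    have := M24.mul_mem (M24.mul_mem hg0 h1) (M24.inv_mem hg0)
    simpa [mul_assoc] using this

theorem card_subtype_fixing (E : Finset GolayPt) :
    Nat.card {g : Equiv.Perm GolayPt // g ∈ M24 ∧ ∀ p ∈ E, g p = p} =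
      Nat.card ↥(M24 ⊓ fixingSubgroup (Equiv.Perm GolayPt) (E : Set GolayPt)) := by
  apply Nat.card_congr
  apply Equiv.subtypeEquivRight
  intro g
  rw [Subgroup.mem_inf, mem_fixingSubgroup_iff]
  constructor
  · rintro ⟨h1, h2⟩
    exact ⟨h1, fun p hp => h2 p (Finset.mem_coe.1 hp)⟩
  · rintro ⟨h1, h2⟩
    exact ⟨h1, fun p hp => h2 p (Finset.mem_coe.2 hp)⟩

/-- `M24` induces the full symmetric group on every 6-set; pointwise and setwise stabilizers. -/
theorem six_set_structure (E : Finset GolayPt) (hE : E.card = 6) :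
    (∀ σ : Equiv.Perm ↥E, ∃ g ∈ M24, ∀ p : ↥E, g p = σ p) ∧
    ((∃ o ∈ octads, E ⊆ o) →
      Nat.card {g : Equiv.Perm GolayPt // g ∈ M24 ∧ ∀ p ∈ E, g p = p} = 16) ∧
    ((¬ ∃ o ∈ octads, E ⊆ o) →
      Nat.card {g : Equiv.Perm GolayPt // g ∈ M24 ∧ ∀ p ∈ E, g p = p} = 3 ∧
      Nat.card ↥(MulAction.stabilizer M24 E) = 2160) := by
  have hsurj : ∀ σ : Equiv.Perm ↥E, ∃ g ∈ M24, ∀ p : ↥E, g p = σ p := by
    intro σ
    have e := Finset.equivFinOfCardEq hE
    have hxinj : Function.Injective (fun i : Fin 6 => ((e.symm i : ↥E) : GolayPt)) :=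
      Subtype.val_injective.comp e.symm.injective
    have hyinj : Function.Injective (fun i : Fin 6 => ((σ (e.symm i) : ↥E) : GolayPt)) :=
      Subtype.val_injective.comp (σ.injective.comp e.symm.injective)
    obtain ⟨g, hg, hmap⟩ := six_trans _ _ hxinj hyinj (by
      constructor
      · rintro ⟨o, ho, h⟩
        refine ⟨o, ho, fun i => ?_⟩
        have := h (e (σ (e.symm i)))
        rwa [Equiv.symm_apply_apply] at this
      · rintro ⟨o, ho, h⟩
        refine ⟨o, ho, fun i => ?_⟩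
        have := h (e (σ.symm (e.symm i)))
        rwa [Equiv.symm_apply_apply, Equiv.apply_symm_apply] at this)
    refine ⟨g, hg, fun p => ?_⟩
    have := hmap (e p)
    rwa [Equiv.symm_apply_apply] at this
  refine ⟨hsurj, ?_, ?_⟩
  · intro ho
    obtain ⟨g0, hg0, rfl⟩ := (exists_smul_six E hE).1 ho
    rw [card_subtype_fixing, card_fixing_smul hg0, fixing_six0in, card_K0]
  · intro ho
    obtain ⟨g0, hg0, hgE⟩ := (exists_smul_six E hE).2 ho
    have h3 : Nat.card ↥(M24 ⊓ fixingSubgroup (Equiv.Perm GolayPt) (E : Set GolayPt)) = 3 := by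
      rw [← hgE, card_fixing_smul hg0, fixing_six0out, card_fixSub_level6]
    refine ⟨by rw [card_subtype_fixing, h3], ?_⟩
    rw [card_stabilizer_subgroup, card_eq_card_range_mul_card_ker (restrictHom M24 E), card_ker_restrictHom, h3]
    have hrange : (restrictHom M24 E).range = ⊤ := by
      rw [eq_top_iff]
      intro σ _
      rw [mem_range_restrictHom]
      obtain ⟨g, hg, hmap⟩ := hsurj σ
      have hpres : ∀ x, g x ∈ E ↔ x ∈ E := by
        have hsub : g • E = E := by
          apply Finset.eq_of_subset_of_card_le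
          · intro q hq
            rw [Finset.mem_smul_finset] at hq
            obtain ⟨p, hp, rfl⟩ := hq
            rw [Equiv.Perm.smul_def, hmap ⟨p, hp⟩]
            exact (σ ⟨p, hp⟩).2
          · rw [Finset.card_smul_finset]
        exact fun x => mem_iff_of_smul_finset_eq hsub x
      refine ⟨g, hg, hpres, ?_⟩
      apply Equiv.ext
      intro p
      apply Subtype.ext
      exact hmap p
    rw [hrange, Subgroup.card_top, Nat.card_eq_fintype_card, Fintype.card_perm, Fintype.card_coe, hE]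
    decide

end Cfsg.Agent.Lib.H28
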