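/-
helper28 library: involutions of M24 with exactly eight fixed points: conjugate to a non-identity element of
the pointwise stabilizer `K0` of the base octad; counts of fixed octads, trios, sextets for those fifteen elements.
-/
import Cfsg.Agent.Lib.H28.FixedCount
import Cfsg.Agent.Lib.H28.M24SixSets

set_option autoImplicit false

namespace Cfsg.Agent.Lib.H28

open scoped Pointwise
open Cfsg

/-- An involution of a 3-set fixes a point. -/
theorem involution_three_fixed {α : Type*} [DecidableEq α] (g : Equiv.Perm α) (hg2 : ∀ x, g (g x) = x)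
    (T : Finset α) (hT : T.card = 3) (hmap : ∀ p ∈ T, g p ∈ T) : ∃ p ∈ T, g p = p := by
  obtain ⟨a, b, c, hab, hac, hbc, rfl⟩ := Finset.card_eq_three.1 hT
  have ha := hmap a (by simp)
  have hb := hmap b (by simp)
  have hc := hmap c (by simp)
  simp only [Finset.mem_insert, Finset.mem_singleton] at ha hb hc
  rcases ha with ha | ha | ha
  · exact ⟨a, by simp, ha⟩
  · have hgb : g b = a := by rw [← ha, hg2]
    rcases hc with hc | hc | hc
    · exact absurd (g.injective (hc.trans hgb.symm)) (Ne.symm hbc)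
    · exact absurd (g.injective (hc.trans ha.symm)) (Ne.symm hac)
    · exact ⟨c, by simp, hc⟩
  · have hgc : g c = a := by rw [← ha, hg2]
    rcases hb with hb | hb | hb
    · exact absurd (g.injective (hb.trans hgc.symm)) hbc
    · exact ⟨b, by simp, hb⟩
    · exact absurd (g.injective (hb.trans ha.symm)) (Ne.symm hab)

/-- An involution with exactly eight fixed points is conjugate to one of the fifteen non-identity words of `K0`. -/
theorem involution_eight_conj (g : Equiv.Perm GolayPt) (hg : g ∈ M24) (h₂ : orderOf g = 2)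
    (h₈ : (Finset.univ.filter fun p => g p = p).card = 8) :
    ∃ k ∈ M24, ∃ z < 24, baseOctad.testBit z = false ∧ z ≠ 4 ∧ g = k * wordPerm (k0Tab.getD z []) * k⁻¹ := by
  set F := Finset.univ.filter fun p => g p = p with hF
  have hmemF : ∀ p, p ∈ F ↔ g p = p := fun p => by rw [hF, Finset.mem_filter]; simp
  have hsq : g ^ 2 = 1 := by rw [← h₂]; exact pow_orderOf_eq_one g
  have hgg : ∀ x, g (g x) = x := by
    intro x
    have : (g ^ 2) x = x := by rw [hsq]; rfl
    rwa [pow_two, Equiv.Perm.mul_apply] at this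
  obtain ⟨s, hsF, hs5⟩ := Finset.exists_subset_card_eq (show 5 ≤ F.card by omega)
  obtain ⟨o, ⟨ho, hso⟩, huniq⟩ := octads_isSteinerSystem.2 s hs5
  have hsgo : s ⊆ g • o := by
    intro p hp
    rw [Finset.mem_smul_finset]
    exact ⟨p, hso hp, (hmemF p).1 (hsF hp)⟩
  have e : g • o = o := huniq (g • o) ⟨smul_mem_octads hg ho, hsgo⟩
  have ho8 : o.card = 8 := ho.2
  have hT : (o \ s).card = 3 := by rw [Finset.card_sdiff_of_subset hso, ho8, hs5]
  have hmap : ∀ p ∈ o \ s, g p ∈ o \ s := by
    intro p hp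
    rw [Finset.mem_sdiff] at hp ⊢
    constructor
    · have : g • p ∈ g • o := Finset.smul_mem_smul_finset hp.1
      rw [e] at this
      exact this
    · intro h
      have h1 : g (g p) = g p := (hmemF _).1 (hsF h)
      rw [g.injective h1] at h
      exact hp.2 h
  obtain ⟨p, hpT, hgp⟩ := involution_three_fixed g hgg (o \ s) hT hmap
  rw [Finset.mem_sdiff] at hpT
  have hE : (insert p s).card = 6 := by rw [Finset.card_insert_of_notMem hpT.2, hs5]
  have hEo : insert p s ⊆ o := Finset.insert_subset hpT.1 hso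
  have hEF : insert p s ⊆ F := Finset.insert_subset ((hmemF p).2 hgp) hsF
  obtain ⟨k, hk, hkE⟩ := (exists_smul_six (insert p s) hE).1 ⟨o, ho, hEo⟩
  have hg' : k⁻¹ * g * k ∈ K0 := by
    rw [← fixing_six0in, Subgroup.mem_inf, mem_fixingSubgroup_iff]
    refine ⟨M24.mul_mem (M24.mul_mem (M24.inv_mem hk) hg) hk, ?_⟩
    intro q hq
    rw [Finset.mem_coe] at hq
    have h1 : k q ∈ insert p s := by
      rw [← hkE]
      exact Finset.smul_mem_smul_finset hq
    have h2 : g (k q) = k q := (hmemF _).1 (hEF h1)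
    rw [Equiv.Perm.smul_def, Equiv.Perm.mul_apply, Equiv.Perm.mul_apply, h2, Equiv.Perm.inv_def, Equiv.symm_apply_apply]
  have hw := K0_eq_word hg'
  have hout := K0_outside hg'
  refine ⟨k, hk, gIdx ((k⁻¹ * g * k) (gPt 4)), gIdx_lt _, hout, ?_, ?_⟩
  · intro h4
    rw [h4] at hw
    have h1 : k⁻¹ * g * k = 1 := hw
    have h2 : g = 1 := by
      have : g = k * (k⁻¹ * g * k) * k⁻¹ := by group
      rw [this, h1]
      group
    rw [h2, orderOf_one] at h₂
    exact absurd h₂ (by norm_num)
  · rw [← hw]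
    group

/-- The base involution with eight fixed points. -/
def w2A : List ℕ := [4, 4, 0, 4, 0, 4, 0, 0, 0, 4, 0, 4, 4]

/-- Words conjugating the base involution to the other non-identity elements of `K0`. -/
def k0Conj : List (List ℕ) := [[], [], [], [], [], [], [], [4, 1, 3, 3, 0, 0, 2, 1, 4, 0], [1, 3, 0, 2, 1, 1, 4, 4, 0, 3], [2, 1, 1, 4, 4, 0, 3], [1, 3, 0, 2, 1, 1, 4, 4, 0, 3, 2, 1, 1, 4, 4, 0, 3], [1, 3, 0, 1, 3, 0], [1, 4, 0], [1, 4, 0, 2, 1, 1, 4, 4, 0, 3], [], [1, 3, 0, 4, 1, 3, 3, 0, 0, 2], [4, 1, 3, 3, 0, 0, 2, 4, 1, 3, 3, 0, 0, 2], [], [1, 4, 0, 1, 4, 0], [2, 1, 1, 4, 4, 0, 3, 1, 3, 0], [1, 3, 0], [2, 1, 1, 4, 4, 0, 3, 2, 1, 1, 4, 4, 0, 3], [4, 1, 3, 3, 0, 0, 2], []]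

theorem k0Conj_ok : (List.range 24).all (fun z => baseOctad.testBit z || z == 4 ||
    (List.range 24).all (fun i => evalPt (k0Conj.getD z [] ++ w2A ++ invWord (k0Conj.getD z [])) i ==
      evalPt (k0Tab.getD z []) i)) = true := by
  decide +kernel

theorem k0Conj_spec {z : ℕ} (hz : z < 24) (h : baseOctad.testBit z = false) (h4 : z ≠ 4) :
    wordPerm (k0Tab.getD z []) = wordPerm (k0Conj.getD z []) * wordPerm w2A * (wordPerm (k0Conj.getD z []))⁻¹ := by
  have := List.all_eq_true.1 k0Conj_ok z (List.mem_range.2 hz)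
  rw [h, Bool.false_or, Bool.or_eq_true, beq_iff_eq] at this
  rcases this with h' | h'
  · exact absurd h' h4
  · rw [← wordPerm_invWord, ← wordPerm_append, ← wordPerm_append]
    apply Equiv.ext
    intro p
    apply gIdx_injective
    rw [gIdx_wordPerm, gIdx_wordPerm]
    have h1 := List.all_eq_true.1 h' (gIdx p) (List.mem_range.2 (gIdx_lt p))
    rw [beq_iff_eq] at h1
    exact h1.symm

/-- An involution with exactly eight fixed points is conjugate to the base involution. -/
theorem involution_eight_conj' (g : Equiv.Perm GolayPt) (hg : g ∈ M24) (h₂ : orderOf g = 2)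
    (h₈ : (Finset.univ.filter fun p => g p = p).card = 8) :
    ∃ k ∈ M24, g = k * wordPerm w2A * k⁻¹ := by
  obtain ⟨k, hk, z, hz, hout, h4, e⟩ := involution_eight_conj g hg h₂ h₈
  refine ⟨k * wordPerm (k0Conj.getD z []), M24.mul_mem hk (wordPerm_mem_M24 _), ?_⟩
  rw [e, k0Conj_spec hz hout h4]
  group

theorem w2A_counts : (octMasks.filter (fixMask w2A)).length = 71 ∧
    ((flatK trioKs 3795).filter (fixKey w2A)).length = 99 ∧
    ((flatK sextKs 1771).filter (fixKey w2A)).length = 91 := by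
  decide +kernel

end Cfsg.Agent.Lib.H28
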