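/-
helper28 library: elements of order 3 of M24 with exactly six fixed points: the fixed points lie in no octad,
the element is conjugate to a generator of the pointwise stabilizer of the base 6-set, and the counts of
fixed octads, dodecads, sextets, trios.
-/
import Cfsg.Agent.Lib.H28.FixedCount
import Cfsg.Agent.Lib.H28.M24SixSets
import Cfsg.Agent.Lib.H28.PointStabEquiv

set_option autoImplicit false

namespace Cfsg.Agent.Lib.H28

open scoped Pointwise
open Cfsg

/-- The fixed points of an element of order 3 with six fixed points lie in no octad. -/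
theorem order_three_six_no_octad (g : Equiv.Perm GolayPt) (hg : g ∈ M24) (h₃ : orderOf g = 3)
    (h₆ : (Finset.univ.filter fun p => g p = p).card = 6) :
    ¬ ∃ o ∈ octads, (Finset.univ.filter fun p => g p = p) ⊆ o := by
  rintro ⟨o, ho, hFo⟩
  set F := Finset.univ.filter fun p => g p = p with hF
  have hmemF : ∀ p, p ∈ F ↔ g p = p := fun p => by rw [hF, Finset.mem_filter]; simp
  have hgo : g • o ∈ octads := smul_mem_octads hg ho
  have hFgo : F ⊆ g • o := by
    intro p hp
    rw [Finset.mem_smul_finset]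
    exact ⟨p, hFo hp, (hmemF p).1 hp⟩
  obtain ⟨s, hsF, hs5⟩ := Finset.exists_subset_card_eq (show 5 ≤ F.card by omega)
  obtain ⟨b, -, hb⟩ := octads_isSteinerSystem.2 s hs5
  have e : g • o = o := by
    have e1 := hb o ⟨ho, hsF.trans hFo⟩
    have e2 := hb (g • o) ⟨hgo, hsF.trans hFgo⟩
    rw [e2, ← e1]
  have ho8 : o.card = 8 := ho.2
  have hcard : (o \ F).card = 2 := by
    rw [Finset.card_sdiff_of_subset hFo, ho8, h₆]
  obtain ⟨a, b', hab, hoF⟩ := Finset.card_eq_two.1 hcard
  have hmap : ∀ p ∈ o \ F, g p ∈ o \ F := by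
    intro p hp
    rw [Finset.mem_sdiff] at hp ⊢
    constructor
    · have : g • p ∈ g • o := Finset.smul_mem_smul_finset hp.1
      rw [e] at this
      exact this
    · intro h
      exact hp.2 ((hmemF p).2 (g.injective ((hmemF _).1 h)))
  have ha : a ∈ o \ F := by rw [hoF]; simp
  have hb' : b' ∈ o \ F := by rw [hoF]; simp
  have haF : a ∉ F := (Finset.mem_sdiff.1 ha).2
  have hbF : b' ∉ F := (Finset.mem_sdiff.1 hb').2
  have hga : g a = b' := by
    have := hmap a ha
    rw [hoF, Finset.mem_insert, Finset.mem_singleton] at this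
    rcases this with h | h
    · exact absurd ((hmemF a).2 h) haF
    · exact h
  have hgb : g b' = a := by
    have := hmap b' hb'
    rw [hoF, Finset.mem_insert, Finset.mem_singleton] at this
    rcases this with h | h
    · exact h
    · exact absurd ((hmemF b').2 h) hbF
  have h3 : g ^ 3 = 1 := by rw [← h₃]; exact pow_orderOf_eq_one g
  have h4 : (g ^ 3) a = a := by rw [h3]; rfl
  rw [pow_succ, pow_two, Equiv.Perm.mul_apply, Equiv.Perm.mul_apply, hga, hgb, hga] at h4
  exact hab h4.symm

/-- A generator of the pointwise stabilizer of the base 6-set in no octad. -/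
def w36 : List ℕ := [4, 1, 4, 1, 1, 3, 3, 1, 3, 0, 4, 1, 4, 1, 4]

theorem w36_fix : ∀ k ∈ levelFix 6, evalPt w36 k = k := by decide +kernel

theorem w36_move : evalPt w36 5 = 14 := by decide +kernel

theorem w36_mem : wordPerm w36 ∈ fixSub M24 (levelFix 6) := by
  refine mem_fixSub.2 ⟨wordPerm_mem_M24 w36, fun j hj => ?_⟩
  have hj24 : j < 24 := by
    have : ∀ j ∈ levelFix 6, j < 24 := by decide
    exact this j hj
  exact wordPerm_gPt hj24 (w36_fix j hj)

theorem w36_ne_one : wordPerm w36 ≠ 1 := by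
  intro h
  have h1 : wordPerm w36 (gPt 5) = gPt 14 := wordPerm_gPt (by norm_num) w36_move
  rw [h, Equiv.Perm.one_apply] at h1
  have := congrArg gIdx h1
  rw [gIdx_gPt (by norm_num), gIdx_gPt (by norm_num)] at this
  exact absurd this (by norm_num)

/-- An element of order 3 with six fixed points is conjugate to an element generating the same cyclic group
as the base element. -/
theorem order_three_six_conj (g : Equiv.Perm GolayPt) (hg : g ∈ M24) (h₃ : orderOf g = 3)
    (h₆ : (Finset.univ.filter fun p => g p = p).card = 6) :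
    ∃ k ∈ M24, ∃ g' : Equiv.Perm GolayPt, g = k * g' * k⁻¹ ∧ g' ∈ Subgroup.zpowers (wordPerm w36) ∧
      wordPerm w36 ∈ Subgroup.zpowers g' := by
  have hno := order_three_six_no_octad g hg h₃ h₆
  set F := Finset.univ.filter fun p => g p = p with hF
  have hmemF : ∀ p, p ∈ F ↔ g p = p := fun p => by rw [hF, Finset.mem_filter]; simp
  obtain ⟨k, hk, hkF⟩ := (exists_smul_six F h₆).2 hno
  have hg' : k⁻¹ * g * k ∈ fixSub M24 (levelFix 6) := by
    rw [mem_fixSub_conj hk]
    refine ⟨hg, fun j hj => ?_⟩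
    have hj24 : j < 24 := by
      have : ∀ j ∈ levelFix 6, j < 24 := by decide
      exact this j hj
    have h1 : gPt j ∈ ptsMask six0out := by
      rw [gPt_mem_ptsMask hj24]
      exact (six0out_spec j hj24).2 hj
    have h2 : k (gPt j) ∈ F := by
      rw [← hkF]
      exact Finset.smul_mem_smul_finset h1
    exact (hmemF _).1 h2
  have : Fact (Nat.Prime 3) := ⟨Nat.prime_three⟩
  have hcard : Nat.card ↥(fixSub M24 (levelFix 6)) = 3 := card_fixSub_level6
  have hg'ne : (⟨k⁻¹ * g * k, hg'⟩ : ↥(fixSub M24 (levelFix 6))) ≠ 1 := by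
    intro h
    have h1 : k⁻¹ * g * k = 1 := congrArg Subtype.val h
    have h2 : g = 1 := by
      have : g = k * (k⁻¹ * g * k) * k⁻¹ := by group
      rw [this, h1]
      group
    rw [h2, orderOf_one] at h₃
    exact absurd h₃ (by norm_num)
  have hg0ne : (⟨wordPerm w36, w36_mem⟩ : ↥(fixSub M24 (levelFix 6))) ≠ 1 := by
    intro h
    exact w36_ne_one (congrArg Subtype.val h)
  have m1 : (⟨k⁻¹ * g * k, hg'⟩ : ↥(fixSub M24 (levelFix 6))) ∈
      Subgroup.zpowers (⟨wordPerm w36, w36_mem⟩ : ↥(fixSub M24 (levelFix 6))) :=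
    mem_zpowers_of_prime_card hcard hg0ne
  have m2 : (⟨wordPerm w36, w36_mem⟩ : ↥(fixSub M24 (levelFix 6))) ∈
      Subgroup.zpowers (⟨k⁻¹ * g * k, hg'⟩ : ↥(fixSub M24 (levelFix 6))) :=
    mem_zpowers_of_prime_card hcard hg'ne
  refine ⟨k, hk, k⁻¹ * g * k, by group, ?_, ?_⟩
  · obtain ⟨n, hn⟩ := Subgroup.mem_zpowers_iff.1 m1
    refine Subgroup.mem_zpowers_iff.2 ⟨n, ?_⟩
    have := congrArg Subtype.val hn
    rw [Subgroup.coe_zpow] at this
    exact this
  · obtain ⟨n, hn⟩ := Subgroup.mem_zpowers_iff.1 m2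
    refine Subgroup.mem_zpowers_iff.2 ⟨n, ?_⟩
    have := congrArg Subtype.val hn
    rw [Subgroup.coe_zpow] at this
    exact this

theorem w36_counts : (octMasks.filter (fixMask w36)).length = 21 ∧ (dodMasks.filter (fixMask w36)).length = 20 ∧
    ((flatK sextKs 1771).filter (fixKey w36)).length = 16 ∧
    ((flatK trioKs 3795).filter (fixKey w36)).length = 15 := by
  decide +kernel

/-- Counting the fixed members of an invariant family for an element conjugate into the cyclic group of a word. -/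
theorem ncard_fixed_of_conj {β : Type*} [MulAction (Equiv.Perm GolayPt) β] (F : Set β)
    (hF : ∀ k ∈ M24, ∀ x ∈ F, k • x ∈ F) {k g g' g0 : Equiv.Perm GolayPt} (hk : k ∈ M24)
    (hg : g = k * g' * k⁻¹) (h1 : g' ∈ Subgroup.zpowers g0) (h2 : g0 ∈ Subgroup.zpowers g') :
    {x : β | x ∈ F ∧ g • x = x}.ncard = {x : β | x ∈ F ∧ g0 • x = x}.ncard := by
  rw [hg, ncard_fixed_conj F hF hk]
  congr 1
  ext x
  rw [Set.mem_ofPred_eq, Set.mem_ofPred_eq, smul_eq_iff_of_zpowers h1 h2]

end Cfsg.Agent.Lib.H28
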