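/-
helper28 library: rigidity of M24 on 6-tuples. An element of M24 whose action on an injective 6-tuple is known is
conjugate to one of 3 (tuple in no octad) or 16 (tuple in an octad) explicit candidate words.
-/
import Cfsg.Agent.Lib.H28.OrderThreeSix
import Cfsg.Agent.Lib.H28.InvolutionEight

set_option autoImplicit false

namespace Cfsg.Agent.Lib.H28

open scoped Pointwise
open Cfsg

theorem perm_inv_apply' {α : Type*} (f : Equiv.Perm α) (x : α) : f⁻¹ (f x) = x := by
  rw [Equiv.Perm.inv_def, Equiv.symm_apply_apply]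

/-- Powers of the base word of order 3. -/
def pw36 : ℕ → List ℕ
  | 0 => []
  | j + 1 => w36 ++ pw36 j

theorem wordPerm_pw36 (j : ℕ) : wordPerm (pw36 j) = wordPerm w36 ^ j := by
  induction j with
  | zero => rfl
  | succ j ih =>
    unfold pw36
    rw [wordPerm_append, ih, pow_succ']

theorem w36_cube : wordPerm w36 ^ 3 = 1 := by
  rw [← wordPerm_pw36]
  have h : ∀ k < 24, evalPt (pw36 3) k = k := by decide +kernel
  apply Equiv.ext
  intro p
  apply gIdx_injective
  rw [gIdx_wordPerm, h _ (gIdx_lt p), Equiv.Perm.one_apply]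

theorem orderOf_w36 : orderOf (wordPerm w36) = 3 :=
  orderOf_eq_prime w36_cube w36_ne_one

/-- The pointwise stabilizer of the base 6-set in no octad consists of the three powers of the base word. -/
theorem fixSub_level6_cases {x : Equiv.Perm GolayPt} (hx : x ∈ fixSub M24 (levelFix 6)) :
    ∃ j < 3, x = wordPerm (pw36 j) := by
  have : Fact (Nat.Prime 3) := ⟨Nat.prime_three⟩
  have hcard : Nat.card ↥(fixSub M24 (levelFix 6)) = 3 := card_fixSub_level6
  have hg0ne : (⟨wordPerm w36, w36_mem⟩ : ↥(fixSub M24 (levelFix 6))) ≠ 1 := by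
    intro h
    exact w36_ne_one (congrArg Subtype.val h)
  have m1 : (⟨x, hx⟩ : ↥(fixSub M24 (levelFix 6))) ∈
      Subgroup.zpowers (⟨wordPerm w36, w36_mem⟩ : ↥(fixSub M24 (levelFix 6))) :=
    mem_zpowers_of_prime_card hcard hg0ne
  obtain ⟨n, hn⟩ := Subgroup.mem_zpowers_iff.1 m1
  have hn' : wordPerm w36 ^ n = x := by
    have := congrArg Subtype.val hn
    rw [Subgroup.coe_zpow] at this
    exact this
  have h3 : wordPerm w36 ^ (n % 3) = wordPerm w36 ^ n := by
    have := zpow_mod_orderOf (wordPerm w36) n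
    rw [orderOf_w36] at this
    exact this
  have hnn : 0 ≤ n % 3 := Int.emod_nonneg n (by norm_num)
  have hlt : n % 3 < 3 := Int.emod_lt_of_pos n (by norm_num)
  refine ⟨(n % 3).toNat, by omega, ?_⟩
  rw [wordPerm_pw36, ← hn', ← h3, ← zpow_natCast, Int.toNat_of_nonneg hnn]

theorem levelFix6_base6out : ∀ j ∈ levelFix 6, ∃ i : Fin 6, [23, 0, 1, 2, 3, 4].getD i.val 0 = j := by decide

theorem k0pts_base6in : ∀ j ∈ [5, 3, 2, 1, 0, 23], ∃ i : Fin 6, [23, 0, 1, 2, 3, 5].getD i.val 0 = j := by decide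

/-- Rigidity on a 6-tuple in no octad. -/
theorem conj_of_six_out (g : Equiv.Perm GolayPt) (hg : g ∈ M24) (y : Fin 6 → GolayPt)
    (hy : Function.Injective y) (hno : ¬ ∃ o ∈ octads, ∀ i, y i ∈ o) (σ : Fin 6 → Fin 6)
    (hσ : ∀ i, g (y i) = y (σ i)) (c : List ℕ)
    (hc : ∀ i, wordPerm c (base6out i) = base6out (σ i)) :
    ∃ k ∈ M24, (∀ i, k (base6out i) = y i) ∧ ∃ j < 3, g = k * wordPerm (c ++ pw36 j) * k⁻¹ := by
  obtain ⟨k, hk, hky⟩ := (exists_map_base6 y hy).2 hno
  have hx : (wordPerm c)⁻¹ * (k⁻¹ * g * k) ∈ fixSub M24 (levelFix 6) := by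
    rw [mem_fixSub]
    refine ⟨M24.mul_mem (M24.inv_mem (wordPerm_mem_M24 c)) (M24.mul_mem (M24.mul_mem (M24.inv_mem hk) hg) hk), ?_⟩
    intro j hj
    obtain ⟨i, hi⟩ := levelFix6_base6out j hj
    have e : gPt j = base6out i := by unfold base6out; rw [hi]
    rw [e, Equiv.Perm.mul_apply, Equiv.Perm.mul_apply, Equiv.Perm.mul_apply, hky, hσ, ← hky (σ i),
      perm_inv_apply', ← hc i, perm_inv_apply']
  obtain ⟨j, hj, e⟩ := fixSub_level6_cases hx
  refine ⟨k, hk, hky, j, hj, ?_⟩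
  rw [wordPerm_append, ← e]
  group

/-- Rigidity on a 6-tuple inside an octad. -/
theorem conj_of_six_in (g : Equiv.Perm GolayPt) (hg : g ∈ M24) (y : Fin 6 → GolayPt)
    (hy : Function.Injective y) (hin : ∃ o ∈ octads, ∀ i, y i ∈ o) (σ : Fin 6 → Fin 6)
    (hσ : ∀ i, g (y i) = y (σ i)) (c : List ℕ)
    (hc : ∀ i, wordPerm c (base6in i) = base6in (σ i)) :
    ∃ k ∈ M24, (∀ i, k (base6in i) = y i) ∧ ∃ z < 24, baseOctad.testBit z = false ∧
      g = k * wordPerm (c ++ k0Tab.getD z []) * k⁻¹ := by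
  obtain ⟨k, hk, hky⟩ := (exists_map_base6 y hy).1 hin
  have hx : (wordPerm c)⁻¹ * (k⁻¹ * g * k) ∈ K0 := by
    unfold K0
    rw [mem_fixSub]
    refine ⟨M24.mul_mem (M24.inv_mem (wordPerm_mem_M24 c)) (M24.mul_mem (M24.mul_mem (M24.inv_mem hk) hg) hk), ?_⟩
    intro j hj
    obtain ⟨i, hi⟩ := k0pts_base6in j hj
    have e : gPt j = base6in i := by unfold base6in; rw [hi]
    rw [e, Equiv.Perm.mul_apply, Equiv.Perm.mul_apply, Equiv.Perm.mul_apply, hky, hσ, ← hky (σ i),
      perm_inv_apply', ← hc i, perm_inv_apply']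
  have hw := K0_eq_word hx
  have hout := K0_outside hx
  refine ⟨k, hk, hky, _, gIdx_lt _, hout, ?_⟩
  rw [wordPerm_append, ← hw]
  group

/-- Checking the action of a word on a base 6-tuple. -/
theorem word_action_of_check (q : List ℕ) (σ : Fin 6 → Fin 6) (c : List ℕ)
    (h : ∀ i : Fin 6, q.getD i.val 0 < 24 ∧ evalPt c (q.getD i.val 0) = q.getD (σ i).val 0) :
    ∀ i : Fin 6, wordPerm c (gPt (q.getD i.val 0)) = gPt (q.getD (σ i).val 0) :=
  fun i => wordPerm_gPt (h i).1 (h i).2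

end Cfsg.Agent.Lib.H28
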