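/-
helper28 library: fixed-point-free elements of order 3 of M24 form one conjugacy class (represented by `w3B`).
-/
import Cfsg.Agent.Lib.H28.SixRigid

set_option autoImplicit false

namespace Cfsg.Agent.Lib.H28

open scoped Pointwise
open Cfsg

/-- Two words with the same action on the 24 point indices. -/
def eqW (u v : List ℕ) : Bool := (List.range 24).all (fun i => evalPt u i == evalPt v i)

theorem wordPerm_eq_of_eqW {u v : List ℕ} (h : eqW u v = true) : wordPerm u = wordPerm v := by
  apply Equiv.ext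
  intro p
  apply gIdx_injective
  rw [gIdx_wordPerm, gIdx_wordPerm]
  have := List.all_eq_true.1 h (gIdx p) (List.mem_range.2 (gIdx_lt p))
  rwa [beq_iff_eq] at this

/-- `u = v w v⁻¹` as words. -/
def isConjW (u v w : List ℕ) : Bool := eqW u (v ++ w ++ invWord v)

theorem wordPerm_of_isConjW {u v w : List ℕ} (h : isConjW u v w = true) :
    wordPerm u = wordPerm v * wordPerm w * (wordPerm v)⁻¹ := by
  rw [wordPerm_eq_of_eqW h, wordPerm_append, wordPerm_append, wordPerm_invWord]

theorem injective_vec6 {α : Type*} {x0 x1 x2 x3 x4 x5 : α} (h : [x0, x1, x2, x3, x4, x5].Nodup) :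
    Function.Injective ![x0, x1, x2, x3, x4, x5] := by
  have hget : ∀ i : Fin 6, ![x0, x1, x2, x3, x4, x5] i = [x0, x1, x2, x3, x4, x5].get ⟨i.val, i.isLt⟩ := by
    intro i
    fin_cases i <;> rfl
  intro i j hij
  rw [hget, hget] at hij
  have := (List.nodup_iff_injective_get.1 h) hij
  exact Fin.ext (Fin.mk.inj_iff.1 this)

/-- A 6-set invariant under an element of order 3 which fixes no point outside it lies in no octad. -/
theorem order_three_invariant_six_no_octad (g : Equiv.Perm GolayPt) (hg : g ∈ M24) (h3 : g ^ 3 = 1)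
    (E : Finset GolayPt) (hE : E.card = 6) (hgE : g • E = E) (hfree : ∀ p, p ∉ E → g p ≠ p) :
    ¬ ∃ o ∈ octads, E ⊆ o := by
  rintro ⟨o, ho, hEo⟩
  have hgo : g • o ∈ octads := smul_mem_octads hg ho
  have hEgo : E ⊆ g • o := by
    rw [← hgE]
    exact Finset.smul_finset_subset_smul_finset hEo
  obtain ⟨s, hsE, hs5⟩ := Finset.exists_subset_card_eq (show 5 ≤ E.card by omega)
  obtain ⟨b, -, hb⟩ := octads_isSteinerSystem.2 s hs5
  have e : g • o = o := by
    have e1 := hb o ⟨ho, hsE.trans hEo⟩
    have e2 := hb (g • o) ⟨hgo, hsE.trans hEgo⟩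
    rw [e2, ← e1]
  have ho8 : o.card = 8 := ho.2
  have hcard : (o \ E).card = 2 := by
    rw [Finset.card_sdiff_of_subset hEo, ho8, hE]
  obtain ⟨a, b', hab, hoE⟩ := Finset.card_eq_two.1 hcard
  have hmap : ∀ p ∈ o \ E, g p ∈ o \ E := by
    intro p hp
    rw [Finset.mem_sdiff] at hp ⊢
    constructor
    · have : g • p ∈ g • o := Finset.smul_mem_smul_finset hp.1
      rw [e] at this
      exact this
    · intro h
      apply hp.2
      rw [← hgE] at h
      obtain ⟨q, hq, hqp⟩ := Finset.mem_smul_finset.1 h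
      have : q = p := g.injective hqp
      rw [← this]
      exact hq
  have ha : a ∈ o \ E := by rw [hoE]; simp
  have hb' : b' ∈ o \ E := by rw [hoE]; simp
  have haE : a ∉ E := (Finset.mem_sdiff.1 ha).2
  have hbE : b' ∉ E := (Finset.mem_sdiff.1 hb').2
  have hga : g a = b' := by
    have := hmap a ha
    rw [hoE, Finset.mem_insert, Finset.mem_singleton] at this
    rcases this with h | h
    · exact absurd h (hfree a haE)
    · exact h
  have hgb : g b' = a := by
    have := hmap b' hb'
    rw [hoE, Finset.mem_insert, Finset.mem_singleton] at this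
    rcases this with h | h
    · exact h
    · exact absurd h (hfree b' hbE)
  have h4 : (g ^ 3) a = a := by rw [h3]; rfl
  rw [pow_succ, pow_two, Equiv.Perm.mul_apply, Equiv.Perm.mul_apply, hga, hgb, hga] at h4
  exact hab h4.symm

/-- The base fixed-point-free element of order 3. -/
def w3B : List ℕ := [0, 4, 1, 3, 1, 4, 0, 2, 1, 1, 2, 4, 0, 3]

def conj3B : List (List ℕ) := [[], [1, 4, 1, 3, 0, 3, 3, 1, 1, 3], [4, 0, 3, 1, 2, 0, 3, 1, 1]]

theorem conj3B_ok : (List.range 3).all (fun j => isConjW (w3B ++ pw36 j) (conj3B.getD j []) w3B) = true := by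
  decide +kernel

theorem w3B_action : ∀ i : Fin 6, wordPerm w3B (base6out i) = base6out (![1, 2, 0, 4, 5, 3] i) :=
  word_action_of_check [23, 0, 1, 2, 3, 4] ![1, 2, 0, 4, 5, 3] w3B (by decide +kernel)

/-- Fixed-point-free elements of order 3 are conjugate to the base one. -/
theorem order_three_free_conj (g : Equiv.Perm GolayPt) (hg : g ∈ M24) (h₃ : orderOf g = 3)
    (h₀ : ∀ p, g p ≠ p) : ∃ k ∈ M24, g = k * wordPerm w3B * k⁻¹ := by
  classical
  have h3 : g ^ 3 = 1 := by rw [← h₃]; exact pow_orderOf_eq_one g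
  have hggg : ∀ x, g (g (g x)) = x := by
    intro x
    have : (g ^ 3) x = x := by rw [h3]; rfl
    rwa [pow_succ, pow_two, Equiv.Perm.mul_apply, Equiv.Perm.mul_apply] at this
  have hne2 : ∀ x, g (g x) ≠ x := by
    intro x h
    have := hggg x
    rw [h] at this
    exact h₀ x this
  set a : GolayPt := gPt 0
  have hcard : ({a, g a, g (g a)} : Finset GolayPt).card < (Finset.univ : Finset GolayPt).card := by
    have h24 : (Finset.univ : Finset GolayPt).card = 24 := by
      rw [Finset.card_univ]; simp [GolayPt]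
    have := Finset.card_le_three (a := a) (b := g a) (c := g (g a))
    omega
  obtain ⟨b, -, hb⟩ := Finset.exists_mem_notMem_of_card_lt_card hcard
  simp only [Finset.mem_insert, Finset.mem_singleton, not_or] at hb
  obtain ⟨hb0, hb1, hb2⟩ := hb
  have hnd : [a, g a, g (g a), b, g b, g (g b)].Nodup := by
    simp only [List.nodup_cons, List.mem_cons, List.not_mem_nil, or_false, not_or, List.nodup_nil, and_true]
    refine ⟨⟨(h₀ a).symm, (hne2 a).symm, Ne.symm hb0, ?_, ?_⟩, ⟨(h₀ (g a)).symm, Ne.symm hb1, ?_, ?_⟩,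
      ⟨Ne.symm hb2, ?_, ?_⟩, ⟨(h₀ b).symm, (hne2 b).symm⟩, (h₀ (g b)).symm, not_false⟩
    · intro h  -- a = g b
      apply hb2
      rw [h, hggg]
    · intro h  -- a = g (g b)
      apply hb1
      rw [h, hggg]
    · intro h  -- g a = g b
      exact hb0 (g.injective h).symm
    · intro h  -- g a = g (g b)
      apply hb2
      rw [g.injective h, hggg]
    · intro h  -- g (g a) = g b
      exact hb1 (g.injective h).symm
    · intro h  -- g (g a) = g (g b)
      exact hb0 (g.injective (g.injective h)).symm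
  set y : Fin 6 → GolayPt := ![a, g a, g (g a), b, g b, g (g b)] with hy
  have hyinj : Function.Injective y := injective_vec6 hnd
  have hσ : ∀ i, g (y i) = y (![1, 2, 0, 4, 5, 3] i) := by
    intro i
    fin_cases i
    · rfl
    · rfl
    · exact hggg a
    · rfl
    · rfl
    · exact hggg b
  have hno : ¬ ∃ o ∈ octads, ∀ i, y i ∈ o := by
    rintro ⟨o, ho, hyo⟩
    apply order_three_invariant_six_no_octad g hg h3 (Finset.univ.image y)
      (by rw [Finset.card_image_of_injective _ hyinj, Finset.card_univ, Fintype.card_fin]) ?_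
      (fun p _ => h₀ p)
    · refine ⟨o, ho, ?_⟩
      intro p hp
      obtain ⟨i, -, rfl⟩ := Finset.mem_image.1 hp
      exact hyo i
    · apply Finset.eq_of_subset_of_card_le
      · intro p hp
        obtain ⟨q, hq, rfl⟩ := Finset.mem_smul_finset.1 hp
        obtain ⟨i, -, rfl⟩ := Finset.mem_image.1 hq
        rw [Equiv.Perm.smul_def, hσ i]
        exact Finset.mem_image_of_mem _ (Finset.mem_univ _)
      · rw [Finset.card_smul_finset]
  obtain ⟨k, hk, -, j, hj, e⟩ := conj_of_six_out g hg y hyinj hno ![1, 2, 0, 4, 5, 3] hσ w3B w3B_action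
  have hc := List.all_eq_true.1 conj3B_ok j (List.mem_range.2 hj)
  rw [wordPerm_of_isConjW hc] at e
  refine ⟨k * wordPerm (conj3B.getD j []), M24.mul_mem hk (wordPerm_mem_M24 _), ?_⟩
  rw [e]
  group

theorem w3B_counts : ((flatK sextKs 1771).filter (fixKey w3B)).length = 7 ∧
    ((flatK trioKs 3795).filter (fixKey w3B)).length = 15 := by
  decide +kernel

end Cfsg.Agent.Lib.H28
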