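/-
helper28 library: fixed-point-free involutions of M24 form one conjugacy class (represented by `w2B`).
-/
import Cfsg.Agent.Lib.H28.OrderThreeFree

set_option autoImplicit false

namespace Cfsg.Agent.Lib.H28

open scoped Pointwise
open Cfsg

/-- The word has a fixed point index. -/
def hasFixW (u : List ℕ) : Bool := (List.range 24).any (fun i => evalPt u i == i)

/-- The word squares to the identity on the point indices. -/
def isInvolW (u : List ℕ) : Bool := (List.range 24).all (fun i => evalPt u (evalPt u i) == i)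

theorem exists_fixed_of_hasFixW {u : List ℕ} (h : hasFixW u = true) : ∃ p, wordPerm u p = p := by
  unfold hasFixW at h
  rw [List.any_eq_true] at h
  obtain ⟨i, hi, hi'⟩ := h
  rw [List.mem_range] at hi
  rw [beq_iff_eq] at hi'
  exact ⟨gPt i, wordPerm_gPt hi hi'⟩

theorem isInvolW_of_sq {u : List ℕ} (h : wordPerm u * wordPerm u = 1) : isInvolW u = true := by
  unfold isInvolW
  rw [List.all_eq_true]
  intro i hi
  rw [List.mem_range] at hi
  rw [beq_iff_eq]
  have h1 : (wordPerm u * wordPerm u) (gPt i) = gPt i := by rw [h]; rfl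
  rw [Equiv.Perm.mul_apply] at h1
  have h2 := congrArg gIdx h1
  rw [gIdx_wordPerm, gIdx_wordPerm, gIdx_gPt hi] at h2
  exact h2

/-- The base fixed-point-free involution. -/
def w2B : List ℕ := [1, 3, 0, 2, 1, 3, 1, 1, 1, 2, 3, 0, 4, 0]

/-- A word acting on the base 6-tuple in the base octad as three transpositions. -/
def c2Bin : List ℕ := [2, 0, 4, 4, 0, 4, 0, 3, 1, 4, 0, 4, 0]

def conj2Bout : List (List ℕ) := [[], [2, 0, 0, 0, 0, 4, 2, 1], [3, 1, 3, 1, 4, 1, 4, 0, 2]]

def conj2Bin : List (List ℕ) := [[], [], [], [], [], [], [3, 3, 0, 0, 4, 0, 4, 2, 1], [], [], [1, 4, 0, 3, 3, 1, 4, 4], [1, 2, 1, 1], [], [], [], [], [4, 4, 0, 3, 1, 3, 1, 1], [], [], [], [0, 0, 4, 2, 1, 4, 1, 2], [0, 4, 4, 0, 3, 2, 1, 3, 1], [], [], []]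

theorem conj2Bout_ok : (List.range 3).all (fun j => isConjW (w2B ++ pw36 j) (conj2Bout.getD j []) w2B) = true := by
  decide +kernel

theorem conj2Bin_ok : (List.range 24).all (fun z => baseOctad.testBit z ||
    hasFixW (c2Bin ++ k0Tab.getD z []) || !isInvolW (c2Bin ++ k0Tab.getD z []) ||
    isConjW (c2Bin ++ k0Tab.getD z []) (conj2Bin.getD z []) w2B) = true := by
  decide +kernel

theorem w2B_action : ∀ i : Fin 6, wordPerm w2B (base6out i) = base6out (![1, 0, 3, 2, 5, 4] i) :=
  word_action_of_check [23, 0, 1, 2, 3, 4] ![1, 0, 3, 2, 5, 4] w2B (by decide +kernel)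

theorem c2Bin_action : ∀ i : Fin 6, wordPerm c2Bin (base6in i) = base6in (![1, 0, 3, 2, 5, 4] i) :=
  word_action_of_check [23, 0, 1, 2, 3, 5] ![1, 0, 3, 2, 5, 4] c2Bin (by decide +kernel)

/-- Fixed-point-free involutions are conjugate to the base one. -/
theorem involution_free_conj (t : Equiv.Perm GolayPt) (ht : t ∈ M24) (h₂ : orderOf t = 2)
    (h₀ : ∀ p, t p ≠ p) : ∃ k ∈ M24, t = k * wordPerm w2B * k⁻¹ := by
  classical
  have hsq : t ^ 2 = 1 := by rw [← h₂]; exact pow_orderOf_eq_one t
  have htt : ∀ x, t (t x) = x := by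
    intro x
    have : (t ^ 2) x = x := by rw [hsq]; rfl
    rwa [pow_two, Equiv.Perm.mul_apply] at this
  have h24 : (Finset.univ : Finset GolayPt).card = 24 := by
    rw [Finset.card_univ]; simp [GolayPt]
  set a : GolayPt := gPt 0
  have hcard1 : ({a, t a} : Finset GolayPt).card < (Finset.univ : Finset GolayPt).card := by
    have := Finset.card_le_two (a := a) (b := t a)
    omega
  obtain ⟨c, -, hc⟩ := Finset.exists_mem_notMem_of_card_lt_card hcard1
  simp only [Finset.mem_insert, Finset.mem_singleton, not_or] at hc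
  obtain ⟨hc0, hc1⟩ := hc
  have hcard2 : ({a, t a, c, t c} : Finset GolayPt).card < (Finset.univ : Finset GolayPt).card := by
    have := Finset.card_le_four (a := a) (b := t a) (c := c) (d := t c)
    omega
  obtain ⟨e, -, he⟩ := Finset.exists_mem_notMem_of_card_lt_card hcard2
  simp only [Finset.mem_insert, Finset.mem_singleton, not_or] at he
  obtain ⟨he0, he1, he2, he3⟩ := he
  have hnd : [a, t a, c, t c, e, t e].Nodup := by
    simp only [List.nodup_cons, List.mem_cons, List.not_mem_nil, or_false, not_or, List.nodup_nil, and_true,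
      not_false_eq_true]
    refine ⟨⟨(h₀ a).symm, Ne.symm hc0, ?_, Ne.symm he0, ?_⟩, ⟨Ne.symm hc1, ?_, Ne.symm he1, ?_⟩,
      ⟨(h₀ c).symm, Ne.symm he2, ?_⟩, ⟨Ne.symm he3, ?_⟩, (h₀ e).symm⟩
    · intro h  -- a = t c
      apply hc1
      rw [h, htt]
    · intro h  -- a = t e
      apply he1
      rw [h, htt]
    · intro h  -- t a = t c
      exact hc0 (t.injective h).symm
    · intro h  -- t a = t e
      exact he0 (t.injective h).symm
    · intro h  -- c = t e
      apply he3
      rw [h, htt]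
    · intro h  -- t c = t e
      exact he2 (t.injective h).symm
  set y : Fin 6 → GolayPt := ![a, t a, c, t c, e, t e] with hy
  have hyinj : Function.Injective y := injective_vec6 hnd
  have hσ : ∀ i, t (y i) = y (![1, 0, 3, 2, 5, 4] i) := by
    intro i
    fin_cases i
    · rfl
    · exact htt a
    · rfl
    · exact htt c
    · rfl
    · exact htt e
  have hfree : ∀ {k u : Equiv.Perm GolayPt}, t = k * u * k⁻¹ → ∀ p, u p ≠ p := by
    intro k u e p hp
    apply h₀ (k p)
    rw [e, Equiv.Perm.mul_apply, Equiv.Perm.mul_apply, perm_inv_apply', hp]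
  have hsq' : ∀ {k u : Equiv.Perm GolayPt}, t = k * u * k⁻¹ → u * u = 1 := by
    intro k u e
    have : u = k⁻¹ * t * k := by rw [e]; group
    rw [this]
    have h1 : t * t = 1 := by rw [← pow_two]; exact hsq
    calc k⁻¹ * t * k * (k⁻¹ * t * k) = k⁻¹ * (t * t) * k := by group
      _ = 1 := by rw [h1]; group
  by_cases hin : ∃ o ∈ octads, ∀ i, y i ∈ o
  · obtain ⟨k, hk, -, z, hz, hout, e⟩ := conj_of_six_in t ht y hyinj hin ![1, 0, 3, 2, 5, 4] hσ c2Bin c2Bin_action
    have hc := List.all_eq_true.1 conj2Bin_ok z (List.mem_range.2 hz)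
    rw [hout, Bool.false_or, Bool.or_eq_true, Bool.or_eq_true] at hc
    rcases hc with (hc | hc) | hc
    · obtain ⟨p, hp⟩ := exists_fixed_of_hasFixW hc
      exact absurd hp (hfree e p)
    · rw [isInvolW_of_sq (hsq' e)] at hc
      simp at hc
    · rw [wordPerm_of_isConjW hc] at e
      refine ⟨k * wordPerm (conj2Bin.getD z []), M24.mul_mem hk (wordPerm_mem_M24 _), ?_⟩
      rw [e]
      group
  · obtain ⟨k, hk, -, j, hj, e⟩ := conj_of_six_out t ht y hyinj hin ![1, 0, 3, 2, 5, 4] hσ w2B w2B_action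
    have hc := List.all_eq_true.1 conj2Bout_ok j (List.mem_range.2 hj)
    rw [wordPerm_of_isConjW hc] at e
    refine ⟨k * wordPerm (conj2Bout.getD j []), M24.mul_mem hk (wordPerm_mem_M24 _), ?_⟩
    rw [e]
    group

theorem w2B_counts : (octMasks.filter (fixMask w2B)).length = 15 ∧
    ((flatK trioKs 3795).filter (fixKey w2B)).length = 75 ∧
    ((flatK sextKs 1771).filter (fixKey w2B)).length = 51 := by
  decide +kernel

end Cfsg.Agent.Lib.H28
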