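/-
helper28 library: the number of fixed points of elements of M24: conjugation invariance, computation for words,
and the classification of elements of order 3 by their fixed points (0 or 6).
-/
import Cfsg.Agent.Lib.H28.InvolutionFree

set_option autoImplicit false

namespace Cfsg.Agent.Lib.H28

open scoped Pointwise
open Cfsg

/-- The fixed points of a permutation. -/
def fixedF (g : Equiv.Perm GolayPt) : Finset GolayPt := Finset.univ.filter (fun p => g p = p)

theorem mem_fixedF {g : Equiv.Perm GolayPt} {p : GolayPt} : p ∈ fixedF g ↔ g p = p := by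
  unfold fixedF
  rw [Finset.mem_filter]
  simp

theorem fixedF_conj (k u : Equiv.Perm GolayPt) : fixedF (k * u * k⁻¹) = k • fixedF u := by
  ext p
  rw [mem_fixedF, Finset.mem_smul_finset]
  constructor
  · intro h
    refine ⟨k⁻¹ p, mem_fixedF.2 ?_, ?_⟩
    · rw [Equiv.Perm.mul_apply, Equiv.Perm.mul_apply] at h
      have := congrArg (k⁻¹ ·) h
      simp only [perm_inv_apply'] at this
      exact this
    · rw [Equiv.Perm.smul_def, Equiv.Perm.inv_def, Equiv.apply_symm_apply]
  · rintro ⟨q, hq, rfl⟩
    rw [mem_fixedF] at hq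
    rw [Equiv.Perm.smul_def, Equiv.Perm.mul_apply, Equiv.Perm.mul_apply, perm_inv_apply', hq]

theorem card_fixedF_conj (k u : Equiv.Perm GolayPt) : (fixedF (k * u * k⁻¹)).card = (fixedF u).card := by
  rw [fixedF_conj, Finset.card_smul_finset]

/-- The mask of the fixed point indices of a word. -/
def fixMaskW (u : List ℕ) : ℕ := Nat.ofBits (fun k : Fin 24 => decide (evalPt u k.val = k.val))

theorem fixedF_wordPerm (u : List ℕ) : fixedF (wordPerm u) = ptsMask (fixMaskW u) := by
  ext p
  rw [mem_fixedF, mem_ptsMask]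
  unfold fixMaskW
  rw [Nat.testBit_ofBits_lt _ _ (gIdx_lt p), decide_eq_true_eq]
  constructor
  · intro h
    have := congrArg gIdx h
    rwa [gIdx_wordPerm] at this
  · intro h
    apply gIdx_injective
    rw [gIdx_wordPerm]
    exact h

theorem card_fixedF_wordPerm (u : List ℕ) : (fixedF (wordPerm u)).card = popc (fixMaskW u) := by
  rw [fixedF_wordPerm, card_ptsMask]

/-- The number of fixed points of an element of prime-power order. -/
theorem card_fixedF_modEq {g : Equiv.Perm GolayPt} {p n : ℕ} [hp : Fact p.Prime] (h : g ^ p ^ n = 1) :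
    (fixedF g).card ≡ 24 [MOD p] := by
  have h1 := Equiv.Perm.card_compl_support_modEq h
  have h2 : g.supportᶜ = fixedF g := by
    ext q
    rw [Finset.mem_compl, Equiv.Perm.mem_support, not_not, mem_fixedF]
  rw [h2, card_GolayPt] at h1
  exact h1

/-- Enumerating a 6-set. -/
theorem exists_enum_six {E : Finset GolayPt} (hE : E.card = 6) :
    ∃ y : Fin 6 → GolayPt, Function.Injective y ∧ (∀ i, y i ∈ E) ∧ ∀ p ∈ E, ∃ i, y i = p := by
  have e := Finset.equivFinOfCardEq hE
  refine ⟨fun i => ((e.symm i : ↥E) : GolayPt), Subtype.val_injective.comp e.symm.injective,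
    fun i => (e.symm i).2, ?_⟩
  intro p hp
  exact ⟨e ⟨p, hp⟩, by simp only [Equiv.symm_apply_apply]⟩

theorem nil_action_in : ∀ i : Fin 6, wordPerm [] (base6in i) = base6in (id i) := fun _ => rfl

theorem nil_action_out : ∀ i : Fin 6, wordPerm [] (base6out i) = base6out (id i) := fun _ => rfl

theorem k0Tab_sq {z : ℕ} (hz : z < 24) (h : baseOctad.testBit z = false) :
    wordPerm (k0Tab.getD z []) * wordPerm (k0Tab.getD z []) = 1 :=
  (k0OK_spec (k0Tab_ok' hz h)).2.2

theorem pw36_fix : (List.range 3).all (fun j => j == 0 || popc (fixMaskW (pw36 j)) == 6) = true := by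
  decide +kernel

/-- An element of `M24` fixing six points in no octad is the identity or has exactly six fixed points;
an element fixing six points of an octad squares to the identity. -/
theorem six_fixed_cases (g : Equiv.Perm GolayPt) (hg : g ∈ M24) (E : Finset GolayPt) (hE : E.card = 6)
    (hfix : ∀ p ∈ E, g p = p) : g * g = 1 ∨ (fixedF g).card = 6 := by
  obtain ⟨y, hyinj, hyE, -⟩ := exists_enum_six hE
  have hσ : ∀ i, g (y i) = y (id i) := fun i => hfix _ (hyE i)
  by_cases hin : ∃ o ∈ octads, ∀ i, y i ∈ o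
  · left
    obtain ⟨k, hk, -, z, hz, hout, e⟩ := conj_of_six_in g hg y hyinj hin id hσ [] nil_action_in
    rw [List.nil_append] at e
    rw [e]
    calc k * wordPerm (k0Tab.getD z []) * k⁻¹ * (k * wordPerm (k0Tab.getD z []) * k⁻¹)
        = k * (wordPerm (k0Tab.getD z []) * wordPerm (k0Tab.getD z [])) * k⁻¹ := by group
      _ = 1 := by rw [k0Tab_sq hz hout]; group
  · obtain ⟨k, hk, -, j, hj, e⟩ := conj_of_six_out g hg y hyinj hin id hσ [] nil_action_out
    rw [List.nil_append] at e
    have hc := List.all_eq_true.1 pw36_fix j (List.mem_range.2 hj)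
    rw [Bool.or_eq_true, beq_iff_eq, beq_iff_eq] at hc
    rcases hc with hc | hc
    · left
      rw [e, hc]
      have : wordPerm (pw36 0) = 1 := rfl
      rw [this]
      group
    · right
      rw [e, card_fixedF_conj, card_fixedF_wordPerm, hc]

/-- Words acting on the base 6-tuples as a 3-cycle on the last three points. -/
def c3out : List ℕ := [2, 0, 4, 0, 0, 0, 3, 1, 1, 4, 1, 2, 3]
def c3in : List ℕ := [3, 3, 1, 1, 4, 0, 3, 0, 0, 0, 4, 0, 0]

theorem c3out_action : ∀ i : Fin 6, wordPerm c3out (base6out i) = base6out (![0, 1, 2, 4, 5, 3] i) :=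
  word_action_of_check [23, 0, 1, 2, 3, 4] ![0, 1, 2, 4, 5, 3] c3out (by decide +kernel)

theorem c3in_action : ∀ i : Fin 6, wordPerm c3in (base6in i) = base6in (![0, 1, 2, 4, 5, 3] i) :=
  word_action_of_check [23, 0, 1, 2, 3, 5] ![0, 1, 2, 4, 5, 3] c3in (by decide +kernel)

theorem c3out_fix : (List.range 3).all (fun j => popc (fixMaskW (c3out ++ pw36 j)) == 6) = true := by
  decide +kernel

theorem c3in_fix : (List.range 24).all (fun z => baseOctad.testBit z ||
    popc (fixMaskW (c3in ++ k0Tab.getD z [])) == 6) = true := by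
  decide +kernel

/-- An element of `M24` with three fixed points and a 3-cycle outside them has six fixed points:
so there is no element of order 3 with exactly three fixed points. -/
theorem order_three_fixed_ne_three (g : Equiv.Perm GolayPt) (hg : g ∈ M24) (h₃ : orderOf g = 3) :
    (fixedF g).card ≠ 3 := by
  classical
  intro h3f
  have h3 : g ^ 3 = 1 := by rw [← h₃]; exact pow_orderOf_eq_one g
  have hggg : ∀ x, g (g (g x)) = x := by
    intro x
    have : (g ^ 3) x = x := by rw [h3]; rfl
    rwa [pow_succ, pow_two, Equiv.Perm.mul_apply, Equiv.Perm.mul_apply] at this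
  obtain ⟨p1, p2, p3, h12, h13, h23, hF⟩ := Finset.card_eq_three.1 h3f
  have hp1 : g p1 = p1 := mem_fixedF.1 (by rw [hF]; simp)
  have hp2 : g p2 = p2 := mem_fixedF.1 (by rw [hF]; simp)
  have hp3 : g p3 = p3 := mem_fixedF.1 (by rw [hF]; simp)
  have hcard : (fixedF g).card < (Finset.univ : Finset GolayPt).card := by
    rw [h3f, Finset.card_univ, card_GolayPt]; norm_num
  obtain ⟨x, -, hx⟩ := Finset.exists_mem_notMem_of_card_lt_card hcard
  have hgx : g x ≠ x := fun h => hx (mem_fixedF.2 h)
  have hnf : ∀ q, q ∉ fixedF g → g q ∉ fixedF g := by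
    intro q hq h
    apply hq
    rw [mem_fixedF] at h ⊢
    exact g.injective h
  have hx1 := hnf x hx
  have hx2 := hnf _ hx1
  have hne : ∀ q, q ∈ fixedF g → ∀ r, r ∉ fixedF g → q ≠ r := fun q hq r hr h => hr (h ▸ hq)
  have m1 : p1 ∈ fixedF g := mem_fixedF.2 hp1
  have m2 : p2 ∈ fixedF g := mem_fixedF.2 hp2
  have m3 : p3 ∈ fixedF g := mem_fixedF.2 hp3
  have hnd : [p1, p2, p3, x, g x, g (g x)].Nodup := by
    simp only [List.nodup_cons, List.mem_cons, List.not_mem_nil, or_false, not_or, List.nodup_nil, and_true,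
      not_false_eq_true]
    refine ⟨⟨h12, h13, hne _ m1 _ hx, hne _ m1 _ hx1, hne _ m1 _ hx2⟩,
      ⟨h23, hne _ m2 _ hx, hne _ m2 _ hx1, hne _ m2 _ hx2⟩,
      ⟨hne _ m3 _ hx, hne _ m3 _ hx1, hne _ m3 _ hx2⟩, ⟨hgx.symm, ?_⟩, ?_⟩
    · intro h
      apply hgx
      have := hggg x
      rw [← h] at this
      exact this
    · intro h
      exact hgx (g.injective h).symm
  set y : Fin 6 → GolayPt := ![p1, p2, p3, x, g x, g (g x)] with hy
  have hyinj : Function.Injective y := injective_vec6 hnd
  have hσ : ∀ i, g (y i) = y (![0, 1, 2, 4, 5, 3] i) := by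
    intro i
    fin_cases i
    · exact hp1
    · exact hp2
    · exact hp3
    · rfl
    · rfl
    · exact hggg x
  by_cases hin : ∃ o ∈ octads, ∀ i, y i ∈ o
  · obtain ⟨k, hk, -, z, hz, hout, e⟩ := conj_of_six_in g hg y hyinj hin _ hσ c3in c3in_action
    have hc := List.all_eq_true.1 c3in_fix z (List.mem_range.2 hz)
    rw [hout, Bool.false_or, beq_iff_eq] at hc
    rw [e, card_fixedF_conj, card_fixedF_wordPerm, hc] at h3f
    exact absurd h3f (by norm_num)
  · obtain ⟨k, hk, -, j, hj, e⟩ := conj_of_six_out g hg y hyinj hin _ hσ c3out c3out_action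
    have hc := List.all_eq_true.1 c3out_fix j (List.mem_range.2 hj)
    rw [beq_iff_eq] at hc
    rw [e, card_fixedF_conj, card_fixedF_wordPerm, hc] at h3f
    exact absurd h3f (by norm_num)

/-- An element of order 3 of `M24` has no or exactly six fixed points. -/
theorem order_three_fixed_cases (g : Equiv.Perm GolayPt) (hg : g ∈ M24) (h₃ : orderOf g = 3) :
    (fixedF g).card = 0 ∨ (fixedF g).card = 6 := by
  have h3 : g ^ 3 ^ 1 = 1 := by rw [pow_one, ← h₃]; exact pow_orderOf_eq_one g
  have : Fact (Nat.Prime 3) := ⟨Nat.prime_three⟩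
  have hmod := card_fixedF_modEq h3
  have hne3 := order_three_fixed_ne_three g hg h₃
  by_cases h6 : 6 ≤ (fixedF g).card
  · right
    obtain ⟨E, hEF, hE⟩ := Finset.exists_subset_card_eq h6
    rcases six_fixed_cases g hg E hE (fun p hp => mem_fixedF.1 (hEF hp)) with h | h
    · exfalso
      have h1 : g ^ 2 = 1 := by rw [pow_two]; exact h
      have h2 : orderOf g ∣ 2 := orderOf_dvd_of_pow_eq_one h1
      rw [h₃] at h2
      exact absurd h2 (by norm_num)
    · exact h
  · left
    have hlt : (fixedF g).card < 6 := by omega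
    have : (fixedF g).card % 3 = 24 % 3 := hmod
    omega

end Cfsg.Agent.Lib.H28
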