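import Mathlib
import Cfsg.Prelude.Def_LieExceptional

set_option autoImplicit false

/-!
# S4068: groups in which every non-identity element has prime order — centralizers (helper28)
-/

universe u

namespace Cfsg.Agent.Lib.H28.FourOrb

/-- In a group all of whose non-identity elements have prime order, a non-identity element commuting
with `g ≠ 1` has the same order as `g`. -/
theorem centralizer_orderOf {G : Type u} [Group G]
    (hepo : ∀ g : G, g ≠ 1 → (orderOf g).Prime) (g : G) (hg : g ≠ 1)
    (x : G) (hx : x ∈ Subgroup.centralizer ({g} : Set G)) (hx1 : x ≠ 1) :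
    orderOf x = orderOf g := by
  have hc : Commute g x := by
    have := Subgroup.mem_centralizer_iff.mp hx g (Set.mem_singleton g)
    exact this
  by_contra hne
  have hp := hepo g hg
  have hq := hepo x hx1
  have hcop : (orderOf g).Coprime (orderOf x) := (Nat.coprime_primes hp hq).mpr (Ne.symm hne)
  have hmul : orderOf (g * x) = orderOf g * orderOf x :=
    hc.orderOf_mul_eq_mul_orderOf_of_coprime hcop
  have hgx : g * x ≠ 1 := by
    intro h
    rw [h, orderOf_one] at hmul
    have h1 := hp.two_le
    have h2 := hq.two_le
    nlinarith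
  have h3 := hepo (g * x) hgx
  rw [hmul] at h3
  exact Nat.not_prime_mul hp.one_lt.ne' hq.one_lt.ne' h3

/-- Such a group is a CN-group: centralizers of non-identity elements are `p`-groups. -/
theorem cn_of_epo {G : Type u} [Group G] [Finite G]
    (hepo : ∀ g : G, g ≠ 1 → (orderOf g).Prime) : Cfsg.IsCNGroup G := by
  intro g hg
  have hp := hepo g hg
  have : Fact (orderOf g).Prime := ⟨hp⟩
  have hP : IsPGroup (orderOf g) (Subgroup.centralizer ({g} : Set G)) := by
    rintro ⟨x, hx⟩
    by_cases hx1 : x = 1
    · refine ⟨0, ?_⟩
      subst hx1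
      simp
    · refine ⟨1, ?_⟩
      have h := centralizer_orderOf hepo g hg x hx hx1
      apply Subtype.ext
      simp only [pow_one, SubmonoidClass.coe_pow, OneMemClass.coe_one]
      rw [← h]
      exact pow_orderOf_eq_one x
  exact hP.isNilpotent

/-- The centralizer of an involution is an elementary abelian 2-group. -/
theorem centralizer_inv {G : Type u} [Group G]
    (hepo : ∀ g : G, g ≠ 1 → (orderOf g).Prime) (t : G) (ht : orderOf t = 2) :
    IsMulCommutative (Subgroup.centralizer ({t} : Set G)) ∧
      ∀ c ∈ Subgroup.centralizer ({t} : Set G), c ^ 2 = 1 := by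
  have ht1 : t ≠ 1 := by
    intro h
    rw [h, orderOf_one] at ht
    omega
  have hsq : ∀ c ∈ Subgroup.centralizer ({t} : Set G), c ^ 2 = 1 := by
    intro c hc
    by_cases hc1 : c = 1
    · simp [hc1]
    · have h := centralizer_orderOf hepo t ht1 c hc hc1
      rw [ht] at h
      rw [← h]
      exact pow_orderOf_eq_one c
  refine ⟨⟨⟨fun a b => ?_⟩⟩, hsq⟩
  have ha : a * a = 1 := by
    apply Subtype.ext
    have := hsq a.1 a.2
    rw [sq] at this
    simpa using this
  have hb : b * b = 1 := by
    apply Subtype.ext
    have := hsq b.1 b.2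
    rw [sq] at this
    simpa using this
  have hab : (a * b) * (a * b) = 1 := by
    apply Subtype.ext
    have := hsq (a * b).1 (a * b).2
    rw [sq] at this
    simpa using this
  calc a * b = a * ((a * b) * (a * b)) * b := by rw [hab, mul_one]
    _ = (a * a) * (b * a) * (b * b) := by group
    _ = b * a := by rw [ha, hb, one_mul, mul_one]

end Cfsg.Agent.Lib.H28.FourOrb
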