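import Mathlib
import Cfsg.Prelude.Def_LieExceptional
import Cfsg.Agent.Lib.H28.FourOrbCen
import Cfsg.Agent.Lib.H2.FourOrbORB
import Cfsg.Agent.Lib.H27.FourOrbSYL
import Cfsg.Agent.Lib.H20.FourOrbNUM
import Cfsg.Agent.S0144
import Cfsg.Agent.S0183
import Cfsg.Agent.S1473
import Cfsg.Agent.S1230
import Cfsg.Agent.S2503
import Cfsg.Agent.S0243
import Cfsg.Agent.S0494
import Cfsg.Agent.Lib.H2.Deg60

set_option autoImplicit false

/-!
# S4068: a non-solvable finite group with exactly four `Aut(G)`-orbits is `A₅` — assembly (helper28)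

Pieces: ORB (helper2), SYL (helper27), NUM (helper20), CEN (helper28); deep inputs S0144 (Burnside),
S0183 (CN-groups of odd order), S1473, S1230 (elementary abelian involution centralizers ⇒ PSL(2,2^a)),
S2503 (cyclic subgroup of order q+1), S0243 (order of PSL), S0494 + Lib/H2/Deg60 (order 60).
-/

universe u

namespace Cfsg.Agent.Lib.H28.FourOrb

open Cfsg.Agent.Lib.H2.FourOrb (epo_of_four_orbits)
open Cfsg.Agent.Lib.H27.FourOrb (sylow_two)
open Cfsg.Agent.Lib.H20.FourOrb (q_eq_four)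

/-! ### Assembly -/


/-- order of `PSL(2,F)` for `|F| = 2 ^ a`, from the general formula. -/
theorem card_psl_two {F : Type} [Field F] [Fintype F] (a : ℕ) (ha : 2 ≤ a)
    (hF : Fintype.card F = 2 ^ a) :
    Nat.card (Matrix.ProjectiveSpecialLinearGroup (Fin 2) F) = 2 ^ a * (2 ^ a - 1) * (2 ^ a + 1) := by
  have h := Cfsg.Agent.S0243.result (F := F) hF 2 le_rfl
  rw [Fin.prod_univ_two] at h
  simp only [Fin.val_zero, Fin.val_one, pow_zero, pow_one] at h
  have hq4 : 4 ≤ 2 ^ a := by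
    calc 4 = 2 ^ 2 := by norm_num
      _ ≤ 2 ^ a := Nat.pow_le_pow_right (by norm_num) ha
  obtain ⟨m, hm⟩ : ∃ m, 2 ^ a = m + 4 := ⟨2 ^ a - 4, by omega⟩
  have hodd : Nat.gcd 2 (2 ^ a - 1) = 1 := by
    have h2 : 2 ∣ 2 ^ a := dvd_pow_self 2 (by omega)
    have hnd : ¬ 2 ∣ 2 ^ a - 1 := by omega
    exact (Nat.Prime.coprime_iff_not_dvd Nat.prime_two).mpr hnd
  rw [hodd, one_mul] at h
  set N := Nat.card (Matrix.ProjectiveSpecialLinearGroup (Fin 2) F) with hN
  rw [hm] at h ⊢
  have e1 : m + 4 - 1 = m + 3 := by omega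
  have e2 : (m + 4) ^ 2 - 1 = (m + 3) * (m + 5) := by
    have : (m + 4) ^ 2 = (m + 3) * (m + 5) + 1 := by ring
    omega
  have e3 : (m + 4) ^ 2 - (m + 4) = (m + 4) * (m + 3) := by
    have : (m + 4) ^ 2 = (m + 4) * (m + 3) + (m + 4) := by ring
    omega
  rw [e1, e2, e3] at h
  rw [e1]
  have h3 : 0 < m + 3 := by omega
  apply Nat.eq_of_mul_eq_mul_left h3
  rw [h]; ring

theorem main {G : Type u} [Group G] [Finite G] (hns : ¬ Group.IsSolvable G)
    (h4 : Nat.card (MulAction.orbitRel.Quotient (MulAut G) G) = 4) :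
    Nonempty (G ≃* alternatingGroup (Fin 5)) := by
  obtain ⟨hepo, h3⟩ := epo_of_four_orbits
    (fun p q a b hp hq hc => Cfsg.Agent.S0144.result p q a b hp hq hc) hns h4
  have hcn : Cfsg.IsCNGroup G := cn_of_epo hepo
  let T : Sylow 2 G := default
  obtain ⟨hnc, hnn⟩ := sylow_two hepo hcn
    (fun K _ _ ho hc => Cfsg.Agent.S0183.result ho hc)
    (fun H _ hH => Cfsg.Agent.S1473.result hcn H hH) hns T
  obtain ⟨F, _, _, hFT, ⟨e⟩⟩ := Cfsg.Agent.S1230.result T hnc hnn
    (fun t ht => centralizer_inv hepo t ht)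
  -- |T| = 2 ^ a with a ≥ 2
  obtain ⟨a, haT⟩ := IsPGroup.iff_card.mp T.2
  have ha : 2 ≤ a := by
    by_contra hlt
    apply hnc
    have : a = 0 ∨ a = 1 := by omega
    rcases this with rfl | rfl
    · rw [pow_zero] at haT
      have : Subsingleton (T : Subgroup G) := (Nat.card_eq_one_iff_unique.mp haT).1
      exact isCyclic_of_subsingleton
    · rw [pow_one] at haT
      have : Fact (Nat.Prime 2) := ⟨Nat.prime_two⟩
      exact isCyclic_of_prime_card haT
  have hF : Fintype.card F = 2 ^ a := by rw [hFT]; exact haT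
  have hq4 : 4 ≤ 2 ^ a := by
    calc 4 = 2 ^ 2 := by norm_num
      _ ≤ 2 ^ a := Nat.pow_le_pow_right (by norm_num) ha
  -- EPO in PSL
  have hepo' : ∀ x : Matrix.ProjectiveSpecialLinearGroup (Fin 2) F, x ≠ 1 → (orderOf x).Prime := by
    intro x hx
    have h1 : e.symm x ≠ 1 := by
      intro h
      apply hx
      have := congrArg e h
      simpa using this
    have := hepo (e.symm x) h1
    rwa [MulEquiv.orderOf_eq] at this
  -- q + 1 prime
  have hprime : (2 ^ a + 1).Prime := by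
    obtain ⟨A, B, hAc, hAcard, -⟩ := Cfsg.Agent.S2503.result (F := F)
      (by rw [hF]; exact dvd_pow_self 2 (by omega)) (by rw [hF]; exact hq4)
    obtain ⟨g, hg⟩ := hAc.exists_generator
    have hog : orderOf g = Nat.card A := orderOf_eq_card_of_forall_mem_zpowers hg
    have hog' : orderOf (g : Matrix.ProjectiveSpecialLinearGroup (Fin 2) F) = 2 ^ a + 1 := by
      rw [Subgroup.orderOf_coe, hog, hAcard, hF]
    have hg1 : (g : Matrix.ProjectiveSpecialLinearGroup (Fin 2) F) ≠ 1 := by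
      intro h
      rw [h, orderOf_one] at hog'
      omega
    have := hepo' _ hg1
    rwa [hog'] at this
  have hcardG : Nat.card G = 2 ^ a * (2 ^ a - 1) * (2 ^ a + 1) := by
    rw [Nat.card_congr e.toEquiv]
    exact card_psl_two a ha hF
  rw [hcardG] at h3
  have ha2 : a = 2 := q_eq_four a ha hprime h3
  subst ha2
  have h60 : Nat.card G = 60 := by rw [hcardG]; norm_num
  have : IsSimpleGroup G := Cfsg.Agent.Lib.H2.Deg60.simple_of_card_60' G h60 hns
  exact Cfsg.Agent.S0494.result h60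

end Cfsg.Agent.Lib.H28.FourOrb
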