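/-
helper28 library: coset leaders of an abstract Golay code (unique word of weight ≤ 3, or six of weight 4).
-/
import Cfsg.Agent.Lib.H28.GolayCount
import Cfsg.Agent.Lib.H28.GolayConcrete

set_option autoImplicit false
set_option linter.unusedSectionVars false

namespace Cfsg.Agent.Lib.H28

open Finset

variable {ι : Type*} [Fintype ι] [DecidableEq ι] {C : Submodule (ZMod 2) (ι → ZMod 2)}

theorem mk_eq_iff_sub_mem (w v : ι → ZMod 2) :
    (Submodule.Quotient.mk v : (ι → ZMod 2) ⧸ C) = Submodule.Quotient.mk w ↔ w - v ∈ C := by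
  rw [Submodule.Quotient.eq, ← neg_sub w v, Submodule.neg_mem_iff]

/-- Coset leaders of an abstract Golay code. -/
theorem coset_leaders (hC : IsAbsGolay C) (w : ι → ZMod 2) :
    ({v : ι → ZMod 2 | hammingNorm v ≤ 4 ∧ w - v ∈ C}.ncard = 1 ∧
        ∃ v : ι → ZMod 2, hammingNorm v ≤ 3 ∧ w - v ∈ C) ∨
    ({v : ι → ZMod 2 | hammingNorm v ≤ 4 ∧ w - v ∈ C}.ncard = 6 ∧
        ∀ v : ι → ZMod 2, w - v ∈ C → hammingNorm v ≤ 4 → hammingNorm v = 4) := by
  classical
  set q : (ι → ZMod 2) ⧸ C := Submodule.Quotient.mk w with hq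
  have hset : {v : ι → ZMod 2 | hammingNorm v ≤ 4 ∧ w - v ∈ C}
      = ((cosetLow C q ∪ cosetFour C q : Finset (ι → ZMod 2)) : Set (ι → ZMod 2)) := by
    ext v
    rw [Set.mem_ofPred_eq, mem_coe, mem_union, mem_cosetLow, mem_cosetFour, hq, mk_eq_iff_sub_mem]
    constructor
    · rintro ⟨h1, h2⟩
      by_cases h : hammingNorm v ≤ 3
      · exact Or.inl ⟨h2, h⟩
      · exact Or.inr ⟨h2, by omega⟩
    · rintro (⟨h1, h2⟩ | ⟨h1, h2⟩)
      · exact ⟨by omega, h1⟩
      · exact ⟨by omega, h1⟩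
  rw [hset, Set.ncard_coe_finset]
  rcases coset_dichotomy hC q with ⟨u, hu, h4⟩ | ⟨h3, h4⟩
  · left
    rw [hu, h4, union_empty, card_singleton]
    refine ⟨rfl, u, ?_⟩
    have : u ∈ cosetLow C q := by rw [hu]; exact mem_singleton_self u
    rw [mem_cosetLow, hq, mk_eq_iff_sub_mem] at this
    exact ⟨this.2, this.1⟩
  · right
    rw [h3, empty_union, h4]
    refine ⟨rfl, ?_⟩
    intro v hv hle
    by_contra hne
    have : v ∈ cosetLow C q := by
      rw [mem_cosetLow, hq, mk_eq_iff_sub_mem]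
      exact ⟨hv, by omega⟩
    rw [h3] at this
    exact absurd this (notMem_empty v)

end Cfsg.Agent.Lib.H28
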