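/-
helper28 library: the sextets of an abstract Golay code: every 4-set lies in a unique sextet; there are 1771 sextets.
-/
import Cfsg.Agent.Lib.H28.GolayCount
import Cfsg.Agent.Lib.H28.GolayConcrete
import Cfsg.Prelude.Def_SporadicCombinatorics

set_option autoImplicit false
set_option linter.unusedSectionVars false

namespace Cfsg.Agent.Lib.H28

open Finset

variable {ι : Type*} [Fintype ι] [DecidableEq ι] {C : Submodule (ZMod 2) (ι → ZMod 2)}

/-- Abstract sextets of a code. -/
def absSextets (C : Submodule (ZMod 2) (ι → ZMod 2)) : Set (Finset (Finset ι)) :=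
  {S | S.card = 6 ∧ (∀ t ∈ S, t.card = 4) ∧
    ∀ t ∈ S, ∀ u ∈ S, t ≠ u → t ∪ u ∈ Cfsg.wordsOfWeight (C : Set (ι → ZMod 2)) 8}

theorem sextets_eq_absSextets : Cfsg.sextets = absSextets Cfsg.golayCode := rfl

theorem tetrads_mem_absSextets (hC : IsAbsGolay C) {t : Finset ι} (ht : t.card = 4) :
    tetrads C t ∈ absSextets C :=
  ⟨card_tetrads hC ht, fun _ hu => card_of_mem_tetrads hu,
    fun _ hu _ hv hne => union_tetrads_mem hC hu hv hne⟩

theorem absSextet_eq_tetrads (hC : IsAbsGolay C) {S : Finset (Finset ι)} (hS : S ∈ absSextets C)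
    {t : Finset ι} (ht : t ∈ S) : S = tetrads C t := by
  obtain ⟨h6, h4, hU⟩ := hS
  have ht4 := h4 t ht
  apply eq_of_subset_of_card_le
  · intro u hu
    by_cases hut : u = t
    · rw [hut]; exact self_mem_tetrads ht4
    · have ho := hU u hu t ht hut
      rw [mem_wordsOfWeight_iff] at ho
      have hu4 := h4 u hu
      have hdisj : Disjoint u t := by
        rw [disjoint_iff_inter_eq_empty, ← card_eq_zero]
        have := card_union_add_card_inter u t
        omega
      rw [mem_tetrads]
      refine ⟨hu4, ?_⟩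
      rw [← ind_union_of_disjoint hdisj]
      exact ho.1
  · rw [card_tetrads hC ht4, h6]

theorem existsUnique_absSextet (hC : IsAbsGolay C) (t : Finset ι) (ht : t.card = 4) :
    ∃! S : Finset (Finset ι), S ∈ absSextets C ∧ t ∈ S :=
  ⟨tetrads C t, ⟨tetrads_mem_absSextets hC ht, self_mem_tetrads ht⟩,
    fun _ hS => absSextet_eq_tetrads hC hS.1 hS.2⟩

open Classical in
theorem ncard_absSextets (hC : IsAbsGolay C) : (absSextets C).ncard = 1771 := by
  set SF : Finset (Finset (Finset ι)) := Finset.univ.filter (· ∈ absSextets C) with hSF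
  have hS : (absSextets C) = (SF : Set (Finset (Finset ι))) := by
    ext S; simp [hSF]
  rw [hS, Set.ncard_coe_finset]
  have hunion : (Finset.univ : Finset ι).powersetCard 4 = SF.biUnion id := by
    ext t
    rw [mem_biUnion, mem_powersetCard]
    constructor
    · rintro ⟨-, ht⟩
      refine ⟨tetrads C t, ?_, self_mem_tetrads ht⟩
      rw [hSF, mem_filter]
      exact ⟨mem_univ _, tetrads_mem_absSextets hC ht⟩
    · rintro ⟨S, hS', htS⟩
      rw [hSF, mem_filter] at hS'
      exact ⟨subset_univ _, hS'.2.2.1 t htS⟩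
  have hcard := congrArg Finset.card hunion
  rw [card_powersetCard, card_univ, hC.hcard, card_biUnion] at hcard
  · have h6 : ∀ S ∈ SF, (id S : Finset (Finset ι)).card = 6 := by
      intro S hS'
      rw [hSF, mem_filter] at hS'
      exact hS'.2.1
    rw [sum_congr rfl h6, sum_const, smul_eq_mul] at hcard
    have : Nat.choose 24 4 = 10626 := by norm_num [Nat.choose]
    omega
  · intro S hS' S' hS'' hne
    show Disjoint S S'
    rw [mem_coe, hSF, mem_filter] at hS' hS''
    rw [Finset.disjoint_left]
    intro t ht ht'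
    exact hne ((absSextet_eq_tetrads hC hS'.2 ht).trans (absSextet_eq_tetrads hC hS''.2 ht').symm)

end Cfsg.Agent.Lib.H28
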