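/-
helper28 library: a group of order 72 generated by two commuting elements of order 3 and a quaternion pair normalizing
them has a normal elementary abelian Sylow 3-subgroup of order 9 and quaternion Sylow 2-subgroups.
-/
import Mathlib
import Cfsg.Agent.Lib.H22.DihQuatRecog

set_option autoImplicit false

namespace Cfsg.Agent.Lib.H28

open Cfsg.Agent.Lib.H22

section
variable {H : Type*} [Group H]

/-- Relations for generators of a group of shape `3^2 : Q8`. -/
structure M9Gens (a b r x : H) : Prop where
  a3 : a ^ 3 = 1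
  b3 : b ^ 3 = 1
  ab : a * b = b * a
  a_ne : a ≠ 1
  b_ne : b ≠ 1
  b_ne_a : b ≠ a
  b_ne_a2 : b ≠ a ^ 2
  ra : r * a * r⁻¹ = a ^ 2 * b
  rb : r * b * r⁻¹ = a * b
  xa : x * a * x⁻¹ = a * b
  xb : x * b * x⁻¹ = a * b ^ 2
  r4 : r ^ 4 = 1
  xx : x * x = r ^ 2
  xr : x * r * x⁻¹ = r⁻¹
  r2 : r ^ 2 ≠ 1

theorem M9Gens.map {H' : Type*} [Group H'] (e : H ≃* H') {a b r x : H} (h : M9Gens a b r x) :
    M9Gens (e a) (e b) (e r) (e x) where
  a3 := by have := congrArg e h.a3; simpa only [map_pow, map_one] using this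
  b3 := by have := congrArg e h.b3; simpa only [map_pow, map_one] using this
  ab := by have := congrArg e h.ab; simpa only [map_mul] using this
  a_ne := fun hh => h.a_ne (e.injective (by rw [hh, map_one]))
  b_ne := fun hh => h.b_ne (e.injective (by rw [hh, map_one]))
  b_ne_a := fun hh => h.b_ne_a (e.injective hh)
  b_ne_a2 := fun hh => h.b_ne_a2 (e.injective (by rw [hh, map_pow]))
  ra := by have := congrArg e h.ra; simpa only [map_mul, map_pow, map_inv] using this
  rb := by have := congrArg e h.rb; simpa only [map_mul, map_pow, map_inv] using this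
  xa := by have := congrArg e h.xa; simpa only [map_mul, map_pow, map_inv] using this
  xb := by have := congrArg e h.xb; simpa only [map_mul, map_pow, map_inv] using this
  r4 := by have := congrArg e h.r4; simpa only [map_pow, map_one] using this
  xx := by have := congrArg e h.xx; simpa only [map_mul, map_pow] using this
  xr := by have := congrArg e h.xr; simpa only [map_mul, map_inv] using this
  r2 := fun hh => h.r2 (e.injective (by rw [map_pow, hh, map_one]))

/-- An element conjugating the generators of a finite subgroup into it normalizes it. -/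
theorem mem_normalizer_closure_of_conj_mem [Finite H] {s : Set H} {g : H}
    (hg : ∀ y ∈ s, g * y * g⁻¹ ∈ Subgroup.closure s) :
    g ∈ Subgroup.normalizer ((Subgroup.closure s : Subgroup H) : Set H) := by
  set N := Subgroup.closure s with hN
  have hle : N.map (MulAut.conj g).toMonoidHom ≤ N := by
    rw [hN, MonoidHom.map_closure, Subgroup.closure_le]
    rintro _ ⟨y, hy, rfl⟩
    exact hg y hy
  have hcard : Nat.card (N.map (MulAut.conj g).toMonoidHom) = Nat.card N :=
    Subgroup.card_map_of_injective (MulAut.conj g).injective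
  have heq : N.map (MulAut.conj g).toMonoidHom = N := Subgroup.eq_of_le_of_card_ge hle (by rw [hcard])
  rw [Subgroup.mem_normalizer_iff_map_conj_eq]
  exact heq

theorem quaternion_two_ne_one : ∀ q : QuaternionGroup 2, q ≠ 1 →
    q = QuaternionGroup.a 2 ∨ q ^ 2 = QuaternionGroup.a 2 := by decide

theorem m9_structure [Finite H] (hcard : Nat.card H = 72) {a b r x : H} (h : M9Gens a b r x) :
    (∀ Q : Sylow 3 H, (Q : Subgroup H).Normal ∧ Nat.card ↥Q = 9 ∧ ∀ y ∈ (Q : Subgroup H), y ^ 3 = 1) ∧
    ∀ P : Sylow 2 H, Nonempty (↥P ≃* QuaternionGroup 2) := by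
  classical
  have : Fact (Nat.Prime 3) := ⟨by norm_num⟩
  have : Fact (Nat.Prime 2) := ⟨by norm_num⟩
  have hfac3 : (72 : ℕ).factorization 3 = 2 := by
    have : (72 : ℕ) = 3 ^ 2 * 8 := by norm_num
    rw [this, Nat.factorization_mul (by norm_num) (by norm_num), Finsupp.add_apply,
      Nat.factorization_pow, Finsupp.smul_apply, Nat.Prime.factorization_self Nat.prime_three,
      Nat.factorization_eq_zero_of_not_dvd (by norm_num : ¬ 3 ∣ 8)]
    norm_num
  have hfac2 : (72 : ℕ).factorization 2 = 3 := by
    have : (72 : ℕ) = 2 ^ 3 * 9 := by norm_num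
    rw [this, Nat.factorization_mul (by norm_num) (by norm_num), Finsupp.add_apply,
      Nat.factorization_pow, Finsupp.smul_apply, Nat.Prime.factorization_self Nat.prime_two,
      Nat.factorization_eq_zero_of_not_dvd (by norm_num : ¬ 2 ∣ 9)]
    norm_num
  set N : Subgroup H := Subgroup.closure {a, b} with hN
  have haN : a ∈ N := Subgroup.subset_closure (by simp)
  have hbN : b ∈ N := Subgroup.subset_closure (by simp)
  have hcomm0 : ∀ y ∈ ({a, b} : Set H), ∀ z ∈ ({a, b} : Set H), y * z = z * y := by
    rintro y (rfl | rfl) z (rfl | rfl)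
    · rfl
    · exact h.ab
    · exact h.ab.symm
    · rfl
  have hcomm : ∀ y ∈ N, ∀ z ∈ N, y * z = z * y := by
    intro y hy z hz
    have := (Subgroup.isMulCommutative_closure hcomm0).is_comm.comm ⟨y, hy⟩ ⟨z, hz⟩
    exact congrArg Subtype.val this
  have hexp : ∀ y ∈ N, y ^ 3 = 1 := by
    intro y hy
    induction hy using Subgroup.closure_induction with
    | mem y hy =>
      rcases hy with rfl | rfl
      · exact h.a3
      · exact h.b3
    | one => exact one_pow 3
    | mul y z hy hz ihy ihz =>
      have hc : Commute y z := hcomm y hy z hz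
      rw [hc.mul_pow, ihy, ihz, one_mul]
    | inv y hy ihy => rw [inv_pow, ihy, inv_one]
  have hNp : IsPGroup 3 N := by
    intro y
    refine ⟨1, ?_⟩
    apply Subtype.ext
    rw [pow_one, Subgroup.coe_pow, hexp y.1 y.2]
    rfl
  obtain ⟨Q, hNQ⟩ := hNp.exists_le_sylow
  have hQ9 : Nat.card ↥(Q : Subgroup H) = 9 := by
    have := Sylow.card_eq_multiplicity Q
    rw [hcard, hfac3] at this
    rw [this]
    norm_num
  have hNdvd : Nat.card N ∣ 9 := by
    rw [← hQ9]
    exact Subgroup.card_dvd_of_le hNQ
  have hza : Nat.card (Subgroup.zpowers a) = 3 := by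
    rw [Nat.card_zpowers]
    exact orderOf_eq_prime h.a3 h.a_ne
  have hzaN : Subgroup.zpowers a ≤ N := (Subgroup.zpowers_le).2 haN
  have hb_notin : b ∉ Subgroup.zpowers a := by
    intro hb
    obtain ⟨k, hk⟩ := Subgroup.mem_zpowers_iff.1 hb
    have h3 : orderOf a = 3 := orderOf_eq_prime h.a3 h.a_ne
    have hmod := zpow_mod_orderOf a k
    rw [h3, hk] at hmod
    have hc3 : ((3 : ℕ) : ℤ) = 3 := rfl
    rw [hc3] at hmod
    have hlt : (0 : ℤ) ≤ k % 3 ∧ k % 3 < 3 := ⟨Int.emod_nonneg _ (by norm_num), Int.emod_lt_of_pos _ (by norm_num)⟩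
    obtain e | e | e : k % 3 = 0 ∨ k % 3 = 1 ∨ k % 3 = 2 := by omega
    · rw [e, zpow_zero] at hmod
      exact h.b_ne hmod.symm
    · rw [e, zpow_one] at hmod
      exact h.b_ne_a hmod.symm
    · rw [e, zpow_ofNat] at hmod
      exact h.b_ne_a2 hmod.symm
  have hN9 : Nat.card N = 9 := by
    have hgt : 3 < Nat.card N := by
      by_contra hle
      have := Subgroup.eq_of_le_of_card_ge hzaN (by rw [hza]; omega)
      exact hb_notin (by rw [this]; exact hbN)
    have hle : Nat.card N ≤ 9 := Nat.le_of_dvd (by norm_num) hNdvd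
    interval_cases hc : Nat.card N <;> omega
  have hNeqQ : N = (Q : Subgroup H) := Subgroup.eq_of_le_of_card_ge hNQ (by rw [hQ9, hN9])
  -- the quaternion subgroup
  set f := quaternionLift 2 r x h.r4 h.xx h.xr with hf
  have hfa2 : f (QuaternionGroup.a 2) = r ^ 2 := by
    rw [hf, quaternionLift_a]
    rfl
  have hinj : Function.Injective f := by
    rw [injective_iff_map_eq_one]
    intro q hq
    by_contra hne
    rcases quaternion_two_ne_one q hne with e | e
    · rw [e, hfa2] at hq
      exact h.r2 hq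
    · have : f (q ^ 2) = 1 := by rw [map_pow, hq, one_pow]
      rw [e, hfa2] at this
      exact h.r2 this
  have hP8 : Nat.card f.range = 8 := by
    rw [← Nat.card_congr (MonoidHom.ofInjective hinj).toEquiv, Nat.card_eq_fintype_card, QuaternionGroup.card]
  have hx4 : x ^ 4 = 1 := by
    rw [show x ^ 4 = (x * x) ^ 2 by rw [← pow_two, ← pow_mul], h.xx, ← pow_mul, h.r4]
  -- the normalizer of `N` is everything
  set NN : Subgroup H := Subgroup.normalizer (N : Set H) with hNN
  have hrn : r ∈ NN := by
    apply mem_normalizer_closure_of_conj_mem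
    rintro y (rfl | rfl)
    · rw [h.ra]; exact N.mul_mem (N.pow_mem haN 2) hbN
    · rw [h.rb]; exact N.mul_mem haN hbN
  have hxn : x ∈ NN := by
    apply mem_normalizer_closure_of_conj_mem
    rintro y (rfl | rfl)
    · rw [h.xa]; exact N.mul_mem haN hbN
    · rw [h.xb]; exact N.mul_mem haN (N.pow_mem hbN 2)
  have hPn : f.range ≤ NN := by
    rintro _ ⟨q, rfl⟩
    cases q with
    | a i =>
      rw [hf, quaternionLift_a]
      exact NN.pow_mem hrn _
    | xa i =>
      rw [hf, quaternionLift_xa]
      exact NN.mul_mem hxn (NN.pow_mem hrn _)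
  have h72 : 72 ∣ Nat.card NN := by
    have h9 : 9 ∣ Nat.card NN := by
      rw [← hN9]; exact Subgroup.card_dvd_of_le Subgroup.le_normalizer
    have h8 : 8 ∣ Nat.card NN := by
      rw [← hP8]; exact Subgroup.card_dvd_of_le hPn
    exact Nat.Coprime.mul_dvd_of_dvd_of_dvd (by norm_num : Nat.Coprime 8 9) h8 h9
  have hNnormal : N.Normal := by
    rw [← Subgroup.normalizer_eq_top_iff, ← Subgroup.card_eq_iff_eq_top, hcard]
    have hle : Nat.card NN ≤ 72 := by
      rw [← hcard]; exact Subgroup.card_le_card_group _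
    exact le_antisymm hle (Nat.le_of_dvd Nat.card_pos h72)
  have hQnormal : (Q : Subgroup H).Normal := by rw [← hNeqQ]; exact hNnormal
  refine ⟨?_, ?_⟩
  · intro Q'
    haveI := Sylow.unique_of_normal Q hQnormal
    have hQ' : Q' = Q := Subsingleton.elim _ _
    rw [hQ']
    refine ⟨hQnormal, hQ9, ?_⟩
    intro y hy
    exact hexp y (by rw [hNeqQ]; exact hy)
  · intro P
    have hc : Nat.card f.range = 2 ^ (Nat.card H).factorization 2 := by
      rw [hP8, hcard, hfac2]
      norm_num
    set P0 : Sylow 2 H := Sylow.ofCard f.range hc with hP0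
    obtain ⟨g, hg⟩ := MulAction.exists_smul_eq H P0 P
    have e1 : ↥P0 ≃* ↥P := by
      rw [← hg]
      exact Sylow.equivSMul P0 g
    have e2 : QuaternionGroup 2 ≃* ↥P0 := MonoidHom.ofInjective hinj
    exact ⟨(e2.trans e1).symm⟩

end

end Cfsg.Agent.Lib.H28
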