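import Mathlib
import Cfsg.Agent.Lib.H10.GuA
import Cfsg.Agent.Lib.H13.AschEOGen
import Cfsg.Agent.Lib.H13.AschEOB45

/-!
# S5700 piece (C): spreading

From one singular point `a` whose set `W_a` is larger than the `K`-line `K a`, and the local
statement (B) as a hypothesis, the subgroup `H` contains `Ω(Q)`.
-/

set_option autoImplicit false
set_option linter.unusedSimpArgs false
set_option linter.unusedSectionVars false
set_option linter.unusedVariables false

namespace Cfsg.Agent.Lib.H28.Gu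

open Matrix Module
open Cfsg Cfsg.Geo
open Cfsg.Agent.Lib.H28 Cfsg.Agent.Lib.H11.SubspMax
open Cfsg.Agent.Lib.H11.CD Cfsg.Agent.Lib.H11.SiegelGen Cfsg.Agent.Lib.H11.OrMax
open Cfsg.Agent.Lib.H11.OmTs Cfsg.Agent.Lib.H24.OSf
open Cfsg.Agent.Lib.H10.Gu

section core

variable {F : Type*} [Field F] [Fintype F] {n : ℕ} {Q : QuadraticForm F (Fin n → F)}
  {J : Matrix (Fin n) (Fin n) F} {t N : F} {H : Subgroup (GL (Fin n) F)}

set_option quotPrecheck false in
local notation "P" => QuadraticMap.polar (⇑Q)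

/-- a non-zero vector whose `K`-line is orthogonal to `f` is not on the `K`-line of a vector `e`
pairing to `1` with `f` -/
theorem guC_notin (S : JS Q J t N) {e f b : Fin n → F} (hef : P e f = 1) (hb : b ≠ 0)
    (hbf : P b f = 0) (hJbf : P (J *ᵥ b) f = 0) :
    ¬ ∃ α β : F, b = α • e + β • J *ᵥ e := by
  rintro ⟨α, β, h⟩
  obtain ⟨h1, -⟩ := S.perp_J hbf hJbf
  -- pair with `f` and `J f`
  have e1 : α + β * (t - P e (J *ᵥ f)) = 0 := by
    have := hbf
    rw [h, QuadraticMap.polar_add_left, QuadraticMap.polar_smul_left,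
      QuadraticMap.polar_smul_left, S.PJ e f, hef] at this
    simp only [smul_eq_mul] at this
    linear_combination this
  have e2 : α * P e (J *ᵥ f) + β * N = 0 := by
    have := h1
    rw [h, QuadraticMap.polar_add_left, QuadraticMap.polar_smul_left,
      QuadraticMap.polar_smul_left, S.PJJ e f, hef] at this
    simp only [smul_eq_mul] at this
    linear_combination this
  have e3 : β * (P e (J *ᵥ f) ^ 2 - t * P e (J *ᵥ f) + N) = 0 := by
    linear_combination e2 - P e (J *ᵥ f) * e1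
  have hβ : β = 0 := (mul_eq_zero.1 e3).resolve_right (S.irr _)
  have hα : α = 0 := by rw [hβ] at e1; linear_combination e1
  apply hb
  rw [h, hα, hβ, zero_smul, zero_smul, add_zero]

theorem guC_sg_zero_left (y : Fin n → F) : sg Q 0 y = 1 := by
  apply el_ext
  intro x
  rw [sg_act Q 0 y (map_zero _) (by simp), act_one]
  simp

/-- (C) spreading: from one singular point with `W_a ≠ K a` to all of `Ω` -/
theorem omega_le_of_local (S : JS Q J t N) (hJ : HasJ Q H J)
    (hloc : ∀ a y₀ : Fin n → F, Q a = 0 → a ≠ 0 → InW Q H a y₀ →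
      (¬ ∃ α β : F, y₀ = α • a + β • J *ᵥ a) →
      ∀ x : Fin n → F, P a x = 0 → P (J *ᵥ a) x = 0 → InW Q H a x)
    {a y₀ : Fin n → F} (ha : Q a = 0) (ha0 : a ≠ 0) (hy : InW Q H a y₀)
    (hy' : ¬ ∃ α β : F, y₀ = α • a + β • J *ᵥ a) : omegaGL (⇑Q) ≤ H := by
  have hn := S.hn
  have hQ := S.hQ
  -- Step 1: `W_a ⊇ (K a)^⊥`
  have full_a : ∀ x : Fin n → F, P a x = 0 → P (J *ᵥ a) x = 0 → InW Q H a x :=
    hloc a y₀ ha ha0 hy hy'
  -- Step 2: the same at every singular point
  have full : ∀ b : Fin n → F, Q b = 0 → b ≠ 0 →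
      ∀ x : Fin n → F, P b x = 0 → P (J *ᵥ b) x = 0 → InW Q H b x := by
    intro b hb hb0
    obtain ⟨e, f, hQe, hQf, hef, hve, hvf⟩ :=
      exists_hyp_perp Q hQ ![a, J *ᵥ a, b, J *ᵥ b] (by omega)
    have hae : P a e = 0 := hve 0
    have hJae : P (J *ᵥ a) e = 0 := hve 1
    have hbe : P b e = 0 := hve 2
    have hJbe : P (J *ᵥ b) e = 0 := hve 3
    have haf : P a f = 0 := hvf 0
    have hJaf : P (J *ᵥ a) f = 0 := hvf 1
    have hbf : P b f = 0 := hvf 2
    have hJbf : P (J *ᵥ b) f = 0 := hvf 3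
    have he0 : e ≠ 0 := by
      rintro rfl
      rw [QuadraticMap.polar_zero_left] at hef
      exact zero_ne_one hef
    -- `e ∈ W_a`, so `a ∈ W_e`, and `a ∉ K e`
    have h1 : InW Q H e a := (full_a e hae hJae).swap ha hQe
    have h2 : ∀ x : Fin n → F, P e x = 0 → P (J *ᵥ e) x = 0 → InW Q H e x :=
      hloc e a hQe he0 h1 (guC_notin S hef ha0 haf hJaf)
    -- `b ∈ W_e`
    have heb : P e b = 0 := by rw [P_comm]; exact hbe
    have hJeb : P (J *ᵥ e) b = 0 := by
      rw [S.PJ, heb, P_comm Q e (J *ᵥ b), hJbe]; ring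
    have h3 : InW Q H b e := (h2 b heb hJeb).swap hQe hb
    -- `e ∉ K b`
    have h4 : ¬ ∃ α β : F, e = α • b + β • J *ᵥ b := by
      rintro ⟨α, β, h⟩
      have := hef
      rw [h, QuadraticMap.polar_add_left, QuadraticMap.polar_smul_left,
        QuadraticMap.polar_smul_left, hbf, hJbf] at this
      simp at this
    exact hloc b e hb hb0 h3 h4
  -- Step 3: `W_b = b^⊥` at every singular point
  have all : ∀ b : Fin n → F, Q b = 0 → b ≠ 0 → ∀ x : Fin n → F, P b x = 0 → InW Q H b x := by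
    intro b hb hb0 x hbx
    have hli : LinearIndependent F ![b, J *ᵥ b] := by
      rw [LinearIndependent.pair_iff]
      intro α β h
      exact S.comb_eq_zero hb0 h
    obtain ⟨b', hQb', hb'⟩ := exists_sing_pairing (Q := Q) hQ ![b, J *ᵥ b] hli ![0, 1] (by omega)
    have hb'b : P b' b = 0 := hb' 0
    have hb'Jb : P b' (J *ᵥ b) = 1 := hb' 1
    have hb'0 : b' ≠ 0 := by
      rintro rfl
      rw [QuadraticMap.polar_zero_left] at hb'Jb
      exact zero_ne_one hb'Jb
    obtain ⟨e, f, hQe, hQf, hef, hve, hvf⟩ :=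
      exists_hyp_perp Q hQ ![b, J *ᵥ b, b', J *ᵥ b'] (by omega)
    have hbe : P b e = 0 := hve 0
    have hJbe : P (J *ᵥ b) e = 0 := hve 1
    have hb'f : P b' f = 0 := hvf 2
    have hJb'f : P (J *ᵥ b') f = 0 := hvf 3
    have hb'e : P b' e = 0 := hve 2
    have hbf : P b f = 0 := hvf 0
    have hbb' : P b b' = 0 := by rw [P_comm]; exact hb'b
    have h1 : InW Q H b b' :=
      InW.comm hb hQb' hbb' (full b hb hb0 e hbe hJbe) (full b' hQb' hb'0 f hb'f hJb'f)
        (by rw [P_comm]; exact hb'e) (by rw [P_comm]; exact hbf) (by rw [hef]; exact one_ne_zero)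
    have h2 : InW Q H b (x - P (J *ᵥ b) x • b') := by
      apply full b hb hb0
      · rw [QuadraticMap.polar_sub_right, QuadraticMap.polar_smul_right, hbx, hbb']; simp
      · rw [QuadraticMap.polar_sub_right, QuadraticMap.polar_smul_right, P_comm Q (J *ᵥ b) b',
          hb'Jb]; simp
    have h3 := h2.add hb (h1.smul (P (J *ᵥ b) x))
    rwa [sub_add_cancel] at h3
  -- Step 4: all singular vectors are centres
  apply omega_le_of_Cen Q H hQ (by omega)
  intro z hz
  refine ⟨hz, fun y hzy => ?_⟩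
  by_cases hz0 : z = 0
  · rw [hz0, guC_sg_zero_left]
    exact H.one_mem
  · exact (all z hz hz0 y hzy).inH

end core

end Cfsg.Agent.Lib.H28.Gu
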