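import Mathlib
import Cfsg.Prelude.Def_LieTypeChar
import Cfsg.Prelude.Def_EvenType
import Cfsg.Agent.Lib.H13.IRDefs
import Cfsg.Agent.Lib.H13.AutPSU8

/-!
# S2926 piece PSU: `PSU_n(q)`, `q` even, is `InvRigid` (even `FixRigid`)

Route A on helper13's `AutPSU1`-`AutPSU8`.  `R` = image of the group `Q_e` of Eichler transformations with an isotropic centre
`e`.  Every automorphism is `cU hg σ` (`x ↦ g σ(x) g⁻¹`).  If it fixes `R` elementwise then, as central elements of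
`2`-power order are trivial, `semiSU hg σ` fixes `Q_e` elementwise; evaluating on the hyperbolic partner `f` of `e` gives
`T e = l • e`, `T w = (τ l)⁻¹ • w + c • e` on `e^⊥` (`T = smv g σ`), whence `σ = 1`, `l * τ l = 1` and `g = l • ρ` with
`ρ ∈ Q_e`; so the automorphism is conjugation by `pr ρ`.
-/

set_option autoImplicit false

namespace Cfsg.Agent.Lib.H28.IR

open Cfsg Cfsg.Agent.Lib.H13.IR Cfsg.Agent.Lib.H13.AutPSU Matrix

section

variable {F : Type*} [Field F] {n q : ℕ} (D : UF F q)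

include D in
/-- two elements of `SU` of order dividing `4` with the same image in `PSU` are equal (characteristic `2`) -/
theorem irpsu_eq_of_pr_eq [CharP F 2] (hn : 2 ≤ n) {s t : ↥(Cfsg.SU n F q)} (h : pr t = pr s)
    (hs : s ^ (2 ^ 2) = 1) (ht : t ^ (2 ^ 2) = 1) : t = s := by
  have : Fact (Nat.Prime 2) := ⟨Nat.prime_two⟩
  have hz : t⁻¹ * s ∈ Subgroup.center ↥(Cfsg.SU n F q) := pr_eq_pr_iff.1 h
  have hcomm : Commute t (t⁻¹ * s) := Subgroup.mem_center_iff.1 hz t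
  have hpow : (t⁻¹ * s) ^ (2 ^ 2) = 1 := by
    have h1 : t * (t⁻¹ * s) = s := by group
    have h2 := hs
    rw [← h1, hcomm.mul_pow, ht, one_mul] at h2
    exact h2
  have h3 := eq_one_of_center_of_pow D hn 2 hz hpow
  exact inv_mul_eq_one.1 h3

/-- a semilinear unitary automorphism fixing the image of `Q_e` elementwise is inner -/
theorem irpsu_core [CharP F 2] (hn : 3 ≤ n) {e : Fin n → F} (he0 : e ≠ 0) (he : H D e e = 0)
    {g : GL (Fin n) F} (hg : g ∈ Cfsg.GU n F q) (σ : F ≃+* F)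
    (hfix : ∀ x ∈ (Qg D e).map pr, cU hg σ x = x) :
    cU hg σ ∈ Cfsg.Inn (Cfsg.PSU n F q) := by
  have : Fact (Nat.Prime 2) := ⟨Nat.prime_two⟩
  obtain ⟨T, hT⟩ : ∃ T : (Fin n → F) → (Fin n → F), T = smv (g : Matrix (Fin n) (Fin n) F) σ :=
    ⟨_, rfl⟩
  have hTH : ∀ x y, H D (T x) (T y) = σ (H D x y) := by
    intro x y; rw [hT]; exact H_smv D hg σ x y
  have hTadd : ∀ x y, T (x + y) = T x + T y := by
    intro x y; rw [hT]; exact smv_add _ _ _ _
  have hTsmul : ∀ c x, T (c • x) = σ c • T x := by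
    intro c x; rw [hT]; exact smv_smul _ _ _ _
  have hT0 : T 0 = 0 := by rw [hT]; exact smv_zero _ _
  -- the basic identity
  have E1 : ∀ w b, ELOK D e w b → ∀ x,
      x + H D x (T e) • T w - H D x (T w) • T e + (σ b * H D x (T e)) • T e =
        x + H D x e • w - H D x w • e + (b * H D x e) • e := by
    intro w b h x
    have hmem : EL D e w b ∈ Qg D e := EL_mem_Qg D h
    have h1 : pr (semiSU hg σ (EL D e w b)) = pr (EL D e w b) := by
      rw [← cU_pr]
      exact hfix _ (Subgroup.mem_map_of_mem _ hmem)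
    have h2 : semiSU hg σ (EL D e w b) = EL D e w b := by
      apply irpsu_eq_of_pr_eq D (by omega) h1 (Qg_pow D 2 h.1 hmem)
      rw [← map_pow, Qg_pow D 2 h.1 hmem, map_one]
    rw [semiSU_EL D h hg σ] at h2
    have h3 : sv (EL D (smv (g : Matrix (Fin n) (Fin n) F) σ e) (smv (g : Matrix (Fin n) (Fin n) F) σ w) (σ b)) x =
        sv (EL D e w b) x := by rw [h2]
    rw [sv_EL D (h.smv D hg σ), sv_EL D h, ← hT] at h3
    exact h3
  obtain ⟨f, hf, hfe, hef⟩ := exists_partner D he0 he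
  obtain ⟨a, ha, ha0⟩ := exists_skew_ne_zero D
  have hELa : ELOK D e 0 a := (ELOK_zero_iff D).2 ⟨he, ha⟩
  -- Step A: `T e = lam • e`
  have hA : ∀ x, (σ a * H D x (T e)) • T e = (a * H D x e) • e := by
    intro x
    have h1 := E1 0 a hELa x
    rw [hT0] at h1
    simpa using h1
  obtain ⟨lam, hlam0, hTe⟩ : ∃ lam : F, lam ≠ 0 ∧ T e = lam • e := by
    have h1 := hA f
    rw [hfe, mul_one] at h1
    have hm : σ a * H D f (T e) ≠ 0 := by
      intro h0
      rw [h0, zero_smul] at h1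
      exact (smul_ne_zero ha0 he0) h1.symm
    refine ⟨(σ a * H D f (T e))⁻¹ * a, mul_ne_zero (inv_ne_zero hm) ha0, ?_⟩
    rw [← smul_smul, ← h1, smul_smul, inv_mul_cancel₀ hm, one_smul]
  have htl0 : D.τ lam ≠ 0 := (map_ne_zero D.τ).2 hlam0
  have hfTe : H D f (T e) = D.τ lam := by rw [hTe, H_smul_right, hfe, mul_one]
  have hinj : ∀ c c' : F, c • e = c' • e → c = c' := fun c c' h => smul_left_injective F he0 h
  have hAa : σ a * D.τ lam * lam = a := by
    have h1 := hA f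
    rw [hfTe, hfe, mul_one, hTe, smul_smul] at h1
    exact hinj _ _ h1
  -- Step B: `T w = (τ lam)⁻¹ • w + c • e` on `e^⊥`
  have hB : ∀ w : Fin n → F, H D w e = 0 → ∃ c : F, T w = (D.τ lam)⁻¹ • w + c • e := by
    intro w hw
    obtain ⟨b, hb⟩ := exists_ELOK D he hw
    have h1 := E1 w b hb f
    rw [hfTe, hfe, mul_one, one_smul, hTe] at h1
    have h2 : D.τ lam • T w = (f + w - H D f w • e + b • e) - f + H D f (T w) • lam • e
        - (σ b * D.τ lam) • lam • e := by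
      rw [← h1]; abel
    refine ⟨(D.τ lam)⁻¹ * (- H D f w + b + H D f (T w) * lam - σ b * D.τ lam * lam), ?_⟩
    calc T w = (D.τ lam)⁻¹ • (D.τ lam • T w) := by
          rw [smul_smul, inv_mul_cancel₀ htl0, one_smul]
      _ = (D.τ lam)⁻¹ • ((f + w - H D f w • e + b • e) - f + H D f (T w) • lam • e
        - (σ b * D.τ lam) • lam • e) := by rw [← h2]
      _ = _ := by module
  -- Step C: `σ = 1`
  obtain ⟨w₁, hw₁0, hw₁e, hw₁f⟩ := exists_perp₂ D hn e f
  obtain ⟨c₁, hc₁⟩ := hB w₁ hw₁e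
  have hs : ∀ s, σ s = s := by
    intro s
    obtain ⟨c₂, hc₂⟩ := hB (s • w₁) (by rw [H_smul_left, hw₁e, mul_zero])
    rw [hTsmul, hc₁] at hc₂
    have h4 := congrArg (fun v => H D v f) hc₂
    simp only [H_add_left, H_smul_left, hw₁f, hef, mul_zero, mul_one, zero_add] at h4
    have h5 : ((σ s - s) * (D.τ lam)⁻¹) • w₁ = 0 := by
      calc ((σ s - s) * (D.τ lam)⁻¹) • w₁
          = σ s • ((D.τ lam)⁻¹ • w₁ + c₁ • e) - ((D.τ lam)⁻¹ • s • w₁ + c₂ • e)
            + (c₂ - σ s * c₁) • e := by module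
        _ = 0 := by rw [hc₂, h4, sub_self, sub_self, zero_smul, add_zero]
    rcases smul_eq_zero.1 h5 with h6 | h6
    · rcases mul_eq_zero.1 h6 with h7 | h7
      · exact sub_eq_zero.1 h7
      · exact absurd h7 (inv_ne_zero htl0)
    · exact absurd h6 hw₁0
  have hnorm : D.τ lam * lam = 1 := by
    rw [hs] at hAa
    have h1 : a * (D.τ lam * lam - 1) = 0 := by linear_combination hAa
    rcases mul_eq_zero.1 h1 with h2 | h2
    · exact absurd h2 ha0
    · exact sub_eq_zero.1 h2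
  have hinv : (D.τ lam)⁻¹ = lam := inv_eq_of_mul_eq_one_right hnorm
  have hlin : ∀ (c : F) (x : Fin n → F), T (c • x) = c • T x := by
    intro c x; rw [hTsmul, hs]
  -- Step D: `T = lam • ρ` with `ρ ∈ Q_e`
  obtain ⟨y, hy⟩ : ∃ y : Fin n → F, y = lam⁻¹ • T f := ⟨_, rfl⟩
  have hTf : T f = lam • y := by rw [hy, smul_smul, mul_inv_cancel₀ hlam0, one_smul]
  have hye : H D y e = 1 := by
    have h1 := hTH f e
    rw [hfe, map_one, hTe, H_smul_right, hTf, H_smul_left] at h1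
    have h2 : D.τ lam * lam * H D y e = 1 := by linear_combination h1
    rw [hnorm, one_mul] at h2
    exact h2
  have hyy : H D y y = 0 := by
    have h1 := hTH f f
    rw [hf, map_zero, hTf, H_smul_left, H_smul_right] at h1
    rcases mul_eq_zero.1 h1 with h2 | h2
    · exact absurd h2 hlam0
    · rcases mul_eq_zero.1 h2 with h3 | h3
      · exact absurd h3 htl0
      · exact h3
  obtain ⟨b₀, hb₀⟩ : ∃ b₀ : F, b₀ = H D y f := ⟨_, rfl⟩
  obtain ⟨w₀, hw₀⟩ : ∃ w₀ : Fin n → F, w₀ = y - f - b₀ • e := ⟨_, rfl⟩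
  have hw₀e : H D w₀ e = 0 := by
    rw [hw₀]
    simp only [H_sub_left, H_smul_left, hye, hfe, he]
    ring
  have hw₀f : H D w₀ f = 0 := by
    rw [hw₀]
    simp only [H_sub_left, H_smul_left, ← hb₀, hf, hef]
    ring
  have hew₀ : H D e w₀ = 0 := H_eq_zero_symm D hw₀e
  have hfw₀ : H D f w₀ = 0 := H_eq_zero_symm D hw₀f
  have hyd : y = f + w₀ + b₀ • e := by rw [hw₀]; abel
  have hρ : ELOK D e w₀ b₀ := by
    refine ⟨he, hw₀e, ?_⟩
    have h1 := hyy
    rw [hyd] at h1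
    simp only [H_add_left, H_add_right, H_smul_left, H_smul_right, hf, hfe, hef, he, hw₀e, hw₀f,
      hew₀, hfw₀, mul_zero, mul_one, add_zero, zero_add] at h1
    linear_combination h1
  obtain ⟨ρ, hρdef⟩ : ∃ ρ : ↥(Cfsg.SU n F q), ρ = EL D e w₀ b₀ := ⟨_, rfl⟩
  have hsvρ : ∀ x, sv ρ x = x + H D x e • w₀ - H D x w₀ • e + (b₀ * H D x e) • e := by
    intro x; rw [hρdef]; exact sv_EL D hρ x
  have key_e : T e = lam • sv ρ e := by
    rw [hTe, hsvρ, he, hew₀]
    module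
  have key_f : T f = lam • sv ρ f := by
    rw [hTf, hsvρ, hfe, hfw₀, hyd]
    module
  have key₀ : ∀ x₀, H D x₀ e = 0 → H D x₀ f = 0 → T x₀ = lam • sv ρ x₀ := by
    intro x₀ h1 h2
    obtain ⟨c, hc⟩ := hB x₀ h1
    rw [hinv] at hc
    have h3 := hTH x₀ f
    rw [h2, map_zero, hc, hTf, hyd] at h3
    simp only [H_add_left, H_add_right, H_smul_left, H_smul_right, hef, he, h1, h2,
      hew₀, mul_zero, mul_one, add_zero, zero_add] at h3
    have h4 : D.τ lam * (lam * H D x₀ w₀ + c) = 0 := by linear_combination h3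
    have h5 : c = - (lam * H D x₀ w₀) := by
      rcases mul_eq_zero.1 h4 with h6 | h6
      · exact absurd h6 htl0
      · linear_combination h6
    rw [hc, hsvρ, h1, h5]
    module
  have key : ∀ x, T x = lam • sv ρ x := by
    intro x
    obtain ⟨hx₀e, hx₀f⟩ := decomp_hyp D hef hfe he hf x
    obtain ⟨x₀, hx₀⟩ : ∃ x₀ : Fin n → F, x₀ = x - H D x f • e - H D x e • f := ⟨_, rfl⟩
    rw [← hx₀] at hx₀e hx₀f
    have hxd : x = x₀ + H D x f • e + H D x e • f := by rw [hx₀]; abel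
    have h1 : T x = T x₀ + H D x f • T e + H D x e • T f := by
      conv_lhs => rw [hxd]
      rw [hTadd, hTadd, hlin, hlin]
    have h2 : sv ρ x = sv ρ x₀ + H D x f • sv ρ e + H D x e • sv ρ f := by
      conv_lhs => rw [hxd]
      rw [sv_add, sv_add, sv_smul, sv_smul]
    rw [h1, h2, key₀ x₀ hx₀e hx₀f, key_e, key_f]
    module
  -- conclusion
  refine mem_inn_of_forall _ (pr ρ) ?_
  intro z
  obtain ⟨s, rfl⟩ := pr_surjective z
  rw [cU_pr, ← map_inv, ← map_mul, ← map_mul]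
  congr 1
  apply ext_sv
  intro v
  obtain ⟨x, rfl⟩ := smv_surjective g σ v
  rw [sv_semiSU, ← hT, key (sv s x), key x, sv_mul, sv_mul, sv_smul, sv_inv_sv, sv_smul, sv_smul]

end

/-- PSU -/
theorem invRigid_PSU (F : Type*) [Field F] [Fintype F] [CharP F 2] (n q : ℕ)
    (hF : Fintype.card F = q ^ 2) (hn : 3 ≤ n) (h32 : ¬ (n = 3 ∧ q = 2)) : InvRigid (PSU n F q) := by
  classical
  have : Fact (Nat.Prime 2) := ⟨Nat.prime_two⟩
  obtain ⟨f, hq⟩ : ∃ f, q = 2 ^ f := by
    obtain ⟨k, -, hk⟩ := FiniteField.card F 2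
    have h1 : q ∣ 2 ^ (k : ℕ) := by
      rw [← hk, hF]
      exact dvd_pow_self q two_ne_zero
    obtain ⟨m, -, hm⟩ := (Nat.dvd_prime_pow Nat.prime_two).1 h1
    exact ⟨m, hm⟩
  obtain ⟨D⟩ : Nonempty (UF F q) := ⟨UF.ofCard hq hF⟩
  obtain ⟨e, he0, he⟩ := exists_isotropic D (by omega : 2 ≤ n)
  apply FixRigid.invRigid
  refine fixRigid_of_pgroup ((Qg D e).map pr) ((isPGroup_Qg D 2 he).map pr) ?_
  intro β hβ
  obtain ⟨g, hg, σ, rfl⟩ := isSemi_of_card hq hF hn h32 β
  exact irpsu_core D hn he0 he hg σ hβ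

end Cfsg.Agent.Lib.H28.IR
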