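import Mathlib
import Cfsg.Prelude.Def_LieExceptional
import Cfsg.Agent.Lib.H13.IRDefs
import Cfsg.Agent.Lib.H2.BN5

/-!
# S2926, generic tools for the Tits group piece (route B inside a subgroup `T` of an ambient group `Γ` with a `(B, N)`-pair)

* `mem_normalizer_closure_of_conj` : an element mapping a set into itself by conjugation normalizes the generated subgroup
  (finite group);
* `no_crossing` : `B` normalizes `Q`, `q₀ ∈ Q`, and `n q₀ n⁻¹` is not `B`-conjugate to `q₀`: then no element `b n b'` centralizes `Q`;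
* `mem_B_or_mem_C_of_not_mem` : a subgroup `M ≥ B` of a group with a `(B, N)`-pair whose distinguished generators lie in `{s, s'}`,
  with `s' ∉ M`, `s² = 1`, is contained in `B ∪ B s B`;
* `centralizer_le_B` : the combination (`C_Γ(Q) ≤ B`);
* `sup_eq_of_normal` : `N₁ ⊔ N₂ = T` from normality;
* `invRigid_subgroup_of_two` : `InvRigid ↥T` from data in the ambient group (wrapper of helper13's `invRigid_of_family`).
-/

set_option autoImplicit false

namespace Cfsg.Agent.Lib.H28.IRS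

open Cfsg Cfsg.Agent.Lib.H13.IR Cfsg.Agent.Lib.H2.BN

section generic

variable {G : Type*} [Group G]

/-- conjugation by `g ^ k` maps `L` into itself -/
theorem conj_pow_mem (L : Set G) (g : G) (h : ∀ x ∈ L, g * x * g⁻¹ ∈ L) (k : ℕ) :
    ∀ x ∈ L, g ^ k * x * (g ^ k)⁻¹ ∈ L := by
  induction k with
  | zero => intro x hx; simpa using hx
  | succ k ih =>
    intro x hx
    have h1 := h _ (ih x hx)
    have e : g ^ (k + 1) * x * (g ^ (k + 1))⁻¹ = g * (g ^ k * x * (g ^ k)⁻¹) * g⁻¹ := by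
      rw [pow_succ']; group
    rw [e]; exact h1

/-- conjugation by `g` maps `closure L` into itself -/
theorem conj_closure_mem (L : Set G) (g : G) (h : ∀ x ∈ L, g * x * g⁻¹ ∈ L) :
    ∀ x ∈ Subgroup.closure L, g * x * g⁻¹ ∈ Subgroup.closure L := by
  intro x hx
  have hle : Subgroup.closure L ≤ (Subgroup.closure L).comap (MulAut.conj g).toMonoidHom := by
    rw [Subgroup.closure_le]
    intro y hy
    show (MulAut.conj g) y ∈ Subgroup.closure L
    rw [MulAut.conj_apply]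
    exact Subgroup.subset_closure (h y hy)
  have := hle hx
  rwa [Subgroup.mem_comap, MulEquiv.coe_toMonoidHom, MulAut.conj_apply] at this

/-- in a finite group an element mapping `L` into itself by conjugation normalizes `closure L` -/
theorem mem_normalizer_closure_of_conj [Finite G] (L : Set G) (g : G) (h : ∀ x ∈ L, g * x * g⁻¹ ∈ L) :
    g ∈ Subgroup.normalizer ((Subgroup.closure L : Subgroup G) : Set G) := by
  rw [Subgroup.mem_normalizer_iff]
  intro x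
  constructor
  · exact conj_closure_mem L g h x
  · intro hx
    obtain ⟨k, hk⟩ : ∃ k : ℕ, g ^ k = g⁻¹ := by
      refine ⟨orderOf g - 1, ?_⟩
      have h1 : 0 < orderOf g := orderOf_pos g
      have h2 : g ^ (orderOf g - 1) * g = 1 := by
        rw [← pow_succ, Nat.sub_add_cancel h1, pow_orderOf_eq_one]
      exact eq_inv_of_mul_eq_one_left h2
    have h3 := conj_closure_mem L (g ^ k) (conj_pow_mem L g h k) _ hx
    rw [hk, inv_inv] at h3
    have e : g⁻¹ * (g * x * g⁻¹) * g = x := by group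
    rwa [e] at h3

/-- **no crossing**: `B` normalizes `Q`, `q₀ ∈ Q`, and `n q₀ n⁻¹` is not a `B`-conjugate of `q₀`.
Then no element of `B n B` centralizes `Q`. -/
theorem no_crossing (B Q : Subgroup G) (hBQ : ∀ b ∈ B, ∀ q ∈ Q, b * q * b⁻¹ ∈ Q) (n q₀ : G) (hq₀ : q₀ ∈ Q)
    (hn : ∀ b ∈ B, n * q₀ * n⁻¹ ≠ b * q₀ * b⁻¹) (b b' : G) (hb : b ∈ B) (hb' : b' ∈ B)
    (hc : ∀ q ∈ Q, q * (b * n * b') = (b * n * b') * q) : False := by
  have h1 : b'⁻¹ * q₀ * b' ∈ Q := by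
    have := hBQ b'⁻¹ (inv_mem hb') q₀ hq₀
    rwa [inv_inv] at this
  have h2 := hc _ h1
  apply hn ((b' * b)⁻¹) (inv_mem (mul_mem hb' hb))
  have h3 : n * q₀ = b⁻¹ * (b * n * b' * (b'⁻¹ * q₀ * b')) * b'⁻¹ := by group
  rw [← h2] at h3
  calc n * q₀ * n⁻¹ = b⁻¹ * (b'⁻¹ * q₀ * b' * (b * n * b')) * b'⁻¹ * n⁻¹ := by rw [h3]
    _ = (b' * b)⁻¹ * q₀ * ((b' * b)⁻¹)⁻¹ := by group

end generic

section bn

variable {G : Type*} [Group G] (P : BNPair G)

/-- a subgroup `M ≥ B` not containing `s'`, where `S ⊆ {s, s'}` and `s² = 1`, lies in `B ∪ B s B` -/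
theorem mem_B_or_mem_C_of_not_mem (s s' : G) (hS : ∀ t ∈ P.S, t = s ∨ t = s') (hss : s * s = 1)
    (M : Subgroup G) (hBM : P.B ≤ M) (hs' : s' ∉ M) (c : G) (hc : c ∈ M) :
    c ∈ P.B ∨ ∃ b ∈ P.B, ∃ b' ∈ P.B, c = b * s * b' := by
  have hM := eq_parabolic_of_le (P := P) M hBM
  have hJ : {t | t ∈ P.S ∧ t ∈ M} ⊆ P.S := fun t ht => ht.1
  rw [hM] at hc
  obtain ⟨n, hn, hcn⟩ := (mem_parabolic_iff hJ c).1 hc
  have hle : Subgroup.closure {t | t ∈ P.S ∧ t ∈ M} ≤ Subgroup.zpowers s := by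
    rw [Subgroup.closure_le]
    rintro t ⟨ht1, ht2⟩
    rcases hS t ht1 with rfl | rfl
    · exact Subgroup.mem_zpowers t
    · exact absurd ht2 hs'
  obtain ⟨k, rfl⟩ := Subgroup.mem_zpowers_iff.1 (hle hn)
  have hsinv : s⁻¹ = s := inv_eq_of_mul_eq_one_right hss
  have hk : s ^ k = 1 ∨ s ^ k = s := by
    rcases Int.even_or_odd k with ⟨j, rfl⟩ | ⟨j, rfl⟩
    · left
      rw [← two_mul, zpow_mul, zpow_two, hss, one_zpow]
    · right
      rw [zpow_add, zpow_one, zpow_mul, zpow_two, hss, one_zpow, one_mul]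
  rcases hk with hk | hk
  · left
    rw [hk] at hcn
    exact mem_C_one_iff.1 hcn
  · right
    rw [hk] at hcn
    exact mem_C_iff.1 hcn

/-- **`C_G(Q) ≤ B`**: `Q ≤ B` is normalized by `B` and by `s`, it is not normal in `G` (`B` has trivial core and `Q ≠ ⊥`), and some
`q₀ ∈ Q` has `s q₀ s⁻¹` not `B`-conjugate to `q₀`. -/
theorem centralizer_le_B [Finite G] (s s' : G) (hS : ∀ t ∈ P.S, t = s ∨ t = s') (hsS : s ∈ P.S) (hs'S : s' ∈ P.S)
    (hss : s * s = 1) (hcore : P.B.normalCore = ⊥) (Q : Subgroup G) (hQB : Q ≤ P.B) (hQ : Q ≠ ⊥)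
    (hBQ : P.B ≤ Subgroup.normalizer (Q : Set G)) (hsQ : s ∈ Subgroup.normalizer (Q : Set G))
    (q₀ : G) (hq₀ : q₀ ∈ Q) (hn : ∀ b ∈ P.B, s * q₀ * s⁻¹ ≠ b * q₀ * b⁻¹)
    (c : G) (hc : ∀ q ∈ Q, q * c = c * q) : c ∈ P.B := by
  -- the normalizer of `Q`
  have hcN : c ∈ Subgroup.normalizer (Q : Set G) := by
    rw [Subgroup.mem_normalizer_iff]
    intro q
    constructor
    · intro hq
      have e : c * q * c⁻¹ = q := by rw [← hc q hq]; group
      rw [e]; exact hq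
    · intro hq
      have e : q = c * q * c⁻¹ := by
        have := hc _ hq
        calc q = c⁻¹ * (c * q * c⁻¹ * c) := by group
          _ = c⁻¹ * (c * (c * q * c⁻¹)) := by rw [this]
          _ = c * q * c⁻¹ := by group
      rw [e]; exact hq
  have hs' : s' ∉ Subgroup.normalizer (Q : Set G) := by
    intro hs'
    apply hQ
    have htop : Subgroup.normalizer (Q : Set G) = ⊤ := by
      rw [eq_top_iff, ← parabolic_S (P := P)]
      unfold BNPair.parabolic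
      apply sup_le hBQ
      rw [Subgroup.closure_le]
      intro t ht
      rcases hS t ht with rfl | rfl
      · exact hsQ
      · exact hs'
    have hnorm : Q.Normal := Subgroup.normalizer_eq_top_iff.1 htop
    have := (Subgroup.normal_le_normalCore (H := P.B) (N := Q)).2 hQB
    rw [hcore] at this
    exact le_bot_iff.1 this
  rcases mem_B_or_mem_C_of_not_mem P s s' hS hss _ hBQ hs' c hcN with h | ⟨b, hb, b', hb', rfl⟩
  · exact h
  · exfalso
    refine no_crossing P.B Q ?_ s q₀ hq₀ hn b b' hb hb' hc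
    intro b hb q hq
    exact (Subgroup.mem_normalizer_iff.1 (hBQ hb) q).1 hq

end bn

section gen

variable {G : Type*} [Group G]

/-- `N₁ ⊔ N₂ = T`: `N₁, N₂ ≤ T` are normalized by `B`, `N₁ ⊔ N₂ ⊔ B = ⊤`, `N₁ ≠ ⊥`, and every nontrivial normal subgroup contains `T` -/
theorem sup_eq_of_normal (T B N₁ N₂ : Subgroup G) (h₁ : N₁ ≤ T) (h₂ : N₂ ≤ T)
    (hB₁ : B ≤ Subgroup.normalizer (N₁ : Set G)) (hB₂ : B ≤ Subgroup.normalizer (N₂ : Set G))
    (htop : N₁ ⊔ N₂ ⊔ B = ⊤) (hne : N₁ ≠ ⊥)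
    (hT : ∀ M : Subgroup G, M.Normal → M ≠ ⊥ → T ≤ M) : N₁ ⊔ N₂ = T := by
  apply le_antisymm (sup_le h₁ h₂)
  apply hT
  · -- normality
    rw [← Subgroup.normalizer_eq_top_iff, eq_top_iff, ← htop]
    apply sup_le Subgroup.le_normalizer
    intro b hb
    rw [Subgroup.mem_normalizer_iff]
    have key : ∀ g : G, g ∈ Subgroup.normalizer (N₁ : Set G) → g ∈ Subgroup.normalizer (N₂ : Set G) →
        ∀ x ∈ N₁ ⊔ N₂, g * x * g⁻¹ ∈ N₁ ⊔ N₂ := by
      intro g hg1 hg2 x hx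
      have hle : N₁ ⊔ N₂ ≤ (N₁ ⊔ N₂).comap (MulAut.conj g).toMonoidHom := by
        apply sup_le
        · intro y hy
          rw [Subgroup.mem_comap, MulEquiv.coe_toMonoidHom, MulAut.conj_apply]
          exact Subgroup.mem_sup_left ((Subgroup.mem_normalizer_iff.1 hg1 y).1 hy)
        · intro y hy
          rw [Subgroup.mem_comap, MulEquiv.coe_toMonoidHom, MulAut.conj_apply]
          exact Subgroup.mem_sup_right ((Subgroup.mem_normalizer_iff.1 hg2 y).1 hy)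
      have := hle hx
      rwa [Subgroup.mem_comap, MulEquiv.coe_toMonoidHom, MulAut.conj_apply] at this
    intro x
    constructor
    · exact key b (hB₁ hb) (hB₂ hb) x
    · intro hx
      have := key b⁻¹ (inv_mem (hB₁ hb)) (inv_mem (hB₂ hb)) _ hx
      rw [inv_inv] at this
      have e : b⁻¹ * (b * x * b⁻¹) * b = x := by group
      rwa [e] at this
  · intro h
    apply hne
    rw [eq_bot_iff, ← h]
    exact le_sup_left

end gen

section main

variable {Γ : Type*} [Group Γ] [Finite Γ]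

/-- **`InvRigid ↥T` from data in the ambient group `Γ`**: `B` a `2`-subgroup with `B ⊓ T` of odd index in `T`; `B ≤ P_i`;
`Q_i ≤ B ⊓ T` normalized by `P_i ⊓ T`; `C_T(Q_i) ≤ B`; `⟨P₁ ⊓ T, P₂ ⊓ T⟩ = T`; and every involution of `Z(B ⊓ T)` centralizes `P₂ ⊓ T`. -/
theorem invRigid_subgroup_of_two (T B P₁ P₂ Q₁ Q₂ : Subgroup Γ)
    (hB2 : IsPGroup 2 B) (hidx : ¬ 2 ∣ ((B ⊓ T).subgroupOf T).index)
    (hBP₁ : B ≤ P₁) (hBP₂ : B ≤ P₂)
    (hQ₁ : Q₁ ≤ B ⊓ T) (hQ₂ : Q₂ ≤ B ⊓ T)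
    (hN₁ : P₁ ⊓ T ≤ Subgroup.normalizer (Q₁ : Set Γ)) (hN₂ : P₂ ⊓ T ≤ Subgroup.normalizer (Q₂ : Set Γ))
    (hC₁ : ∀ c ∈ T, (∀ q ∈ Q₁, q * c = c * q) → c ∈ B)
    (hC₂ : ∀ c ∈ T, (∀ q ∈ Q₂, q * c = c * q) → c ∈ B)
    (hgen : (P₁ ⊓ T) ⊔ (P₂ ⊓ T) = T)
    (hcons : ∀ z ∈ B ⊓ T, z * z = 1 → (∀ s ∈ B ⊓ T, z * s = s * z) → ∀ x ∈ P₂ ⊓ T, z * x = x * z) :
    InvRigid ↥T := by
  classical
  have : Fact (Nat.Prime 2) := ⟨Nat.prime_two⟩
  have hp : IsPGroup 2 ↥((B ⊓ T).subgroupOf T) := by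
    have h1 : IsPGroup 2 ↥(B ⊓ T) := hB2.to_le inf_le_left
    rw [← Subgroup.comap_subtype]
    exact h1.comap_subtype
  let S : Sylow 2 ↥T := hp.toSylow hidx
  have hS : ∀ x : ↥T, x ∈ (S : Subgroup ↥T) ↔ (x : Γ) ∈ B := by
    intro x
    show x ∈ ((hp.toSylow hidx : Sylow 2 ↥T) : Subgroup ↥T) ↔ _
    rw [IsPGroup.toSylow_coe, Subgroup.mem_subgroupOf, Subgroup.mem_inf]
    exact ⟨fun h => h.1, fun h => ⟨h, x.2⟩⟩
  let Q : Bool → Subgroup ↥T := fun i => cond i (Q₁.subgroupOf T) (Q₂.subgroupOf T)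
  let N : Bool → Subgroup ↥T := fun i => cond i ((P₁ ⊓ T).subgroupOf T) ((P₂ ⊓ T).subgroupOf T)
  have hnorm : ∀ (Q0 P0 : Subgroup Γ), P0 ⊓ T ≤ Subgroup.normalizer (Q0 : Set Γ) →
      (P0 ⊓ T).subgroupOf T ≤ Subgroup.normalizer ((Q0.subgroupOf T : Subgroup ↥T) : Set ↥T) := by
    intro Q0 P0 h x hx
    rw [Subgroup.mem_subgroupOf] at hx
    have h1 := h hx
    rw [Subgroup.mem_normalizer_iff] at h1 ⊢
    intro y
    rw [Subgroup.mem_subgroupOf, Subgroup.mem_subgroupOf]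
    exact h1 (y : Γ)
  have hcent : ∀ (Q0 : Subgroup Γ), Q0 ≤ B ⊓ T → (∀ c ∈ T, (∀ q ∈ Q0, q * c = c * q) → c ∈ B) →
      Subgroup.centralizer ((Q0.subgroupOf T : Subgroup ↥T) : Set ↥T) ≤ (S : Subgroup ↥T) := by
    intro Q0 hQ0 h x hx
    rw [hS]
    apply h _ x.2
    intro q hq
    have hqT : q ∈ T := (hQ0 hq).2
    have h1 := Subgroup.mem_centralizer_iff.1 hx ⟨q, hqT⟩ (Subgroup.mem_subgroupOf.2 hq)
    exact congrArg Subtype.val h1
  refine invRigid_of_family S Q N ⊥ ?_ ?_ ?_ ?_ ?_ ?_ true ?_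
  · rintro (_ | _) x hx
    · rw [hS]; exact (hQ₂ (Subgroup.mem_subgroupOf.1 hx)).1
    · rw [hS]; exact (hQ₁ (Subgroup.mem_subgroupOf.1 hx)).1
  · rintro (_ | _) x hx
    · rw [hS] at hx
      exact Subgroup.mem_subgroupOf.2 ⟨hBP₂ hx, x.2⟩
    · rw [hS] at hx
      exact Subgroup.mem_subgroupOf.2 ⟨hBP₁ hx, x.2⟩
  · rintro (_ | _)
    · exact hnorm Q₂ P₂ hN₂
    · exact hnorm Q₁ P₁ hN₁
  · rintro (_ | _)
    · exact hcent Q₂ hQ₂ hC₂
    · exact hcent Q₁ hQ₁ hC₁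
  · intro i; exact bot_le
  · rw [iSup_bool_eq]
    show (P₁ ⊓ T).subgroupOf T ⊔ (P₂ ⊓ T).subgroupOf T = ⊤
    rw [← Subgroup.subgroupOf_sup inf_le_right inf_le_right, hgen, Subgroup.subgroupOf_self]
  · intro z hz hz2 hzc _ i hi x hx
    have hi' : i = false := by
      cases i
      · rfl
      · exact absurd rfl hi
    subst hi'
    have hx' : (x : Γ) ∈ P₂ ⊓ T := Subgroup.mem_subgroupOf.1 hx
    have hzB : (z : Γ) ∈ B ⊓ T := ⟨(hS z).1 hz, z.2⟩
    have h1 : (z : Γ) * (z : Γ) = 1 := by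
      have := congrArg Subtype.val hz2
      simpa using this
    have h2 : ∀ s ∈ B ⊓ T, (z : Γ) * s = s * (z : Γ) := by
      intro s hs
      have := hzc ⟨s, hs.2⟩ ((hS _).2 hs.1)
      exact congrArg Subtype.val this
    apply Subtype.ext
    exact hcons _ hzB h1 h2 _ hx'

end main

end Cfsg.Agent.Lib.H28.IRS
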