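/-
helper28 library: subgroups of order 3 of M24: generator, fixed points, conjugacy.
-/
import Cfsg.Agent.Lib.H28.FixedPoints

set_option autoImplicit false

namespace Cfsg.Agent.Lib.H28

open scoped Pointwise
open Cfsg

/-- A subgroup of order 3 is generated by an element of order 3. -/
theorem exists_generator_of_card_three {G : Type*} [Group G] (X : Subgroup G) (hX : Nat.card X = 3) :
    ∃ g : G, g ∈ X ∧ orderOf g = 3 ∧ X = Subgroup.zpowers g := by
  have hfin : Finite ↥X := Nat.finite_of_card_ne_zero (by rw [hX]; norm_num)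
  have hnt : Nontrivial ↥X := (Finite.one_lt_card_iff_nontrivial).1 (by rw [hX]; norm_num)
  obtain ⟨g', hg'⟩ := exists_ne (1 : ↥X)
  have hdvd : orderOf g' ∣ 3 := by rw [← hX]; exact orderOf_dvd_natCard g'
  have hne1 : orderOf g' ≠ 1 := by
    intro h
    exact hg' (orderOf_eq_one_iff.1 h)
  have h3 : orderOf g' = 3 := by
    rcases (Nat.dvd_prime Nat.prime_three).1 hdvd with h | h
    · exact absurd h hne1
    · exact h
  have h3' : orderOf (g' : G) = 3 := by rw [Subgroup.orderOf_coe]; exact h3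
  refine ⟨g', g'.2, h3', ?_⟩
  symm
  apply Subgroup.eq_of_le_of_card_ge (Subgroup.zpowers_le.2 g'.2)
  rw [Nat.card_zpowers, h3', hX]

/-- The common fixed points of a cyclic subgroup of `M24` are the fixed points of a generator. -/
theorem fixed_zpowers (g : ↥M24) :
    {p : GolayPt | ∀ x ∈ Subgroup.zpowers g, ((x : ↥M24) : Equiv.Perm GolayPt) p = p} =
      (fixedF (g : Equiv.Perm GolayPt) : Set GolayPt) := by
  ext p
  rw [Set.mem_ofPred_eq, Finset.mem_coe, mem_fixedF]
  constructor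
  · intro h
    exact h g (Subgroup.mem_zpowers g)
  · intro h x hx
    obtain ⟨n, rfl⟩ := Subgroup.mem_zpowers_iff.1 hx
    have h1 : (g : Equiv.Perm GolayPt) ∈ MulAction.stabilizer (Equiv.Perm GolayPt) p :=
      MulAction.mem_stabilizer_iff.2 h
    have h2 := (MulAction.stabilizer (Equiv.Perm GolayPt) p).zpow_mem h1 n
    rw [MulAction.mem_stabilizer_iff] at h2
    rw [Subgroup.coe_zpow]
    exact h2

theorem ncard_fixed_zpowers (g : ↥M24) :
    {p : GolayPt | ∀ x ∈ Subgroup.zpowers g, ((x : ↥M24) : Equiv.Perm GolayPt) p = p}.ncard =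
      (fixedF (g : Equiv.Perm GolayPt)).card := by
  rw [fixed_zpowers, Set.ncard_coe_finset]

/-- Conjugating a cyclic subgroup. -/
theorem conj_smul_zpowers {G : Type*} [Group G] (k h : G) :
    MulAut.conj k • Subgroup.zpowers h = Subgroup.zpowers (k * h * k⁻¹) := by
  ext x
  rw [Subgroup.mem_pointwise_smul_iff_inv_smul_mem, MulAut.smul_def, ← map_inv, MulAut.conj_apply, inv_inv]
  constructor
  · intro hx
    obtain ⟨n, hn⟩ := Subgroup.mem_zpowers_iff.1 hx
    refine Subgroup.mem_zpowers_iff.2 ⟨n, ?_⟩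
    rw [conj_zpow, hn]
    group
  · intro hx
    obtain ⟨n, hn⟩ := Subgroup.mem_zpowers_iff.1 hx
    refine Subgroup.mem_zpowers_iff.2 ⟨n, ?_⟩
    rw [← hn, conj_zpow]
    group

theorem conj_smul_of_conj_smul {G : Type*} [Group G] {X Y Z : Subgroup G} {kX kY : G}
    (hX : X = MulAut.conj kX • Z) (hY : Y = MulAut.conj kY • Z) : MulAut.conj (kY * kX⁻¹) • X = Y := by
  rw [hX, hY, map_mul, mul_smul, map_inv, inv_smul_smul]

/-- Mutual membership in cyclic groups of `Perm`, lifted to cyclic subgroups of `M24`. -/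
theorem zpowers_eq_of_mutual {a b : ↥M24}
    (h1 : (a : Equiv.Perm GolayPt) ∈ Subgroup.zpowers (b : Equiv.Perm GolayPt))
    (h2 : (b : Equiv.Perm GolayPt) ∈ Subgroup.zpowers (a : Equiv.Perm GolayPt)) :
    Subgroup.zpowers a = Subgroup.zpowers b := by
  apply le_antisymm
  · rw [Subgroup.zpowers_le]
    obtain ⟨n, hn⟩ := Subgroup.mem_zpowers_iff.1 h1
    refine Subgroup.mem_zpowers_iff.2 ⟨n, ?_⟩
    apply Subtype.ext
    rw [Subgroup.coe_zpow]
    exact hn
  · rw [Subgroup.zpowers_le]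
    obtain ⟨n, hn⟩ := Subgroup.mem_zpowers_iff.1 h2
    refine Subgroup.mem_zpowers_iff.2 ⟨n, ?_⟩
    apply Subtype.ext
    rw [Subgroup.coe_zpow]
    exact hn

theorem w3B_facts : eqW (w3B ++ w3B ++ w3B) [] = true ∧ evalPt w3B 0 ≠ 0 ∧ popc (fixMaskW w3B) = 0 ∧
    popc (fixMaskW w36) = 6 := by
  decide +kernel

theorem orderOf_w3B : orderOf (wordPerm w3B) = 3 := by
  apply orderOf_eq_prime
  · have := wordPerm_eq_of_eqW w3B_facts.1
    rw [wordPerm_append, wordPerm_append] at this
    rw [pow_succ, pow_two]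
    exact this
  · intro h
    have h1 : wordPerm w3B (gPt 0) = gPt (evalPt w3B 0) := wordPerm_gPt (by norm_num) rfl
    rw [h, Equiv.Perm.one_apply] at h1
    have := congrArg gIdx h1
    rw [gIdx_gPt (by norm_num), gIdx_gPt (by
      have : ∀ k < 24, evalPt w3B k < 24 := by decide +kernel
      exact this 0 (by norm_num))] at this
    exact w3B_facts.2.1 this.symm

/-- The base subgroups of order 3. -/
noncomputable def W3A : ↥M24 := ⟨wordPerm w36, wordPerm_mem_M24 w36⟩
noncomputable def W3B : ↥M24 := ⟨wordPerm w3B, wordPerm_mem_M24 w3B⟩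

theorem card_zpowers_W3A : Nat.card (Subgroup.zpowers W3A) = 3 := by
  rw [Nat.card_zpowers, ← Subgroup.orderOf_coe]
  exact orderOf_w36

theorem card_zpowers_W3B : Nat.card (Subgroup.zpowers W3B) = 3 := by
  rw [Nat.card_zpowers, ← Subgroup.orderOf_coe]
  exact orderOf_w3B

/-- A subgroup of order 3 whose generator has six fixed points is conjugate to the base one. -/
theorem conj_W3A_of_six {g : ↥M24} (h₃ : orderOf g = 3) (h6 : (fixedF (g : Equiv.Perm GolayPt)).card = 6) :
    ∃ k : ↥M24, Subgroup.zpowers g = MulAut.conj k • Subgroup.zpowers W3A := by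
  have h3' : orderOf (g : Equiv.Perm GolayPt) = 3 := by rw [Subgroup.orderOf_coe]; exact h₃
  obtain ⟨k, hk, g', e, h1, h2⟩ := order_three_six_conj (g : Equiv.Perm GolayPt) g.2 h3' h6
  have hg' : g' ∈ M24 := by
    have : g' = k⁻¹ * (g : Equiv.Perm GolayPt) * k := by rw [e]; group
    rw [this]
    exact M24.mul_mem (M24.mul_mem (M24.inv_mem hk) g.2) hk
  refine ⟨⟨k, hk⟩, ?_⟩
  have hz : Subgroup.zpowers (⟨g', hg'⟩ : ↥M24) = Subgroup.zpowers W3A := zpowers_eq_of_mutual h1 h2
  rw [← hz, conj_smul_zpowers]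
  congr 1
  apply Subtype.ext
  exact e

/-- A subgroup of order 3 whose generator has no fixed points is conjugate to the base one. -/
theorem conj_W3B_of_zero {g : ↥M24} (h₃ : orderOf g = 3) (h0 : (fixedF (g : Equiv.Perm GolayPt)).card = 0) :
    ∃ k : ↥M24, Subgroup.zpowers g = MulAut.conj k • Subgroup.zpowers W3B := by
  have h3' : orderOf (g : Equiv.Perm GolayPt) = 3 := by rw [Subgroup.orderOf_coe]; exact h₃
  have hfree : ∀ p, (g : Equiv.Perm GolayPt) p ≠ p := by
    intro p hp
    have : p ∈ fixedF (g : Equiv.Perm GolayPt) := mem_fixedF.2 hp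
    rw [Finset.card_eq_zero.1 h0] at this
    exact absurd this (Finset.notMem_empty p)
  obtain ⟨k, hk, e⟩ := order_three_free_conj (g : Equiv.Perm GolayPt) g.2 h3' hfree
  refine ⟨⟨k, hk⟩, ?_⟩
  rw [conj_smul_zpowers]
  congr 1
  apply Subtype.ext
  exact e

end Cfsg.Agent.Lib.H28
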