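/-
helper28 library: involutions of M24 have 0 or 8 fixed points; commuting elements of orders 2 and 3.
-/
import Cfsg.Agent.Lib.H28.OrderThreeSubgroups

set_option autoImplicit false

namespace Cfsg.Agent.Lib.H28

open scoped Pointwise
open Cfsg

theorem sq_of_conj {k u g : Equiv.Perm GolayPt} (e : g = k * u * k⁻¹) (h : g * g = 1) : u * u = 1 := by
  have : u = k⁻¹ * g * k := by rw [e]; group
  rw [this]
  calc k⁻¹ * g * k * (k⁻¹ * g * k) = k⁻¹ * (g * g) * k := by group
    _ = 1 := by rw [h]; group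

/-- An element of `M24` fixing six points is conjugate to an element of `K0` or to a power of the base word of order 3. -/
theorem six_fixed_conj (g : Equiv.Perm GolayPt) (hg : g ∈ M24) (E : Finset GolayPt) (hE : E.card = 6)
    (hfix : ∀ p ∈ E, g p = p) :
    (∃ k ∈ M24, ∃ z < 24, baseOctad.testBit z = false ∧ g = k * wordPerm (k0Tab.getD z []) * k⁻¹) ∨
    (∃ k ∈ M24, ∃ j < 3, g = k * wordPerm (pw36 j) * k⁻¹) := by
  obtain ⟨y, hyinj, hyE, -⟩ := exists_enum_six hE
  have hσ : ∀ i, g (y i) = y (id i) := fun i => hfix _ (hyE i)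
  by_cases hin : ∃ o ∈ octads, ∀ i, y i ∈ o
  · left
    obtain ⟨k, hk, -, z, hz, hout, e⟩ := conj_of_six_in g hg y hyinj hin id hσ [] nil_action_in
    rw [List.nil_append] at e
    exact ⟨k, hk, z, hz, hout, e⟩
  · right
    obtain ⟨k, hk, -, j, hj, e⟩ := conj_of_six_out g hg y hyinj hin id hσ [] nil_action_out
    rw [List.nil_append] at e
    exact ⟨k, hk, j, hj, e⟩

theorem k0Tab_fix : (List.range 24).all (fun z => baseOctad.testBit z || z == 4 ||
    popc (fixMaskW (k0Tab.getD z [])) == 8) = true := by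
  decide +kernel

theorem pw36_cube (j : ℕ) : wordPerm (pw36 j) ^ 3 = 1 := by
  rw [wordPerm_pw36, ← pow_mul, mul_comm, pow_mul, w36_cube, one_pow]

def c22out : List ℕ := [0, 3, 0, 4, 1, 4, 0, 4, 1, 4, 0, 3, 0]
def c22in : List ℕ := [0, 3, 1, 4, 1, 1, 3, 3, 1, 3, 3, 0, 3, 0]

theorem c22out_action : ∀ i : Fin 6, wordPerm c22out (base6out i) = base6out (![0, 1, 3, 2, 5, 4] i) :=
  word_action_of_check [23, 0, 1, 2, 3, 4] ![0, 1, 3, 2, 5, 4] c22out (by decide +kernel)

theorem c22in_action : ∀ i : Fin 6, wordPerm c22in (base6in i) = base6in (![0, 1, 3, 2, 5, 4] i) :=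
  word_action_of_check [23, 0, 1, 2, 3, 5] ![0, 1, 3, 2, 5, 4] c22in (by decide +kernel)

theorem c22out_ok : (List.range 3).all (fun j => !isInvolW (c22out ++ pw36 j) ||
    popc (fixMaskW (c22out ++ pw36 j)) == 8) = true := by
  decide +kernel

theorem c22in_ok : (List.range 24).all (fun z => baseOctad.testBit z || !isInvolW (c22in ++ k0Tab.getD z []) ||
    popc (fixMaskW (c22in ++ k0Tab.getD z [])) == 8) = true := by
  decide +kernel

/-- An involution of `M24` with at least two fixed points has eight. -/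
theorem involution_fixed_of_two (s : Equiv.Perm GolayPt) (hs : s ∈ M24) (hss : s * s = 1)
    (h2 : 2 ≤ (fixedF s).card) (h5 : (fixedF s).card ≤ 5) : False := by
  classical
  have hst : ∀ x, s (s x) = x := by
    intro x
    have : (s * s) x = x := by rw [hss]; rfl
    rwa [Equiv.Perm.mul_apply] at this
  obtain ⟨p1, m1, p2, m2, h12⟩ := Finset.one_lt_card.1 (by omega : 1 < (fixedF s).card)
  have hp1 := mem_fixedF.1 m1
  have hp2 := mem_fixedF.1 m2
  have h24 : (Finset.univ : Finset GolayPt).card = 24 := by rw [Finset.card_univ, card_GolayPt]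
  have hcard : (fixedF s).card < (Finset.univ : Finset GolayPt).card := by omega
  obtain ⟨x, -, hx⟩ := Finset.exists_mem_notMem_of_card_lt_card hcard
  have hnf : ∀ q, q ∉ fixedF s → s q ∉ fixedF s := by
    intro q hq h
    apply hq
    rw [mem_fixedF] at h ⊢
    exact s.injective h
  have hsx : s x ≠ x := fun h => hx (mem_fixedF.2 h)
  have hcard2 : (fixedF s ∪ {x, s x}).card < (Finset.univ : Finset GolayPt).card := by
    have h1 := Finset.card_union_le (fixedF s) {x, s x}
    have h2 := Finset.card_le_two (a := x) (b := s x)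
    omega
  obtain ⟨y, -, hy⟩ := Finset.exists_mem_notMem_of_card_lt_card hcard2
  simp only [Finset.mem_union, Finset.mem_insert, Finset.mem_singleton, not_or] at hy
  obtain ⟨hyF, hyx, hysx⟩ := hy
  have hsy : s y ≠ y := fun h => hyF (mem_fixedF.2 h)
  have hne : ∀ q, q ∈ fixedF s → ∀ r, r ∉ fixedF s → q ≠ r := fun q hq r hr h => hr (h ▸ hq)
  have hx1 := hnf x hx
  have hy1 := hnf y hyF
  have hnd : [p1, p2, x, s x, y, s y].Nodup := by
    simp only [List.nodup_cons, List.mem_cons, List.not_mem_nil, or_false, not_or, List.nodup_nil, and_true,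
      not_false_eq_true]
    refine ⟨⟨h12, hne _ m1 _ hx, hne _ m1 _ hx1, hne _ m1 _ hyF, hne _ m1 _ hy1⟩,
      ⟨hne _ m2 _ hx, hne _ m2 _ hx1, hne _ m2 _ hyF, hne _ m2 _ hy1⟩,
      ⟨hsx.symm, Ne.symm hyx, ?_⟩, ⟨Ne.symm hysx, ?_⟩, hsy.symm⟩
    · intro h  -- x = s y
      apply hysx
      rw [h, hst]
    · intro h  -- s x = s y
      exact hyx (s.injective h).symm
  set yy : Fin 6 → GolayPt := ![p1, p2, x, s x, y, s y] with hyy
  have hyinj : Function.Injective yy := injective_vec6 hnd
  have hσ : ∀ i, s (yy i) = yy (![0, 1, 3, 2, 5, 4] i) := by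
    intro i
    fin_cases i
    · exact hp1
    · exact hp2
    · rfl
    · exact hst x
    · rfl
    · exact hst y
  by_cases hin : ∃ o ∈ octads, ∀ i, yy i ∈ o
  · obtain ⟨k, hk, -, z, hz, hout, e⟩ := conj_of_six_in s hs yy hyinj hin _ hσ c22in c22in_action
    have hc := List.all_eq_true.1 c22in_ok z (List.mem_range.2 hz)
    rw [hout, Bool.false_or, isInvolW_of_sq (sq_of_conj e hss), Bool.not_true, Bool.false_or, beq_iff_eq] at hc
    rw [e, card_fixedF_conj, card_fixedF_wordPerm, hc] at h5
    omega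
  · obtain ⟨k, hk, -, j, hj, e⟩ := conj_of_six_out s hs yy hyinj hin _ hσ c22out c22out_action
    have hc := List.all_eq_true.1 c22out_ok j (List.mem_range.2 hj)
    rw [isInvolW_of_sq (sq_of_conj e hss), Bool.not_true, Bool.false_or, beq_iff_eq] at hc
    rw [e, card_fixedF_conj, card_fixedF_wordPerm, hc] at h5
    omega

/-- An involution of `M24` has no or exactly eight fixed points. -/
theorem involution_fixed_cases (s : Equiv.Perm GolayPt) (hs : s ∈ M24) (h₂ : orderOf s = 2) :
    (fixedF s).card = 0 ∨ (fixedF s).card = 8 := by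
  have h2 : s ^ 2 ^ 1 = 1 := by rw [pow_one, ← h₂]; exact pow_orderOf_eq_one s
  have hss : s * s = 1 := by rw [← pow_two]; rwa [pow_one] at h2
  have : Fact (Nat.Prime 2) := ⟨Nat.prime_two⟩
  have hmod := card_fixedF_modEq h2
  by_cases h6 : 6 ≤ (fixedF s).card
  · right
    obtain ⟨E, hEF, hE⟩ := Finset.exists_subset_card_eq h6
    rcases six_fixed_conj s hs E hE (fun p hp => mem_fixedF.1 (hEF hp)) with
      ⟨k, hk, z, hz, hout, e⟩ | ⟨k, hk, j, hj, e⟩
    · have hc := List.all_eq_true.1 k0Tab_fix z (List.mem_range.2 hz)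
      rw [hout, Bool.false_or, Bool.or_eq_true, beq_iff_eq, beq_iff_eq] at hc
      rcases hc with hc | hc
      · exfalso
        rw [hc] at e
        have h1 : s = 1 := by
          rw [e]
          have : wordPerm (k0Tab.getD 4 []) = 1 := rfl
          rw [this]
          group
        rw [h1, orderOf_one] at h₂
        exact absurd h₂ (by norm_num)
      · rw [e, card_fixedF_conj, card_fixedF_wordPerm, hc]
    · exfalso
      have h3 : s ^ 3 = 1 := by
        rw [e, conj_pow, pw36_cube]
        group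
      have hd : orderOf s ∣ 3 := orderOf_dvd_of_pow_eq_one h3
      rw [h₂] at hd
      exact absurd hd (by norm_num)
  · left
    by_contra h0
    have hlt : (fixedF s).card ≤ 5 := by omega
    have hm : (fixedF s).card % 2 = 24 % 2 := hmod
    exact involution_fixed_of_two s hs hss (by omega) hlt

end Cfsg.Agent.Lib.H28
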