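import Mathlib
import Cfsg.Agent.Lib.H27.J1OrdNum
import Cfsg.Agent.Lib.H28.J1OrdTools

/-!
# S4274, piece O58520: no simple group of order `58520 = 2^3.5.7.11.19`
-/

set_option autoImplicit false
set_option maxHeartbeats 1000000

namespace Cfsg.Agent.Lib.H28.J1Ord

open Subgroup Cfsg.Agent.Lib.H5 Cfsg.Agent.Lib.H5.GenTests Cfsg.Agent.Lib.H27.J1Ord

variable {G : Type*} [Group G] [Finite G] [IsSimpleGroup G]

theorem ne_58520 : Nat.card G ≠ 58520 := by
  intro hn
  have hnc : ¬ IsMulCommutative G :=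
    not_isMulCommutative_of_card_not_prime (by rw [hn]; norm_num)
  have : Fact (Nat.Prime 19) := ⟨by norm_num⟩
  have : Fact (Nat.Prime 11) := ⟨by norm_num⟩
  have : Fact (Nat.Prime 7) := ⟨by norm_num⟩
  have : Fact (Nat.Prime 5) := ⟨by norm_num⟩
  let P19 : Sylow 19 G := default
  let P11 : Sylow 11 G := default
  let P7 : Sylow 7 G := default
  let P5 : Sylow 5 G := default
  obtain ⟨d19, e19, c19, hd19, hc19, hN19, hced19, hpc19, hP19, hmem19⟩ :=
    sylOpts_mem hnc (q := 19) (by norm_num) (by norm_num) hn (p := 19) (m := 3080) (by norm_num)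
      (by norm_num) (by norm_num) (by norm_num) P19
  obtain ⟨d11, e11, c11, hd11, hc11, hN11, hced11, hpc11, hP11, hmem11⟩ :=
    sylOpts_mem hnc (q := 19) (by norm_num) (by norm_num) hn (p := 11) (m := 5320) (by norm_num)
      (by norm_num) (by norm_num) (by norm_num) P11
  obtain ⟨d7, e7, c7, hd7, hc7, hN7, hced7, hpc7, hP7, hmem7⟩ :=
    sylOpts_mem hnc (q := 19) (by norm_num) (by norm_num) hn (p := 7) (m := 8360) (by norm_num)
      (by norm_num) (by norm_num) (by norm_num) P7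
  obtain ⟨d5, e5, c5, hd5, hc5, hN5, hced5, hpc5, hP5, hmem5⟩ :=
    sylOpts_mem hnc (q := 19) (by norm_num) (by norm_num) hn (p := 5) (m := 11704) (by norm_num)
      (by norm_num) (by norm_num) (by norm_num) P5
  have hl19 : sylOpts 58520 19 3080 19 = [(20, 2), (77, 2), (1540, 2)] := by decide +kernel
  have hl11 : sylOpts 58520 11 5320 19 = [(56, 5), (133, 2), (133, 5), (133, 10)] := by
    decide +kernel
  have hl7 : sylOpts 58520 7 8360 19 = [(22, 2), (190, 2), (4180, 2)] := by decide +kernel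
  have hl5 : sylOpts 58520 5 11704 19 =
      [(76, 2), (266, 2), (266, 4), (836, 2), (2926, 2), (2926, 4)] := by decide +kernel
  rw [hl19] at hmem19
  rw [hl11] at hmem11
  rw [hl7] at hmem7
  rw [hl5] at hmem5
  simp only [List.mem_cons, Prod.mk.injEq, List.not_mem_nil, or_false] at hmem19 hmem11 hmem7 hmem5
  -- the orders of all Sylow subgroups
  have hS19 : ∀ Q : Sylow 19 G, Nat.card (Q : Subgroup G) = 19 := fun Q => by
    have := (sylow_card_and_index Q (k := 1) (m := 3080) (by rw [hn]; norm_num) (by norm_num)).1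
    simpa using this
  have hS11 : ∀ Q : Sylow 11 G, Nat.card (Q : Subgroup G) = 11 := fun Q => by
    have := (sylow_card_and_index Q (k := 1) (m := 5320) (by rw [hn]; norm_num) (by norm_num)).1
    simpa using this
  have hS7 : ∀ Q : Sylow 7 G, Nat.card (Q : Subgroup G) = 7 := fun Q => by
    have := (sylow_card_and_index Q (k := 1) (m := 8360) (by rw [hn]; norm_num) (by norm_num)).1
    simpa using this
  have hS5 : ∀ Q : Sylow 5 G, Nat.card (Q : Subgroup G) = 5 := fun Q => by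
    have := (sylow_card_and_index Q (k := 1) (m := 11704) (by rw [hn]; norm_num) (by norm_num)).1
    simpa using this
  have ho19 := card_orderOf_eq_prime hS19
  have ho11 := card_orderOf_eq_prime hS11
  have ho7 := card_orderOf_eq_prime hS7
  have ho5 := card_orderOf_eq_prime hS5
  rw [hd19] at ho19
  rw [hd11] at ho11
  rw [hd7] at ho7
  rw [hd5] at ho5
  -- (X)
  have X19_5 : 5 ∣ c19 → 19 ∣ c5 := fun h => by
    have := dvd_card_centralizer_symm P19 P5 hP5 (by rw [hc19]; exact h)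
    rwa [hP19, hc5] at this
  have X11_19 : 19 ∣ c11 → 11 ∣ c19 := fun h => by
    have := dvd_card_centralizer_symm P11 P19 hP19 (by rw [hc11]; exact h)
    rwa [hP11, hc19] at this
  have X7_19 : 19 ∣ c7 → 7 ∣ c19 := fun h => by
    have := dvd_card_centralizer_symm P7 P19 hP19 (by rw [hc7]; exact h)
    rwa [hP7, hc19] at this
  have X7_11 : 11 ∣ c7 → 7 ∣ c11 := fun h => by
    have := dvd_card_centralizer_symm P7 P11 hP11 (by rw [hc7]; exact h)
    rwa [hP7, hc11] at this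
  have X5_7 : 7 ∣ c5 → 5 ∣ c7 := fun h => by
    have := dvd_card_centralizer_symm P5 P7 hP7 (by rw [hc5]; exact h)
    rwa [hP5, hc7] at this
  have hq2_11 : ¬ 11 ^ 2 ∣ Nat.card G := by rw [hn]; norm_num
  -- step 1 : n_19 = 1540, |C(P19)| = 19
  have h19c5 : ¬ 19 ∣ c5 := by
    rcases hmem5 with ⟨rfl, rfl⟩ | ⟨rfl, rfl⟩ | ⟨rfl, rfl⟩ | ⟨rfl, rfl⟩ | ⟨rfl, rfl⟩ |
      ⟨rfl, rfl⟩ <;> omega
  have h19 : d19 = 1540 ∧ c19 = 19 := by
    rcases hmem19 with ⟨rfl, rfl⟩ | ⟨rfl, rfl⟩ | ⟨rfl, rfl⟩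
    · exfalso
      have hc19v : c19 = 1463 := by omega
      obtain ⟨k, hk, hk1⟩ := ns_numeric (p := 19) (q := 11) (by norm_num) P19 hP19 hq2_11
        (by rw [hc19, hc19v]; norm_num) (by
          rw [hc19, hc19v]
          intro m hm hm1
          norm_num at hm
          have : m ≤ 7 := Nat.le_of_dvd (by norm_num) hm
          interval_cases m <;> omega)
      rw [hd19, hd11] at hk
      rcases hmem11 with ⟨rfl, rfl⟩ | ⟨rfl, rfl⟩ | ⟨rfl, rfl⟩ | ⟨rfl, rfl⟩ <;> omega
    · exfalso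
      exact h19c5 (X19_5 (by omega))
    · exact ⟨rfl, by omega⟩
  obtain ⟨hd19v, hc19v⟩ := h19
  -- step 2 : n_11 = 133
  have h11 : d11 = 133 ∧ ¬ 7 ∣ c11 := by
    rcases hmem11 with ⟨rfl, rfl⟩ | ⟨rfl, rfl⟩ | ⟨rfl, rfl⟩ | ⟨rfl, rfl⟩
    · exfalso
      have := X11_19 (by omega)
      omega
    · exact ⟨rfl, by omega⟩
    · exact ⟨rfl, by omega⟩
    · exact ⟨rfl, by omega⟩
  obtain ⟨hd11v, h7c11⟩ := h11
  -- step 3 : n_7 = 4180, |C(P7)| = 7
  have h7 : d7 = 4180 ∧ c7 = 7 := by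
    rcases hmem7 with ⟨rfl, rfl⟩ | ⟨rfl, rfl⟩ | ⟨rfl, rfl⟩
    · exfalso
      have := X7_19 (by omega)
      omega
    · exfalso
      exact h7c11 (X7_11 (by omega))
    · exact ⟨rfl, by omega⟩
  obtain ⟨hd7v, hc7v⟩ := h7
  rw [hd19v] at ho19
  rw [hd11v] at ho11
  rw [hd7v] at ho7
  -- step 4
  have hsum4 := sum_card_orderOf_le (G := G) [19, 11, 7, 5] (by decide)
  have hsum5 := sum_card_orderOf_le (G := G) [19, 11, 7, 5, 5 * 11] (by decide)
  simp only [List.map_cons, List.map_nil, List.sum_cons, List.sum_nil] at hsum4 hsum5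
  rw [ho19, ho11, ho7, ho5, hn] at hsum4 hsum5
  have hcnt : 11 ∣ c5 → d5 * ((5 - 1) * (11 - 1)) ≤ Nat.card {g : G // orderOf g = 5 * 11} := by
    intro h
    have := card_orderOf_mul_ge (p := 5) (q := 11) (by norm_num) P5 hP5 (by rw [hc5]; exact h)
    rwa [hd5] at this
  rcases hmem5 with ⟨rfl, rfl⟩ | ⟨rfl, rfl⟩ | ⟨rfl, rfl⟩ | ⟨rfl, rfl⟩ | ⟨rfl, rfl⟩ | ⟨rfl, rfl⟩
  · have := X5_7 (by omega)
    omega
  · have := hcnt (by omega)
    omega
  · have := hcnt (by omega)
    omega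
  · have := X5_7 (by omega)
    omega
  · omega
  · omega

end Cfsg.Agent.Lib.H28.J1Ord
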