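import Mathlib
import Cfsg.Agent.Lib.H27.J1OrdNum
import Cfsg.Agent.Lib.H28.J1OrdTools

/-!
# S4274, piece O7980: no simple group of order `7980 = 2^2.3.5.7.19`
-/

set_option autoImplicit false
set_option maxHeartbeats 1000000

namespace Cfsg.Agent.Lib.H28.J1Ord

open Subgroup Cfsg.Agent.Lib.H5 Cfsg.Agent.Lib.H5.GenTests Cfsg.Agent.Lib.H27.J1Ord

variable {G : Type*} [Group G] [Finite G] [IsSimpleGroup G]

theorem ne_7980 : Nat.card G ≠ 7980 := by
  intro hn
  have hnc : ¬ IsMulCommutative G :=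
    not_isMulCommutative_of_card_not_prime (by rw [hn]; norm_num)
  have : Fact (Nat.Prime 19) := ⟨by norm_num⟩
  have : Fact (Nat.Prime 7) := ⟨by norm_num⟩
  have : Fact (Nat.Prime 5) := ⟨by norm_num⟩
  have : Fact (Nat.Prime 3) := ⟨by norm_num⟩
  let P19 : Sylow 19 G := default
  let P7 : Sylow 7 G := default
  let P5 : Sylow 5 G := default
  let P3 : Sylow 3 G := default
  obtain ⟨d19, e19, c19, hd19, hc19, hN19, hced19, hpc19, hP19, hmem19⟩ :=
    sylOpts_mem hnc (q := 19) (by norm_num) (by norm_num) hn (p := 19) (m := 420) (by norm_num)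
      (by norm_num) (by norm_num) (by norm_num) P19
  obtain ⟨d7, e7, c7, hd7, hc7, hN7, hced7, hpc7, hP7, hmem7⟩ :=
    sylOpts_mem hnc (q := 19) (by norm_num) (by norm_num) hn (p := 7) (m := 1140) (by norm_num)
      (by norm_num) (by norm_num) (by norm_num) P7
  obtain ⟨d5, e5, c5, hd5, hc5, hN5, hced5, hpc5, hP5, hmem5⟩ :=
    sylOpts_mem hnc (q := 19) (by norm_num) (by norm_num) hn (p := 5) (m := 1596) (by norm_num)
      (by norm_num) (by norm_num) (by norm_num) P5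
  obtain ⟨d3, e3, c3, hd3, hc3, hN3, hced3, hpc3, hP3, hmem3⟩ :=
    sylOpts_mem hnc (q := 19) (by norm_num) (by norm_num) hn (p := 3) (m := 2660) (by norm_num)
      (by norm_num) (by norm_num) (by norm_num) P3
  have hl19 : sylOpts 7980 19 420 19 = [(20, 3), (210, 2)] := by decide +kernel
  have hl7 : sylOpts 7980 7 1140 19 = [(57, 2), (190, 2), (190, 3), (190, 6)] := by
    decide +kernel
  have hl5 : sylOpts 7980 5 1596 19 = [(21, 2), (21, 4), (266, 2)] := by decide +kernel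
  have hl3 : sylOpts 7980 3 2660 19 = [(19, 2), (70, 2), (133, 2), (190, 2), (1330, 2)] := by
    decide +kernel
  rw [hl19] at hmem19
  rw [hl7] at hmem7
  rw [hl5] at hmem5
  rw [hl3] at hmem3
  simp only [List.mem_cons, Prod.mk.injEq, List.not_mem_nil, or_false] at hmem19 hmem7 hmem5 hmem3
  -- (X)
  have X19_7 : 7 ∣ c19 → 19 ∣ c7 := fun h => by
    have := dvd_card_centralizer_symm P19 P7 hP7 (by rw [hc19]; exact h)
    rwa [hP19, hc7] at this
  have X5_19 : 19 ∣ c5 → 5 ∣ c19 := fun h => by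
    have := dvd_card_centralizer_symm P5 P19 hP19 (by rw [hc5]; exact h)
    rwa [hP5, hc19] at this
  have X5_3 : 3 ∣ c5 → 5 ∣ c3 := fun h => by
    have := dvd_card_centralizer_symm P5 P3 hP3 (by rw [hc5]; exact h)
    rwa [hP5, hc3] at this
  -- step 1 : n_19 = 210, |C(P19)| = 19
  have h19c7 : ¬ 19 ∣ c7 := by
    rcases hmem7 with ⟨rfl, rfl⟩ | ⟨rfl, rfl⟩ | ⟨rfl, rfl⟩ | ⟨rfl, rfl⟩ <;> omega
  have hc19v : c19 = 19 := by
    rcases hmem19 with ⟨rfl, rfl⟩ | ⟨rfl, rfl⟩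
    · exfalso
      exact h19c7 (X19_7 (by omega))
    · omega
  -- step 2 : n_5 = 266, |C(P5)| = 15
  have h5 : d5 = 266 ∧ c5 = 15 := by
    rcases hmem5 with ⟨rfl, rfl⟩ | ⟨rfl, rfl⟩ | ⟨rfl, rfl⟩
    · exfalso
      have := X5_19 (by omega)
      omega
    · exfalso
      have := X5_19 (by omega)
      omega
    · exact ⟨rfl, by omega⟩
  obtain ⟨hd5v, hc5v⟩ := h5
  have h5c3 : 5 ∣ c3 := X5_3 (by omega)
  have hq2_5 : ¬ 5 ^ 2 ∣ Nat.card G := by rw [hn]; norm_num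
  have hq2_7 : ¬ 7 ^ 2 ∣ Nat.card G := by rw [hn]; norm_num
  rcases hmem3 with ⟨rfl, rfl⟩ | ⟨rfl, rfl⟩ | ⟨rfl, rfl⟩ | ⟨rfl, rfl⟩ | ⟨rfl, rfl⟩
  · -- n_3 = 19, |C(P3)| = 210 : (NS) with q = 7
    have hc3v : c3 = 210 := by omega
    obtain ⟨k, hk, hk1⟩ := ns_numeric (p := 3) (q := 7) (by norm_num) P3 hP3 hq2_7
      (by rw [hc3, hc3v]; norm_num) (by
        rw [hc3, hc3v]
        intro m hm hm1
        norm_num at hm
        have : m ≤ 10 := Nat.le_of_dvd (by norm_num) hm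
        interval_cases m <;> omega)
    rw [hd3, hd7] at hk
    rcases hmem7 with ⟨rfl, rfl⟩ | ⟨rfl, rfl⟩ | ⟨rfl, rfl⟩ | ⟨rfl, rfl⟩ <;> omega
  · omega
  · -- n_3 = 133, |C(P3)| = 30 : (NS) with q = 5
    have hc3v : c3 = 30 := by omega
    obtain ⟨k, hk, hk1⟩ := ns_numeric (p := 3) (q := 5) (by norm_num) P3 hP3 hq2_5
      (by rw [hc3, hc3v]; norm_num) (by
        rw [hc3, hc3v]
        intro m hm hm1
        norm_num at hm
        have : m ≤ 2 := Nat.le_of_dvd (by norm_num) hm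
        interval_cases m <;> omega)
    rw [hd3, hd5, hd5v] at hk
    omega
  · omega
  · omega

end Cfsg.Agent.Lib.H28.J1Ord
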