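import Mathlib
import Cfsg.Agent.Lib.H28.J1OrdTools

/-! # S4274 : the reduction to simple groups of order `19 d`, `d ∣ 9240` -/

set_option autoImplicit false

namespace Cfsg.Agent.Lib.H28.J1Ord

open Subgroup

universe u

section red

variable {H : Type u} [Group H] [Finite H]

/-- an element of prime order `p` normalizing a subgroup of order `< p` centralizes it -/
theorem commute_of_normalizer_of_card_lt {p : ℕ} [Fact p.Prime] (R : Subgroup H) (x : H)
    (hx : orderOf x = p) (hxN : x ∈ normalizer (R : Set H)) (hR : Nat.card R < p) :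
    ∀ y ∈ R, x * y = y * x := by
  intro y hy
  classical
  have hp : p.Prime := Fact.out
  have hmem : ∀ i : ℕ, x ^ i * y * (x ^ i)⁻¹ ∈ R := by
    intro i
    have : x ^ i ∈ normalizer (R : Set H) := pow_mem hxN i
    exact (mem_normalizer_iff.mp this y).mp hy
  have : Fintype R := Fintype.ofFinite R
  let f : Fin p → R := fun i => ⟨x ^ (i : ℕ) * y * (x ^ (i : ℕ))⁻¹, hmem i⟩
  have hcard : Fintype.card R < Fintype.card (Fin p) := by
    rw [Fintype.card_fin, ← Nat.card_eq_fintype_card]; exact hR
  obtain ⟨i, j, hij, hfij⟩ := Fintype.exists_ne_map_eq_of_card_lt f hcard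
  have hval : x ^ (i : ℕ) * y * (x ^ (i : ℕ))⁻¹ = x ^ (j : ℕ) * y * (x ^ (j : ℕ))⁻¹ :=
    congrArg Subtype.val hfij
  set a : H := x ^ (i : ℕ) with ha
  set b : H := x ^ (j : ℕ) with hb
  set g : H := a⁻¹ * b with hg
  have hgy : g * y = y * g := by
    calc g * y = a⁻¹ * (b * y * b⁻¹) * b := by rw [hg]; group
      _ = a⁻¹ * (a * y * a⁻¹) * b := by rw [hval]
      _ = y * g := by rw [hg]; group
  have hgz : g ∈ zpowers x :=
    mul_mem (inv_mem (npow_mem_zpowers x _)) (npow_mem_zpowers x _)
  have hg1 : g ≠ 1 := by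
    intro h
    apply hij
    have hab : a = b := by
      have : b = a * g := by rw [hg]; group
      rw [this, h, mul_one]
    rw [ha, hb, pow_inj_mod, hx, Nat.mod_eq_of_lt i.2, Nat.mod_eq_of_lt j.2] at hab
    exact Fin.ext hab
  have hzc : Nat.card (zpowers x) = p := by rw [Nat.card_zpowers, hx]
  have hgo : orderOf g = p :=
    Cfsg.Agent.Lib.H5.orderOf_eq_of_mem_of_card_prime (zpowers x) hzc g hgz hg1
  have hzz : zpowers g = zpowers x := by
    apply Subgroup.eq_of_le_of_card_ge
    · rw [zpowers_le]; exact hgz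
    · rw [hzc, Nat.card_zpowers, hgo]
  have hxg : x ∈ zpowers g := by rw [hzz]; exact mem_zpowers x
  obtain ⟨k, hk⟩ := mem_zpowers_iff.mp hxg
  have hc : Commute g y := hgy
  rw [← hk]
  exact (hc.zpow_left k).eq

/-- Frattini + coprime action: `|H| = p |N|`, `N` normal with all Sylow subgroups of order `< p`,
then a Sylow `p`-subgroup of order `p` is normal (indeed central). -/
theorem sylow_normal_of_card_eq_mul {p : ℕ} [Fact p.Prime] (N : Subgroup H) [N.Normal]
    (P : Sylow p H) (hP : Nat.card (P : Subgroup H) = p) (hHN : Nat.card H = p * Nat.card N)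
    (hsmall : ∀ (r : ℕ) [Fact r.Prime] (R : Sylow r N), Nat.card (R : Subgroup N) < p) :
    (P : Subgroup H).Normal := by
  have hp : p.Prime := Fact.out
  set C := centralizer ((P : Subgroup H) : Set H) with hC
  have hPC : (P : Subgroup H) ≤ C := Cfsg.Agent.Lib.H5.SylPrime.le_centralizer_of_card_prime _ hP
  have hidx : N.index = p := by
    have := N.card_mul_index
    rw [hHN] at this
    have hpos : 0 < Nat.card N := Nat.card_pos
    apply Nat.eq_of_mul_eq_mul_left hpos
    rw [this, mul_comm]
  -- |N| ∣ |C|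
  have hNC : Nat.card N ∣ Nat.card C := by
    rw [Nat.dvd_iff_prime_pow_dvd_dvd]
    intro r k hr hrk
    have : Fact r.Prime := ⟨hr⟩
    let R₀ : Sylow r N := default
    have h1 : r ^ k ∣ Nat.card (R₀ : Subgroup N) := R₀.pow_dvd_card_of_pow_dvd_card hrk
    set R : Subgroup H := (R₀ : Subgroup N).map N.subtype with hR
    have hRc : Nat.card R = Nat.card (R₀ : Subgroup N) := by rw [hR, Subgroup.card_subtype]
    have hfr : normalizer (R : Set H) ⊔ N = ⊤ := Sylow.normalizer_sup_eq_top R₀
    have hrel : N.relIndex (normalizer (R : Set H)) = p := by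
      rw [← Subgroup.relIndex_sup_left, sup_comm, hfr, Subgroup.relIndex_top_right, hidx]
    have hpN : p ∣ Nat.card (normalizer (R : Set H)) := by
      rw [← hrel]
      exact Subgroup.relIndex_dvd_card _ _
    obtain ⟨x', hx'⟩ := exists_prime_orderOf_dvd_card' (G := normalizer (R : Set H)) p hpN
    set x : H := (x' : H) with hxdef
    have hxo : orderOf x = p := by rw [hxdef, Subgroup.orderOf_coe]; exact hx'
    have hxN : x ∈ normalizer (R : Set H) := x'.2
    have hcomm := commute_of_normalizer_of_card_lt R x hxo hxN (by rw [hRc]; exact hsmall r R₀)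
    obtain ⟨P', hP'⟩ := Cfsg.Agent.Lib.H5.exists_sylow_mem_of_orderOf_eq x hxo
    have hP'c : Nat.card (P' : Subgroup H) = p := by rw [card_sylow_eq P' P, hP]
    have hz := Cfsg.Agent.Lib.H5.zpowers_eq_sylow_of_mem P' hP'c x hxo hP'
    obtain ⟨g, hg⟩ := MulAction.exists_smul_eq H P' P
    have hdvd : Nat.card R ∣ Nat.card C := by
      apply card_dvd_of_conj_le g
      intro y hy
      rw [hC, mem_centralizer_iff]
      intro w hw
      have hw2 : w ∈ (g • P' : Sylow p H) := by rw [hg]; exact hw
      have hw' : g⁻¹ * w * g ∈ (P' : Subgroup H) :=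
        (Cfsg.Agent.Lib.H5.sylow_mem_smul_iff g P' w).mp hw2
      rw [← hz] at hw'
      obtain ⟨k, hk⟩ := mem_zpowers_iff.mp hw'
      have hc : Commute x y := hcomm y hy
      have := (hc.zpow_left k).eq
      rw [hk] at this
      calc w * (g * y * g⁻¹) = g * ((g⁻¹ * w * g) * y) * g⁻¹ := by group
        _ = g * (y * (g⁻¹ * w * g)) * g⁻¹ := by rw [this]
        _ = g * y * g⁻¹ * w := by group
    exact h1.trans (hRc ▸ hdvd)
  have hcop : Nat.Coprime p (Nat.card N) := by
    rw [Nat.Prime.coprime_iff_not_dvd hp]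
    intro hd
    let R₀ : Sylow p N := default
    have h1 : p ∣ Nat.card (R₀ : Subgroup N) := R₀.dvd_card_of_dvd_card hd
    have h2 := hsmall p R₀
    have := Nat.le_of_dvd Nat.card_pos h1
    omega
  have hpC : p ∣ Nat.card C := hP ▸ Subgroup.card_dvd_of_le hPC
  have hall : Nat.card H ∣ Nat.card C := by
    rw [hHN]; exact hcop.mul_dvd_of_dvd_of_dvd hpC hNC
  have htop : C = ⊤ := by
    apply Subgroup.eq_top_of_card_eq
    exact Nat.dvd_antisymm (Subgroup.card_subgroup_dvd_card _) hall
  constructor
  intro n hn g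
  have hgC : g ∈ C := htop ▸ mem_top g
  have hc := mem_centralizer_iff.mp hgC n hn
  have e : g * n * g⁻¹ = n := by rw [← hc]; group
  rw [e]; exact hn

/-- a Sylow subgroup of `H` contained in a normal subgroup `M` whose Sylow subgroups are normal is
normal in `H` -/
theorem sylow_normal_of_le_normal {p : ℕ} [Fact p.Prime] (M : Subgroup H) [M.Normal]
    (P : Sylow p H) (hPM : (P : Subgroup H) ≤ M)
    (hM : ∀ Q : Sylow p M, (Q : Subgroup M).Normal) : (P : Subgroup H).Normal := by
  have hQ := hM (P.subtype hPM)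
  have hchar : ((P.subtype hPM : Sylow p M) : Subgroup M).Characteristic :=
    Sylow.characteristic_of_normal _ hQ
  have hn : (((P.subtype hPM : Sylow p M) : Subgroup M).map M.subtype).Normal :=
    ConjAct.normal_of_characteristic_of_normal
  have e : ((P.subtype hPM : Sylow p M) : Subgroup M).map M.subtype = (P : Subgroup H) := by
    rw [Sylow.coe_subtype, Subgroup.subgroupOf_map_subtype, inf_of_le_left hPM]
  rwa [e] at hn

/-- prime powers dividing `9240` are `< 19` -/
theorem prime_pow_lt_of_dvd {r k : ℕ} (hr : r.Prime) (h : r ^ k ∣ 9240) : r ^ k < 19 := by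
  rcases Nat.eq_zero_or_pos k with rfl | hk
  · norm_num
  have hrd : r ∣ 9240 := (dvd_pow_self r hk.ne').trans h
  have hr11 : r ≤ 11 := by
    have h1 : (9240 : ℕ) = 2 ^ 3 * 3 * 5 * 7 * 11 := by norm_num
    rw [h1] at hrd
    have h2 := (Nat.Prime.dvd_mul hr).mp hrd
    rcases h2 with h2 | h2
    · have h3 := (Nat.Prime.dvd_mul hr).mp h2
      rcases h3 with h3 | h3
      · have h4 := (Nat.Prime.dvd_mul hr).mp h3
        rcases h4 with h4 | h4
        · have h5 := (Nat.Prime.dvd_mul hr).mp h4
          rcases h5 with h5 | h5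
          · have := Nat.le_of_dvd (by norm_num) (hr.dvd_of_dvd_pow h5); omega
          · have := Nat.le_of_dvd (by norm_num) h5; omega
        · have := Nat.le_of_dvd (by norm_num) h4; omega
      · have := Nat.le_of_dvd (by norm_num) h3; omega
    · exact Nat.le_of_dvd (by norm_num) h2
  have hr2 := hr.two_le
  by_cases hk1 : k = 1
  · subst hk1; rw [pow_one]; omega
  by_cases hr2' : r = 2
  · subst hr2'
    have hk3 : k ≤ 3 := by
      by_contra hcon
      push Not at hcon
      have : 2 ^ 4 ∣ 9240 := (pow_dvd_pow 2 hcon).trans h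
      norm_num at this
    interval_cases k <;> norm_num
  · exfalso
    have h2 : r ^ 2 ∣ 9240 := (pow_dvd_pow r (by omega : 2 ≤ k)).trans h
    interval_cases r <;> first | (exact absurd rfl hr2') | (norm_num at h2)

end red

/-- The reduction: given that there is no non-abelian simple group of order `19 d`, `d ∣ 9240`,
`d ≠ 9240`, every group of order dividing `175560` has a normal Sylow `19`-subgroup, or has order
`175560` and is simple. -/
theorem reduction [Fact (Nat.Prime 19)]
    (hno : ∀ (K : Type u) [Group K] [Finite K] [IsSimpleGroup K], ¬ IsMulCommutative K →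
      ∀ d : ℕ, d ∣ 9240 → d ≠ 9240 → Nat.card K ≠ 19 * d) :
    ∀ (n : ℕ) (H : Type u) [Group H] [Finite H], Nat.card H = n → n ∣ 175560 →
      (n = 175560 ∧ IsSimpleGroup H) ∨ ∀ P : Sylow 19 H, (P : Subgroup H).Normal := by
  intro n
  induction n using Nat.strong_induction_on with
  | _ n IH =>
  intro H _ _ hn hdvd
  have hn_le : n ≤ 175560 := Nat.le_of_dvd (by norm_num) hdvd
  -- the induction hypothesis in usable form
  have IH' : ∀ (K : Type u) [Group K] [Finite K], Nat.card K < n → Nat.card K ∣ 175560 →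
      ∀ P : Sylow 19 K, (P : Subgroup K).Normal := by
    intro K _ _ hlt hd
    rcases IH (Nat.card K) hlt K rfl hd with h | h
    · omega
    · exact h
  by_cases h19 : 19 ∣ n
  swap
  · -- the Sylow 19-subgroups are trivial
    right
    intro P
    have hc : Nat.card (P : Subgroup H) = 1 := by
      rw [Sylow.card_eq_multiplicity, hn, Nat.factorization_eq_zero_of_not_dvd h19, pow_zero]
    have : (P : Subgroup H) = ⊥ := Subgroup.card_eq_one.mp hc
    rw [this]
    infer_instance
  -- now 19 ∣ n
  obtain ⟨d, rfl⟩ := h19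
  have hd0 : d ≠ 0 := by
    rintro rfl
    rw [mul_zero] at hn
    have := Nat.card_pos (α := H)
    omega
  have hd : d ∣ 9240 := by
    have : (175560 : ℕ) = 19 * 9240 := by norm_num
    rw [this] at hdvd
    exact Nat.dvd_of_mul_dvd_mul_left (by norm_num) hdvd
  have hPcard : ∀ P : Sylow 19 H, Nat.card (P : Subgroup H) = 19 := by
    intro P
    have h1 : 19 ∣ Nat.card (P : Subgroup H) := P.dvd_card_of_dvd_card (hn ▸ Dvd.intro _ rfl)
    obtain ⟨a, ha⟩ := IsPGroup.iff_card.mp P.2
    have ha1 : a ≠ 0 := by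
      rintro rfl
      rw [ha, pow_zero] at h1
      omega
    have ha2 : a < 2 := by
      by_contra hcon
      push Not at hcon
      have h2 : 19 ^ 2 ∣ 19 ^ a := pow_dvd_pow 19 hcon
      have h3 : 19 ^ 2 ∣ 175560 :=
        h2.trans (ha ▸ ((Subgroup.card_subgroup_dvd_card _).trans (hn ▸ hdvd)))
      norm_num at h3
    have : a = 1 := by omega
    rw [ha, this, pow_one]
  by_cases hs : IsSimpleGroup H
  · by_cases htop : 19 * d = 175560
    · exact Or.inl ⟨htop, hs⟩
    right
    intro P
    by_cases hcomm : IsMulCommutative H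
    · constructor
      intro x hx g
      have := hcomm.is_comm.comm g x
      rw [this, mul_inv_cancel_right]
      exact hx
    · exfalso
      exact hno H hcomm d hd (by omega) hn
  -- H is not simple
  right
  intro P
  have hnt : Nontrivial H := by
    rw [← Finite.one_lt_card_iff_nontrivial, hn]
    have : d ≠ 0 := by
      rintro rfl
      rw [mul_zero] at hn
      have := Nat.card_pos (α := H)
      omega
    omega
  have hexN : ∃ N : Subgroup H, N.Normal ∧ N ≠ ⊥ ∧ N ≠ ⊤ := by
    by_contra hcon
    push Not at hcon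
    apply hs
    refine ⟨fun N hN => ?_⟩
    by_cases hb : N = ⊥
    · exact Or.inl hb
    · exact Or.inr (hcon N hN hb)
  obtain ⟨N, hNn, hNb, hNt⟩ := hexN
  have hNcard1 : 1 < Nat.card N := by
    rw [Finite.one_lt_card_iff_nontrivial]
    exact (Subgroup.nontrivial_iff_ne_bot N).mpr hNb
  have hNdvd : Nat.card N ∣ 19 * d := hn ▸ Subgroup.card_subgroup_dvd_card N
  have hNlt : Nat.card N < 19 * d := by
    have h1 : Nat.card N ≤ 19 * d := Nat.le_of_dvd (by omega) hNdvd
    rcases Nat.lt_or_ge (Nat.card N) (19 * d) with h | h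
    · exact h
    · exfalso
      apply hNt
      apply Subgroup.eq_top_of_card_eq
      rw [hn]; omega
  have hmul : Nat.card N * N.index = 19 * d := by rw [N.card_mul_index, hn]
  by_cases h19N : 19 ∣ Nat.card N
  · -- the Sylow 19-subgroup lies in N
    have hIHN := IH' N hNlt (hNdvd.trans hdvd)
    have hPN : (P : Subgroup H) ≤ N := by
      -- a Sylow 19-subgroup of N
      let Q₀ : Sylow 19 N := default
      have hQ₀ : 19 ∣ Nat.card (Q₀ : Subgroup N) := Q₀.dvd_card_of_dvd_card h19N
      set Q : Subgroup H := (Q₀ : Subgroup N).map N.subtype with hQ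
      have hQc : Nat.card Q = Nat.card (Q₀ : Subgroup N) := by rw [hQ, Subgroup.card_subtype]
      have hQN : Q ≤ N := Subgroup.map_subtype_le _
      have hQp : IsPGroup 19 Q := by
        rw [hQ]; exact Q₀.2.map _
      obtain ⟨P', hP'⟩ := hQp.exists_le_sylow
      have hQP' : Q = (P' : Subgroup H) := by
        apply Subgroup.eq_of_le_of_card_ge hP'
        rw [hPcard P', hQc]
        exact Nat.le_of_dvd Nat.card_pos hQ₀
      obtain ⟨g, hg⟩ := MulAction.exists_smul_eq H P' P
      intro w hw
      have hw2 : w ∈ (g • P' : Sylow 19 H) := by rw [hg]; exact hw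
      have hw' : g⁻¹ * w * g ∈ (P' : Subgroup H) :=
        (Cfsg.Agent.Lib.H5.sylow_mem_smul_iff g P' w).mp hw2
      rw [← hQP'] at hw'
      have h1 := hNn.conj_mem _ (hQN hw') g
      have e : g * (g⁻¹ * w * g) * g⁻¹ = w := by group
      rwa [e] at h1
    exact sylow_normal_of_le_normal N P hPN hIHN
  -- 19 ∤ |N| : pass to the quotient
  have hidx_pos : 0 < N.index := Nat.pos_of_ne_zero Subgroup.index_ne_zero_of_finite
  have hQcard : Nat.card (H ⧸ N) = N.index := (Subgroup.index_eq_card N).symm
  have hQdvd : N.index ∣ 19 * d := Dvd.intro_left _ hmul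
  have hQlt : N.index < 19 * d := by
    rcases Nat.lt_or_ge N.index (19 * d) with h | h
    · exact h
    · exfalso
      have : Nat.card N * N.index ≥ 2 * N.index := Nat.mul_le_mul_right _ hNcard1
      omega
  have hIHQ := IH' (H ⧸ N) (by rw [hQcard]; exact hQlt) (by rw [hQcard]; exact hQdvd.trans hdvd)
  -- K = N ⊔ P is normal
  set K : Subgroup H := N ⊔ (P : Subgroup H) with hK
  have hKn : K.Normal := by
    have h1 : ((P.mapSurjective (QuotientGroup.mk'_surjective N) : Sylow 19 (H ⧸ N)) :
        Subgroup (H ⧸ N)).Normal := hIHQ _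
    rw [Sylow.coe_mapSurjective] at h1
    have h2 := h1.comap (QuotientGroup.mk' N)
    rwa [QuotientGroup.comap_map_mk'] at h2
  have hPK : (P : Subgroup H) ≤ K := le_sup_right
  have hNK : N ≤ K := le_sup_left
  by_cases hKt : K = ⊤
  · -- H = N P : Frattini
    have hrelP : N.relIndex (P : Subgroup H) = 19 := by
      have hinf : Nat.card ((P : Subgroup H) ⊓ N : Subgroup H) = 1 := by
        have h1 : Nat.card ((P : Subgroup H) ⊓ N : Subgroup H) ∣ 19 := by
          have h0 := Subgroup.card_dvd_of_le (inf_le_left : (P : Subgroup H) ⊓ N ≤ (P : Subgroup H))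
          rwa [hPcard P] at h0
        have h2 : Nat.card ((P : Subgroup H) ⊓ N : Subgroup H) ∣ Nat.card N :=
          Subgroup.card_dvd_of_le inf_le_right
        rcases (Nat.dvd_prime (by norm_num : Nat.Prime 19)).mp h1 with h | h
        · exact h
        · exact absurd (h ▸ h2) h19N
      have hbot : (P : Subgroup H) ⊓ N = ⊥ := Subgroup.card_eq_one.mp hinf
      rw [← Subgroup.inf_relIndex_left, hbot, Subgroup.relIndex_bot_left, hPcard P]
    have hidx : N.index = 19 := by
      rw [← Subgroup.relIndex_top_right, ← hKt, hK, Subgroup.relIndex_sup_left, hrelP]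
    have hNd : Nat.card N = d := by
      rw [hidx] at hmul
      have : 19 * Nat.card N = 19 * d := by rw [← hmul, mul_comm]
      exact Nat.eq_of_mul_eq_mul_left (by norm_num) this
    apply sylow_normal_of_card_eq_mul N P (hPcard P) (by rw [hn, hNd])
    intro r _ R
    obtain ⟨k, hk⟩ := IsPGroup.iff_card.mp R.2
    rw [hk]
    apply prime_pow_lt_of_dvd Fact.out
    rw [← hk]
    exact ((Subgroup.card_subgroup_dvd_card _).trans (hNd ▸ dvd_rfl)).trans hd
  · -- K is a proper normal subgroup containing P
    have hKlt : Nat.card K < 19 * d := by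
      have h1 : Nat.card K ∣ 19 * d := hn ▸ Subgroup.card_subgroup_dvd_card K
      have h2 : Nat.card K ≤ 19 * d := Nat.le_of_dvd (by omega) h1
      rcases Nat.lt_or_ge (Nat.card K) (19 * d) with h | h
      · exact h
      · exfalso
        apply hKt
        apply Subgroup.eq_top_of_card_eq
        rw [hn]; omega
    have hIHK := IH' K hKlt ((hn ▸ Subgroup.card_subgroup_dvd_card K : Nat.card K ∣ 19 * d).trans hdvd)
    exact sylow_normal_of_le_normal K P hPK hIHK

end Cfsg.Agent.Lib.H28.J1Ord
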