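/-
helper28 library: in the reflection group `twoJ2` of the icosian Leech lattice, the lift of the fourth
generator of the presentation of `J2` squares to minus one; minus one lies in the commutator subgroup.
Built on helper3's tables of the action of ten reflections on the `315` lines.
-/
import Cfsg.Agent.Lib.H3.J2.Bridge
import Cfsg.Agent.Lib.H3.J2.Center

set_option autoImplicit false
set_option maxRecDepth 100000

namespace Cfsg.Agent.Lib.H28.J2Sign

open Quaternion Cfsg.Spor
open Cfsg.Agent.Lib.H3.J2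
open Cfsg.Agent.Lib.H17.CosetCert (force force_eq lk)

/-- the unit recorded in the table of the `m`-th reflection at the line `i` -/
def unitAt (m i : ℕ) : Q := unitL.getD (lk 7 128 (tabU.getD m 0) i) oneM

/-- the line recorded in the table of the `m`-th reflection at the line `i` -/
def lineAt (m i : ℕ) : ℕ := lk 9 512 (tabJ.getD m 0) i

/-- soundness of the test of a table, with the unit exposed -/
theorem chkTab_unit {g tj tu : ℕ} (h : chkTab g tj tu = true) :
    ∀ i < 315, lk 9 512 tj i < 315 ∧
      qrefl (rv g : Fin 3 → ℍ[ℝ]) (rv i) =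
        lsm (val (unitL.getD (lk 7 128 tu i) oneM)) (rv (lk 9 512 tj i)) := by
  unfold chkTab at h
  rw [forceV_eq] at h
  intro i hi
  have hi' := allBelow_sound _ _ h i hi
  unfold entryOK at hi'
  rw [force_eq, force_eq, Bool.and_eq_true, forceV_eq, forceV_eq, forceQ_eq, getV_repsN, getV_repsN,
    getV_repsN, unitNL_eq, getL_map] at hi'
  obtain ⟨hj, hc⟩ := hi'
  refine ⟨?_, ?_⟩
  · simpa [Nat.blt] using hj
  exact entry_sound (repV_valid g) (repV_valid i) (repV_valid _) (unit_getD_mem' _) hc

theorem refl_line {m i : ℕ} (hm : m < 10) (hi : i < 315) :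
    lineAt m i < 315 ∧
      ((ρ (basicL.getD m 0) (rv i) : icoLeech) : Fin 3 → ℍ[ℝ]) =
        lsm (val (unitAt m i)) (rv (lineAt m i)) := by
  obtain ⟨h1, h2⟩ := chkTab_unit (tab_chk m hm) i hi
  refine ⟨h1, ?_⟩
  unfold ρ
  rw [reflPerm_apply]
  exact h2

/-- one step: apply the `m`-th reflection to `s • (line i)` -/
def stepU (m : ℕ) (p : ℕ × Q) : ℕ × Q :=
  (lineAt m p.1, (p.2.mul (unitAt m p.1)).hlf)

/-- the side conditions of one step -/
def stepOK (m : ℕ) (p : ℕ × Q) : Bool :=
  Nat.blt m 10 && (Nat.blt p.1 315 &&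
    decide (p.2.mul (unitAt m p.1) = ((p.2.mul (unitAt m p.1)).hlf).dbl))

/-- follow a line and a unit through a word in the ten reflections -/
def track : List ℕ → ℕ × Q → ℕ × Q
  | [], p => p
  | m :: w, p => stepU m (track w p)

/-- the side conditions along a word -/
def trackOK : List ℕ → ℕ × Q → Bool
  | [], _ => true
  | m :: w, p => trackOK w p && stepOK m (track w p)

theorem isLin_smul {g : Equiv.Perm icoLeech} (hg : IsLin g) {a : ℍ[ℝ]} (ha : a ∈ icosians)
    (x : icoLeech) : ((g (lmul ⟨a, ha⟩ x) : icoLeech) : Fin 3 → ℍ[ℝ]) = lsm a (g x) := by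
  rw [hg.mul]
  rfl

theorem track_sound (i : ℕ) : ∀ w : List ℕ, trackOK w (i, oneM) = true →
    ((gw w (rv i) : icoLeech) : Fin 3 → ℍ[ℝ]) =
      lsm (val (track w (i, oneM)).2) (rv (track w (i, oneM)).1)
  | [], _ => by
    rw [gw_nil]
    show (rv i : Fin 3 → ℍ[ℝ]) = lsm (val oneM) (rv i)
    rw [val_oneM, lsm_one]
  | m :: w, h => by
    have h' : (trackOK w (i, oneM) && stepOK m (track w (i, oneM))) = true := h
    rw [Bool.and_eq_true] at h'
    obtain ⟨h1, h2⟩ := h'
    have ih := track_sound i w h1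
    unfold stepOK at h2
    rw [Bool.and_eq_true, Bool.and_eq_true, decide_eq_true_eq] at h2
    obtain ⟨hm, hj, hd⟩ := h2
    have hm' : m < 10 := by simpa [Nat.blt] using hm
    have hj' : (track w (i, oneM)).1 < 315 := by simpa [Nat.blt] using hj
    obtain ⟨-, hr⟩ := refl_line hm' hj'
    rw [gw_cons, Equiv.Perm.mul_apply]
    unfold ρ at hr ⊢
    rw [reflPerm_apply] at hr ⊢
    rw [ih, qrefl_lsm, hr, lsm_lsm, val_mul hd]
    rfl

/-- the value of the square of the fourth generator at the line `305` -/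
theorem track_wD : trackOK (wD ++ wD) (305, oneM) = true ∧
    track (wD ++ wD) (305, oneM) = (305, oneM.neg) := by decide +kernel

end Cfsg.Agent.Lib.H28.J2Sign
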