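/-
helper28 library: the reflection group `twoJ2` of the icosian Leech lattice is a stem extension of `J2`
with kernel of order two.
-/
import Cfsg.Agent.Lib.H28.J2Sign
import Cfsg.Agent.Lib.H17.J2Ord.Order
import Cfsg.Prelude.Def_KGroupFacts

set_option autoImplicit false
set_option maxRecDepth 100000

namespace Cfsg.Agent.Lib.H28.J2Cover

open Quaternion Cfsg.Spor
open Cfsg.Agent.Lib.H3.J2
open Cfsg.Agent.Lib.H28.J2Sign
open Cfsg.Agent.Lib.H17.J2PGlue (Gen gen idx gen_idx relW lift_rels rels)

/-- the square of the lift of the fourth generator is central -/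
theorem gT_sq_mem_center : gT (wD ++ wD) ∈ Subgroup.center twoJ2 := by
  have h1 : (([3, 3].map gen).map fJ).prod = 1 := prod_fJ_rel [3, 3] (by decide)
  rw [prod_fJ] at h1
  have h2 : expand [3, 3] = wD ++ wD := by decide
  rw [h2] at h1
  unfold gJ at h1
  rwa [QuotientGroup.eq_one_iff] at h1

theorem four_ne_neg_four : (4 : ℍ[ℝ]) ≠ -1 * 4 := by
  intro h
  have e4 : (4 : ℍ[ℝ]) = ((4 : ℝ) : ℍ[ℝ]) := by norm_cast
  rw [e4] at h
  have := congrArg QuaternionAlgebra.re h
  simp at this
  linarith

/-- **the lift of the fourth generator squares to minus one** -/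
theorem gT_sq_eq_negT : gT (wD ++ wD) = negT := by
  rcases (center_eq _).mp gT_sq_mem_center with h | h
  · exfalso
    have h1 : gw (wD ++ wD) = 1 := congrArg Subtype.val h
    have h2 := track_sound 305 (wD ++ wD) track_wD.1
    rw [track_wD.2, h1] at h2
    have h3 : (rv 305 : Fin 3 → ℍ[ℝ]) = lsm (-1) (rv 305) := by
      rw [val_neg, val_oneM] at h2
      exact h2
    have h4 := congrArg (fun v => qip v (rv 305 : Fin 3 → ℍ[ℝ])) h3
    simp only [qip_lsm_left, rv_four] at h4
    exact four_ne_neg_four h4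
  · exact h

/-- a reflection of the basic list, as an element of the group -/
theorem gT_single_sq (m : ℕ) : gT [m] * gT [m] = 1 := by
  apply Subtype.ext
  show gw [m] * gw [m] = 1
  rw [gw_cons, gw_nil, mul_one]
  exact ρ_mul_self _

/-- **minus one is a product of commutators** -/
theorem negT_mem_commutator : negT ∈ commutator twoJ2 := by
  rw [← gT_sq_eq_negT, ← Abelianization.ker_of, MonoidHom.mem_ker]
  have hw : wD = [3] ++ [4] ++ [5] ++ [6] ++ ([3] ++ [4] ++ [5] ++ [6]) ++ ([3] ++ [4] ++ [5] ++ [6]) := by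
    decide
  have hsq : ∀ m, (Abelianization.of (gT [m]) : Abelianization twoJ2) ^ 2 = 1 := by
    intro m
    rw [pow_two, ← map_mul, gT_single_sq, map_one]
  rw [hw]
  simp only [gT_append, map_mul]
  have key : ∀ a b c d : Abelianization twoJ2, a ^ 2 = 1 → b ^ 2 = 1 → c ^ 2 = 1 → d ^ 2 = 1 →
      a * b * c * d * (a * b * c * d) * (a * b * c * d) *
        (a * b * c * d * (a * b * c * d) * (a * b * c * d)) = 1 := by
    intro a b c d ha hb hc hd
    have hy : (a * b * c * d) ^ 2 = 1 := by
      rw [mul_pow, mul_pow, mul_pow, ha, hb, hc, hd]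
      simp
    have e : ∀ y : Abelianization twoJ2, y * y * y * (y * y * y) = (y ^ 2) ^ 3 := by
      intro y
      simp only [pow_succ, pow_zero, one_mul, mul_assoc]
    rw [e, hy, one_pow]
  exact key _ _ _ _ (hsq 3) (hsq 4) (hsq 5) (hsq 6)

/-- the order of the reflection group -/
theorem card_twoJ2 : Nat.card twoJ2 = 1209600 := by
  have hJ : Nat.card J2 = 604800 := by
    rw [← Nat.card_congr presEquivJ2.toEquiv]
    exact Cfsg.Agent.Lib.H17.J2Ord.card_eq
  rw [Subgroup.card_eq_card_quotient_mul_card_subgroup (Subgroup.center twoJ2), card_center]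
  have : Nat.card (twoJ2 ⧸ Subgroup.center twoJ2) = 604800 := hJ
  rw [this]

instance finite_twoJ2 : Finite twoJ2 := Nat.finite_of_card_ne_zero (by rw [card_twoJ2]; norm_num)

/-- the covering map -/
noncomputable def cov : twoJ2 →* J2 := QuotientGroup.mk' (Subgroup.center twoJ2)

theorem ker_cov : cov.ker = Subgroup.center twoJ2 := QuotientGroup.ker_mk' _

theorem isStem_cov : Cfsg.IsStemExtension cov := by
  refine ⟨QuotientGroup.mk'_surjective _, ?_, ?_⟩
  · rw [ker_cov]
  · rw [ker_cov]
    intro z hz
    rcases (center_eq z).mp hz with rfl | rfl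
    · exact Subgroup.one_mem _
    · exact negT_mem_commutator

theorem card_ker_cov : Nat.card cov.ker = 2 := by
  rw [ker_cov]
  exact card_center

end Cfsg.Agent.Lib.H28.J2Cover
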