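import Cfsg.Agent.Lib.H28.J2Words

set_option autoImplicit false

/-! # Relations in the presented Hall–Janko group, in the form used for central extensions -/

namespace Cfsg.Agent.Lib.H28.J2Rel

open Cfsg.Agent.Lib.H17.J2PGlue Cfsg.Agent.Lib.H17.J2Ord Cfsg.Agent.Lib.H28.J2Words

/-- the presented group -/
abbrev G : Type := PresentedGroup rels

/-- generator a -/ noncomputable abbrev A : G := PresentedGroup.of Cfsg.Agent.Lib.H17.J2Pres.Gen.a
/-- generator b -/ noncomputable abbrev B : G := PresentedGroup.of Cfsg.Agent.Lib.H17.J2Pres.Gen.b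
/-- generator c -/ noncomputable abbrev C : G := PresentedGroup.of Cfsg.Agent.Lib.H17.J2Pres.Gen.c
/-- generator d -/ noncomputable abbrev D : G := PresentedGroup.of Cfsg.Agent.Lib.H17.J2Pres.Gen.d
/-- generator e -/ noncomputable abbrev E : G := PresentedGroup.of Cfsg.Agent.Lib.H17.J2Pres.Gen.e

theorem AA : A * A = 1 := of_mul_self _
theorem BB : B * B = 1 := of_mul_self _
theorem CC : C * C = 1 := of_mul_self _
theorem DD : D * D = 1 := of_mul_self _
theorem EE : E * E = 1 := of_mul_self _

theorem A_inv : A⁻¹ = A := inv_eq_of_mul_eq_one_left AA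
theorem B_inv : B⁻¹ = B := inv_eq_of_mul_eq_one_left BB
theorem C_inv : C⁻¹ = C := inv_eq_of_mul_eq_one_left CC
theorem D_inv : D⁻¹ = D := inv_eq_of_mul_eq_one_left DD
theorem E_inv : E⁻¹ = E := inv_eq_of_mul_eq_one_left EE

theorem relw (w : List ℕ) (hw : w ∈ relW) :
    ((w.map gen).map (PresentedGroup.of (rels := rels))).prod = 1 := relW_trivial w hw

theorem br_ab : A * B * A * B * A = B * A * B * A * B := by
  have h := relw [0, 1, 0, 1, 0, 1, 0, 1, 0, 1] (by decide)
  simp only [List.map_cons, List.map_nil, List.prod_cons, List.prod_nil, gen, mul_one] at h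
  have h2 : A * B * A * B * A * (B * A * B * A * B) = 1 := by
    simpa only [mul_assoc] using h
  have := eq_inv_of_mul_eq_one_left h2
  rw [this]
  simp only [mul_inv_rev, A_inv, B_inv, mul_assoc]

theorem br_bc : B * C * B = C * B * C := by
  have h := relw [1, 2, 1, 2, 1, 2] (by decide)
  simp only [List.map_cons, List.map_nil, List.prod_cons, List.prod_nil, gen, mul_one] at h
  have h2 : B * C * B * (C * B * C) = 1 := by
    simpa only [mul_assoc] using h
  have := eq_inv_of_mul_eq_one_left h2
  rw [this]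
  simp only [mul_inv_rev, C_inv, B_inv, mul_assoc]

theorem br_de : D * E * D = E * D * E := by
  have h := relw [3, 4, 3, 4, 3, 4] (by decide)
  simp only [List.map_cons, List.map_nil, List.prod_cons, List.prod_nil, gen, mul_one] at h
  have h2 : D * E * D * (E * D * E) = 1 := by
    simpa only [mul_assoc] using h
  have := eq_inv_of_mul_eq_one_left h2
  rw [this]
  simp only [mul_inv_rev, D_inv, E_inv, mul_assoc]

theorem comm_of_sq {x y : G} (hx : x * x = 1) (hy : y * y = 1) (h : x * (y * (x * y)) = 1) :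
    x * y = y * x := by
  have h2 : x * y * (x * y) = 1 := by simpa only [mul_assoc] using h
  have := eq_inv_of_mul_eq_one_left h2
  rw [this, mul_inv_rev, inv_eq_of_mul_eq_one_left hx, inv_eq_of_mul_eq_one_left hy]

theorem cm_ac : A * C = C * A := by
  have h := relw [0, 2, 0, 2] (by decide)
  simp only [List.map_cons, List.map_nil, List.prod_cons, List.prod_nil, gen, mul_one] at h
  exact comm_of_sq AA CC h

theorem cm_ad : A * D = D * A := by
  have h := relw [0, 3, 0, 3] (by decide)
  simp only [List.map_cons, List.map_nil, List.prod_cons, List.prod_nil, gen, mul_one] at h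
  exact comm_of_sq AA DD h

theorem cm_ae : A * E = E * A := by
  have h := relw [0, 4, 0, 4] (by decide)
  simp only [List.map_cons, List.map_nil, List.prod_cons, List.prod_nil, gen, mul_one] at h
  exact comm_of_sq AA EE h

theorem cm_bd : B * D = D * B := by
  have h := relw [1, 3, 1, 3] (by decide)
  simp only [List.map_cons, List.map_nil, List.prod_cons, List.prod_nil, gen, mul_one] at h
  exact comm_of_sq BB DD h

theorem cm_be : B * E = E * B := by
  have h := relw [1, 4, 1, 4] (by decide)
  simp only [List.map_cons, List.map_nil, List.prod_cons, List.prod_nil, gen, mul_one] at h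
  exact comm_of_sq BB EE h

theorem cm_ce : C * E = E * C := by
  have h := relw [2, 4, 2, 4] (by decide)
  simp only [List.map_cons, List.map_nil, List.prod_cons, List.prod_nil, gen, mul_one] at h
  exact comm_of_sq CC EE h

/-- `a = (c d⁻¹ c d)^2` -/
theorem rel_a : (C * D⁻¹ * C * D) ^ 2 = A := by
  have h := relw [0, 3, 2, 3, 2, 3, 2, 3, 2] (by decide)
  simp only [List.map_cons, List.map_nil, List.prod_cons, List.prod_nil, gen, mul_one] at h
  -- A * (D C D C D C D C) = 1
  have h2 : A * (D * C * D * C * D * C * D * C) = 1 := by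
    simpa only [mul_assoc] using h
  have h3 : A = (D * C * D * C * D * C * D * C)⁻¹ := eq_inv_of_mul_eq_one_left h2
  rw [h3, D_inv, pow_two]
  simp only [mul_inv_rev, C_inv, D_inv, mul_assoc]

/-- the long relator, with `d⁻¹` in place of every other `d` -/
theorem rel_L : ((B * C * D⁻¹ * C * D) ^ 5 * E) ^ 3 = 1 := by
  have h := relw _ (by decide : [1, 2, 3, 2, 3, 1, 2, 3, 2, 3, 1, 2, 3, 2, 3, 1, 2, 3, 2, 3, 1, 2, 3, 2, 3, 4, 1, 2, 3, 2, 3, 1, 2, 3, 2, 3, 1, 2, 3, 2, 3, 1, 2, 3, 2, 3, 1, 2, 3, 2, 3, 4, 1, 2, 3, 2, 3, 1, 2, 3, 2, 3, 1, 2, 3, 2, 3, 1, 2, 3, 2, 3, 1, 2, 3, 2, 3, 4] ∈ relW)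
  simp only [List.map_cons, List.map_nil, List.prod_cons, List.prod_nil, gen, mul_one] at h
  rw [D_inv]
  simp only [pow_succ, pow_zero, one_mul, mul_assoc]
  exact h

theorem rel_abc : (A * B * C) ^ 5 = 1 := by
  have h := abc_pow_five
  unfold e wABC at h
  simp only [List.map_cons, List.map_nil, List.prod_cons, List.prod_nil, gen, mul_one] at h
  simp only [pow_succ, pow_zero, one_mul, mul_assoc]
  exact h

theorem rel_g15 : (B * C * D⁻¹ * C * D) ^ 15 = 1 := by
  have h := g_pow_fifteen
  unfold e wG15 at h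
  simp only [List.map_cons, List.map_nil, List.prod_cons, List.prod_nil, gen, mul_one] at h
  rw [D_inv]
  simp only [pow_succ, pow_zero, one_mul, mul_assoc]
  exact h

end Cfsg.Agent.Lib.H28.J2Rel
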