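import Cfsg.Agent.Lib.H28.J2Rel
import Cfsg.Agent.Lib.H28.StemPres
import Cfsg.Agent.Lib.H28.CentralTools2

set_option autoImplicit false

/-!
# The kernel of a stem extension of the Hall–Janko group has at most two elements

Lifts of the generators of the presentation are normalised by central rescalings so that
all relator values become powers of one central element `ζ`, which is then shown to
satisfy `ζ² = 1`.
-/

namespace Cfsg.Agent.Lib.H28.J2Upper

open Subgroup
open Cfsg.Agent.Lib.H28.J2Rel Cfsg.Agent.Lib.H28.CentralTools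
open scoped commutatorElement

variable {Γ : Type*} [Group Γ] {σ : Γ →* G}

/-- lifts of the five generators -/
structure IsLift (σ : Γ →* G) (a b c d e : Γ) : Prop where
  ha : σ a = A
  hb : σ b = B
  hc : σ c = C
  hd : σ d = D
  he : σ e = E

/-- the three braid relations -/
structure Braided (a b c d e : Γ) : Prop where
  ab : a * b * a * b * a = b * a * b * a * b
  bc : b * c * b = c * b * c
  de : d * e * d = e * d * e

theorem cen_of_map (hcen : σ.ker ≤ center Γ) {x : Γ} (h : σ x = 1) : x ∈ center Γ :=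
  hcen (MonoidHom.mem_ker.mpr h)

theorem mem_commSub_of_map (hcen : σ.ker ≤ center Γ) {x y : Γ} (h : σ x * σ y = σ y * σ x) :
    x ∈ commSub y := by
  rw [mem_commSub]
  apply cen_of_map hcen
  rw [map_commutatorElement, commutatorElement_eq_one_iff_commute]
  exact h

theorem eq_of_comm_one {x y : Γ} (h : ⁅x, y⁆ = 1) : x * y = y * x :=
  commutatorElement_eq_one_iff_commute.mp h

/-- conjugation identities in `G` -/
theorem conj_ab : (A * B * A * B * A * (A * B * A * B)⁻¹)⁻¹ * B = 1 := by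
  have h : A * B * A * B * A = B * (A * B * A * B) := by rw [br_ab]; group
  rw [h]; group

theorem conj_bc : (B * C * B * (B * C)⁻¹)⁻¹ * C = 1 := by
  have h : B * C * B = C * (B * C) := by rw [br_bc]; group
  rw [h]; group

theorem conj_ed : (E * D * E * (E * D)⁻¹)⁻¹ * D = 1 := by
  have h : E * D * E = D * (E * D) := by rw [← br_de]; group
  rw [h]; group

/-- **Part I.** Any lifts of commuting generators commute. -/
theorem lifts_commute (hcen : σ.ker ≤ center Γ) {a b c d e : Γ} (hl : IsLift σ a b c d e) :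
    a * e = e * a ∧ b * e = e * b ∧ c * e = e * c ∧ a * d = d * a ∧ b * d = d * b ∧
      a * c = c * a := by
  obtain ⟨ha, hb, hc, hd, he⟩ := hl
  have haa : a * a ∈ center Γ := cen_of_map hcen (by rw [map_mul, ha, AA])
  have hcc : c * c ∈ center Γ := cen_of_map hcen (by rw [map_mul, hc, CC])
  have hdd : d * d ∈ center Γ := cen_of_map hcen (by rw [map_mul, hd, DD])
  have hab : ((a * b * a * b) * a * (a * b * a * b)⁻¹)⁻¹ * b ∈ center Γ :=
    cen_of_map hcen (by simp only [map_mul, map_inv, ha, hb]; exact conj_ab)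
  have hbc : ((b * c) * b * (b * c)⁻¹)⁻¹ * c ∈ center Γ :=
    cen_of_map hcen (by simp only [map_mul, map_inv, hb, hc]; exact conj_bc)
  have hed : ((e * d) * e * (e * d)⁻¹)⁻¹ * d ∈ center Γ :=
    cen_of_map hcen (by simp only [map_mul, map_inv, hd, he]; exact conj_ed)
  have h5 : (a * b * c) ^ 5 ∈ center Γ :=
    cen_of_map hcen (by simp only [map_pow, map_mul, ha, hb, hc]; exact rel_abc)
  -- y = e
  have mae : a ∈ commSub e := mem_commSub_of_map hcen (by rw [ha, he, cm_ae])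
  have mbe : b ∈ commSub e := mem_commSub_of_map hcen (by rw [hb, he, cm_be])
  have mce : c ∈ commSub e := mem_commSub_of_map hcen (by rw [hc, he, cm_ce])
  obtain ⟨cae, cbe, cce⟩ := comm_eq_one_of_triple mae mbe mce haa hab hbc h5
  -- y = a
  have mea : e ∈ commSub a := mem_commSub_of_map hcen (by rw [ha, he, cm_ae])
  have mda : d ∈ commSub a := mem_commSub_of_map hcen (by rw [ha, hd, cm_ad])
  have cea : ⁅e, a⁆ = 1 := by rw [← commutatorElement_inv, cae, inv_one]
  have cda : ⁅d, a⁆ = 1 := by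
    have := (comm_eq_of_conj mea (mul_mem mea mda) hed).2
    rw [this, cea]
  have cad : ⁅a, d⁆ = 1 := by rw [← commutatorElement_inv, cda, inv_one]
  -- y = d
  have mad : a ∈ commSub d := mem_commSub_of_map hcen (by rw [ha, hd, cm_ad])
  have mbd : b ∈ commSub d := mem_commSub_of_map hcen (by rw [hb, hd, cm_bd])
  have cbd : ⁅b, d⁆ = 1 := by
    have := (comm_eq_of_conj mad (mul_mem (mul_mem (mul_mem mad mbd) mad) mbd) hab).2
    rw [this, cad]
  -- a and c
  have hk : ((c * d⁻¹ * c * d) ^ 2)⁻¹ * a ∈ center Γ :=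
    cen_of_map hcen (by
      simp only [map_pow, map_mul, map_inv, ha, hc, hd]
      rw [rel_a, inv_mul_cancel])
  have hac := (q_lemma hcc hdd hk (eq_of_comm_one cad)).2
  exact ⟨eq_of_comm_one cae, eq_of_comm_one cbe, eq_of_comm_one cce, eq_of_comm_one cad,
    eq_of_comm_one cbd, hac⟩

/-- **Part II.** Lifts satisfying the braid relations exactly. -/
theorem exists_braided (hsurj : Function.Surjective σ) (hcen : σ.ker ≤ center Γ) :
    ∃ a b c d e : Γ, IsLift σ a b c d e ∧ Braided a b c d e := by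
  obtain ⟨a, ha⟩ := hsurj A
  obtain ⟨b₀, hb₀⟩ := hsurj B
  obtain ⟨c₀, hc₀⟩ := hsurj C
  obtain ⟨d, hd⟩ := hsurj D
  obtain ⟨e₀, he₀⟩ := hsurj E
  -- b
  obtain ⟨β, hβ⟩ : ∃ β, β = (b₀ * a * b₀ * a * b₀)⁻¹ * (a * b₀ * a * b₀ * a) := ⟨_, rfl⟩
  have sβ : σ β = 1 := by
    rw [hβ]; simp only [map_mul, map_inv, ha, hb₀]; rw [br_ab, inv_mul_cancel]
  have h1 : a * b₀ * a * b₀ * a = b₀ * a * b₀ * a * b₀ * β := by rw [hβ]; group
  have br1 := braid5_fix (cen_of_map hcen sβ) h1
  obtain ⟨b, hbdef⟩ : ∃ b, b = b₀ * β := ⟨_, rfl⟩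
  rw [← hbdef] at br1
  have hb : σ b = B := by rw [hbdef, map_mul, hb₀, sβ, mul_one]
  -- c
  obtain ⟨β', hβ'⟩ : ∃ β', β' = (c₀ * b * c₀)⁻¹ * (b * c₀ * b) := ⟨_, rfl⟩
  have sβ' : σ β' = 1 := by
    rw [hβ']; simp only [map_mul, map_inv, hb, hc₀]; rw [br_bc, inv_mul_cancel]
  have h2 : b * c₀ * b = c₀ * b * c₀ * β' := by rw [hβ']; group
  have br2 := braid3_fix (cen_of_map hcen sβ') h2
  obtain ⟨c, hcdef⟩ : ∃ c, c = c₀ * β' := ⟨_, rfl⟩
  rw [← hcdef] at br2
  have hc : σ c = C := by rw [hcdef, map_mul, hc₀, sβ', mul_one]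
  -- e
  obtain ⟨β'', hβ''⟩ : ∃ β'', β'' = (e₀ * d * e₀)⁻¹ * (d * e₀ * d) := ⟨_, rfl⟩
  have sβ'' : σ β'' = 1 := by
    rw [hβ'']; simp only [map_mul, map_inv, hd, he₀]; rw [br_de, inv_mul_cancel]
  have h3 : d * e₀ * d = e₀ * d * e₀ * β'' := by rw [hβ'']; group
  have br3 := braid3_fix (cen_of_map hcen sβ'') h3
  obtain ⟨e, hedef⟩ : ∃ e, e = e₀ * β'' := ⟨_, rfl⟩
  rw [← hedef] at br3
  have he : σ e = E := by rw [hedef, map_mul, he₀, sβ'', mul_one]
  exact ⟨a, b, c, d, e, ⟨ha, hb, hc, hd, he⟩, ⟨br1, br2, br3⟩⟩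

open scoped IsMulCommutative in
/-- the commutative algebra behind the rescaling to involutions -/
theorem comm_alg {C : Type*} [CommGroup C] (z k : C) (h : z = z ^ 4 * (k * k)) :
    z * ((z * k) * (z * k)) = 1 ∧ k * (z * k) = ((z * k) * (z * k)) ^ 2 := by
  have h3 : z ^ 3 * (k * k) = 1 := by
    have : z = z * (z ^ 3 * (k * k)) := by
      rw [← mul_assoc, ← pow_succ']; exact h
    exact (left_eq_mul.mp this)
  have e0 : z * ((z * k) * (z * k)) = z ^ 3 * (k * k) := by
    simp only [pow_succ, pow_zero, one_mul]; ac_rfl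
  have f1 : z * ((z * k) * (z * k)) = 1 := e0.trans h3
  refine ⟨f1, ?_⟩
  have e1 : k * (z * k) * (z * z) = 1 := by
    rw [← h3]; simp only [pow_succ, pow_zero, one_mul]; ac_rfl
  have e2 : ((z * k) * (z * k)) ^ 2 * (z * z) = 1 := by
    have : ((z * k) * (z * k)) ^ 2 * (z * z) =
        (z * ((z * k) * (z * k))) * (z * ((z * k) * (z * k))) := by
      rw [pow_two]; ac_rfl
    rw [this, f1, one_mul]
  exact mul_right_cancel (e1.trans e2.symm)

theorem scale_inv_cancel {m : Γ} (hm : m ∈ center Γ) (x y z : Γ) :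
    x * (y * m)⁻¹ * z * (y * m) = x * y⁻¹ * z * y := by
  calc x * (y * m)⁻¹ * z * (y * m) = x * m⁻¹ * (y⁻¹ * z * y) * m := by group
    _ = m⁻¹ * (x * (y⁻¹ * z * y)) * m := by rw [central_pull (inv_mem hm)]
    _ = m⁻¹ * ((x * (y⁻¹ * z * y)) * m) := by group
    _ = m⁻¹ * (m * (x * (y⁻¹ * z * y))) := by rw [cen_comm hm]
    _ = x * y⁻¹ * z * y := by group

theorem mul_mul_central {x v : Γ} (hv : v ∈ center Γ) : x * v * (x * v) = x * x * (v * v) := by
  calc x * v * (x * v) = x * v * x * v := by group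
    _ = v * (x * x) * v := by rw [central_pull hv]
    _ = x * x * v * v := by rw [cen_comm hv]
    _ = x * x * (v * v) := by group

open scoped IsMulCommutative in
/-- **Part III.** Rescaling `a, b, c` to involutions with `a = (c d⁻¹ c d)²`. -/
theorem exists_invol (hcen : σ.ker ≤ center Γ) {a b c d e : Γ} (hl : IsLift σ a b c d e)
    (hbr : Braided a b c d e) :
    ∃ a' b' c' : Γ, IsLift σ a' b' c' d e ∧ Braided a' b' c' d e ∧ a' * a' = 1 ∧ b' * b' = 1 ∧
      c' * c' = 1 ∧ a' = (c' * d⁻¹ * c' * d) ^ 2 := by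
  have hcm := lifts_commute hcen hl
  obtain ⟨ha, hb, hc, hd, he⟩ := hl
  obtain ⟨z, hz⟩ : ∃ z, z = a * a := ⟨_, rfl⟩
  have sz : σ z = 1 := by rw [hz, map_mul, ha, AA]
  have hzc : z ∈ center Γ := cen_of_map hcen sz
  have hbb : b * b = z := by rw [hz]; exact sq_eq_of_braid5 (hz ▸ hzc) hbr.ab
  have hcc : c * c = z := by rw [← hbb]; exact sq_eq_of_braid3 (hbb ▸ hzc) hbr.bc
  have hdd : d * d ∈ center Γ := cen_of_map hcen (by rw [map_mul, hd, DD])
  obtain ⟨q, hq⟩ : ∃ q, q = c * d⁻¹ * c * d := ⟨_, rfl⟩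
  obtain ⟨k, hk⟩ : ∃ k, k = (q ^ 2)⁻¹ * a := ⟨_, rfl⟩
  have sk : σ k = 1 := by
    rw [hk, hq]; simp only [map_pow, map_mul, map_inv, ha, hc, hd]
    rw [rel_a, inv_mul_cancel]
  have hkc : k ∈ center Γ := cen_of_map hcen sk
  have hq4 : q ^ 4 = z ^ 4 := by
    have := (q_lemma (hcc ▸ hzc) hdd (by rw [← hq, ← hk]; exact hkc) hcm.2.2.2.1).1
    rw [← hq, hcc] at this
    exact this
  have haq : a = q ^ 2 * k := by rw [hk]; group
  -- z = z^4 * (k*k)
  have hQ4 : z = z ^ 4 * (k * k) := by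
    calc z = a * a := hz
      _ = q ^ 2 * k * (q ^ 2 * k) := by rw [← haq]
      _ = q ^ 2 * q ^ 2 * (k * k) := mul_mul_central hkc
      _ = q ^ 4 * (k * k) := by rw [← pow_add]
      _ = z ^ 4 * (k * k) := by rw [hq4]
  obtain ⟨v, hv⟩ : ∃ v, v = z * k := ⟨_, rfl⟩
  have sv : σ v = 1 := by rw [hv, map_mul, sz, sk, mul_one]
  have hvc : v ∈ center Γ := cen_of_map hcen sv
  -- the commutative algebra, in the centre
  obtain ⟨f1, f2⟩ := comm_alg (⟨z, hzc⟩ : center Γ) ⟨k, hkc⟩ (Subtype.ext hQ4)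
  have F1 : z * (v * v) = 1 := by
    have := congrArg Subtype.val f1
    rw [hv]; exact this
  have F2 : k * v = (v * v) ^ 2 := by
    have := congrArg Subtype.val f2
    rw [hv]; exact this
  have sqv : ∀ x : Γ, x * x = z → x * v * (x * v) = 1 := by
    intro x hx
    rw [mul_mul_central hvc, hx, F1]
  refine ⟨a * v, b * v, c * v, ⟨by rw [map_mul, ha, sv, mul_one], by rw [map_mul, hb, sv, mul_one],
    by rw [map_mul, hc, sv, mul_one], hd, he⟩, ⟨braid5_scale hvc hbr.ab, braid3_scale hvc hbr.bc,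
    hbr.de⟩, sqv a hz.symm, sqv b hbb, sqv c hcc, ?_⟩
  -- a v = (c v d⁻¹ c v d)^2
  have hq' : c * v * d⁻¹ * (c * v) * d = q * (v * v) := by
    calc c * v * d⁻¹ * (c * v) * d = c * v * (d⁻¹ * c) * v * d := by group
      _ = v * (c * (d⁻¹ * c)) * v * d := by rw [central_pull hvc c (d⁻¹ * c)]
      _ = v * (c * (d⁻¹ * c) * v * d) := by group
      _ = v * (v * (c * (d⁻¹ * c) * d)) := by rw [central_pull hvc (c * (d⁻¹ * c)) d]
      _ = v * v * q := by rw [hq]; group
      _ = q * (v * v) := cen_comm (mul_mem hvc hvc) q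
  rw [hq', (cen_commute (mul_mem hvc hvc) q).symm.mul_pow, ← F2, haq]
  group

/-- **Part IV.** Rescaling `d, e` so that the long relator takes the value `d²`. -/
theorem exists_normalised (hcen : σ.ker ≤ center Γ) {a b c d e : Γ} (hl : IsLift σ a b c d e)
    (hbr : Braided a b c d e) (haq : a = (c * d⁻¹ * c * d) ^ 2) :
    ∃ d' e' : Γ, IsLift σ a b c d' e' ∧ Braided a b c d' e' ∧ a = (c * d'⁻¹ * c * d') ^ 2 ∧
      e' * e' = d' * d' ∧ ((b * c * d'⁻¹ * c * d') ^ 5 * e') ^ 3 = d' * d' := by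
  obtain ⟨ha, hb, hc, hd, he⟩ := hl
  obtain ⟨ζ₀, hζ₀⟩ : ∃ ζ₀, ζ₀ = d * d := ⟨_, rfl⟩
  have sζ : σ ζ₀ = 1 := by rw [hζ₀, map_mul, hd, DD]
  have hζc : ζ₀ ∈ center Γ := cen_of_map hcen sζ
  have hee : e * e = ζ₀ := by rw [hζ₀]; exact sq_eq_of_braid3 (hζ₀ ▸ hζc) hbr.de
  obtain ⟨L₀, hL₀⟩ : ∃ L₀, L₀ = ((b * c * d⁻¹ * c * d) ^ 5 * e) ^ 3 := ⟨_, rfl⟩
  have sL : σ L₀ = 1 := by
    rw [hL₀]; simp only [map_pow, map_mul, map_inv, hb, hc, hd, he]; exact rel_L
  have hLc : L₀ ∈ center Γ := cen_of_map hcen sL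
  obtain ⟨m, hm⟩ : ∃ m, m = ζ₀ * L₀⁻¹ := ⟨_, rfl⟩
  have sm : σ m = 1 := by rw [hm, map_mul, map_inv, sζ, sL]; simp
  have hmc : m ∈ center Γ := cen_of_map hcen sm
  have hq' : c * (d * m)⁻¹ * c * (d * m) = c * d⁻¹ * c * d := scale_inv_cancel hmc c d c
  have hg' : b * c * (d * m)⁻¹ * c * (d * m) = b * c * d⁻¹ * c * d :=
    scale_inv_cancel hmc (b * c) d c
  refine ⟨d * m, e * m, ⟨ha, hb, hc, by rw [map_mul, hd, sm, mul_one],
    by rw [map_mul, he, sm, mul_one]⟩, ⟨hbr.ab, hbr.bc, braid3_scale hmc hbr.de⟩, ?_, ?_, ?_⟩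
  · rw [hq']; exact haq
  · rw [mul_mul_central hmc, mul_mul_central hmc, hee, hζ₀]
  · rw [hg', ← mul_assoc, mul_central_pow hmc, ← hL₀, mul_mul_central hmc, ← hζ₀]
    -- L₀ * m^3 = ζ₀ * (m*m)
    have e1 : L₀ * m = ζ₀ := by
      rw [hm, cen_comm hLc, mul_assoc, inv_mul_cancel, mul_one]
    calc L₀ * m ^ 3 = L₀ * m * (m * m) := by rw [pow_three]; group
      _ = ζ₀ * (m * m) := by rw [e1]

/-- **Part V.** For normalised lifts the central element `ζ = d²` satisfies `ζ² = 1`. -/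
theorem zeta_sq (hcen : σ.ker ≤ center Γ) {a b c d e : Γ} (hl : IsLift σ a b c d e)
    (hbb : b * b = 1) (hcc : c * c = 1)
    (hee : e * e = d * d) (hL : ((b * c * d⁻¹ * c * d) ^ 5 * e) ^ 3 = d * d) :
    (d * d) * (d * d) = 1 := by
  have hcm := lifts_commute hcen hl
  obtain ⟨ha, hb, hc, hd, he⟩ := hl
  have hζc : d * d ∈ center Γ := cen_of_map hcen (by rw [map_mul, hd, DD])
  obtain ⟨g, hg⟩ : ∃ g, g = b * c * d⁻¹ * c * d := ⟨_, rfl⟩
  rw [← hg] at hL
  have sκ : σ (g ^ 15) = 1 := by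
    rw [hg]; simp only [map_pow, map_mul, map_inv, hb, hc, hd]; exact rel_g15
  have hκc : g ^ 15 ∈ center Γ := cen_of_map hcen sκ
  have hinv : (b * d) * g * (b * d)⁻¹ = g⁻¹ := by
    rw [hg]; exact inv_lemma hbb hcc hζc hcm.2.2.2.2.1
  have hκ2 : g ^ 15 * g ^ 15 = 1 := by
    have e1 : (b * d) * g ^ 15 * (b * d)⁻¹ = (g ^ 15)⁻¹ := by
      rw [← conj_pow, hinv, inv_pow]
    have e2 : (b * d) * g ^ 15 * (b * d)⁻¹ = g ^ 15 := by
      rw [central_pull hκc, mul_inv_cancel, mul_one]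
    rw [e2] at e1
    nth_rewrite 1 [e1]
    exact inv_mul_cancel _
  have hw : g ^ 5 * g ^ 5 * g ^ 5 = g ^ 15 := by rw [← pow_add, ← pow_add]
  have hwe : g ^ 5 * e * (g ^ 5 * e) * (g ^ 5 * e) = d * d := by rw [← pow_three', hL]
  exact a4_special hζc hκc hκ2 hee hw hwe

open Cfsg.Agent.Lib.H17.J2PGlue in
/-- involutions satisfying the braid form of the presentation kill all the relator words -/
theorem relW_of_relations {H : Type*} [Group H] (f : Gen → H) {a b c d e : H}
    (fa : f .a = a) (fb : f .b = b) (fc : f .c = c) (fd : f .d = d) (fe : f .e = e)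
    (haa : a * a = 1) (hbb : b * b = 1) (hcc : c * c = 1) (hdd : d * d = 1) (hee : e * e = 1)
    (hab : a * b * a * b * a = b * a * b * a * b) (hbc : b * c * b = c * b * c)
    (hde : d * e * d = e * d * e)
    (cac : a * c = c * a) (cad : a * d = d * a) (cae : a * e = e * a) (cbd : b * d = d * b)
    (cbe : b * e = e * b) (cce : c * e = e * c)
    (haq : a = (c * d * c * d) ^ 2)
    (hL : ((b * c * d * c * d) ^ 5 * e) ^ 3 = 1) :
    ∀ w ∈ relW, ((w.map gen).map f).prod = 1 := by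
  have aa' : ∀ x, a * (a * x) = x := fun x => by rw [← mul_assoc, haa, one_mul]
  have bb' : ∀ x, b * (b * x) = x := fun x => by rw [← mul_assoc, hbb, one_mul]
  have cc' : ∀ x, c * (c * x) = x := fun x => by rw [← mul_assoc, hcc, one_mul]
  have dd' : ∀ x, d * (d * x) = x := fun x => by rw [← mul_assoc, hdd, one_mul]
  have ee' : ∀ x, e * (e * x) = x := fun x => by rw [← mul_assoc, hee, one_mul]
  intro w hw
  simp only [relW, List.mem_cons, List.not_mem_nil, or_false] at hw
  rcases hw with rfl | rfl | rfl | rfl | rfl | rfl | rfl | rfl | rfl | rfl | rfl | rfl | rfl |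
    rfl | rfl | rfl | rfl | rfl <;>
  simp only [List.map_cons, List.map_nil, List.prod_cons, List.prod_nil, gen, mul_one,
    fa, fb, fc, fd, fe]
  · rw [show a * (b * (a * (b * (a * (b * (a * (b * (a * b)))))))) =
      (a * b * a * b * a) * (b * a * b * a * b) by simp only [mul_assoc], hab]
    simp only [mul_assoc, aa', bb', haa, hbb]
  · rw [cac]; simp only [cc', haa]
  · rw [cad]; simp only [dd', haa]
  · rw [cae]; simp only [ee', haa]
  · rw [show b * (c * (b * (c * (b * c)))) = (b * c * b) * (c * b * c) by simp only [mul_assoc],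
      hbc]
    simp only [mul_assoc, bb', cc', hbb, hcc]
  · rw [cbd]; simp only [dd', hbb]
  · rw [cbe]; simp only [ee', hbb]
  · have := haa
    rw [haq] at this
    simp only [pow_two, mul_assoc] at this
    exact this
  · rw [cce]; simp only [ee', hcc]
  · rw [show d * (e * (d * (e * (d * e)))) = (d * e * d) * (e * d * e) by simp only [mul_assoc],
      hde]
    simp only [mul_assoc, dd', ee', hdd, hee]
  · rw [haq]
    simp only [pow_two, mul_assoc, dd', cc', hdd, hcc]
  · simp only [pow_succ, pow_zero, one_mul, mul_assoc] at hL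
    exact hL
  · exact haa
  · exact hbb
  · exact hcc
  · exact hdd
  · exact hee

open Cfsg.Agent.Lib.H17.J2PGlue in
/-- **The kernel of a stem extension of the presented Hall–Janko group is generated by an element
of order at most two.** -/
theorem exists_zeta (hstem : Cfsg.IsStemExtension σ) :
    ∃ ζ : Γ, ζ * ζ = 1 ∧ σ.ker ≤ zpowers ζ := by
  obtain ⟨hsurj, hcen, hcomm⟩ := hstem
  obtain ⟨a₀, b₀, c₀, d₀, e₀, hl₀, hbr₀⟩ := exists_braided hsurj hcen
  obtain ⟨a, b, c, hl₁, hbr₁, haa, hbb, hcc, haq₁⟩ := exists_invol hcen hl₀ hbr₀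
  obtain ⟨d, e, hl, hbr, haq, hee, hL⟩ := exists_normalised hcen hl₁ hbr₁ haq₁
  have hζ2 := zeta_sq hcen hl hbb hcc hee hL
  have hcm := lifts_commute hcen hl
  obtain ⟨ζ, hζ⟩ : ∃ ζ, ζ = d * d := ⟨_, rfl⟩
  rw [← hζ] at hζ2 hee hL
  have hζc : ζ ∈ center Γ := cen_of_map hcen (by rw [hζ, map_mul, hl.hd, DD])
  refine ⟨ζ, hζ2, ?_⟩
  -- the assignment of the lifts
  let g : Gen → Γ := fun u => match u with
    | .a => a
    | .b => b
    | .c => c
    | .d => d
    | .e => e
  have hg : ∀ x, σ (g x) = PresentedGroup.of x := by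
    intro x
    cases x
    · exact hl.ha
    · exact hl.hb
    · exact hl.hc
    · exact hl.hd
    · exact hl.he
  have hV : zpowers ζ ≤ center Γ := (zpowers_le).mpr hζc
  apply Cfsg.Agent.Lib.H28.StemPres.ker_le_of_relator_values σ hcen hcomm g hg (zpowers ζ) hV
  -- the relators, in the quotient by `⟨ζ⟩`
  have hVn : (zpowers ζ).Normal := ⟨fun n hn x => by
    have := (mem_center_iff.mp (hV hn)) x
    rw [this, mul_inv_cancel_right]
    exact hn⟩
  let π := QuotientGroup.mk' (zpowers ζ)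
  have πζ : π ζ = 1 := (QuotientGroup.eq_one_iff _).mpr (mem_zpowers ζ)
  have πdd : π d * π d = 1 := by rw [← map_mul, ← hζ, πζ]
  have πdi : (π d)⁻¹ = π d := inv_eq_of_mul_eq_one_left πdd
  have hW := relW_of_relations (fun u => π (g u)) (a := π a) (b := π b) (c := π c) (d := π d)
    (e := π e) rfl rfl rfl rfl rfl
    (by rw [← map_mul, haa, map_one]) (by rw [← map_mul, hbb, map_one])
    (by rw [← map_mul, hcc, map_one]) πdd (by rw [← map_mul, hee, πζ])
    (by simpa only [map_mul] using congrArg π hbr.ab)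
    (by simpa only [map_mul] using congrArg π hbr.bc)
    (by simpa only [map_mul] using congrArg π hbr.de)
    (by simpa only [map_mul] using congrArg π hcm.2.2.2.2.2)
    (by simpa only [map_mul] using congrArg π hcm.2.2.2.1)
    (by simpa only [map_mul] using congrArg π hcm.1)
    (by simpa only [map_mul] using congrArg π hcm.2.2.2.2.1)
    (by simpa only [map_mul] using congrArg π hcm.2.1)
    (by simpa only [map_mul] using congrArg π hcm.2.2.1)
    (by
      have := congrArg π haq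
      simp only [map_mul, map_pow, map_inv, πdi] at this
      exact this)
    (by
      have := congrArg π hL
      simp only [map_mul, map_pow, map_inv, πdi, πζ] at this
      exact this)
  have hinv : ∀ u, (fun u => π (g u)) u * (fun u => π (g u)) u = 1 := by
    intro u
    cases u
    · show π a * π a = 1
      rw [← map_mul, haa, map_one]
    · show π b * π b = 1
      rw [← map_mul, hbb, map_one]
    · show π c * π c = 1
      rw [← map_mul, hcc, map_one]
    · exact πdd
    · show π e * π e = 1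
      rw [← map_mul, hee, πζ]
  intro r hr
  have h1 := lift_rels (fun u => π (g u)) hinv hW r hr
  have h2 : FreeGroup.lift (fun u => π (g u)) = π.comp (FreeGroup.lift g) := by
    ext u
    simp
  rw [h2] at h1
  exact (QuotientGroup.eq_one_iff _).mp h1

/-- the kernel of a stem extension of the presented Hall–Janko group has at most two elements -/
theorem card_ker_le_two (hstem : Cfsg.IsStemExtension σ) :
    Finite σ.ker ∧ Nat.card σ.ker ≤ 2 := by
  obtain ⟨ζ, hζ2, hle⟩ := exists_zeta hstem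
  have hord : orderOf ζ ∣ 2 := orderOf_dvd_of_pow_eq_one (by rw [pow_two]; exact hζ2)
  have hpos : 0 < orderOf ζ := Nat.pos_of_dvd_of_pos hord (by norm_num)
  have hfin : Finite (zpowers ζ) :=
    Nat.finite_of_card_ne_zero (by rw [Nat.card_zpowers]; exact hpos.ne')
  have hcard : Nat.card (zpowers ζ) ≤ 2 := by
    rw [Nat.card_zpowers]; exact Nat.le_of_dvd (by norm_num) hord
  have hinj : Function.Injective (Subgroup.inclusion hle) := Subgroup.inclusion_injective hle
  exact ⟨Finite.of_injective _ hinj, le_trans (Nat.card_le_card_of_injective _ hinj) hcard⟩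

end Cfsg.Agent.Lib.H28.J2Upper
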