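import Cfsg.Agent.Lib.H17.J2Ord.Order

set_option autoImplicit false

/-! # Two word identities in the presented Hall–Janko group -/

namespace Cfsg.Agent.Lib.H28.J2Words

open Cfsg.Agent.Lib.H17.J2Ord Cfsg.Agent.Lib.H17.CosetCert

/-- the word `(abc)^5` -/
def wABC : List ℕ := [0, 1, 2, 0, 1, 2, 0, 1, 2, 0, 1, 2, 0, 1, 2]

/-- the word `(bcdcd)^15` -/
def wG15 : List ℕ := [1, 2, 3, 2, 3, 1, 2, 3, 2, 3, 1, 2, 3, 2, 3, 1, 2, 3, 2, 3, 1, 2, 3, 2, 3,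
  1, 2, 3, 2, 3, 1, 2, 3, 2, 3, 1, 2, 3, 2, 3, 1, 2, 3, 2, 3, 1, 2, 3, 2, 3,
  1, 2, 3, 2, 3, 1, 2, 3, 2, 3, 1, 2, 3, 2, 3, 1, 2, 3, 2, 3, 1, 2, 3, 2, 3]

set_option maxRecDepth 100000 in
theorem chkABC : ∀ c ∈ Cfsg.Agent.Lib.H17.J2P280.sbase, applyT 9 512 (tw wABC) c = c := by
  decide +kernel

set_option maxRecDepth 100000 in
theorem chkG15 : ∀ c ∈ Cfsg.Agent.Lib.H17.J2P280.sbase, applyT 9 512 (tw wG15) c = c := by
  decide +kernel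

theorem abc_pow_five : e wABC = 1 := e_eq_one wABC chkABC

theorem g_pow_fifteen : e wG15 = 1 := e_eq_one wG15 chkG15

end Cfsg.Agent.Lib.H28.J2Words
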