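import Mathlib
import Cfsg.Agent.Lib.H2.KRDEFS

/-!
S4651 piece (C2) `piv_flip_of_not_mem` (helper28, 2nd seat): the pivot is unchanged by an insertion.
Unified argument (no case split): `u ∈ X = piv s u`, so `X` is filtered out of `low`; the new top is `T ⊔ V`
(`low ≤ T`), which normalizes `V = ncl s u`, so the new `ncl` is `V` again.
-/

set_option autoImplicit false
set_option linter.unusedVariables false
set_option linter.unusedSectionVars false
namespace Cfsg.Agent.Lib.H28.KR

open Cfsg Cfsg.Agent.Lib.H2.KR
open scoped Classical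

variable {G : Type*} [Group G]

/-- general form: no hypothesis at all. -/
theorem piv_insert_piv (s : Finset (Subgroup G)) (u : G) :
    piv (insert (piv s u) s) u = piv s u := by
  have huV : u ∈ ncl s u := by
    unfold ncl
    apply Subgroup.subset_closure
    exact ⟨1, Subgroup.one_mem _, by simp⟩
  have huX : u ∈ piv s u := Subgroup.mem_sup_right huV
  have hlow : low (insert (piv s u) s) u = low s u := by
    unfold low
    rw [Finset.filter_insert, if_neg (not_not.2 huX)]
  have hlowT : low s u ≤ top s := Finset.sup_mono (Finset.filter_subset _ _)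
  have htop : top (insert (piv s u) s) = top s ⊔ ncl s u := by
    have h1 : top (insert (piv s u) s) = piv s u ⊔ top s := by
      unfold top
      rw [Finset.sup_insert]
      rfl
    rw [h1]
    apply le_antisymm
    · exact sup_le (sup_le (le_trans hlowT le_sup_left) le_sup_right) le_sup_left
    · exact sup_le le_sup_right (le_trans le_sup_right le_sup_left)
  have hTN : top s ≤ Subgroup.normalizer (ncl s u : Set G) := by
    intro t ht
    rw [Subgroup.mem_normalizer_iff_map_conj_eq]
    unfold ncl
    rw [MonoidHom.map_closure]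
    congr 1
    ext y
    constructor
    · rintro ⟨x, ⟨r, hr, rfl⟩, rfl⟩
      refine ⟨t * r, Subgroup.mul_mem _ ht hr, ?_⟩
      show t * (r * u * r⁻¹) * t⁻¹ = t * r * u * (t * r)⁻¹
      group
    · rintro ⟨r, hr, rfl⟩
      refine ⟨t⁻¹ * r * u * (t⁻¹ * r)⁻¹, ⟨t⁻¹ * r, Subgroup.mul_mem _ (Subgroup.inv_mem _ ht) hr, rfl⟩, ?_⟩
      show t * (t⁻¹ * r * u * (t⁻¹ * r)⁻¹) * t⁻¹ = r * u * r⁻¹
      group
  have hsupN : top s ⊔ ncl s u ≤ Subgroup.normalizer (ncl s u : Set G) :=
    sup_le hTN Subgroup.le_normalizer
  have hncl : ncl (insert (piv s u) s) u = ncl s u := by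
    apply le_antisymm
    · have h2 : ncl (insert (piv s u) s) u =
          Subgroup.closure {y : G | ∃ t ∈ top (insert (piv s u) s), y = t * u * t⁻¹} := rfl
      rw [h2, Subgroup.closure_le]
      rintro y ⟨x, hx, rfl⟩
      rw [htop] at hx
      exact (Subgroup.mem_normalizer_iff.1 (hsupN hx) u).1 huV
    · have h2 : ncl (insert (piv s u) s) u =
          Subgroup.closure {y : G | ∃ t ∈ top (insert (piv s u) s), y = t * u * t⁻¹} := rfl
      have h3 : ncl s u = Subgroup.closure {y : G | ∃ t ∈ top s, y = t * u * t⁻¹} := rfl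
      rw [h2, h3]
      apply Subgroup.closure_mono
      rintro y ⟨t, ht, rfl⟩
      refine ⟨t, ?_, rfl⟩
      rw [htop]
      exact Subgroup.mem_sup_left ht
  show low (insert (piv s u) s) u ⊔ ncl (insert (piv s u) s) u = piv s u
  rw [hlow, hncl]
  rfl

variable [Finite G] {p : ℕ} [Fact p.Prime]

/-- (C2 L2a) the pivot is unchanged by an insertion. -/
theorem piv_flip_of_not_mem {u : G} (hu : ∃ k : ℕ, orderOf u = p ^ k) (hu1 : u ≠ 1)
    {s : Finset (Subgroup G)} (hs : IsUChain p u s) (hX : piv s u ∉ s) :
    piv (insert (piv s u) s) u = piv s u :=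
  piv_insert_piv s u

end Cfsg.Agent.Lib.H28.KR
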