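import Mathlib
import Cfsg.Agent.Lib.H2.KRDEFS
import Cfsg.Agent.Lib.H25.KRC0
import Cfsg.Agent.Lib.H1.KRC4

/-!
S4651 piece (C3) `piv_flip_of_mem` (helper28, twin/2nd seat): the pivot is unchanged by a deletion.
On helper25's structure lemmas (H25.KRC0) and helper1's p-group lemma (H1.KRC4).
-/

set_option autoImplicit false
set_option linter.unusedVariables false
namespace Cfsg.Agent.Lib.H28.KR

open Cfsg Cfsg.Agent.Lib.H2.KR
open scoped Classical

variable {G : Type*} [Group G] [Finite G] {p : ℕ} [Fact p.Prime]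

/-- (C3 L2b) the pivot is unchanged by a deletion. -/
theorem piv_flip_of_mem {u : G} (hu : ∃ k : ℕ, orderOf u = p ^ k) (hu1 : u ≠ 1)
    {s : Finset (Subgroup G)} (hs : IsUChain p u s) (hX : piv s u ∈ s) :
    piv (s.erase (piv s u)) u = piv s u := by
  have hN : IsNChain p s := by
    rcases hs.1 with h | h
    · rw [h] at hX
      exact absurd hX (Finset.notMem_empty _)
    · exact h
  have hTmem : top s ∈ s := Cfsg.Agent.Lib.H25.KR.top_mem hN
  have huX : u ∈ piv s u :=
    Subgroup.mem_sup_right (Cfsg.Agent.Lib.H25.KR.mem_ncl s u)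
  have htop_le : top (s.erase (piv s u)) ≤ top s :=
    Finset.sup_mono (Finset.erase_subset _ _)
  by_cases hne : piv s u = top s
  · -- the top is erased
    have hmiss : ∀ Q ∈ s.erase (piv s u), u ∉ Q := by
      intro Q hQ huQ
      obtain ⟨hQne, hQs⟩ := Finset.mem_erase.1 hQ
      apply hQne
      apply le_antisymm
      · rw [hne]
        exact Cfsg.Agent.Lib.H25.KR.le_top_of_mem hQs
      · exact sup_le (Cfsg.Agent.Lib.H25.KR.low_le_of_mem hs hQs huQ)
          (Cfsg.Agent.Lib.H25.KR.ncl_le_of_mem hs hQs huQ)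
    have hfs : s.filter (fun Q : Subgroup G => u ∉ Q) = s.erase (piv s u) := by
      ext Q
      simp only [Finset.mem_filter, Finset.mem_erase]
      constructor
      · rintro ⟨hQ, hu'⟩
        exact ⟨fun h => hu' (h ▸ huX), hQ⟩
      · rintro ⟨hQne, hQ⟩
        exact ⟨hQ, hmiss Q (Finset.mem_erase.2 ⟨hQne, hQ⟩)⟩
    have hfs' : (s.erase (piv s u)).filter (fun Q : Subgroup G => u ∉ Q) = s.erase (piv s u) :=
      Finset.filter_true_of_mem hmiss
    have hlow : low (s.erase (piv s u)) u = low s u := by
      unfold low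
      rw [hfs, hfs']
    have hncl_le : ncl (s.erase (piv s u)) u ≤ ncl s u := by
      unfold ncl
      apply Subgroup.closure_mono
      rintro y ⟨t, ht, rfl⟩
      exact ⟨t, htop_le ht, rfl⟩
    have hA : piv (s.erase (piv s u)) u = top s := by
      apply Cfsg.Agent.Lib.H1.KR.eq_of_forall_normal_eq (p := p)
        (Cfsg.Agent.Lib.H25.KR.isPGroup_top hs)
      · -- `A ≤ T`
        show low (s.erase (piv s u)) u ⊔ ncl (s.erase (piv s u)) u ≤ top s
        rw [hlow, ← hne]
        exact sup_le le_sup_left (le_trans hncl_le le_sup_right)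
      · intro N hAN hNT hTN
        apply le_antisymm hNT
        rw [← hne]
        show low s u ⊔ ncl s u ≤ N
        have huN : u ∈ N := by
          apply hAN
          exact Subgroup.mem_sup_right (Cfsg.Agent.Lib.H25.KR.mem_ncl _ u)
        apply sup_le
        · rw [← hlow]
          exact le_trans le_sup_left hAN
        · unfold ncl
          rw [Subgroup.closure_le]
          rintro y ⟨t, ht, rfl⟩
          exact (Subgroup.mem_normalizer_iff.1 (hTN ht) u).1 huN
    rw [hA, hne]
  · -- the top survives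
    have hT' : top s ∈ s.erase (piv s u) :=
      Finset.mem_erase.2 ⟨fun h => hne h.symm, hTmem⟩
    have htop : top (s.erase (piv s u)) = top s :=
      le_antisymm htop_le (Cfsg.Agent.Lib.H25.KR.le_top_of_mem hT')
    have hncl : ncl (s.erase (piv s u)) u = ncl s u := by
      unfold ncl
      rw [htop]
    have hlow : low (s.erase (piv s u)) u = low s u := by
      unfold low
      congr 1
      ext Q
      simp only [Finset.mem_filter, Finset.mem_erase]
      constructor
      · rintro ⟨⟨_, hQ⟩, hu'⟩
        exact ⟨hQ, hu'⟩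
      · rintro ⟨hQ, hu'⟩
        exact ⟨⟨fun h => hu' (h ▸ huX), hQ⟩, hu'⟩
    show low (s.erase (piv s u)) u ⊔ ncl (s.erase (piv s u)) u = piv s u
    rw [hlow, hncl]
    rfl

end Cfsg.Agent.Lib.H28.KR
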