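import Mathlib
import Cfsg.Agent.Lib.H2.KRDEFS

/-!
S4651 piece (C5) `mem_normalizer_piv` (helper28): elements of `C(u)` stabilizing the chain normalize the pivot.
Also (own namespace) `mem_normalizer_sup`, `mem_normalizer_finset_sup`, `mem_normalizer_ncl`.
-/

set_option autoImplicit false
namespace Cfsg.Agent.Lib.H28.KR

open Cfsg Cfsg.Agent.Lib.H2.KR
open scoped Classical

variable {G : Type*} [Group G]

theorem mem_normalizer_bot (g : G) : g ∈ Subgroup.normalizer ((⊥ : Subgroup G) : Set G) := by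
  rw [Subgroup.mem_normalizer_iff_map_conj_eq]
  exact Subgroup.map_bot _

theorem mem_normalizer_sup {A B : Subgroup G} {g : G}
    (hA : g ∈ Subgroup.normalizer (A : Set G)) (hB : g ∈ Subgroup.normalizer (B : Set G)) :
    g ∈ Subgroup.normalizer ((A ⊔ B : Subgroup G) : Set G) := by
  rw [Subgroup.mem_normalizer_iff_map_conj_eq] at hA hB ⊢
  rw [Subgroup.map_sup, hA, hB]

theorem mem_normalizer_finset_sup {t : Finset (Subgroup G)} {g : G}
    (h : ∀ Q ∈ t, g ∈ Subgroup.normalizer ((Q : Subgroup G) : Set G)) :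
    g ∈ Subgroup.normalizer ((t.sup id : Subgroup G) : Set G) := by
  refine Finset.sup_induction (p := fun H : Subgroup G => g ∈ Subgroup.normalizer (H : Set G))
    (mem_normalizer_bot g) (fun A hA B hB => mem_normalizer_sup hA hB) ?_
  intro Q hQ
  exact h Q hQ

/-- an element normalizing `top s` and centralizing `u` normalizes `ncl s u`. -/
theorem mem_normalizer_ncl (s : Finset (Subgroup G)) (u g : G)
    (hT : g ∈ Subgroup.normalizer (top s : Set G))
    (hgu : g ∈ Subgroup.centralizer ({u} : Set G)) :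
    g ∈ Subgroup.normalizer (ncl s u : Set G) := by
  have hcomm : u * g = g * u := Subgroup.mem_centralizer_iff.1 hgu u (Set.mem_singleton u)
  have hconj : g * u * g⁻¹ = u := by
    rw [← hcomm, mul_inv_cancel_right]
  have hconj' : g⁻¹ * u * g = u := by
    rw [mul_assoc, hcomm, inv_mul_cancel_left]
  rw [Subgroup.mem_normalizer_iff_map_conj_eq]
  unfold ncl
  rw [MonoidHom.map_closure]
  congr 1
  ext y
  constructor
  · rintro ⟨x, ⟨t, ht, rfl⟩, rfl⟩
    refine ⟨g * t * g⁻¹, (Subgroup.mem_normalizer_iff.1 hT t).1 ht, ?_⟩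
    show g * (t * u * t⁻¹) * g⁻¹ = g * t * g⁻¹ * u * (g * t * g⁻¹)⁻¹
    have : g * t * g⁻¹ * u * (g * t * g⁻¹)⁻¹ = g * t * (g⁻¹ * u * g) * t⁻¹ * g⁻¹ := by
      group
    rw [this, hconj']
    group
  · rintro ⟨t, ht, rfl⟩
    refine ⟨g⁻¹ * t * g * u * (g⁻¹ * t * g)⁻¹, ⟨g⁻¹ * t * g, (Subgroup.mem_normalizer_iff''.1 hT t).1 ht, rfl⟩, ?_⟩
    show g * (g⁻¹ * t * g * u * (g⁻¹ * t * g)⁻¹) * g⁻¹ = t * u * t⁻¹
    have : g * (g⁻¹ * t * g * u * (g⁻¹ * t * g)⁻¹) * g⁻¹ = t * (g * u * g⁻¹) * t⁻¹ := by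
      group
    rw [this, hconj]

/-- (C5 L3) elements of `C(u)` stabilizing the chain normalize the pivot (no chain hypothesis). -/
theorem mem_normalizer_piv [Finite G] (s : Finset (Subgroup G)) (u g : G) (hg : g ∈ stab s)
    (hgu : g ∈ Subgroup.centralizer ({u} : Set G)) :
    g ∈ Subgroup.normalizer (piv s u : Set G) := by
  have hQ : ∀ Q ∈ s, g ∈ Subgroup.normalizer ((Q : Subgroup G) : Set G) := by
    intro Q hQ
    unfold stab at hg
    rw [Subgroup.mem_iInf] at hg
    have := hg Q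
    rw [Subgroup.mem_iInf] at this
    exact this hQ
  have hT : g ∈ Subgroup.normalizer (top s : Set G) := mem_normalizer_finset_sup hQ
  unfold piv
  refine mem_normalizer_sup ?_ (mem_normalizer_ncl s u g hT hgu)
  unfold low
  apply mem_normalizer_finset_sup
  intro Q hQ'
  exact hQ Q (Finset.mem_filter.1 hQ').1

end Cfsg.Agent.Lib.H28.KR
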