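import Mathlib
import Cfsg.Agent.Lib.H2.KRDEFS
import Cfsg.Agent.Lib.H28.KRC5

/-!
S4651 piece (C6) core (helper28): the alternating sum over the `u`-stable normal chains collapses, GIVEN the three
facts (C1) `flip` preserves `u`-stable chains, (C2)/(C3) the pivot is unchanged by insertion / deletion.
`Finset.sum_involution` with `flip · u`.
-/

set_option autoImplicit false
namespace Cfsg.Agent.Lib.H28.KR

open Cfsg Cfsg.Agent.Lib.H2.KR
open scoped Classical

variable {G : Type*} [Group G]

theorem stab_insert (X : Subgroup G) (s : Finset (Subgroup G)) :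
    stab (insert X s) = Subgroup.normalizer (X : Set G) ⊓ stab s := by
  unfold stab
  rw [Finset.iInf_insert]

theorem mem_stab_iff {s : Finset (Subgroup G)} {g : G} :
    g ∈ stab s ↔ ∀ Q ∈ s, g ∈ Subgroup.normalizer ((Q : Subgroup G) : Set G) := by
  unfold stab
  simp only [Subgroup.mem_iInf]

theorem stab_empty : stab (∅ : Finset (Subgroup G)) = ⊤ := by
  unfold stab
  simp

theorem isUChain_iff {p : ℕ} {u : G} {s : Finset (Subgroup G)} :
    IsUChain p u s ↔ s = ∅ ∨ (IsNChain p s ∧ u ∈ stab s) := by
  unfold IsUChain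
  rw [mem_stab_iff]
  constructor
  · rintro ⟨h | h, h2⟩
    · left; exact h
    · right; exact ⟨h, h2⟩
  · rintro (h | ⟨h, h2⟩)
    · subst h
      exact ⟨Or.inl rfl, by simp⟩
    · exact ⟨Or.inr h, h2⟩

theorem flip_ne (s : Finset (Subgroup G)) (u : G) : flip s u ≠ s := by
  unfold Cfsg.Agent.Lib.H2.KR.flip
  split_ifs with hX
  · intro h
    have h2 : piv s u ∈ s.erase (piv s u) := by rw [h]; exact hX
    exact (Finset.notMem_erase _ _) h2
  · intro h
    have h2 : piv s u ∈ insert (piv s u) s := Finset.mem_insert_self _ _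
    rw [h] at h2
    exact hX h2

theorem neg_one_pow_card_flip (s : Finset (Subgroup G)) (u : G) :
    (-1 : ℤ) ^ (flip s u).card = - (-1 : ℤ) ^ s.card := by
  unfold Cfsg.Agent.Lib.H2.KR.flip
  split_ifs with hX
  · have h := Finset.card_erase_add_one hX
    rw [← h, pow_succ]
    ring
  · rw [Finset.card_insert_of_notMem hX, pow_succ]
    ring

/-- (C6 core) the alternating sum over the `u`-stable chains of the statement collapses. -/
theorem chain_sum_core [Finite G] {p : ℕ} [Fintype (Finset (Subgroup G))] {u : G}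
    (hC1 : ∀ s : Finset (Subgroup G), IsUChain p u s → IsUChain p u (flip s u))
    (hC2 : ∀ s : Finset (Subgroup G), IsUChain p u s → piv s u ∉ s →
      piv (insert (piv s u) s) u = piv s u)
    (hC3 : ∀ s : Finset (Subgroup G), IsUChain p u s → piv s u ∈ s →
      piv (s.erase (piv s u)) u = piv s u)
    (F : Subgroup G → ℤ) :
    ∑ s ∈ Finset.univ.filter (fun s : Finset (Subgroup G) => IsNChain p s ∧ u ∈ stab s),
        (-1 : ℤ) ^ (s.card - 1) * F (stab s ⊓ Subgroup.centralizer ({u} : Set G)) =
      F (Subgroup.centralizer ({u} : Set G)) := by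
  have hstab : ∀ s : Finset (Subgroup G), IsUChain p u s →
      stab (flip s u) ⊓ Subgroup.centralizer ({u} : Set G) =
        stab s ⊓ Subgroup.centralizer ({u} : Set G) := by
    intro s hs
    by_cases hX : piv s u ∈ s
    · have h1 : flip s u = s.erase (piv s u) := by
        unfold Cfsg.Agent.Lib.H2.KR.flip
        rw [if_pos hX]
      have h2 := hC3 s hs hX
      rw [h1]
      have hs2 : stab s = Subgroup.normalizer (piv s u : Set G) ⊓ stab (s.erase (piv s u)) := by
        rw [← stab_insert, Finset.insert_erase hX]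
      rw [hs2]
      apply le_antisymm
      · intro g hg
        obtain ⟨hg1, hg2⟩ := Subgroup.mem_inf.1 hg
        have h3 := mem_normalizer_piv (s.erase (piv s u)) u g hg1 hg2
        rw [h2] at h3
        exact Subgroup.mem_inf.2 ⟨Subgroup.mem_inf.2 ⟨h3, hg1⟩, hg2⟩
      · exact inf_le_inf_right _ inf_le_right
    · have h1 : flip s u = insert (piv s u) s := by
        unfold Cfsg.Agent.Lib.H2.KR.flip
        rw [if_neg hX]
      rw [h1, stab_insert]
      apply le_antisymm
      · exact inf_le_inf_right _ inf_le_right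
      · intro g hg
        obtain ⟨hg1, hg2⟩ := Subgroup.mem_inf.1 hg
        exact Subgroup.mem_inf.2
          ⟨Subgroup.mem_inf.2 ⟨mem_normalizer_piv s u g hg1 hg2, hg1⟩, hg2⟩
  have hinv : ∀ s : Finset (Subgroup G), IsUChain p u s → flip (flip s u) u = s := by
    intro s hs
    by_cases hX : piv s u ∈ s
    · have h1 : flip s u = s.erase (piv s u) := by
        unfold Cfsg.Agent.Lib.H2.KR.flip
        rw [if_pos hX]
      have h2 := hC3 s hs hX
      rw [h1]
      unfold Cfsg.Agent.Lib.H2.KR.flip
      rw [h2, if_neg (Finset.notMem_erase _ _), Finset.insert_erase hX]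
    · have h1 : flip s u = insert (piv s u) s := by
        unfold Cfsg.Agent.Lib.H2.KR.flip
        rw [if_neg hX]
      have h2 := hC2 s hs hX
      rw [h1]
      unfold Cfsg.Agent.Lib.H2.KR.flip
      rw [h2, if_pos (Finset.mem_insert_self _ _), Finset.erase_insert hX]
  have hzero : ∑ s ∈ Finset.univ.filter (fun s : Finset (Subgroup G) => IsUChain p u s),
      (-1 : ℤ) ^ s.card * F (stab s ⊓ Subgroup.centralizer ({u} : Set G)) = 0 := by
    refine Finset.sum_involution (fun s _ => flip s u) ?_ ?_ ?_ ?_
    · intro s hs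
      have hs' := (Finset.mem_filter.1 hs).2
      rw [hstab s hs', neg_one_pow_card_flip s u]
      ring
    · intro s _ _
      exact flip_ne s u
    · intro s hs
      exact Finset.mem_filter.2 ⟨Finset.mem_univ _, hC1 s (Finset.mem_filter.1 hs).2⟩
    · intro s hs
      exact hinv s (Finset.mem_filter.1 hs).2
  have hsplit : Finset.univ.filter (fun s : Finset (Subgroup G) => IsUChain p u s) =
      insert ∅ (Finset.univ.filter (fun s : Finset (Subgroup G) => IsNChain p s ∧ u ∈ stab s)) := by
    ext s
    simp only [Finset.mem_filter, Finset.mem_univ, true_and, Finset.mem_insert]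
    exact isUChain_iff
  have hnot : (∅ : Finset (Subgroup G)) ∉
      Finset.univ.filter (fun s : Finset (Subgroup G) => IsNChain p s ∧ u ∈ stab s) := by
    simp only [Finset.mem_filter, Finset.mem_univ, true_and, not_and]
    intro h
    exact absurd h.1 Finset.not_nonempty_empty
  rw [hsplit, Finset.sum_insert hnot] at hzero
  have hf0 : (-1 : ℤ) ^ (∅ : Finset (Subgroup G)).card *
      F (stab (∅ : Finset (Subgroup G)) ⊓ Subgroup.centralizer ({u} : Set G)) =
      F (Subgroup.centralizer ({u} : Set G)) := by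
    rw [stab_empty, top_inf_eq, Finset.card_empty, pow_zero, one_mul]
  have hrel : ∑ s ∈ Finset.univ.filter (fun s : Finset (Subgroup G) => IsNChain p s ∧ u ∈ stab s),
        (-1 : ℤ) ^ (s.card - 1) * F (stab s ⊓ Subgroup.centralizer ({u} : Set G)) =
      - ∑ s ∈ Finset.univ.filter (fun s : Finset (Subgroup G) => IsNChain p s ∧ u ∈ stab s),
        (-1 : ℤ) ^ s.card * F (stab s ⊓ Subgroup.centralizer ({u} : Set G)) := by
    rw [← Finset.sum_neg_distrib]
    refine Finset.sum_congr rfl (fun s hs => ?_)
    have hpos : 0 < s.card := Finset.card_pos.2 (Finset.mem_filter.1 hs).2.1.1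
    obtain ⟨k, hk⟩ : ∃ k, s.card = k + 1 := ⟨s.card - 1, by omega⟩
    rw [hk, Nat.add_sub_cancel, pow_succ]
    ring
  rw [hrel]
  rw [hf0] at hzero
  linarith

end Cfsg.Agent.Lib.H28.KR
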