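import Mathlib
import Cfsg.Agent.Lib.H2.KRDEFS
import Cfsg.Agent.Lib.H15.KRC1
import Cfsg.Agent.Lib.H28.KRC2
import Cfsg.Agent.Lib.H28.KRC3
import Cfsg.Agent.Lib.H28.KRC6Core

/-!
S4651 piece (C6) `chain_sum` (helper28), EXACT SIG: the alternating sum over the `u`-stable chains of the statement
collapses.  `chain_sum_core` (H28.KRC6Core, `Finset.sum_involution` with `flip`) on the landed (C1) `flip_isUChain`
(helper15), (C2) `piv_flip_of_not_mem`, (C3) `piv_flip_of_mem`.
-/

set_option autoImplicit false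
namespace Cfsg.Agent.Lib.H28.KR

open Cfsg Cfsg.Agent.Lib.H2.KR
open scoped Classical

variable {G : Type*} [Group G] [Finite G] {p : ℕ} [Fact p.Prime]

/-- (C6 SUM) the alternating sum over the `u`-stable chains of the statement collapses. -/
theorem chain_sum [Fintype (Finset (Subgroup G))] {u : G} (hu : ∃ k : ℕ, orderOf u = p ^ k)
    (hu1 : u ≠ 1) (F : Subgroup G → ℤ) :
    ∑ s ∈ Finset.univ.filter (fun s : Finset (Subgroup G) => IsNChain p s ∧ u ∈ stab s),
        (-1 : ℤ) ^ (s.card - 1) * F (stab s ⊓ Subgroup.centralizer ({u} : Set G)) =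
      F (Subgroup.centralizer ({u} : Set G)) :=
  chain_sum_core (fun _ hs => Cfsg.Agent.Lib.H15.KR.flip_isUChain hu hu1 hs)
    (fun _ hs hX => piv_flip_of_not_mem hu hu1 hs hX)
    (fun _ hs hX => piv_flip_of_mem hu hu1 hs hX) F

end Cfsg.Agent.Lib.H28.KR
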