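/-
helper28 library: maximality in `M24` of the stabilizer of a member of a key family (sextets, trios), from the class
structure of the stabilizer on the family.
-/
import Cfsg.Agent.Lib.H28.KeyClasses
import Cfsg.Agent.Lib.H28.CoatomClasses

set_option autoImplicit false

namespace Cfsg.Agent.Lib.H28

open Cfsg
open scoped Pointwise

theorem pairInv_smul'' (g : ↥M24) (a x : Finset (Finset GolayPt)) :
    pairInv (g • a) (g • x) = pairInv a x := pairInv_smul (g : Equiv.Perm GolayPt) a x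

theorem key_isCoatom_stabilizer
    (F : Set (Finset (Finset GolayPt))) (hF : ∀ (g : ↥M24), ∀ x ∈ F, g • x ∈ F)
    (Ks : List (List (List ℕ))) (n : ℕ)
    (hex : ∀ y ∈ F, ∃ k ∈ flatK Ks n, decL k = y) (hmem : ∀ k ∈ flatK Ks n, decL k ∈ F)
    (hinj : ∀ k ∈ flatK Ks n, ∀ k' ∈ flatK Ks n, decL k = decL k' → k = k') (hnd : (flatK Ks n).Nodup)
    (hkey : ∀ k ∈ flatK Ks n, keyOK k = true) (k0 : List ℕ) (hk0 : k0 ∈ flatK Ks n)
    (ws : List (List ℕ)) (hws : ∀ w ∈ ws, wordPerm w • decL k0 = decL k0)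
    (J : List ℕ) (N : ℕ → ℕ) (hall : (flatK Ks n).all (fun k => J.contains (pairInvK k0 k)) = true)
    (hcerts : ∀ j ∈ J, ∃ (start : ℕ) (cert : List (ℕ × ℕ × ℕ)),
      checkK (wordTis ws) Ks start cert ((List.range n).filter (fun i => pairInvK k0 (getK Ks i) == j)) = true)
    (hcounts : ∀ j ∈ J, ((flatK Ks n).filter (fun k => pairInvK k0 k == j)).length = N j)
    (htr : ∀ y ∈ F, ∃ g : ↥M24, g • decL k0 = y) (hn1 : 1 < n)
    (harith : ∀ A ∈ J.toFinset.powerset, pairInvK k0 k0 ∈ A → (∑ j ∈ A, N j) ∣ n →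
      ∑ j ∈ A, N j = 1 ∨ ∑ j ∈ A, N j = n) (g0 : ↥M24) :
    IsCoatom (MulAction.stabilizer ↥M24 (g0 • decL k0)) := by
  classical
  have hinvK : ∀ k ∈ flatK Ks n, pairInv (decL k0) (decL k) = pairInvK k0 k :=
    fun k hk => pairInv_decL (hkey k0 hk0) (hkey k hk)
  have hT0 := class_trans_of_certs (decL k0) F Ks n hex pairInv (pairInvK k0) hinvK ws hws J hall hcerts
  have ha0 : decL k0 ∈ F := hmem k0 hk0
  apply isCoatom_stabilizer_of_classes F hF (g0 • decL k0) _ (hF g0 _ ha0) (pairInv (g0 • decL k0)) J N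
    (class_trans_smul F hF pairInv pairInv_smul'' (decL k0) hT0 g0) _ _ n _ hn1 _
  · intro y hy
    obtain ⟨g, hg⟩ := htr y hy
    exact ⟨g * g0⁻¹, by rw [mul_smul, inv_smul_smul, hg]⟩
  · intro j hj
    rw [ncard_class_smul F hF pairInv pairInv_smul'' (decL k0) g0 j,
      class_ncard_of_keys (decL k0) F Ks n hex hmem hinj hnd pairInv (pairInvK k0) hinvK j]
    exact hcounts j hj
  · intro y hy
    rw [inv_smul_left pairInv pairInv_smul'']
    exact class_mem_of_keys (decL k0) F Ks n hex pairInv (pairInvK k0) hinvK J hall _ (hF _ y hy)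
  · have h := ncard_filter_keys F decL (flatK Ks n) hex hmem hinj hnd (fun _ => True) (fun _ => true)
      (fun _ _ => by simp)
    have e : {o | o ∈ F ∧ True} = F := by ext o; simp
    rw [e, List.filter_true] at h
    rw [h]
    unfold flatK
    rw [List.length_map, List.length_range]
  · rw [pairInv_smul'', hinvK k0 hk0]
    exact harith

end Cfsg.Agent.Lib.H28
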