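import Cfsg.Agent.Lib.H28.StemAmalgamE
import Cfsg.Agent.Lib.H28.M12Simple
import Cfsg.Agent.Lib.H18.M11Mult

/-!
# Every finite stem extension of `M₁₂` has kernel of order at most two (helper28)

Application of `StemAmalgam` to `stabMask dod0` (the stabilizer of the dodecad of squares) acting on the
twelve points of the dodecad: point stabilizers are `M₁₁` (perfect, trivial multiplier by helper18),
two-point stabilizers `M₁₀` have abelianization of order two.
-/

set_option autoImplicit false
set_option maxRecDepth 100000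

namespace Cfsg.Agent.Lib.H28.M12Mult

open Cfsg Cfsg.Agent.Lib.H28 Cfsg.Agent.Lib.H28.StemAmalgam
open scoped Pointwise commutatorElement

universe u

/-! ### transfer lemmas -/

theorem commutator_eq_top_of_equiv {H K : Type*} [Group H] [Group K] (e : H ≃* K)
    (hK : commutator K = ⊤) : commutator H = ⊤ := by
  apply Subgroup.map_injective (f := e.toMonoidHom) e.injective
  rw [commutator_def, Subgroup.map_commutator, Subgroup.map_top_of_surjective _ e.surjective,
    ← commutator_def, hK]

theorem perfect_subgroup_of_equiv {G : Type*} [Group G] (H : Subgroup G) {K : Type*} [Group K]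
    (e : ↥H ≃* K) (hK : commutator K = ⊤) : ⁅H, H⁆ = H := by
  have h1 := commutator_eq_top_of_equiv e hK
  rw [← Subgroup.map_subtype_commutator, h1, ← MonoidHom.range_eq_map, Subgroup.range_subtype]

theorem stem_trivial_of_equiv {H K : Type u} [Group H] [Group K] (e : H ≃* K)
    (hK : ∀ (E : Type u) [Group E] [Finite E] (τ : E →* K), Cfsg.IsStemExtension τ → τ.ker = ⊥)
    (E : Type u) [Group E] [Finite E] (τ : E →* H) (hτ : Cfsg.IsStemExtension τ) : τ.ker = ⊥ := by
  have hk : (e.toMonoidHom.comp τ).ker = τ.ker := by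
    ext x
    rw [MonoidHom.mem_ker, MonoidHom.mem_ker, MonoidHom.comp_apply]
    exact e.map_eq_one_iff
  have hstem : Cfsg.IsStemExtension (e.toMonoidHom.comp τ) := by
    refine ⟨e.surjective.comp hτ.1, ?_, ?_⟩ <;> rw [hk]
    · exact hτ.2.1
    · exact hτ.2.2
  rw [← hk]
  exact hK E _ hstem

/-! ### the action of `M₁₂` on the dodecad -/

theorem smul12 (g : ↥(stabMask dod0)) (p : GolayPt) : g • p = g.1 p := rfl

theorem inv12 (g : ↥(stabMask dod0)) (a : GolayPt) (ha : a ∈ ptsMask dod0) : g • a ∈ ptsMask dod0 := by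
  have := (stabMask_preserves dod0 g.1 g.2 a).2 (Finset.mem_coe.2 ha)
  exact Finset.mem_coe.1 this

theorem trans12 : ∀ n ≤ 3, ∀ x y : Fin n → GolayPt, Function.Injective x → Function.Injective y →
    (∀ i, x i ∈ ptsMask dod0) → (∀ i, y i ∈ ptsMask dod0) →
    ∃ g : ↥(stabMask dod0), ∀ i, g • x i = y i := by
  intro n hn x y hx hy hxd hyd
  obtain ⟨g, hg, hgd, hmap⟩ := dodTrans_dod0 n (by omega) x y hx hy hxd hyd
  exact ⟨⟨g, mem_stabMask_iff_smul.2 ⟨hg, hgd⟩⟩, hmap⟩

theorem card_dod0 : (ptsMask dod0).card = 12 := ptsMask_dod0_mem.2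

theorem gPt1_mem_dod0 : gPt 1 ∈ ptsMask dod0 := by
  rw [mem_ptsMask, gIdx_gPt (by norm_num)]
  decide

theorem exists_to_zero {a : GolayPt} (ha : a ∈ ptsMask dod0) :
    ∃ g : ↥(stabMask dod0), gPt 0 = g • a := by
  obtain ⟨g, hg⟩ := trans12 1 (by norm_num) ![a] ![gPt 0]
    (fun i j _ => Subsingleton.elim i j) (fun i j _ => Subsingleton.elim i j)
    (by intro i; fin_cases i; simpa using ha) (by intro i; fin_cases i; simpa using gPt0_mem_dod0)
  exact ⟨g, (hg 0).symm⟩

/-- Every point stabilizer is `M₁₁`. -/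
noncomputable def stabEquiv {a : GolayPt} (ha : a ∈ ptsMask dod0) :
    ↥(MulAction.stabilizer ↥(stabMask dod0) a) ≃* ↥G11 :=
  (MulAction.stabilizerEquivStabilizer (Classical.choose_spec (exists_to_zero ha))).trans
    stabilizerG12Equiv

/-! ### the two-point stabilizer `M₁₀` -/

/-- `M₁₀` as a group of permutations. -/
noncomputable def P10 : Subgroup (Equiv.Perm GolayPt) := fixSub (stabMask dod0) [1, 0]

theorem card_P10_le : Nat.card P10 ≤ 720 := by
  have h0 := card_fixSub_ge (stabMask dod0) ((m12Base.take 0).reverse) (m12Base.getD 0 0) _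
    (m12_level_ge 0 (by norm_num))
  have h1 := card_fixSub_ge (stabMask dod0) ((m12Base.take 1).reverse) (m12Base.getD 1 0) _
    (m12_level_ge 1 (by norm_num))
  rw [m12_levelSet_card 0 (by norm_num)] at h0
  rw [m12_levelSet_card 1 (by norm_num)] at h1
  change 12 * Nat.card (fixSub (stabMask dod0) [0]) ≤ Nat.card (fixSub (stabMask dod0) []) at h0
  change 11 * Nat.card (fixSub (stabMask dod0) [1, 0]) ≤ Nat.card (fixSub (stabMask dod0) [0]) at h1
  rw [fixSub_nil, card_stabMask_dod0] at h0
  unfold P10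
  omega

def inP10 (w : List ℕ) : Bool := presCheck w dod0 && (evalPt w 0 == 0) && (evalPt w 1 == 1)

theorem wordPerm_mem_P10 {w : List ℕ} (h : inP10 w = true) : wordPerm w ∈ P10 := by
  unfold inP10 at h
  rw [Bool.and_eq_true, Bool.and_eq_true, beq_iff_eq, beq_iff_eq] at h
  unfold P10
  rw [mem_fixSub]
  refine ⟨wordPerm_mem_stabMask h.1.1, ?_⟩
  intro k hk
  simp only [List.mem_cons, List.not_mem_nil, or_false] at hk
  rcases hk with rfl | rfl
  · exact wordPerm_fix_of_evalPt (by norm_num) h.2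
  · exact wordPerm_fix_of_evalPt (by norm_num) h.1.2

def pA : List (List ℕ) := [[0, 2, 1, 4, 1, 4, 1, 2, 4, 1], [2, 0, 3, 0, 4, 1, 1, 3, 1, 2, 4]]
def pB : List (List ℕ) := [[2, 0, 0, 3, 3, 1, 3, 0, 0, 0, 2], [2, 0, 0, 3, 3, 1, 3, 0, 0, 0, 2]]

def commWord (a b : List ℕ) : List ℕ := a ++ b ++ invWord a ++ invWord b

def cw10 : List (List ℕ) := [commWord (pA.getD 0 []) (pB.getD 0 []), commWord (pA.getD 1 []) (pB.getD 1 [])]

def chain10 : List (ℕ × List (List ℕ)) :=
  [(2, [[], [0, 1], [1, 0, 1], [2, 3], [1], [1, 1, 0, 1], [1, 1], [3], [2, 1], [3, 2, 3]]),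
   (3, [[], [3, 0, 3, 3], [1, 2, 1, 1], [2], [3, 3, 0, 3, 0], [3, 3, 0, 3], [0, 1, 2, 1, 1], [0], [1, 2, 3, 2, 1]]),
   (4, [[], [0, 1, 2, 1, 1, 0], [0, 1, 1, 2, 1, 2], [3, 0, 3, 2, 1, 1]])]

theorem pAB_mem : ∀ w ∈ pA ++ pB, inP10 w = true := by decide +kernel

theorem chain10_ok : chainCheck [] (metaChain cw10 chain10) = true := by decide +kernel

theorem wordPerm_commWord (a b : List ℕ) :
    wordPerm (commWord a b) = ⁅wordPerm a, wordPerm b⁆ := by
  unfold commWord
  rw [wordPerm_append, wordPerm_append, wordPerm_append, wordPerm_invWord, wordPerm_invWord,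
    commutatorElement_def]

theorem card_comm_P10_ge : 360 ≤ Nat.card ↥(⁅P10, P10⁆ : Subgroup (Equiv.Perm GolayPt)) := by
  have hle : wordsClosure cw10 ≤ ⁅P10, P10⁆ := by
    apply wordsClosure_le
    intro w hw
    unfold cw10 at hw
    simp only [List.mem_cons, List.not_mem_nil, or_false] at hw
    rcases hw with rfl | rfl
    · rw [wordPerm_commWord]
      exact Subgroup.commutator_mem_commutator
        (wordPerm_mem_P10 (pAB_mem _ (by simp [pA]))) (wordPerm_mem_P10 (pAB_mem _ (by simp [pB])))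
    · rw [wordPerm_commWord]
      exact Subgroup.commutator_mem_commutator
        (wordPerm_mem_P10 (pAB_mem _ (by simp [pA]))) (wordPerm_mem_P10 (pAB_mem _ (by simp [pB])))
  have h := card_ge_of_chainCheck (wordsClosure cw10) (metaChain cw10 chain10) [] (by
    intro c hc w hw
    unfold metaChain at hc
    rw [List.mem_map] at hc
    obtain ⟨c0, _, rfl⟩ := hc
    rw [List.mem_map] at hw
    obtain ⟨m, _, rfl⟩ := hw
    exact wordPerm_metaFlat_mem cw10 m) chain10_ok
  rw [fixSub_nil] at h
  have h2 : 360 ≤ ((metaChain cw10 chain10).map (fun c => c.2.length)).prod := by decide +kernel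
  exact le_trans (le_trans h2 h) (Subgroup.card_le_of_le hle)

/-- The two-point stabilizer inside `M₁₂`. -/
abbrev K10 : Subgroup ↥(stabMask dod0) :=
  MulAction.stabilizer ↥(stabMask dod0) (gPt 0) ⊓ MulAction.stabilizer ↥(stabMask dod0) (gPt 1)

noncomputable def iota : ↥K10 →* Equiv.Perm GolayPt := (stabMask dod0).subtype.comp K10.subtype

theorem iota_injective : Function.Injective iota :=
  (Subgroup.subtype_injective _).comp (Subgroup.subtype_injective _)

theorem map_top_iota : (⊤ : Subgroup ↥K10).map iota = P10 := by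
  ext g
  constructor
  · rintro ⟨x, -, rfl⟩
    unfold P10
    rw [mem_fixSub]
    refine ⟨x.1.2, ?_⟩
    intro k hk
    simp only [List.mem_cons, List.not_mem_nil, or_false] at hk
    have h := Subgroup.mem_inf.1 x.2
    rcases hk with rfl | rfl
    · exact MulAction.mem_stabilizer_iff.1 h.2
    · exact MulAction.mem_stabilizer_iff.1 h.1
  · intro hg
    unfold P10 at hg
    rw [mem_fixSub] at hg
    exact ⟨⟨⟨g, hg.1⟩, Subgroup.mem_inf.2 ⟨MulAction.mem_stabilizer_iff.2 (hg.2 0 (by simp)),
      MulAction.mem_stabilizer_iff.2 (hg.2 1 (by simp))⟩⟩, Subgroup.mem_top _, rfl⟩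

theorem card_K10_le : Nat.card ↥K10 ≤ 720 := by
  have h := Subgroup.card_map_of_injective (K := (⊤ : Subgroup ↥K10)) iota_injective
  rw [map_top_iota, Subgroup.card_top] at h
  rw [← h]
  exact card_P10_le

theorem card_commutator_K10_ge : 360 ≤ Nat.card ↥(commutator ↥K10) := by
  have h := Subgroup.card_map_of_injective (K := commutator ↥K10) iota_injective
  rw [commutator_def, Subgroup.map_commutator, map_top_iota] at h
  rw [commutator_def, ← h]
  exact card_comm_P10_ge

theorem index_commutator_K10 : (commutator ↥K10).index ≤ 2 := by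
  have h1 := Subgroup.card_mul_index (commutator ↥K10)
  have h2 := card_K10_le
  have h3 := card_commutator_K10_ge
  by_contra hcon
  rw [not_le] at hcon
  have : 360 * 3 ≤ Nat.card ↥(commutator ↥K10) * (commutator ↥K10).index :=
    Nat.mul_le_mul h3 hcon
  omega

/-! ### the bound -/

/-- The setup for a stem extension of `M₁₂`. -/
noncomputable def setup12 {Γ : Type} [Group Γ] (σ : Γ →* ↥(stabMask dod0))
    (hσ : Cfsg.IsStemExtension σ) : Setup ↥(stabMask dod0) GolayPt Γ where
  σ := σ
  D := ptsMask dod0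
  hsurj := hσ.1
  hcen := hσ.2.1
  hder := hσ.2.2
  hinv := inv12
  htrans := trans12
  hcard := by rw [card_dod0]; norm_num
  hperf := fun a ha => perfect_subgroup_of_equiv _ (stabEquiv ha) commutator_G11_eq_top
  hmult := fun a ha => stem_trivial_of_equiv (stabEquiv ha)
    (fun E _ _ τ hτ => Cfsg.Agent.Lib.H18.M11Mult.ker_eq_bot E τ hτ)

/-- Every finite stem extension of `M₁₂` has kernel of order at most two. -/
theorem card_ker_le_two {Γ : Type} [Group Γ] [Finite Γ] (σ : Γ →* ↥(stabMask dod0))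
    (hσ : Cfsg.IsStemExtension σ) : Nat.card σ.ker ≤ 2 :=
  (setup12 σ hσ).card_ker_le_two (a0 := gPt 0) (b0 := gPt 1) gPt0_mem_dod0 gPt1_mem_dod0
    (gPt_ne (by norm_num) (by norm_num) (by norm_num)) index_commutator_K10

end Cfsg.Agent.Lib.H28.M12Mult
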