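/-
helper28 library: kernel-checked certificates for the double cosets of `11:5` in `M22`.
-/
import Cfsg.Agent.Lib.H28.M22BData

set_option autoImplicit false

namespace Cfsg.Agent.Lib.H28.M22B

open Cfsg Cfsg.Agent.Lib.H28 Cfsg.Agent.Lib.H28.PSL23

/-- The word of the `i`-th representative. -/
def rW (i : ℕ) : List ℕ := repWords.getD i []

/-- The table of the `i`-th representative. -/
def rT (i : ℕ) : List ℕ := repTabs.getD i []

/-- The `i`-th representative. -/
noncomputable def rP (i : ℕ) : Equiv.Perm GolayPt := wordPerm (rW i)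

/-- The element of order 4. -/
noncomputable def yP : Equiv.Perm GolayPt := wordPerm wY

/-- The element `x0^a * (x ↦ 2^k x)` of `11:5`. -/
noncomputable def cE (a k : ℕ) : Equiv.Perm GolayPt := x0P ^ a * bP k 0

/-- The index function of `cE a k`. -/
def cF (a k p : ℕ) : ℕ := (tabF x0T)^[a] (affF k 0 p)

theorem isF_pow {g : Equiv.Perm GolayPt} {f : ℕ → ℕ} (hg : IsF g f) (n : ℕ) : IsF (g ^ n) (f^[n]) := by
  induction n with
  | zero => exact isF_one
  | succ n ih =>
    rw [pow_succ]
    exact (ih.mul hg).congr (fun i _ => (Function.iterate_succ_apply f n i).symm)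

theorem isF_cE (a k : ℕ) : IsF (cE a k) (cF a k) := (isF_pow isF_x0P a).mul (isF_bP k 0)

/-- If two permutations are equal, so are their index functions on the 24 indices. -/
theorem isF_apply_eq {g : Equiv.Perm GolayPt} {f e : ℕ → ℕ} (hg : IsF g f) (he : IsF g e) {p : ℕ} (hp : p < 24) :
    f p = e p := by
  have h1 := hg (gPt p)
  have h2 := he (gPt p)
  rw [gIdx_gPt hp] at h1 h2
  rw [← h1, ← h2]

/-! ### The tables -/

theorem repTabs_ok : ∀ i < 150, ∀ p < 24, evalPt (rW i) p = tabF (rT i) p := by decide +kernel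

theorem yT_ok : ∀ p < 24, evalPt wY p = tabF yT p := by decide +kernel

theorem isF_rP {i : ℕ} (hi : i < 150) : IsF (rP i) (tabF (rT i)) :=
  (isF_wordPerm (rW i)).congr (repTabs_ok i hi)

theorem isF_yP : IsF yP (tabF yT) := (isF_wordPerm wY).congr yT_ok

theorem rP_zero : rP 0 = 1 := rfl

theorem rP_two : rP 2 = yP := rfl

/-! ### Multiplication of the double cosets by `y` -/

/-- The check that `y * (x ↦ 2^k x) * r_i = b * r_j * b'` where `j`, `b`, `b'` are given by the certificate. -/
def closOK (i k : ℕ) : Bool :=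
  (List.range 24).all fun p =>
    tabF yT (affF k 0 (tabF (rT i) p)) ==
      cF (((closCert.getD i []).getD k 0) / 150 % 5) (((closCert.getD i []).getD k 0) / 750 % 11)
        (tabF (rT (((closCert.getD i []).getD k 0) % 150))
          (cF (((closCert.getD i []).getD k 0) / 8250 % 5) (((closCert.getD i []).getD k 0) / 41250) p))

theorem closOK_spec {i k : ℕ} (hi : i < 150) (h : closOK i k = true) :
    ∃ j < 150, ∃ a1 k1 a2 k2 : ℕ, yP * bP k 0 * rP i = cE a1 k1 * rP j * cE a2 k2 := by
  refine ⟨((closCert.getD i []).getD k 0) % 150, Nat.mod_lt _ (by norm_num),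
    ((closCert.getD i []).getD k 0) / 150 % 5, ((closCert.getD i []).getD k 0) / 750 % 11,
    ((closCert.getD i []).getD k 0) / 8250 % 5, ((closCert.getD i []).getD k 0) / 41250, ?_⟩
  apply ((isF_yP.mul (isF_bP k 0)).mul (isF_rP hi)).eq_of
    (((isF_cE _ _).mul (isF_rP (Nat.mod_lt _ (by norm_num)))).mul (isF_cE _ _))
  intro p hp
  unfold closOK at h
  rw [List.all_eq_true] at h
  have := h p (List.mem_range.2 hp)
  rw [beq_iff_eq] at this
  exact this

set_option maxRecDepth 100000 in
theorem clos_a : ∀ i, 0 ≤ i → i < 50 → ∀ k, k < 11 → closOK i k = true := by decide +kernel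

set_option maxRecDepth 100000 in
theorem clos_b : ∀ i, 50 ≤ i → i < 100 → ∀ k, k < 11 → closOK i k = true := by decide +kernel

set_option maxRecDepth 100000 in
theorem clos_c : ∀ i, 100 ≤ i → i < 150 → ∀ k, k < 11 → closOK i k = true := by decide +kernel

theorem closOK_all {i k : ℕ} (hi : i < 150) (hk : k < 11) : closOK i k = true := by
  by_cases h1 : i < 50
  · exact clos_a i (Nat.zero_le _) h1 k hk
  by_cases h2 : i < 100
  · exact clos_b i (not_lt.1 h1) h2 k hk
  exact clos_c i (not_lt.1 h2) hi k hk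

/-- Multiplication of a double coset by `y`, the left factor being a power of `x ↦ 2 x`. -/
theorem y_mul_rep {i k : ℕ} (hi : i < 150) (hk : k < 11) :
    ∃ j < 150, ∃ a1 k1 a2 k2 : ℕ, yP * bP k 0 * rP i = cE a1 k1 * rP j * cE a2 k2 :=
  closOK_spec hi (closOK_all hi hk)

/-! ### The generation tree -/

/-- The parent of a representative. -/
def treeJ (i : ℕ) : ℕ := (treeCert.getD i 0) % 150

/-- The check that `r_i * b * r_i = b' * r_j * b''`, where `j` is the parent of `i`. -/
def treeOK (i : ℕ) : Bool :=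
  (List.range 24).all fun p =>
    tabF (rT i) (cF ((treeCert.getD i 0) / 150 % 5) ((treeCert.getD i 0) / 750 % 11) (tabF (rT i) p)) ==
      cF ((treeCert.getD i 0) / 8250 % 5) ((treeCert.getD i 0) / 41250 % 11)
        (tabF (rT (treeJ i)) (cF ((treeCert.getD i 0) / 453750 % 5) ((treeCert.getD i 0) / 2268750) p))

theorem treeJ_lt (i : ℕ) : treeJ i < 150 := Nat.mod_lt _ (by norm_num)

theorem treeOK_spec {i : ℕ} (hi : i < 150) (h : treeOK i = true) :
    ∃ a k a1 k1 a2 k2 : ℕ, rP i * cE a k * rP i = cE a1 k1 * rP (treeJ i) * cE a2 k2 := by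
  refine ⟨(treeCert.getD i 0) / 150 % 5, (treeCert.getD i 0) / 750 % 11,
    (treeCert.getD i 0) / 8250 % 5, (treeCert.getD i 0) / 41250 % 11,
    (treeCert.getD i 0) / 453750 % 5, (treeCert.getD i 0) / 2268750, ?_⟩
  apply (((isF_rP hi).mul (isF_cE _ _)).mul (isF_rP hi)).eq_of
    (((isF_cE _ _).mul (isF_rP (treeJ_lt i))).mul (isF_cE _ _))
  intro p hp
  unfold treeOK at h
  rw [List.all_eq_true] at h
  have := h p (List.mem_range.2 hp)
  rw [beq_iff_eq] at this
  exact this

set_option maxRecDepth 100000 in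
theorem tree_ok : ∀ i, 3 ≤ i → i < 150 → treeOK i = true ∧ 2 ≤ treeJ i := by decide +kernel

/-- The parent, the root being its own parent. -/
def parF (i : ℕ) : ℕ := if i ≤ 2 then 2 else treeJ i

set_option maxRecDepth 100000 in
theorem par_ok : ∀ i, 2 ≤ i → i < 150 → parF (parF (parF i)) = 2 := by decide +kernel

theorem parF_bounds {i : ℕ} (hi : i < 150) : 2 ≤ parF i ∧ parF i < 150 := by
  unfold parF
  split_ifs with h
  · exact ⟨le_refl _, by norm_num⟩
  · exact ⟨(tree_ok i (by omega) hi).2, treeJ_lt i⟩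

/-- A subgroup containing `11:5` and a representative contains its parent. -/
theorem rP_parF_mem {H : Subgroup (Equiv.Perm GolayPt)} (hB : ∀ a k, cE a k ∈ H) {i : ℕ} (h2 : 2 ≤ i) (hi : i < 150)
    (hr : rP i ∈ H) : rP (parF i) ∈ H := by
  unfold parF
  split_ifs with h
  · have : i = 2 := le_antisymm h h2
    rwa [this] at hr
  · obtain ⟨a, k, a1, k1, a2, k2, he⟩ := treeOK_spec hi (tree_ok i (by omega) hi).1
    have : rP (treeJ i) = (cE a1 k1)⁻¹ * (rP i * cE a k * rP i) * (cE a2 k2)⁻¹ := by
      rw [he]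
      group
    rw [this]
    exact H.mul_mem (H.mul_mem (H.inv_mem (hB _ _)) (H.mul_mem (H.mul_mem hr (hB _ _)) hr)) (H.inv_mem (hB _ _))

/-- A subgroup containing `11:5` and a representative other than the first two contains `y`. -/
theorem yP_mem_of_rP_mem {H : Subgroup (Equiv.Perm GolayPt)} (hB : ∀ a k, cE a k ∈ H) {i : ℕ} (h2 : 2 ≤ i)
    (hi : i < 150) (hr : rP i ∈ H) : yP ∈ H := by
  have b1 := parF_bounds hi
  have m1 := rP_parF_mem hB h2 hi hr
  have b2 := parF_bounds b1.2
  have m2 := rP_parF_mem hB b1.1 b1.2 m1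
  have m3 := rP_parF_mem hB b2.1 b2.2 m2
  rwa [par_ok i h2 hi, rP_two] at m3

/-! ### The element `y` -/

theorem y_x0_ok : ∀ p < 24, tabF yT (tabF x0T p) = tabF x0T (tabF x0T (tabF yT p)) := by decide +kernel

theorem yP_mul_x0P : yP * x0P = x0P * x0P * yP :=
  (isF_yP.mul isF_x0P).eq_of ((isF_x0P.mul isF_x0P).mul isF_yP) y_x0_ok

theorem y_pow_ok : ∀ p < 24, tabF yT (tabF yT (tabF yT (tabF yT p))) = p := by decide +kernel

theorem yP_inv : yP⁻¹ = yP * (yP * yP) := by
  rw [inv_eq_iff_mul_eq_one]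
  exact (isF_yP.mul (isF_yP.mul (isF_yP.mul isF_yP))).eq_of isF_one y_pow_ok

/-! ### The normalizer -/

/-- The check that `r_i` does not normalize the group of the maps `x ↦ 2^k x`. -/
def normOK (i : ℕ) : Bool :=
  (List.range 11).all fun j => (List.range 24).any fun p =>
    tabF (rT i) (affF 1 0 p) != affF j 0 (tabF (rT i) p)

theorem norm_ok : ∀ i, 1 ≤ i → i < 150 → normOK i = true := by decide +kernel

theorem rP_not_normalize {i : ℕ} (h1 : 1 ≤ i) (hi : i < 150) {j : ℕ} (hj : j < 11) :
    rP i * bP 1 0 ≠ bP j 0 * rP i := by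
  intro he
  have h := norm_ok i h1 hi
  unfold normOK at h
  rw [List.all_eq_true] at h
  have h2 := h j (List.mem_range.2 hj)
  rw [List.any_eq_true] at h2
  obtain ⟨p, hp, hne⟩ := h2
  rw [bne_iff_ne] at hne
  apply hne
  have e1 := (isF_rP hi).mul (isF_bP 1 0)
  have e2 := (isF_bP j 0).mul (isF_rP hi)
  rw [← he] at e2
  exact isF_apply_eq e1 e2 (List.mem_range.1 hp)

/-! ### Generation of `M22` -/

/-- The generators: `x ↦ 2 x`, `x0` and `y`. -/
def genWords : List (List ℕ) := [wM2, wX0, wY]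

theorem genChain_ok : chainCheck [] (metaChain genWords genChain) = true := by decide +kernel

theorem genChain_prod : ((metaChain genWords genChain).map (fun c => c.2.length)).prod = 443520 := by
  decide +kernel

theorem genWords_fix : ∀ w ∈ genWords, evalPt w 0 = 0 ∧ evalPt w 23 = 23 := by decide +kernel

end Cfsg.Agent.Lib.H28.M22B
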