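/-
helper28 library: the group `11:5` in `M22`, its double cosets, its overgroups and the normalizer of its subgroup
of order 11.
-/
import Cfsg.Agent.Lib.H28.M22BCert
import Cfsg.Agent.Lib.H28.M23M22Simple

set_option autoImplicit false

namespace Cfsg.Agent.Lib.H28.M22B

open Cfsg Cfsg.Agent.Lib.H28 Cfsg.Agent.Lib.H28.PSL23

/-! ### The group `11:5` -/

theorem u2_pow_mod (k : ℕ) : u2 ^ (k % 11) = u2 ^ k := by
  conv_rhs => rw [← Nat.div_add_mod k 11, pow_add, pow_mul, u2_pow_eleven, one_pow, one_mul]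

theorem bP_congr {k k' : ℕ} (c : ℕ) (h : k % 11 = k' % 11) : bP k c = bP k' c := by
  unfold bP
  rw [← u2_pow_mod k, ← u2_pow_mod k', h]

theorem x0P_mul_bP' (k : ℕ) : x0P * bP k 0 = bP (3 * k) 0 * x0P := by
  have h1 : bP k 0 = bP (k % 11) 0 := bP_congr 0 (by omega)
  have h2 : bP (3 * k) 0 = bP (3 * (k % 11) % 11) 0 := bP_congr 0 (by omega)
  rw [h1, h2]
  exact x0P_mul_bP (Nat.mod_lt _ (by norm_num))

theorem bP_mul_x0P (k : ℕ) : bP k 0 * x0P = x0P * bP (4 * k) 0 := by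
  rw [x0P_mul_bP' (4 * k)]
  congr 1
  exact bP_congr 0 (by omega)

theorem bP_mul_x0P_pow (a : ℕ) : ∀ k : ℕ, bP k 0 * x0P ^ a = x0P ^ a * bP (4 ^ a * k) 0 := by
  induction a with
  | zero =>
    intro k
    rw [pow_zero, pow_zero, mul_one, one_mul, one_mul]
  | succ a ih =>
    intro k
    rw [pow_succ, ← mul_assoc, ih, mul_assoc, bP_mul_x0P, ← mul_assoc]
    congr 2
    ring

theorem bP_add (k k' : ℕ) : bP k 0 * bP k' 0 = bP (k + k') 0 := by
  rw [bP_mul, mul_zero, add_zero]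

theorem bP_pow (k : ℕ) : bP 1 0 ^ k = bP k 0 := by
  unfold bP
  rw [pow_one, Nat.cast_zero, affP_pow]

theorem cE_mul (a k a' k' : ℕ) : cE a k * cE a' k' = cE (a + a') (4 ^ a' * k + k') := by
  unfold cE
  rw [mul_assoc, ← mul_assoc (bP k 0), bP_mul_x0P_pow, mul_assoc, bP_add, ← mul_assoc, ← pow_add]

theorem x0_pow_five_ok : ∀ p < 24, (tabF x0T)^[5] p = p := by decide +kernel

theorem x0P_pow_five : x0P ^ 5 = 1 := (isF_pow isF_x0P 5).eq_of isF_one x0_pow_five_ok

theorem x0P_pow_mod (a : ℕ) : x0P ^ (a % 5) = x0P ^ a := by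
  conv_rhs => rw [← Nat.div_add_mod a 5, pow_add, pow_mul, x0P_pow_five, one_pow, one_mul]

theorem cE_congr {a a' k k' : ℕ} (ha : a % 5 = a' % 5) (hk : k % 11 = k' % 11) : cE a k = cE a' k' := by
  unfold cE
  rw [← x0P_pow_mod a, ← x0P_pow_mod a', ha, bP_congr 0 hk]

theorem cE_zero_zero : cE 0 0 = 1 := by
  unfold cE
  rw [pow_zero, bP_zero_zero, mul_one]

/-- The group `11:5` generated by `x ↦ 2 x` and `x0`. -/
noncomputable def B55 : Subgroup (Equiv.Perm GolayPt) where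
  carrier := {g | ∃ a k : ℕ, g = cE a k}
  mul_mem' := by
    rintro _ _ ⟨a, k, rfl⟩ ⟨a', k', rfl⟩
    exact ⟨_, _, cE_mul a k a' k'⟩
  one_mem' := ⟨0, 0, cE_zero_zero.symm⟩
  inv_mem' := by
    rintro _ ⟨a, k, rfl⟩
    refine ⟨4 * a, 4 ^ (4 * a) * (10 * k), ?_⟩
    rw [inv_eq_iff_mul_eq_one, cE_mul, ← cE_zero_zero]
    apply cE_congr (by omega)
    have : 4 ^ (4 * a) * k + 4 ^ (4 * a) * (10 * k) = 11 * (4 ^ (4 * a) * k) := by ring
    rw [this, Nat.mul_mod_right]

theorem cE_mem_B55 (a k : ℕ) : cE a k ∈ B55 := ⟨a, k, rfl⟩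

theorem exists_cE_of_mem {g : Equiv.Perm GolayPt} (hg : g ∈ B55) : ∃ a < 5, ∃ k < 11, g = cE a k := by
  obtain ⟨a, k, rfl⟩ := hg
  exact ⟨a % 5, Nat.mod_lt _ (by norm_num), k % 11, Nat.mod_lt _ (by norm_num),
    cE_congr (by omega) (by omega)⟩

theorem bP_mem_B55 (k : ℕ) : bP k 0 ∈ B55 := ⟨0, k, by unfold cE; rw [pow_zero, one_mul]⟩

theorem x0P_pow_mem_B55 (a : ℕ) : x0P ^ a ∈ B55 := ⟨a, 0, by unfold cE; rw [bP_zero_zero, mul_one]⟩

theorem x0P_ne_one : x0P ≠ 1 := by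
  intro h
  have h1 := isF_x0P
  rw [h] at h1
  have := isF_apply_eq h1 isF_one (p := 2) (by norm_num)
  revert this
  decide

theorem bP_one_ne_one : bP 1 0 ≠ 1 := by
  intro h
  have h1 := isF_bP 1 0
  rw [h] at h1
  have := isF_apply_eq h1 isF_one (p := 1) (by norm_num)
  revert this
  decide

theorem orderOf_x0P : orderOf x0P = 5 := by
  have : Fact (Nat.Prime 5) := ⟨by norm_num⟩
  exact orderOf_eq_prime x0P_pow_five x0P_ne_one

theorem bP_one_pow_eleven : bP 1 0 ^ 11 = 1 := by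
  rw [bP_pow, ← bP_zero_zero]
  exact bP_congr 0 (by norm_num)

theorem orderOf_bP_one : orderOf (bP 1 0) = 11 := by
  have : Fact (Nat.Prime 11) := ⟨by norm_num⟩
  exact orderOf_eq_prime bP_one_pow_eleven bP_one_ne_one

theorem card_B55 : Nat.card ↥B55 = 55 := by
  apply le_antisymm
  · have hs : Function.Surjective (fun ak : Fin 5 × Fin 11 => (⟨cE ak.1.val ak.2.val, cE_mem_B55 _ _⟩ : ↥B55)) := by
      rintro ⟨g, hg⟩
      obtain ⟨a, ha, k, hk, rfl⟩ := exists_cE_of_mem hg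
      exact ⟨(⟨a, ha⟩, ⟨k, hk⟩), rfl⟩
    have := Nat.card_le_card_of_surjective _ hs
    rw [Nat.card_prod, Nat.card_fin, Nat.card_fin] at this
    exact this
  · apply Nat.le_of_dvd (Nat.card_pos)
    have h5 : 5 ∣ Nat.card ↥B55 := by
      rw [← orderOf_x0P]
      have := x0P_pow_mem_B55 1
      rw [pow_one] at this
      exact Subgroup.orderOf_dvd_natCard B55 this
    have h11 : 11 ∣ Nat.card ↥B55 := by
      rw [← orderOf_bP_one]
      exact Subgroup.orderOf_dvd_natCard B55 (bP_mem_B55 1)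
    exact Nat.Coprime.mul_dvd_of_dvd_of_dvd (by norm_num) h5 h11

/-! ### The stabilizer of two points -/

/-- The stabilizer of the point `0` and the extra point in `M24`. -/
noncomputable def M22s : Subgroup (Equiv.Perm GolayPt) := fixSub M24 [0, 23]

theorem mem_M22s {g : Equiv.Perm GolayPt} : g ∈ M22s ↔ g ∈ M24 ∧ g (gPt 0) = gPt 0 ∧ g (gPt 23) = gPt 23 := by
  unfold M22s
  rw [mem_fixSub]
  constructor
  · rintro ⟨h1, h2⟩
    exact ⟨h1, h2 0 (by simp), h2 23 (by simp)⟩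
  · rintro ⟨h1, h2, h3⟩
    refine ⟨h1, fun k hk => ?_⟩
    simp only [List.mem_cons, List.not_mem_nil, or_false] at hk
    rcases hk with rfl | rfl
    · exact h2
    · exact h3

theorem genWords_mem : ∀ w ∈ genWords, wordPerm w ∈ M22s := by
  intro w hw
  obtain ⟨h1, h2⟩ := genWords_fix w hw
  rw [mem_M22s]
  exact ⟨wordPerm_mem_M24 w, wordPerm_fix_of_evalPt (by norm_num) h1, wordPerm_fix_of_evalPt (by norm_num) h2⟩

theorem wordsClosure_genWords : wordsClosure genWords = M22s := by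
  apply wordsClosure_eq_of_chain M22s genWords genChain genWords_mem genChain_ok
  rw [genChain_prod]
  exact card_fixSub_chain.2

theorem card_M22s : Nat.card ↥M22s = 443520 := by
  apply le_antisymm card_fixSub_chain.2
  have := card_ge_of_chainCheck (wordsClosure genWords) (metaChain genWords genChain) [] ?_ genChain_ok
  · rw [fixSub_nil, genChain_prod, wordsClosure_genWords] at this
    exact this
  · intro c hc w hw
    unfold metaChain at hc
    rw [List.mem_map] at hc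
    obtain ⟨c0, _, rfl⟩ := hc
    rw [List.mem_map] at hw
    obtain ⟨m, _, rfl⟩ := hw
    exact wordPerm_metaFlat_mem genWords m

theorem mem_genWords {w : List ℕ} (hw : w ∈ genWords) : w = wM2 ∨ w = wX0 ∨ w = wY := by
  unfold genWords at hw
  simpa using hw

theorem x0P_mem_M22s : x0P ∈ M22s := genWords_mem wX0 (by unfold genWords; simp)

theorem yP_mem_M22s : yP ∈ M22s := genWords_mem wY (by unfold genWords; simp)

theorem bP_mem_M22s (k : ℕ) : bP k 0 ∈ M22s := by
  rw [← bP_pow, ← wordPerm_wM2]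
  exact M22s.pow_mem (genWords_mem wM2 (by unfold genWords; simp)) k

theorem B55_le_M22s : B55 ≤ M22s := by
  rintro _ ⟨a, k, rfl⟩
  exact M22s.mul_mem (M22s.pow_mem x0P_mem_M22s a) (bP_mem_M22s k)

/-! ### The double cosets cover `M22` -/

/-- The union of the double cosets of the representatives. -/
def Cover : Set (Equiv.Perm GolayPt) := {g | ∃ i < 150, ∃ b ∈ B55, ∃ b' ∈ B55, g = b * rP i * b'}

theorem one_mem_Cover : (1 : Equiv.Perm GolayPt) ∈ Cover :=
  ⟨0, by norm_num, 1, B55.one_mem, 1, B55.one_mem, by rw [rP_zero, mul_one, mul_one]⟩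

theorem B55_mul_mem_Cover {b g : Equiv.Perm GolayPt} (hb : b ∈ B55) (hg : g ∈ Cover) : b * g ∈ Cover := by
  obtain ⟨i, hi, b1, hb1, b2, hb2, rfl⟩ := hg
  exact ⟨i, hi, b * b1, B55.mul_mem hb hb1, b2, hb2, by group⟩

theorem yP_mul_x0P_pow (a : ℕ) : yP * x0P ^ a = x0P ^ (2 * a) * yP := by
  induction a with
  | zero => simp
  | succ a ih =>
    rw [pow_succ, ← mul_assoc, ih, mul_assoc, yP_mul_x0P, Nat.mul_succ, pow_add, pow_two]
    group

theorem yP_mul_mem_Cover {g : Equiv.Perm GolayPt} (hg : g ∈ Cover) : yP * g ∈ Cover := by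
  obtain ⟨i, hi, b1, hb1, b2, hb2, rfl⟩ := hg
  obtain ⟨a, -, k, hk, rfl⟩ := exists_cE_of_mem hb1
  obtain ⟨j, hj, a1, k1, a2, k2, h⟩ := y_mul_rep hi hk
  refine ⟨j, hj, x0P ^ (2 * a) * cE a1 k1, B55.mul_mem (x0P_pow_mem_B55 _) (cE_mem_B55 _ _),
    cE a2 k2 * b2, B55.mul_mem (cE_mem_B55 _ _) hb2, ?_⟩
  unfold cE at h ⊢
  calc yP * (x0P ^ a * bP k 0 * rP i * b2) = (yP * x0P ^ a) * bP k 0 * rP i * b2 := by group
    _ = x0P ^ (2 * a) * (yP * bP k 0 * rP i) * b2 := by rw [yP_mul_x0P_pow]; group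
    _ = x0P ^ (2 * a) * (x0P ^ a1 * bP k1 0) * rP j * (x0P ^ a2 * bP k2 0 * b2) := by rw [h]; group

theorem mem_Cover_of_mem_M22s {g : Equiv.Perm GolayPt} (hg : g ∈ M22s) : g ∈ Cover := by
  rw [← wordsClosure_genWords] at hg
  unfold wordsClosure at hg
  induction hg using Subgroup.closure_induction_left with
  | one => exact one_mem_Cover
  | mul_left x hx y _ ih =>
    obtain ⟨w, hw, rfl⟩ := hx
    rcases mem_genWords hw with rfl | rfl | rfl
    · rw [wordPerm_wM2]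
      exact B55_mul_mem_Cover (bP_mem_B55 1) ih
    · have := x0P_pow_mem_B55 1
      rw [pow_one] at this
      exact B55_mul_mem_Cover this ih
    · exact yP_mul_mem_Cover ih
  | inv_mul_cancel x hx y _ ih =>
    obtain ⟨w, hw, rfl⟩ := hx
    rcases mem_genWords hw with rfl | rfl | rfl
    · rw [wordPerm_wM2]
      exact B55_mul_mem_Cover (B55.inv_mem (bP_mem_B55 1)) ih
    · have := x0P_pow_mem_B55 1
      rw [pow_one] at this
      exact B55_mul_mem_Cover (B55.inv_mem this) ih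
    · show yP⁻¹ * y ∈ Cover
      rw [yP_inv, mul_assoc, mul_assoc]
      exact yP_mul_mem_Cover (yP_mul_mem_Cover (yP_mul_mem_Cover ih))

/-! ### Overgroups of `11:5` -/

theorem M22s_le_of_yP_mem {H : Subgroup (Equiv.Perm GolayPt)} (hB : B55 ≤ H) (hy : yP ∈ H) : M22s ≤ H := by
  rw [← wordsClosure_genWords]
  apply wordsClosure_le
  intro w hw
  rcases mem_genWords hw with rfl | rfl | rfl
  · rw [wordPerm_wM2]
    exact hB (bP_mem_B55 1)
  · have := x0P_pow_mem_B55 1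
    rw [pow_one] at this
    exact hB this
  · exact hy

/-- A subgroup containing `11:5` and an element of a double coset other than the first two contains `M22`. -/
theorem M22s_le_of_mem {H : Subgroup (Equiv.Perm GolayPt)} (hB : B55 ≤ H) {i : ℕ} (h2 : 2 ≤ i) (hi : i < 150)
    {b b' : Equiv.Perm GolayPt} (hb : b ∈ B55) (hb' : b' ∈ B55) (hg : b * rP i * b' ∈ H) : M22s ≤ H := by
  have hr : rP i ∈ H := by
    have : rP i = b⁻¹ * (b * rP i * b') * b'⁻¹ := by group
    rw [this]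
    exact H.mul_mem (H.mul_mem (H.inv_mem (hB hb)) hg) (H.inv_mem (hB hb'))
  exact M22s_le_of_yP_mem hB (yP_mem_of_rP_mem (fun a k => hB (cE_mem_B55 a k)) h2 hi hr)

/-! ### The normalizer of the subgroup of order 11 -/

theorem mem_zpowers_bP {g : Equiv.Perm GolayPt} (hg : g ∈ Subgroup.zpowers (bP 1 0)) : ∃ j < 11, g = bP j 0 := by
  have hfin : IsOfFinOrder (bP 1 0) := isOfFinOrder_of_finite _
  rw [← mem_powers_iff_mem_zpowers, Submonoid.mem_powers_iff] at hg
  obtain ⟨n, rfl⟩ := hg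
  refine ⟨n % 11, Nat.mod_lt _ (by norm_num), ?_⟩
  rw [bP_pow]
  exact bP_congr 0 (by omega)

theorem bP_mem_zpowers (k : ℕ) : bP k 0 ∈ Subgroup.zpowers (bP 1 0) := by
  have := Subgroup.pow_mem (Subgroup.zpowers (bP 1 0)) (Subgroup.mem_zpowers (bP 1 0)) k
  rwa [bP_pow] at this

theorem cE_mem_normalizer (a k : ℕ) : cE a k ∈ Subgroup.normalizer (Subgroup.zpowers (bP 1 0) : Set (Equiv.Perm GolayPt)) := by
  apply Subgroup.mem_normalizer_fintype
  intro n hn
  obtain ⟨j, -, rfl⟩ := mem_zpowers_bP hn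
  have : cE a k * bP j 0 * (cE a k)⁻¹ = bP (3 ^ a * j) 0 := by
    rw [mul_inv_eq_iff_eq_mul]
    unfold cE
    have h1 : ∀ a j : ℕ, x0P ^ a * bP j 0 = bP (3 ^ a * j) 0 * x0P ^ a := by
      intro a
      induction a with
      | zero => intro j; rw [pow_zero, pow_zero, one_mul, mul_one, one_mul]
      | succ a ih =>
        intro j
        rw [pow_succ, mul_assoc, x0P_mul_bP', ← mul_assoc, ih, mul_assoc]
        congr 2
        ring
    rw [mul_assoc, bP_add, ← mul_assoc, ← h1, mul_assoc, bP_add, add_comm]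
  rw [this]
  exact bP_mem_zpowers _

/-- The normalizer in `M22` of the group of order 11 is `11:5`. -/
theorem mem_B55_of_mem_normalizer {g : Equiv.Perm GolayPt} (hg : g ∈ M22s)
    (hn : g ∈ Subgroup.normalizer (Subgroup.zpowers (bP 1 0) : Set (Equiv.Perm GolayPt))) : g ∈ B55 := by
  obtain ⟨i, hi, b, hb, b', hb', rfl⟩ := mem_Cover_of_mem_M22s hg
  have hN : ∀ c ∈ B55, c ∈ Subgroup.normalizer (Subgroup.zpowers (bP 1 0) : Set (Equiv.Perm GolayPt)) := by
    rintro _ ⟨a, k, rfl⟩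
    exact cE_mem_normalizer a k
  have hr : rP i ∈ Subgroup.normalizer (Subgroup.zpowers (bP 1 0) : Set (Equiv.Perm GolayPt)) := by
    have : rP i = b⁻¹ * (b * rP i * b') * b'⁻¹ := by group
    rw [this]
    exact Subgroup.mul_mem _ (Subgroup.mul_mem _ (Subgroup.inv_mem _ (hN b hb)) hn) (Subgroup.inv_mem _ (hN b' hb'))
  have h0 : i = 0 := by
    by_contra hne
    rw [Subgroup.mem_normalizer_iff] at hr
    have h1 := (hr (bP 1 0)).1 (Subgroup.mem_zpowers _)
    obtain ⟨j, hj, he⟩ := mem_zpowers_bP h1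
    rw [mul_inv_eq_iff_eq_mul] at he
    exact rP_not_normalize (Nat.one_le_iff_ne_zero.2 hne) hi hj he
  subst h0
  rw [rP_zero, mul_one]
  exact B55.mul_mem hb hb'

end Cfsg.Agent.Lib.H28.M22B
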