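/-
helper28 library: `M22` has no subgroup of index 56 or 210.
-/
import Cfsg.Agent.Lib.H28.M22BCover
import Cfsg.Agent.Lib.H28.PointStabEquiv
import Cfsg.Agent.Lib.H28.M24Stab

set_option autoImplicit false

namespace Cfsg.Agent.Lib.H28.M22B

open Cfsg Cfsg.Agent.Lib.H28 Cfsg.Agent.Lib.H28.PSL23

/-! ### Subgroups containing `11:5` -/

theorem card_ne_of_B55_le {K : Subgroup (Equiv.Perm GolayPt)} (hK : K ≤ M22s) (hB : B55 ≤ K) :
    Nat.card ↥K ≠ 7920 := by
  intro hcard
  by_cases h : ∃ g ∈ K, ∃ i, 2 ≤ i ∧ i < 150 ∧ ∃ b ∈ B55, ∃ b' ∈ B55, g = b * rP i * b'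
  · obtain ⟨g, hg, i, h2, hi, b, hb, b', hb', rfl⟩ := h
    have h1 := M22s_le_of_mem hB h2 hi hb hb' hg
    have h2 : K = M22s := le_antisymm hK h1
    rw [h2, card_M22s] at hcard
    omega
  · push Not at h
    have hsub : (K : Set (Equiv.Perm GolayPt)) ⊆ (B55 : Set (Equiv.Perm GolayPt)) ∪
        (fun bb : Equiv.Perm GolayPt × Equiv.Perm GolayPt => bb.1 * rP 1 * bb.2) ''
          ((B55 : Set (Equiv.Perm GolayPt)) ×ˢ (B55 : Set (Equiv.Perm GolayPt))) := by
      intro g hg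
      obtain ⟨i, hi, b, hb, b', hb', rfl⟩ := mem_Cover_of_mem_M22s (hK hg)
      have hlt : i < 2 := by
        by_contra hcon
        exact h _ hg i (not_lt.1 hcon) hi b hb b' hb' rfl
      interval_cases i
      · left
        rw [rP_zero, mul_one]
        exact B55.mul_mem hb hb'
      · right
        exact ⟨(b, b'), ⟨hb, hb'⟩, rfl⟩
    have hB55 : (B55 : Set (Equiv.Perm GolayPt)).ncard = 55 := by
      rw [← Nat.card_coe_set_eq]
      exact card_B55
    have hc : (K : Set (Equiv.Perm GolayPt)).ncard ≤ 55 + 55 * 55 := by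
      refine le_trans (Set.ncard_le_ncard hsub (Set.toFinite _)) ?_
      refine le_trans (Set.ncard_union_le _ _) ?_
      apply Nat.add_le_add (le_of_eq hB55)
      refine le_trans (Set.ncard_image_le (Set.toFinite _)) ?_
      rw [Set.ncard_prod, hB55]
    rw [← Nat.card_coe_set_eq] at hc
    have : Nat.card ↥K ≤ 55 + 55 * 55 := hc
    omega

/-! ### Counting Sylow subgroups -/

theorem sylow_count {K : Subgroup (Equiv.Perm GolayPt)} (hK : K ≤ M22s) (hm : bP 1 0 ∈ K)
    (h121 : ¬ 121 ∣ Nat.card ↥K) :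
    ∃ c : ℕ, c ∣ 55 ∧ 11 ∣ c ∧ c ∣ Nat.card ↥K ∧ (Nat.card ↥K / c) % 11 = 1 ∧ (c = 55 → B55 ≤ K) := by
  have hp : Fact (Nat.Prime 11) := ⟨by norm_num⟩
  have hPK : Subgroup.zpowers (bP 1 0) ≤ K := by
    rw [Subgroup.zpowers_le]
    exact hm
  have hcP : Nat.card ↥(Subgroup.zpowers (bP 1 0)) = 11 := by
    rw [Nat.card_zpowers, orderOf_bP_one]
  have hNB : Subgroup.normalizer (Subgroup.zpowers (bP 1 0) : Set (Equiv.Perm GolayPt)) ⊓ K ≤ B55 :=
    fun g hg => mem_B55_of_mem_normalizer (hK hg.2) hg.1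
  have hPN : Subgroup.zpowers (bP 1 0) ≤
      Subgroup.normalizer (Subgroup.zpowers (bP 1 0) : Set (Equiv.Perm GolayPt)) ⊓ K :=
    le_inf Subgroup.le_normalizer hPK
  refine ⟨Nat.card ↥(Subgroup.normalizer (Subgroup.zpowers (bP 1 0) : Set (Equiv.Perm GolayPt)) ⊓ K), ?_, ?_, ?_, ?_, ?_⟩
  · rw [← card_B55]
    exact Subgroup.card_dvd_of_le hNB
  · rw [← hcP]
    exact Subgroup.card_dvd_of_le hPN
  · exact Subgroup.card_dvd_of_le inf_le_right
  · have hcPK : Nat.card ↥((Subgroup.zpowers (bP 1 0)).subgroupOf K) = 11 := by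
      rw [← hcP]
      exact Nat.card_congr (Subgroup.subgroupOfEquivOfLe hPK).toEquiv
    have hPG : IsPGroup 11 ↥((Subgroup.zpowers (bP 1 0)).subgroupOf K) :=
      IsPGroup.of_card (n := 1) (by rw [pow_one, hcPK])
    obtain ⟨Q, hQ⟩ := hPG.exists_le_sylow
    have hcQ : Nat.card ↥(Q : Subgroup ↥K) = 11 := by
      obtain ⟨n, hn⟩ := IsPGroup.iff_card.1 Q.2
      have h1 : Nat.card ↥(Q : Subgroup ↥K) ∣ Nat.card ↥K := Subgroup.card_subgroup_dvd_card _
      have h2 : 11 ∣ Nat.card ↥(Q : Subgroup ↥K) := by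
        have := Subgroup.card_dvd_of_le hQ
        rwa [hcPK] at this
      rw [hn] at h1 h2 ⊢
      have hn1 : n ≠ 0 := by
        rintro rfl
        norm_num at h2
      have hn2 : n < 2 := by
        by_contra hcon
        apply h121
        refine dvd_trans ?_ h1
        exact pow_dvd_pow 11 (not_lt.1 hcon)
      have : n = 1 := by omega
      rw [this, pow_one]
    have hQeq : (Q : Subgroup ↥K) = (Subgroup.zpowers (bP 1 0)).subgroupOf K :=
      (Subgroup.eq_of_le_of_card_ge hQ (by rw [hcQ, hcPK])).symm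
    have h1 := Sylow.card_eq_index_normalizer Q
    have h2 := card_sylow_modEq_one 11 ↥K
    have h5 : Subgroup.normalizer (Q : Set ↥K) =
        (Subgroup.normalizer (Subgroup.zpowers (bP 1 0) : Set (Equiv.Perm GolayPt)) ⊓ K).subgroupOf K := by
      rw [Subgroup.inf_subgroupOf_right, Subgroup.subgroupOf_normalizer_eq hPK, ← hQeq]
      rfl
    rw [h1, h5] at h2
    have h3 := Subgroup.index_mul_card
      ((Subgroup.normalizer (Subgroup.zpowers (bP 1 0) : Set (Equiv.Perm GolayPt)) ⊓ K).subgroupOf K)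
    have h4 : Nat.card ↥((Subgroup.normalizer (Subgroup.zpowers (bP 1 0) : Set (Equiv.Perm GolayPt)) ⊓ K).subgroupOf K)
        = Nat.card ↥(Subgroup.normalizer (Subgroup.zpowers (bP 1 0) : Set (Equiv.Perm GolayPt)) ⊓ K) :=
      Nat.card_congr (Subgroup.subgroupOfEquivOfLe inf_le_right).toEquiv
    rw [h4] at h3
    rw [← h3, Nat.mul_div_cancel _ Nat.card_pos]
    exact h2
  · intro hc
    have : Subgroup.normalizer (Subgroup.zpowers (bP 1 0) : Set (Equiv.Perm GolayPt)) ⊓ K = B55 :=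
      Subgroup.eq_of_le_of_card_ge hNB (by rw [card_B55, hc])
    rw [← this]
    exact inf_le_right

theorem card_ne_of_mem {K : Subgroup (Equiv.Perm GolayPt)} (hK : K ≤ M22s) (hm : bP 1 0 ∈ K) :
    Nat.card ↥K ≠ 7920 ∧ Nat.card ↥K ≠ 2112 := by
  have hdiv : ∀ c : ℕ, c ∣ 55 → 11 ∣ c → c = 11 ∨ c = 55 := by
    intro c h1 h2
    have hle : c ≤ 55 := Nat.le_of_dvd (by norm_num) h1
    obtain ⟨d, rfl⟩ := h2
    have hd : d ≤ 5 := by omega
    interval_cases d
    · norm_num at h1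
    · left; rfl
    · norm_num at h1
    · norm_num at h1
    · norm_num at h1
    · right; rfl
  constructor
  · intro hcard
    obtain ⟨c, h1, h2, h3, h4, h5⟩ := sylow_count hK hm (by rw [hcard]; norm_num)
    rcases hdiv c h1 h2 with rfl | rfl
    · rw [hcard] at h4
      norm_num at h4
    · exact card_ne_of_B55_le hK (h5 rfl) hcard
  · intro hcard
    obtain ⟨c, h1, h2, h3, h4, h5⟩ := sylow_count hK hm (by rw [hcard]; norm_num)
    rcases hdiv c h1 h2 with rfl | rfl
    · rw [hcard] at h4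
      norm_num at h4
    · rw [hcard] at h3
      norm_num at h3

/-! ### Conjugating an element of order 11 -/

theorem exists_conj_mem {K : Subgroup (Equiv.Perm GolayPt)} (hK : K ≤ M22s) (h11 : 11 ∣ Nat.card ↥K) :
    ∃ g ∈ M22s, bP 1 0 ∈ K.map (MulAut.conj g).toMonoidHom := by
  have hp : Fact (Nat.Prime 11) := ⟨by norm_num⟩
  have hcK' : Nat.card ↥(K.subgroupOf M22s) = Nat.card ↥K :=
    Nat.card_congr (Subgroup.subgroupOfEquivOfLe hK).toEquiv
  obtain ⟨k, hk⟩ := exists_prime_orderOf_dvd_card' (G := ↥(K.subgroupOf M22s)) 11 (by rw [hcK']; exact h11)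
  have hk1 : orderOf (k : ↥M22s) = 11 := by rw [Subgroup.orderOf_coe, hk]
  have hm1 : orderOf (⟨bP 1 0, bP_mem_M22s 1⟩ : ↥M22s) = 11 := by rw [Subgroup.orderOf_mk, orderOf_bP_one]
  -- all Sylow subgroups containing an element of order 11 are generated by it
  have key : ∀ (x : ↥M22s), orderOf x = 11 → ∀ S : Sylow 11 ↥M22s, Subgroup.zpowers x ≤ S →
      (S : Subgroup ↥M22s) = Subgroup.zpowers x := by
    intro x hx S hS
    have hcx : Nat.card ↥(Subgroup.zpowers x) = 11 := by rw [Nat.card_zpowers, hx]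
    obtain ⟨n, hn⟩ := IsPGroup.iff_card.1 S.2
    have h1 : Nat.card ↥(S : Subgroup ↥M22s) ∣ Nat.card ↥M22s := Subgroup.card_subgroup_dvd_card _
    have h2 : 11 ∣ Nat.card ↥(S : Subgroup ↥M22s) := by
      have := Subgroup.card_dvd_of_le hS
      rwa [hcx] at this
    rw [card_M22s] at h1
    have hn1 : n ≠ 0 := by
      rintro rfl
      rw [hn] at h2
      norm_num at h2
    have hn2 : n < 2 := by
      by_contra hcon
      have : 11 ^ 2 ∣ 443520 := dvd_trans (pow_dvd_pow 11 (not_lt.1 hcon)) (hn ▸ h1)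
      norm_num at this
    have hn3 : n = 1 := by omega
    exact (Subgroup.eq_of_le_of_card_ge hS (by rw [hn, hn3, pow_one, hcx])).symm
  have pg : ∀ (x : ↥M22s), orderOf x = 11 → IsPGroup 11 ↥(Subgroup.zpowers x) := by
    intro x hx
    exact IsPGroup.of_card (n := 1) (by rw [pow_one, Nat.card_zpowers, hx])
  obtain ⟨Q, hQ⟩ := (pg _ hk1).exists_le_sylow
  obtain ⟨Q0, hQ0⟩ := (pg _ hm1).exists_le_sylow
  have eQ := key _ hk1 Q hQ
  have eQ0 := key _ hm1 Q0 hQ0
  obtain ⟨g, hg⟩ := MulAction.exists_smul_eq ↥M22s Q Q0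
  have hmem : (⟨bP 1 0, bP_mem_M22s 1⟩ : ↥M22s) ∈ (Q0 : Subgroup ↥M22s) := by
    rw [eQ0]
    exact Subgroup.mem_zpowers _
  rw [← hg, Sylow.coe_subgroup_smul, Subgroup.mem_smul_pointwise_iff_exists] at hmem
  obtain ⟨s, hs, hsm⟩ := hmem
  rw [eQ] at hs
  have hsK : s ∈ K.subgroupOf M22s := by
    have : Subgroup.zpowers (k : ↥M22s) ≤ K.subgroupOf M22s := by
      rw [Subgroup.zpowers_le]
      exact k.2
    exact this hs
  refine ⟨g.1, g.2, ?_⟩
  rw [Subgroup.mem_map]
  refine ⟨s.1, Subgroup.mem_subgroupOf.1 hsK, ?_⟩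
  have := congrArg Subtype.val hsm
  exact this

theorem no_subgroup_card {K : Subgroup (Equiv.Perm GolayPt)} (hK : K ≤ M22s) :
    Nat.card ↥K ≠ 7920 ∧ Nat.card ↥K ≠ 2112 := by
  by_cases h11 : 11 ∣ Nat.card ↥K
  · obtain ⟨g, hg, hm⟩ := exists_conj_mem hK h11
    have hK1 : K.map (MulAut.conj g).toMonoidHom ≤ M22s := by
      rintro _ ⟨x, hx, rfl⟩
      exact M22s.mul_mem (M22s.mul_mem hg (hK hx)) (M22s.inv_mem hg)
    have hc : Nat.card ↥(K.map (MulAut.conj g).toMonoidHom) = Nat.card ↥K :=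
      Subgroup.card_map_of_injective (MulAut.conj g).injective
    rw [← hc]
    exact card_ne_of_mem hK1 hm
  · constructor
    · intro h
      rw [h] at h11
      norm_num at h11
    · intro h
      rw [h] at h11
      norm_num at h11

/-! ### The statement for any two points -/

theorem index_ne (p q : GolayPt) (hpq : p ≠ q)
    (H : Subgroup ↥(MulAction.stabilizer M24 p ⊓ MulAction.stabilizer M24 q)) :
    H.index ≠ 56 ∧ H.index ≠ 210 := by
  have hne : gPt 23 ≠ gPt 0 := by decide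
  obtain ⟨g, hg, hmap⟩ := exists_M24_map (n := 2) (by norm_num) ![gPt 23, gPt 0] ![p, q]
    (injective_pair hne) (injective_pair hpq)
  have h23 : g (gPt 23) = p := hmap 0
  have h0 : g (gPt 0) = q := hmap 1
  have hB : ∀ x : ↥M24, x ∈ MulAction.stabilizer M24 p ⊓ MulAction.stabilizer M24 q ↔
      ∀ k ∈ [0, 23], x.1 (g (gPt k)) = g (gPt k) := by
    intro x
    rw [Subgroup.mem_inf, MulAction.mem_stabilizer_iff, MulAction.mem_stabilizer_iff]
    constructor
    · rintro ⟨hp, hq⟩ k hk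
      simp only [List.mem_cons, List.not_mem_nil, or_false] at hk
      rcases hk with rfl | rfl
      · rw [h0]; exact hq
      · rw [h23]; exact hp
    · intro h
      constructor
      · have := h 23 (by simp)
        rwa [h23] at this
      · have := h 0 (by simp)
        rwa [h0] at this
  have e : ↥(MulAction.stabilizer M24 p ⊓ MulAction.stabilizer M24 q) ≃* ↥M22s :=
    fixSubEquiv hg [0, 23] _ hB
  have hi : (H.map (e : _ →* ↥M22s)).index = H.index := Subgroup.index_map_equiv H e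
  have hK : (H.map (e : _ →* ↥M22s)).map M22s.subtype ≤ M22s := by
    rintro _ ⟨x, -, rfl⟩
    exact x.2
  have hc : Nat.card ↥((H.map (e : _ →* ↥M22s)).map M22s.subtype) = Nat.card ↥(H.map (e : _ →* ↥M22s)) :=
    Subgroup.card_map_of_injective M22s.subtype_injective
  have h1 := Subgroup.index_mul_card (H.map (e : _ →* ↥M22s))
  rw [card_M22s, hi, ← hc] at h1
  obtain ⟨n1, n2⟩ := no_subgroup_card hK
  constructor
  · intro h
    rw [h] at h1
    apply n1
    omega
  · intro h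
    rw [h] at h1
    apply n2
    omega

end Cfsg.Agent.Lib.H28.M22B
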