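/-
helper28 library: an element of M24 fixing at least nine points is trivial; the centralizer of M22 in M24 contains
no element exchanging the two fixed points of M22.
-/
import Cfsg.Agent.Lib.H28.InvolutionClasses

set_option autoImplicit false

namespace Cfsg.Agent.Lib.H28

open scoped Pointwise
open Cfsg

theorem nil_fix : popc (fixMaskW []) = 24 := by decide +kernel

/-- The number of fixed points of an element of `M24` fixing six points is 6, 8 or 24. -/
theorem card_fixed_of_six (g : Equiv.Perm GolayPt) (hg : g ∈ M24) (h6 : 6 ≤ (fixedF g).card) :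
    (fixedF g).card = 6 ∨ (fixedF g).card = 8 ∨ (fixedF g).card = 24 := by
  obtain ⟨E, hEF, hE⟩ := Finset.exists_subset_card_eq h6
  rcases six_fixed_conj g hg E hE (fun p hp => mem_fixedF.1 (hEF hp)) with
    ⟨k, hk, z, hz, hout, e⟩ | ⟨k, hk, j, hj, e⟩
  · have hc := List.all_eq_true.1 k0Tab_fix z (List.mem_range.2 hz)
    rw [hout, Bool.false_or, Bool.or_eq_true, beq_iff_eq, beq_iff_eq] at hc
    rcases hc with hc | hc
    · right; right
      rw [e, card_fixedF_conj, card_fixedF_wordPerm, hc]
      exact nil_fix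
    · right; left
      rw [e, card_fixedF_conj, card_fixedF_wordPerm, hc]
  · have hc := List.all_eq_true.1 pw36_fix j (List.mem_range.2 hj)
    rw [Bool.or_eq_true, beq_iff_eq, beq_iff_eq] at hc
    rcases hc with hc | hc
    · right; right
      rw [e, card_fixedF_conj, card_fixedF_wordPerm, hc]
      exact nil_fix
    · left
      rw [e, card_fixedF_conj, card_fixedF_wordPerm, hc]

/-- An element of order 7 fixing exactly `∞, 0, 1`. -/
def w7 : List ℕ := [4, 4, 0, 0, 0, 0, 4, 1]

theorem w7_fix : fixMaskW w7 = 8388611 := by decide +kernel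

theorem mem_fixed_w7 {p : GolayPt} : wordPerm w7 p = p ↔ gIdx p ∈ [23, 0, 1] := by
  rw [← mem_fixedF, fixedF_wordPerm, w7_fix, mem_ptsMask]
  have : ∀ z < 24, (8388611 : ℕ).testBit z = true ↔ z ∈ [23, 0, 1] := by decide +kernel
  exact this _ (gIdx_lt p)

theorem gPt23 : gPt 23 = (none : GolayPt) := rfl
theorem gPt0 : gPt 0 = (some 0 : GolayPt) := rfl

end Cfsg.Agent.Lib.H28
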