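import Cfsg.Agent.Lib.H28.M12
import Cfsg.Agent.Lib.H28.M24OctadStab
import Cfsg.Agent.Lib.H28.WordChain

/-!
# The stabilizer of an octad and one of its points (helper28)

`So` is the stabilizer in `M₂₄` of the base octad, `Uo` the subgroup fixing the point `∞` of it (a
subgroup `2⁴:A₇` of `M₂₃`).  It acts 3-transitively on the sixteen points outside the octad.
-/

set_option autoImplicit false
set_option maxRecDepth 100000

namespace Cfsg.Agent.Lib.H28
namespace M23H

open Cfsg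
open scoped Pointwise

/-- The stabilizer of the base octad. -/
abbrev So : Subgroup (Equiv.Perm GolayPt) := stabMask baseOctad

/-- The stabilizer of the base octad and of its point `∞`. -/
abbrev Uo : Subgroup (Equiv.Perm GolayPt) := fixSub (stabMask baseOctad) [23]

/-- Mask of the complement of the base octad. -/
def octC : ℕ := 8241104

theorem octC_spec : ∀ z < 24, octC.testBit z = !(baseOctad.testBit z) := by decide +kernel

def uBase : List ℕ := [23, 4, 6, 7]

def uTab : List (List (List ℕ)) := [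
  [[4, 1, 3, 3, 0, 0, 2], [0, 2, 1, 4, 4, 1], [0, 0, 2, 1, 1], [0, 0, 0, 2, 4, 4, 1], [], [0, 3, 3, 0, 2, 1], [], [], [], [], [], [], [], [], [4, 1, 1, 4, 2, 0, 2], [], [], [4, 4, 0, 4, 4, 0, 0, 2, 1, 1], [], [], [], [], [], []],
  [[], [], [], [], [], [], [1, 4, 0], [1, 4, 4, 1, 4, 1, 4], [1, 3, 1, 4, 1, 4], [1, 4, 4, 0], [3, 0, 3, 0, 4, 4, 0], [3, 0, 3, 0, 4, 0], [1, 1, 4, 1, 4], [4, 0, 0, 0, 3, 1, 1], [], [3, 0, 3, 0, 3, 0], [3, 0, 4, 0, 0, 0, 3], [], [4, 4, 0, 4, 4], [1, 3, 3, 0], [1, 3, 0], [3, 0, 0, 0, 0, 4, 4], [0, 3, 0, 0, 3, 3, 0, 3], []],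
  [[], [], [], [], [], [], [], [0, 0, 3, 0, 3, 0, 3], [3, 1, 1, 3, 0, 3, 0, 0, 0, 4], [4, 4, 1, 3, 0, 0, 0, 4, 0], [4, 4, 1, 4, 0, 3, 3, 1, 3], [0, 3, 1, 1, 3, 0, 3, 3], [3, 0, 0, 3, 0, 0, 0, 0], [4, 4, 1, 4, 0, 0, 4, 1], [], [0, 3, 1, 3, 3, 1, 3], [4, 1, 4, 1, 4, 1, 1], [], [4, 4, 0, 4, 4, 1, 3, 0], [1, 1, 1, 1, 4, 1, 1, 4], [4, 0, 4, 4, 0, 4, 1], [3, 1, 1, 1, 3, 0, 0, 4, 4, 1], [3, 0, 3, 3, 0, 0, 0, 0, 4], []],
  [[], [], [], [], [], [], [], [], [4, 4, 1, 1, 3, 0, 4, 1, 4, 1, 3, 1, 3, 3, 3, 0, 3, 0, 0], [3, 0, 4, 1, 4, 0, 4, 1, 3, 0, 4, 4], [2, 1, 1, 4, 1, 4, 1, 4, 0, 2], [3, 0, 3, 0, 3, 0, 4, 4, 0, 4, 4, 4, 4, 1, 1, 3, 0, 0], [3, 3, 1, 4, 0, 3, 1, 3, 0, 3, 1, 4], [1, 3, 1, 4, 1, 3, 1, 1, 1, 1, 4], [], [1, 4, 0, 0, 4, 1, 3, 1, 1, 1, 3, 1], [3, 0, 3, 0, 3, 0, 4, 4, 0, 4, 4, 1, 3, 3, 1, 4, 1, 4], [], [1, 4, 0, 4, 4, 1, 1, 3, 0, 0, 3, 0, 3, 0, 4, 0], [1, 3, 0, 4, 4, 1, 1, 1, 3, 1, 3, 3], [1, 3, 3, 0, 3, 3, 1, 1, 1, 3, 0, 4, 4, 0], [1, 3, 0, 3,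 1, 4, 0, 0, 0, 3, 1, 1, 3], [1, 4, 4, 0, 4, 4, 1, 1, 3, 0, 0, 3, 0, 3, 0, 0], []]]

/-- The domain at each level. -/
def uDom (k z : ℕ) : Bool :=
  if k = 0 then baseOctad.testBit z else octC.testBit z && !(uBase.take k).contains z

theorem uTab_ok : (List.range 4).all (fun k => (List.range 24).all (fun z =>
    !(uDom k z) ||
      (presCheck ((uTab.getD k []).getD z []) baseOctad &&
        moveCheck (uBase.take k) (uBase.getD k 0) z ((uTab.getD k []).getD z [])))) = true := by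
  decide +kernel

theorem u_level {k : ℕ} (hk : k < 4) (z : GolayPt) (hz : uDom k (gIdx z) = true) :
    ∃ h ∈ So, (∀ i < k, h (gPt (uBase.getD i 0)) = gPt (uBase.getD i 0)) ∧
      h (gPt (uBase.getD k 0)) = z := by
  have h1 := List.all_eq_true.1 (List.all_eq_true.1 uTab_ok k (List.mem_range.2 hk)) (gIdx z)
    (List.mem_range.2 (gIdx_lt z))
  rw [hz] at h1
  simp only [Bool.not_true, Bool.false_or, Bool.and_eq_true] at h1
  have hlen : uBase.length = 4 := rfl
  have hb : ∀ i ∈ uBase.take k, i < 24 := by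
    intro i hi
    have : ∀ i ∈ uBase, i < 24 := by decide
    exact this i (List.mem_of_mem_take hi)
  have hsrc : uBase.getD k 0 < 24 := by
    have : ∀ k < 4, uBase.getD k 0 < 24 := by decide
    exact this k hk
  obtain ⟨h2, h3⟩ := moveCheck_spec hb hsrc h1.2
  refine ⟨wordPerm ((uTab.getD k []).getD (gIdx z) []), wordPerm_mem_stabMask h1.1, ?_, ?_⟩
  · intro i hi
    apply h2
    rw [List.getD_eq_getElem _ _ (by omega)]
    have : uBase[i] = (uBase.take k)[i]'(by rw [List.length_take]; omega) := by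
      rw [List.getElem_take]
    rw [this]
    exact List.getElem_mem _
  · rw [h3, gPt_gIdx]

theorem u_level_fix {k : ℕ} (hk : k < 4) (z : GolayPt) (hz : uDom k (gIdx z) = true) :
    ∃ g ∈ fixSub So ((uBase.take k).reverse), g (gPt (uBase.getD k 0)) = z := by
  obtain ⟨h, hh, hfix, hmap⟩ := u_level hk z hz
  have hlen : uBase.length = 4 := rfl
  refine ⟨h, ?_, hmap⟩
  rw [mem_fixSub]
  refine ⟨hh, ?_⟩
  intro j hj
  rw [List.mem_reverse] at hj
  obtain ⟨i, hi, rfl⟩ := List.getElem_of_mem hj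
  rw [List.length_take] at hi
  rw [List.getElem_take]
  have := hfix i (by omega)
  rw [List.getD_eq_getElem _ _ (by omega)] at this
  exact this

theorem uDom_card : ∀ k < 4, (ptsOf (uDom k)).card = [8, 16, 15, 14].getD k 0 := by
  unfold ptsOf
  decide +kernel

theorem oct0_mem : ptsMask baseOctad ∈ octads := oct0_mem_octads

theorem card_So : Nat.card So = 322560 := by
  unfold So stabMask
  rw [← card_stabilizer_subgroup M24 (ptsMask baseOctad)]
  exact card_stabilizer_octad oct0_mem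

/-! ### orders -/

theorem card_So_levels (k : ℕ) (hk : k < 4) :
    (ptsOf (uDom k)).card * Nat.card (fixSub So (uBase.getD k 0 :: (uBase.take k).reverse)) ≤
      Nat.card (fixSub So ((uBase.take k).reverse)) :=
  card_fixSub_ge So ((uBase.take k).reverse) (uBase.getD k 0) (ptsOf (uDom k))
    (fun x hx => u_level_fix hk x (mem_ptsOf.1 hx))

theorem card_Uo_le : Nat.card Uo ≤ 40320 := by
  have h0 := card_So_levels 0 (by norm_num)
  rw [uDom_card 0 (by norm_num)] at h0
  change 8 * Nat.card (fixSub So [23]) ≤ Nat.card (fixSub So []) at h0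
  rw [fixSub_nil, card_So] at h0
  show Nat.card (fixSub So [23]) ≤ 40320
  omega

theorem gPt23_mem : gPt 23 ∈ ptsMask baseOctad := by
  rw [mem_ptsMask, gIdx_gPt (by norm_num)]
  decide

theorem card_Uo : Nat.card Uo = 40320 := by
  apply le_antisymm card_Uo_le
  have h := card_fixSub_le So [] 23 (ptsMask baseOctad) (by
    intro g hg
    rw [fixSub_nil] at hg
    have h1 := (mem_stabMask_iff_smul.1 hg).2
    rw [← h1]
    exact Finset.smul_mem_smul_finset gPt23_mem)
  have h8 : (ptsMask baseOctad).card = 8 := oct0_mem.2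
  rw [fixSub_nil, card_So, h8] at h
  show 40320 ≤ Nat.card (fixSub So [23])
  omega

/-- The stabilizer of a point outside the octad (a group `A₇`). -/
abbrev P4 : Subgroup (Equiv.Perm GolayPt) := fixSub So [4, 23]

/-- The stabilizer of two points outside the octad (a group `L₃(2)`). -/
abbrev K6 : Subgroup (Equiv.Perm GolayPt) := fixSub So [6, 4, 23]

theorem card_P4_le : Nat.card P4 ≤ 2520 := by
  have h1 := card_So_levels 1 (by norm_num)
  rw [uDom_card 1 (by norm_num)] at h1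
  change 16 * Nat.card (fixSub So [4, 23]) ≤ Nat.card (fixSub So [23]) at h1
  have h0 := card_Uo_le
  show Nat.card (fixSub So [4, 23]) ≤ 2520
  have h0' : Nat.card (fixSub So [23]) ≤ 40320 := h0
  omega

theorem card_K6_le : Nat.card K6 ≤ 168 := by
  have h2 := card_So_levels 2 (by norm_num)
  rw [uDom_card 2 (by norm_num)] at h2
  change 15 * Nat.card (fixSub So [6, 4, 23]) ≤ Nat.card (fixSub So [4, 23]) at h2
  have h1 : Nat.card (fixSub So [4, 23]) ≤ 2520 := card_P4_le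
  show Nat.card (fixSub So [6, 4, 23]) ≤ 168
  omega

/-! ### transitivity on the sixteen points -/

theorem mem_D_iff {p : GolayPt} : p ∈ ptsMask octC ↔ p ∉ ptsMask baseOctad := by
  rw [mem_ptsMask, mem_ptsMask, octC_spec _ (gIdx_lt p)]
  simp

theorem So_preserves_D : ∀ g ∈ So, ∀ z, g z ∈ (ptsMask octC : Set GolayPt) ↔ z ∈ (ptsMask octC : Set GolayPt) := by
  intro g hg z
  have h := stabMask_preserves baseOctad g hg z
  rw [Finset.mem_coe, Finset.mem_coe] at h ⊢
  rw [mem_D_iff, mem_D_iff, h]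

theorem Uo_le_So : Uo ≤ So := fun _ hg => (mem_fixSub.1 hg).1

theorem uDom_succ {k : ℕ} (hk : k < 3) {z : GolayPt} (hz : z ∈ ptsMask octC)
    (hne : ∀ i < k, z ≠ gPt (uBase.getD (i + 1) 0)) : uDom (k + 1) (gIdx z) = true := by
  have hz' := mem_ptsMask.1 hz
  have h23 : gIdx z ≠ 23 := by
    intro h
    rw [h] at hz'
    revert hz'
    decide
  have hidx : ∀ j, j < 24 → z ≠ gPt j → gIdx z ≠ j := by
    intro j _ h1 h2
    apply h1
    rw [← h2, gPt_gIdx]
  unfold uDom
  rw [if_neg (Nat.succ_ne_zero k), hz', Bool.true_and, Bool.not_eq_true']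
  rw [← Bool.not_eq_true, List.contains_iff_mem]
  interval_cases k
  · simp only [uBase, List.take_succ_cons, List.take_zero, List.mem_singleton]
    exact h23
  · have h4 := hidx 4 (by norm_num) (hne 0 (by norm_num))
    simp only [uBase, List.take_succ_cons, List.take_zero, List.mem_cons, List.not_mem_nil, or_false, not_or]
    exact ⟨h23, h4⟩
  · have h4 := hidx 4 (by norm_num) (hne 0 (by norm_num))
    have h6 := hidx 6 (by norm_num) (hne 1 (by norm_num))
    simp only [uBase, List.take_succ_cons, List.take_zero, List.mem_cons, List.not_mem_nil, or_false, not_or]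
    exact ⟨h23, h4, h6⟩

theorem uo_level {k : ℕ} (hk : k < 3) (z : GolayPt) (hz : z ∈ (ptsMask octC : Set GolayPt))
    (hne : ∀ i < k, z ≠ gPt (uBase.getD (i + 1) 0)) :
    ∃ h ∈ Uo, (∀ i < k, h (gPt (uBase.getD (i + 1) 0)) = gPt (uBase.getD (i + 1) 0)) ∧
      h (gPt (uBase.getD (k + 1) 0)) = z := by
  obtain ⟨h, hh, hfix, hmap⟩ := u_level (k := k + 1) (by omega) z (uDom_succ hk (Finset.mem_coe.1 hz) hne)
  refine ⟨h, ?_, fun i hi => hfix (i + 1) (by omega), hmap⟩
  rw [mem_fixSub]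
  refine ⟨hh, ?_⟩
  intro j hj
  rw [List.mem_singleton] at hj
  subst hj
  exact hfix 0 (by omega)

theorem uo_exists_map {n : ℕ} (hn : n ≤ 3) (y : Fin n → GolayPt) (hy : Function.Injective y)
    (hyd : ∀ i, y i ∈ ptsMask octC) :
    ∃ g ∈ Uo, ∀ i : Fin n, g (gPt (uBase.getD (i.val + 1) 0)) = y i :=
  exists_map_levels Uo (ptsMask octC : Set GolayPt) (fun i => gPt (uBase.getD (i + 1) 0)) 3
    (fun g hg => So_preserves_D g (Uo_le_So hg))
    (fun _ hk z hz hzne => uo_level hk z hz hzne) n hn y hy hyd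

/-- `Uo` is 3-transitive on the points outside the octad. -/
theorem uo_trans : ∀ n ≤ 3, ∀ x y : Fin n → GolayPt, Function.Injective x → Function.Injective y →
    (∀ i, x i ∈ ptsMask octC) → (∀ i, y i ∈ ptsMask octC) → ∃ g ∈ Uo, ∀ i, g (x i) = y i := by
  intro n hn x y hx hy hxd hyd
  obtain ⟨gx, hgx, hx'⟩ := uo_exists_map hn x hx hxd
  obtain ⟨gy, hgy, hy'⟩ := uo_exists_map hn y hy hyd
  refine ⟨gy * gx⁻¹, Uo.mul_mem hgy (Uo.inv_mem hgx), ?_⟩
  intro i
  rw [Equiv.Perm.mul_apply, ← hx' i, Equiv.Perm.inv_def, Equiv.symm_apply_apply, hy' i]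

/-! ### the point stabilizers are perfect -/

def commWord (a b : List ℕ) : List ℕ := a ++ b ++ invWord a ++ invWord b

open scoped commutatorElement in
theorem wordPerm_commWord (a b : List ℕ) :
    wordPerm (commWord a b) = ⁅wordPerm a, wordPerm b⁆ := by
  unfold commWord
  rw [wordPerm_append, wordPerm_append, wordPerm_append, wordPerm_invWord, wordPerm_invWord,
    commutatorElement_def]

/-- Membership test for a pointwise stabilizer inside `So`. -/
def inFix (L : List ℕ) (w : List ℕ) : Bool := presCheck w baseOctad && L.all (fun j => evalPt w j == j)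

theorem wordPerm_mem_fixSub {L : List ℕ} (hL : ∀ j ∈ L, j < 24) {w : List ℕ} (h : inFix L w = true) :
    wordPerm w ∈ fixSub So L := by
  unfold inFix at h
  rw [Bool.and_eq_true, List.all_eq_true] at h
  rw [mem_fixSub]
  refine ⟨wordPerm_mem_stabMask h.1, ?_⟩
  intro k hk
  have := h.2 k hk
  rw [beq_iff_eq] at this
  exact wordPerm_fix_of_evalPt (hL k hk) this

def pA1 : List (List ℕ) := [[0, 0, 3, 0, 3, 0, 3], [0, 0, 3, 0, 3, 0, 3]]
def pA2 : List (List ℕ) := [[4, 0, 4, 4, 0, 4, 1], [1, 4, 0, 3, 3, 1, 3, 3]]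
def cwA : List (List ℕ) := [commWord (pA1.getD 0 []) (pA2.getD 0 []), commWord (pA1.getD 1 []) (pA2.getD 1 [])]
def chainA : List (ℕ × List (List ℕ)) := [
   (0, [[], [0, 1], [1], [1, 0, 1], [1, 2, 1], [2, 1], [3, 0, 1]]),
   (1, [[], [2], [3, 3], [1, 0, 1, 1, 2, 1], [0], [1, 1]]),
   (2, [[], [2, 3, 3, 0], [3, 2, 1, 1, 1, 0, 1], [3, 3, 2, 1, 1], [2, 1, 1, 0]]),
   (3, [[], [1, 0, 3, 3, 2, 1], [0, 1, 1, 2], [0, 3, 3, 2]]),
   (5, [[], [0, 1, 0, 1, 1, 2, 3, 2], [1, 0, 3, 0, 3, 2, 3, 2]])]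

def pK1 : List (List ℕ) := [[2, 1, 1, 4, 1, 4, 1, 4, 0, 2], [1, 3, 1, 4, 1, 3, 1, 1, 1, 1, 4]]
def pK2 : List (List ℕ) := [[1, 3, 1, 4, 1, 3, 1, 1, 1, 1, 4], [3, 0, 4, 1, 4, 0, 4, 1, 3, 0, 4, 4]]
def cwK : List (List ℕ) := [commWord (pK1.getD 0 []) (pK2.getD 0 []), commWord (pK1.getD 1 []) (pK2.getD 1 [])]
def chainK : List (ℕ × List (List ℕ)) := [
   (0, [[], [3, 3, 3], [3], [0, 1, 1], [1, 1], [1], [3, 3]]),
   (1, [[], [1, 0, 1], [3, 0, 1, 0, 3, 3], [1, 0, 3, 3, 0, 1, 1], [3, 0, 3], [1, 1, 0, 3, 3]]),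
   (2, [[], [3, 0, 1, 0, 3, 0, 1, 0], [3, 0, 1, 0, 3, 0, 1], [0]])]

theorem pA_mem : ∀ w ∈ pA1 ++ pA2, inFix [4, 23] w = true := by decide +kernel
theorem pK_mem : ∀ w ∈ pK1 ++ pK2, inFix [6, 4, 23] w = true := by decide +kernel
theorem chainA_ok : chainCheck [] (metaChain cwA chainA) = true := by decide +kernel
theorem chainK_ok : chainCheck [] (metaChain cwK chainK) = true := by decide +kernel

open scoped commutatorElement in
theorem card_comm_ge (P : Subgroup (Equiv.Perm GolayPt)) (p1 p2 : List (List ℕ))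
    (hp : ∀ w ∈ p1 ++ p2, wordPerm w ∈ P) (chain : List (ℕ × List (List ℕ))) (N : ℕ)
    (hok : chainCheck [] (metaChain [commWord (p1.getD 0 []) (p2.getD 0 []),
      commWord (p1.getD 1 []) (p2.getD 1 [])] chain) = true)
    (hN : N ≤ ((metaChain [commWord (p1.getD 0 []) (p2.getD 0 []),
      commWord (p1.getD 1 []) (p2.getD 1 [])] chain).map (fun c => c.2.length)).prod)
    (h1 : p1.length = 2) (h2 : p2.length = 2) :
    N ≤ Nat.card ↥(⁅P, P⁆ : Subgroup (Equiv.Perm GolayPt)) := by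
  set cw := [commWord (p1.getD 0 []) (p2.getD 0 []), commWord (p1.getD 1 []) (p2.getD 1 [])] with hcw
  have hmem1 : ∀ i < 2, wordPerm (p1.getD i []) ∈ P := by
    intro i hi
    apply hp
    rw [List.mem_append]
    left
    rw [List.getD_eq_getElem _ _ (by omega)]
    exact List.getElem_mem _
  have hmem2 : ∀ i < 2, wordPerm (p2.getD i []) ∈ P := by
    intro i hi
    apply hp
    rw [List.mem_append]
    right
    rw [List.getD_eq_getElem _ _ (by omega)]
    exact List.getElem_mem _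
  have hle : wordsClosure cw ≤ ⁅P, P⁆ := by
    apply wordsClosure_le
    intro w hw
    rw [hcw] at hw
    simp only [List.mem_cons, List.not_mem_nil, or_false] at hw
    rcases hw with rfl | rfl
    · rw [wordPerm_commWord]
      exact Subgroup.commutator_mem_commutator (hmem1 0 (by norm_num)) (hmem2 0 (by norm_num))
    · rw [wordPerm_commWord]
      exact Subgroup.commutator_mem_commutator (hmem1 1 (by norm_num)) (hmem2 1 (by norm_num))
  have h := card_ge_of_chainCheck (wordsClosure cw) (metaChain cw chain) [] (by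
    intro c hc w hw
    unfold metaChain at hc
    rw [List.mem_map] at hc
    obtain ⟨c0, _, rfl⟩ := hc
    rw [List.mem_map] at hw
    obtain ⟨m, _, rfl⟩ := hw
    exact wordPerm_metaFlat_mem cw m) hok
  rw [fixSub_nil] at h
  exact le_trans (le_trans hN h) (Subgroup.card_le_of_le hle)

open scoped commutatorElement in
theorem card_comm_P4_ge : 2520 ≤ Nat.card ↥(⁅P4, P4⁆ : Subgroup (Equiv.Perm GolayPt)) :=
  card_comm_ge P4 pA1 pA2 (fun w hw => wordPerm_mem_fixSub (by decide) (pA_mem w hw)) chainA 2520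
    chainA_ok (by decide +kernel) rfl rfl

open scoped commutatorElement in
theorem card_comm_K6_ge : 168 ≤ Nat.card ↥(⁅K6, K6⁆ : Subgroup (Equiv.Perm GolayPt)) :=
  card_comm_ge K6 pK1 pK2 (fun w hw => wordPerm_mem_fixSub (by decide) (pK_mem w hw)) chainK 168
    chainK_ok (by decide +kernel) rfl rfl

theorem comm_le_self' (H : Subgroup (Equiv.Perm GolayPt)) : ⁅H, H⁆ ≤ H := by
  rw [Subgroup.commutator_le]
  intro g1 h1 g2 h2
  rw [commutatorElement_def]
  exact H.mul_mem (H.mul_mem (H.mul_mem h1 h2) (H.inv_mem h1)) (H.inv_mem h2)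

theorem perfect_of_card {H : Subgroup (Equiv.Perm GolayPt)} {N : ℕ} (h1 : Nat.card H ≤ N)
    (h2 : N ≤ Nat.card ↥(⁅H, H⁆ : Subgroup (Equiv.Perm GolayPt))) : ⁅H, H⁆ = H := by
  apply Subgroup.eq_of_le_of_card_ge (comm_le_self' H)
  exact le_trans h1 h2

theorem P4_perfect : ⁅P4, P4⁆ = P4 := perfect_of_card card_P4_le card_comm_P4_ge

theorem K6_perfect : ⁅K6, K6⁆ = K6 := perfect_of_card card_K6_le card_comm_K6_ge

theorem card_P4 : Nat.card P4 = 2520 :=
  le_antisymm card_P4_le (le_trans card_comm_P4_ge (Subgroup.card_le_of_le (comm_le_self' P4)))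

/-! ### a dihedral subgroup of order eight of the point stabilizer, and conjugators -/

def wr : List ℕ := [3, 1, 1, 1, 1, 4, 4, 1, 4]
def ws : List ℕ := [2, 1, 3, 1, 4, 1, 4, 1, 4, 4, 0, 2]
def gS : List ℕ := [0, 0, 0, 0, 3]
def gRS : List ℕ := [0]
def gR2 : List ℕ := [1, 1, 4, 4]
def chainD : List (ℕ × List (List ℕ)) := [(9, [[], [2], [1], [0], [1, 0, 0], [0, 1], [1, 0], [0, 0]])]
def c7 : List ℕ := [0, 0, 3]
def c23 : List ℕ := [0]

/-- Equality of the permutations of two words, tested on the 24 points. -/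
def eqW23 (u v : List ℕ) : Bool := (List.range 24).all (fun k => evalPt u k == evalPt v k)

theorem wordPerm_eq_of_eqW23 {u v : List ℕ} (h : eqW23 u v = true) : wordPerm u = wordPerm v := by
  apply Equiv.ext
  intro p
  apply gIdx_injective
  rw [gIdx_wordPerm, gIdx_wordPerm]
  have := List.all_eq_true.1 h (gIdx p) (List.mem_range.2 (gIdx_lt p))
  rwa [beq_iff_eq] at this

theorem d8_mem : inFix [4, 23] wr = true ∧ inFix [4, 23] ws = true := by decide +kernel

theorem d8_rel : eqW23 (wr ++ wr ++ wr ++ wr) [] = true ∧ eqW23 (ws ++ ws) [] = true ∧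
    eqW23 (wr ++ ws ++ (wr ++ ws)) [] = true ∧ eqW23 (wr ++ wr ++ (wr ++ wr)) [] = true := by
  decide +kernel

theorem chainD_ok : chainCheck [] (metaChain [wr, ws] chainD) = true := by decide +kernel

theorem wr_mem_P4 : wordPerm wr ∈ P4 := wordPerm_mem_fixSub (by decide) d8_mem.1
theorem ws_mem_P4 : wordPerm ws ∈ P4 := wordPerm_mem_fixSub (by decide) d8_mem.2

theorem wr_pow : wordPerm wr ^ 4 = 1 := by
  have h := wordPerm_eq_of_eqW23 d8_rel.1
  rw [wordPerm_append, wordPerm_append, wordPerm_append, wordPerm_nil] at h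
  rw [pow_succ, pow_succ, pow_succ, pow_one]
  exact h

theorem ws_pow : wordPerm ws ^ 2 = 1 := by
  have h := wordPerm_eq_of_eqW23 d8_rel.2.1
  rw [wordPerm_append, wordPerm_nil] at h
  rw [pow_two]
  exact h

theorem wrs_pow : (wordPerm wr * wordPerm ws) ^ 2 = 1 := by
  have h := wordPerm_eq_of_eqW23 d8_rel.2.2.1
  rw [wordPerm_append, wordPerm_append, wordPerm_nil] at h
  rw [pow_two]
  exact h

theorem wr2_pow : (wordPerm wr * wordPerm wr) ^ 2 = 1 := by
  have h := wordPerm_eq_of_eqW23 d8_rel.2.2.2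
  rw [wordPerm_append, wordPerm_append, wordPerm_nil] at h
  rw [pow_two]
  exact h

theorem card_Dg_ge :
    8 ≤ Nat.card (Subgroup.closure ({wordPerm wr, wordPerm ws} : Set (Equiv.Perm GolayPt))) := by
  have hset : {g | ∃ w ∈ [wr, ws], wordPerm w = g} =
      ({wordPerm wr, wordPerm ws} : Set (Equiv.Perm GolayPt)) := by
    ext g
    simp only [List.mem_cons, List.not_mem_nil, or_false, Set.mem_ofPred_eq, Set.mem_insert_iff,
      Set.mem_singleton_iff]
    constructor
    · rintro ⟨w, rfl | rfl, rfl⟩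
      · exact Or.inl rfl
      · exact Or.inr rfl
    · rintro (rfl | rfl)
      · exact ⟨wr, Or.inl rfl, rfl⟩
      · exact ⟨ws, Or.inr rfl, rfl⟩
  have h := card_ge_of_chainCheck (wordsClosure [wr, ws]) (metaChain [wr, ws] chainD) [] (by
    intro c hc w hw
    unfold metaChain at hc
    rw [List.mem_map] at hc
    obtain ⟨c0, _, rfl⟩ := hc
    rw [List.mem_map] at hw
    obtain ⟨m, _, rfl⟩ := hw
    exact wordPerm_metaFlat_mem [wr, ws] m) chainD_ok
  rw [fixSub_nil] at h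
  have h2 : 8 ≤ ((metaChain [wr, ws] chainD).map (fun c => c.2.length)).prod := by decide +kernel
  unfold wordsClosure at h
  rw [hset] at h
  exact le_trans h2 h

/-- The other Mathieu group of degree 11 inside `M₂₃`. -/
abbrev W23 : Subgroup (Equiv.Perm GolayPt) := fixSub (stabMask dod0) [23]

/-- Membership test for `W23`. -/
def inW (w : List ℕ) : Bool := presCheck w dod0 && evalPt w 23 == 23

theorem wordPerm_mem_W23 {w : List ℕ} (h : inW w = true) : wordPerm w ∈ W23 := by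
  unfold inW at h
  rw [Bool.and_eq_true, beq_iff_eq] at h
  rw [mem_fixSub]
  refine ⟨wordPerm_mem_stabMask h.1, ?_⟩
  intro k hk
  rw [List.mem_singleton] at hk
  subst hk
  exact wordPerm_fix_of_evalPt (by norm_num) h.2

theorem conj_facts : inW (gS ++ ws ++ invWord gS) = true ∧ inW (gRS ++ (wr ++ ws) ++ invWord gRS) = true ∧
    inW (gR2 ++ (wr ++ wr) ++ invWord gR2) = true ∧
    evalPt gS 23 = 23 ∧ evalPt gRS 23 = 23 ∧ evalPt gR2 23 = 23 := by
  decide +kernel

theorem wordPerm_mem_G23 {w : List ℕ} (h : evalPt w 23 = 23) : wordPerm w ∈ fixSub M24 [23] := by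
  rw [mem_fixSub]
  refine ⟨wordPerm_mem_M24 w, ?_⟩
  intro k hk
  rw [List.mem_singleton] at hk
  subst hk
  exact wordPerm_fix_of_evalPt (by norm_num) h

theorem conj_word (g t : List ℕ) :
    wordPerm (g ++ t ++ invWord g) = wordPerm g * wordPerm t * (wordPerm g)⁻¹ := by
  rw [wordPerm_append, wordPerm_append, wordPerm_invWord]

theorem conj_s : wordPerm gS * wordPerm ws * (wordPerm gS)⁻¹ ∈ W23 := by
  rw [← conj_word]
  exact wordPerm_mem_W23 conj_facts.1

theorem conj_rs : wordPerm gRS * (wordPerm wr * wordPerm ws) * (wordPerm gRS)⁻¹ ∈ W23 := by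
  rw [← wordPerm_append, ← conj_word]
  exact wordPerm_mem_W23 conj_facts.2.1

theorem conj_r2 : wordPerm gR2 * (wordPerm wr * wordPerm wr) * (wordPerm gR2)⁻¹ ∈ W23 := by
  rw [← wordPerm_append, ← conj_word]
  exact wordPerm_mem_W23 conj_facts.2.2.1

/-! ### elements of order 7 and 23 -/

theorem c7_facts : evalPt c7 23 = 23 ∧ eqW23 (c7 ++ c7 ++ c7 ++ c7 ++ c7 ++ c7 ++ c7) [] = true ∧
    evalPt c7 0 ≠ 0 := by decide +kernel

theorem c23_facts : evalPt c23 23 = 23 ∧ eqW23 (List.replicate 23 0) [] = true ∧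
    evalPt c23 0 ≠ 0 := by decide +kernel

theorem c7_pow : wordPerm c7 ^ 7 = 1 := by
  have h := wordPerm_eq_of_eqW23 c7_facts.2.1
  rw [wordPerm_append, wordPerm_append, wordPerm_append, wordPerm_append, wordPerm_append,
    wordPerm_append, wordPerm_nil] at h
  rw [pow_succ, pow_succ, pow_succ, pow_succ, pow_succ, pow_succ, pow_one]
  exact h

theorem wordPerm_replicate (a n : ℕ) : wordPerm (List.replicate n a) = wordPerm [a] ^ n := by
  induction n with
  | zero => rfl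
  | succ n ih =>
    rw [List.replicate_succ, wordPerm_cons, ih, pow_succ', wordPerm_cons, wordPerm_nil, mul_one]

theorem c23_pow : wordPerm c23 ^ 23 = 1 := by
  have h := wordPerm_eq_of_eqW23 c23_facts.2.1
  rw [wordPerm_replicate, wordPerm_nil] at h
  exact h

theorem wordPerm_ne_one {w : List ℕ} {k : ℕ} (hk : k < 24) (h : evalPt w k ≠ k) : wordPerm w ≠ 1 := by
  intro h1
  apply h
  have h2 := gIdx_wordPerm w (gPt k)
  rw [h1, gIdx_gPt hk, Equiv.Perm.one_apply, gIdx_gPt hk] at h2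
  exact h2.symm

theorem c7_ne : wordPerm c7 ≠ 1 := wordPerm_ne_one (by norm_num) c7_facts.2.2
theorem c23_ne : wordPerm c23 ≠ 1 := wordPerm_ne_one (by norm_num) c23_facts.2.2

end M23H
end Cfsg.Agent.Lib.H28
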