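/-
helper28 library: counting k-subsets by intersection size; maximality of duad and triad stabilizers in M24;
orbits of a triad stabilizer on disjoint triads (210 + 1120).
-/
import Cfsg.Agent.Lib.H28.M24Six
import Cfsg.Agent.Lib.H28.Primitive

set_option autoImplicit false

namespace Cfsg.Agent.Lib.H28

open Finset

section Count

variable {α : Type*} [Fintype α] [DecidableEq α]

/-- The number of `k`-subsets meeting a given set `s` in exactly `j` points. -/
theorem card_powersetCard_filter_inter (s : Finset α) (k j : ℕ) (hjk : j ≤ k) :
    ((univ.powersetCard k).filter (fun y => (s ∩ y).card = j)).card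
      = s.card.choose j * (sᶜ).card.choose (k - j) := by
  rw [← card_powersetCard, ← card_powersetCard, ← card_product]
  apply card_nbij' (fun y => (s ∩ y, sᶜ ∩ y)) (fun ab => ab.1 ∪ ab.2)
  · intro y hy
    rw [mem_coe, mem_filter, mem_powersetCard] at hy
    show (s ∩ y, sᶜ ∩ y) ∈ ((s.powersetCard j ×ˢ sᶜ.powersetCard (k - j) : Finset _) : Set _)
    rw [mem_coe, mem_product, mem_powersetCard, mem_powersetCard]
    refine ⟨⟨inter_subset_left, hy.2⟩, inter_subset_left, ?_⟩
    show (sᶜ ∩ y).card = k - j
    have hyk := hy.1.2
    have hyj := hy.2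
    have h1 : (s ∩ y).card + (sᶜ ∩ y).card = y.card := by
      rw [← card_union_of_disjoint, ← union_inter_distrib_right, union_compl, univ_inter]
      exact disjoint_of_subset_left inter_subset_left
        (disjoint_of_subset_right inter_subset_left disjoint_compl_right)
    omega
  · intro ab hab
    rw [mem_coe, mem_product, mem_powersetCard, mem_powersetCard] at hab
    show ab.1 ∪ ab.2 ∈ (((univ.powersetCard k).filter (fun y => (s ∩ y).card = j) : Finset _) : Set _)
    have hd : Disjoint ab.1 ab.2 :=
      disjoint_of_subset_left hab.1.1 (disjoint_of_subset_right hab.2.1 disjoint_compl_right)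
    have h1 : s ∩ (ab.1 ∪ ab.2) = ab.1 := by
      rw [inter_union_distrib_left, inter_eq_right.2 hab.1.1]
      have : s ∩ ab.2 = ∅ := by
        rw [← disjoint_iff_inter_eq_empty]
        exact disjoint_of_subset_right hab.2.1 disjoint_compl_right
      rw [this, union_empty]
    rw [mem_coe, mem_filter, mem_powersetCard, h1, card_union_of_disjoint hd]
    exact ⟨⟨subset_univ _, by omega⟩, hab.1.2⟩
  · intro y _
    show s ∩ y ∪ sᶜ ∩ y = y
    rw [← union_inter_distrib_right, union_compl, univ_inter]
  · intro ab hab
    rw [mem_coe, mem_product, mem_powersetCard, mem_powersetCard] at hab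
    have e1 : s ∩ (ab.1 ∪ ab.2) = ab.1 := by
      rw [inter_union_distrib_left, inter_eq_right.2 hab.1.1]
      have : s ∩ ab.2 = ∅ := by
        rw [← disjoint_iff_inter_eq_empty]
        exact disjoint_of_subset_right hab.2.1 disjoint_compl_right
      rw [this, union_empty]
    have e2 : sᶜ ∩ (ab.1 ∪ ab.2) = ab.2 := by
      rw [inter_union_distrib_left, inter_eq_right.2 hab.2.1]
      have : sᶜ ∩ ab.1 = ∅ := by
        rw [← disjoint_iff_inter_eq_empty]
        exact disjoint_of_subset_right hab.1.1 disjoint_compl_left
      rw [this, empty_union]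
    show (s ∩ (ab.1 ∪ ab.2), sᶜ ∩ (ab.1 ∪ ab.2)) = ab
    rw [e1, e2]

end Count

section Duad

open Cfsg
open scoped Pointwise

/-- Transitivity of `M24` on `k`-subsets for `k ≤ 5`. -/
theorem exists_M24_smul_finset {s s' : Finset GolayPt} (h : s.card = s'.card) (h5 : s.card ≤ 5) :
    ∃ g ∈ M24, g • s = s' := by
  obtain ⟨g, hg, -, h2⟩ := exists_M24_set_map ∅ s s' h (by simp) (by rw [empty_union]; omega)
    (by rw [empty_union]; omega)
  exact ⟨g, hg, h2⟩

/-- The stabiliser of a pair of points is a maximal subgroup of `M24`. -/
theorem isCoatom_stabilizer_duad {s : Finset GolayPt} (hs : s.card = 2) :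
    IsCoatom (MulAction.stabilizer M24 s) := by
  classical
  have h24 : Fintype.card GolayPt = 24 := card_GolayPt
  have hΩcard : ((univ : Finset GolayPt).powersetCard 2).card = 276 := by
    rw [card_powersetCard, card_univ, h24]; decide
  have hsc : (sᶜ).card = 22 := by rw [card_compl, h24, hs]
  apply isCoatom_stabilizer_of_suborbits (G := M24) s ((univ : Finset GolayPt).powersetCard 2)
    (fun y => by
      rw [mem_powersetCard]
      constructor
      · rintro ⟨-, hy⟩
        obtain ⟨g, hg, h⟩ := exists_M24_smul_finset (hs.trans hy.symm) (by omega)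
        exact ⟨⟨g, hg⟩, h⟩
      · rintro ⟨g, rfl⟩
        refine ⟨subset_univ _, ?_⟩
        rw [subgroup_smul_def, card_smul_finset, hs])
    (fun y => (s ∩ y).card) {0, 1, 2}
    (fun y hy => by
      have : (s ∩ y).card ≤ 2 := by
        rw [← hs]; exact card_le_card inter_subset_left
      simp only [mem_insert, mem_singleton]
      omega)
    (fun y hy y' hy' hc => by
      rw [mem_powersetCard] at hy hy'
      obtain ⟨g, hg, h1, h2⟩ := exists_M24_set_map s y y' (hy.2.trans hy'.2.symm) hc
        (by
          have := card_union_le s y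
          omega)
        (by
          intro h6
          have := card_union_le s y
          omega)
      exact ⟨⟨g, hg⟩, MulAction.mem_stabilizer_iff.2 h1, h2⟩)
    (by rw [hΩcard]; norm_num)
    (fun j => if j = 0 then 231 else if j = 1 then 44 else 1)
    (fun j hj => by
      have h0 := card_powersetCard_filter_inter s 2 0 (by omega)
      have h1 := card_powersetCard_filter_inter s 2 1 (by omega)
      have h2 := card_powersetCard_filter_inter s 2 2 (by omega)
      rw [hs, hsc] at h0 h1 h2
      simp only [mem_insert, mem_singleton] at hj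
      rcases hj with rfl | rfl | rfl
      · rw [h0]; decide
      · rw [h1]; decide
      · rw [h2]; decide)
  rw [hΩcard, inter_self, hs]
  decide

end Duad

section Triad

open Cfsg
open scoped Pointwise

/-- 21 octads through a triad. -/
theorem card_octads_through_three {T : Finset GolayPt} (hT : T.card = 3) :
    ((blocksF octads).filter (T ⊆ ·)).card = 21 := by
  have h := steiner_count octads_isSteinerSystem T (by omega)
  rw [hT, card_GolayPt] at h
  have h1 : Nat.choose (8 - 3) (5 - 3) = 10 := by decide
  have h2 : Nat.choose (24 - 3) (5 - 3) = 210 := by decide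
  rw [h1, h2] at h
  omega

open Classical in
/-- The triads disjoint from `T` lying with `T` in a common octad. -/
noncomputable def triadsIn (T : Finset GolayPt) : Finset (Finset GolayPt) :=
  ((univ : Finset GolayPt).powersetCard 3).filter (fun U => Disjoint T U ∧ ∃ o ∈ octads, T ∪ U ⊆ o)

open Classical in
/-- The triads disjoint from `T` not lying with `T` in a common octad. -/
noncomputable def triadsOut (T : Finset GolayPt) : Finset (Finset GolayPt) :=
  ((univ : Finset GolayPt).powersetCard 3).filter (fun U => Disjoint T U ∧ ¬ ∃ o ∈ octads, T ∪ U ⊆ o)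

theorem card_triadsIn {T : Finset GolayPt} (hT : T.card = 3) : (triadsIn T).card = 210 := by
  classical
  have hC := golayCode_isAbsGolay
  have hunion : triadsIn T = ((blocksF octads).filter (T ⊆ ·)).biUnion (fun o => (o \ T).powersetCard 3) := by
    ext U
    unfold triadsIn
    rw [mem_filter, mem_powersetCard, mem_biUnion]
    constructor
    · rintro ⟨⟨-, hU⟩, hd, o, ho, hsub⟩
      refine ⟨o, ?_, ?_⟩
      · rw [mem_filter, mem_blocksF]
        exact ⟨ho, subset_union_left.trans hsub⟩
      · rw [mem_powersetCard]
        refine ⟨?_, hU⟩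
        intro p hp
        rw [mem_sdiff]
        exact ⟨hsub (mem_union_right _ hp), fun hpT => (Finset.disjoint_left.1 hd hpT) hp⟩
    · rintro ⟨o, ho, hU⟩
      rw [mem_filter, mem_blocksF] at ho
      rw [mem_powersetCard] at hU
      refine ⟨⟨subset_univ _, hU.2⟩, ?_, o, ho.1, ?_⟩
      · rw [Finset.disjoint_left]
        intro p hpT hpU
        exact (mem_sdiff.1 (hU.1 hpU)).2 hpT
      · exact union_subset ho.2 (hU.1.trans sdiff_subset)
  rw [hunion, card_biUnion]
  · have h10 : ∀ o ∈ (blocksF octads).filter (T ⊆ ·), ((o \ T).powersetCard 3).card = 10 := by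
      intro o ho
      rw [mem_filter, mem_blocksF] at ho
      rw [card_powersetCard, card_sdiff_of_subset ho.2, ho.1.2, hT]
      decide
    rw [sum_congr rfl h10, sum_const, smul_eq_mul, card_octads_through_three hT]
  · intro o ho o' ho' hne
    show Disjoint ((o \ T).powersetCard 3) ((o' \ T).powersetCard 3)
    rw [mem_coe, mem_filter, mem_blocksF] at ho ho'
    rw [Finset.disjoint_left]
    intro U hU hU'
    rw [mem_powersetCard] at hU hU'
    -- o ∩ o' contains T ∪ U of size 6
    have hTU : Disjoint T U := by
      rw [Finset.disjoint_left]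
      intro p hpT hpU
      exact (mem_sdiff.1 (hU.1 hpU)).2 hpT
    have hsub : T ∪ U ⊆ o ∩ o' := by
      apply union_subset
      · exact subset_inter ho.2 ho'.2
      · exact subset_inter (hU.1.trans sdiff_subset) (hU'.1.trans sdiff_subset)
    have h6 : (T ∪ U).card = 6 := by rw [card_union_of_disjoint hTU, hT, hU.2]
    have hle := card_le_card hsub
    rcases octad_inter_card hC ho.1 ho'.1 hne with h | h | h <;> omega

theorem card_triads_disjoint {T : Finset GolayPt} (hT : T.card = 3) :
    (((univ : Finset GolayPt).powersetCard 3).filter (fun U => (T ∩ U).card = 0)).card = 1330 := by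
  rw [card_powersetCard_filter_inter T 3 0 (by omega), hT, card_compl, card_GolayPt, hT]
  decide

theorem card_triadsOut {T : Finset GolayPt} (hT : T.card = 3) : (triadsOut T).card = 1120 := by
  classical
  have h1 := card_triads_disjoint hT
  have h2 := card_triadsIn hT
  have hsplit : ((univ : Finset GolayPt).powersetCard 3).filter (fun U => (T ∩ U).card = 0)
      = triadsIn T ∪ triadsOut T := by
    ext U
    unfold triadsIn triadsOut
    rw [mem_union, mem_filter, mem_filter, mem_filter, card_eq_zero, ← disjoint_iff_inter_eq_empty]
    by_cases h : ∃ o ∈ octads, T ∪ U ⊆ o <;> simp [h]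
  have hdisj : Disjoint (triadsIn T) (triadsOut T) := by
    rw [Finset.disjoint_left]
    intro U hU hU'
    unfold triadsIn at hU
    unfold triadsOut at hU'
    rw [mem_filter] at hU hU'
    exact hU'.2.2 hU.2.2
  rw [hsplit, card_union_of_disjoint hdisj, h2] at h1
  omega

/-- Orbits of a triad stabiliser on the triads disjoint from it. -/
theorem triad_stabilizer_orbits_on_disjoint_triads (T : Finset GolayPt) (hT : T.card = 3) :
    {U : Finset GolayPt | U.card = 3 ∧ Disjoint T U ∧ (∃ o ∈ octads, T ∪ U ⊆ o)}.ncard = 210 ∧
    {U : Finset GolayPt | U.card = 3 ∧ Disjoint T U ∧ ¬ (∃ o ∈ octads, T ∪ U ⊆ o)}.ncard = 1120 ∧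
    ∀ U U' : Finset GolayPt, U.card = 3 → U'.card = 3 → Disjoint T U → Disjoint T U' →
      ((∃ o ∈ octads, T ∪ U ⊆ o) ↔ (∃ o ∈ octads, T ∪ U' ⊆ o)) →
      ∃ g : Equiv.Perm GolayPt, g ∈ M24 ∧ g • T = T ∧ g • U = U' := by
  classical
  refine ⟨?_, ?_, ?_⟩
  · rw [← card_triadsIn hT, ← Set.ncard_coe_finset]
    congr 1
    ext U
    unfold triadsIn
    rw [Set.mem_ofPred_eq, mem_coe, mem_filter, mem_powersetCard]
    constructor
    · rintro ⟨h1, h2, h3⟩; exact ⟨⟨subset_univ _, h1⟩, h2, h3⟩
    · rintro ⟨⟨-, h1⟩, h2, h3⟩; exact ⟨h1, h2, h3⟩
  · rw [← card_triadsOut hT, ← Set.ncard_coe_finset]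
    congr 1
    ext U
    unfold triadsOut
    rw [Set.mem_ofPred_eq, mem_coe, mem_filter, mem_powersetCard]
    constructor
    · rintro ⟨h1, h2, h3⟩; exact ⟨⟨subset_univ _, h1⟩, h2, h3⟩
    · rintro ⟨⟨-, h1⟩, h2, h3⟩; exact ⟨h1, h2, h3⟩
  · intro U U' hU hU' hd hd' hiff
    have e1 : (T ∩ U).card = 0 := by rw [card_eq_zero, ← disjoint_iff_inter_eq_empty]; exact hd
    have e2 : (T ∩ U').card = 0 := by rw [card_eq_zero, ← disjoint_iff_inter_eq_empty]; exact hd'
    obtain ⟨g, hg, h1, h2⟩ := exists_M24_set_map T U U' (hU.trans hU'.symm) (e1.trans e2.symm)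
      (by rw [card_union_of_disjoint hd, hT, hU]) (fun _ => hiff)
    exact ⟨g, hg, h1, h2⟩

/-- The stabiliser of a set of three points is a maximal subgroup of `M24`. -/
theorem isCoatom_stabilizer_triad {s : Finset GolayPt} (hs : s.card = 3) :
    IsCoatom (MulAction.stabilizer M24 s) := by
  classical
  have h24 : Fintype.card GolayPt = 24 := card_GolayPt
  have hΩcard : ((univ : Finset GolayPt).powersetCard 3).card = 2024 := by
    rw [card_powersetCard, card_univ, h24]; decide
  have hsc : (sᶜ).card = 21 := by rw [card_compl, h24, hs]
  -- the class function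
  set c : Finset GolayPt → ℕ := fun y =>
    (s ∩ y).card + (if (s ∩ y).card = 0 ∧ ∃ o ∈ octads, s ∪ y ⊆ o then 4 else 0) with hc
  have hcle : ∀ y, (s ∩ y).card ≤ 3 := fun y => by
    rw [← hs]; exact card_le_card inter_subset_left
  apply isCoatom_stabilizer_of_suborbits (G := M24) s ((univ : Finset GolayPt).powersetCard 3)
    (fun y => by
      rw [mem_powersetCard]
      constructor
      · rintro ⟨-, hy⟩
        obtain ⟨g, hg, h⟩ := exists_M24_smul_finset (hs.trans hy.symm) (by omega)
        exact ⟨⟨g, hg⟩, h⟩
      · rintro ⟨g, rfl⟩
        refine ⟨subset_univ _, ?_⟩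
        rw [subgroup_smul_def, card_smul_finset, hs])
    c {0, 1, 2, 3, 4}
    (fun y hy => by
      have := hcle y
      simp only [mem_insert, mem_singleton, hc]
      split_ifs with h
      · omega
      · omega)
    (fun y hy y' hy' hcc => by
      rw [mem_powersetCard] at hy hy'
      simp only [hc] at hcc
      have hi : (s ∩ y).card = (s ∩ y').card := by
        have := hcle y
        have := hcle y'
        split_ifs at hcc <;> omega
      obtain ⟨g, hg, h1, h2⟩ := exists_M24_set_map s y y' (hy.2.trans hy'.2.symm) hi
        (by
          have := card_union_le s y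
          omega)
        (by
          intro h6
          have hu := card_union_add_card_inter s y
          have h0 : (s ∩ y).card = 0 := by omega
          have h0' : (s ∩ y').card = 0 := by omega
          rw [h0, h0'] at hcc
          by_cases ha : ∃ o ∈ octads, s ∪ y ⊆ o
          · by_cases hb : ∃ o ∈ octads, s ∪ y' ⊆ o
            · exact ⟨fun _ => hb, fun _ => ha⟩
            · rw [if_pos ⟨rfl, ha⟩, if_neg (fun h => hb h.2)] at hcc
              omega
          · by_cases hb : ∃ o ∈ octads, s ∪ y' ⊆ o
            · rw [if_neg (fun h => ha h.2), if_pos ⟨rfl, hb⟩] at hcc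
              omega
            · exact ⟨fun h => absurd h ha, fun h => absurd h hb⟩)
      exact ⟨⟨g, hg⟩, MulAction.mem_stabilizer_iff.2 h1, h2⟩)
    (by rw [hΩcard]; norm_num)
    (fun j => if j = 0 then 1120 else if j = 1 then 630 else if j = 2 then 63 else if j = 3 then 1 else 210)
    (fun j hj => by
      have h1 := card_powersetCard_filter_inter s 3 1 (by omega)
      have h2 := card_powersetCard_filter_inter s 3 2 (by omega)
      have h3 := card_powersetCard_filter_inter s 3 3 (by omega)
      rw [hs, hsc] at h1 h2 h3
      have hpos : ∀ k, 0 < k → ((univ : Finset GolayPt).powersetCard 3).filter (fun y => c y = k ∧ k ≤ 3)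
          = ((univ : Finset GolayPt).powersetCard 3).filter (fun y => (s ∩ y).card = k ∧ k ≤ 3) := by
        intro k hk
        apply filter_congr
        intro y _
        simp only [hc]
        have := hcle y
        split_ifs with h
        · constructor
          · rintro ⟨h1, h2⟩; omega
          · rintro ⟨h1, h2⟩; omega
        · rw [add_zero]
      simp only [mem_insert, mem_singleton] at hj
      rcases hj with rfl | rfl | rfl | rfl | rfl
      · -- class 0 : triadsOut
        rw [if_pos rfl, ← card_triadsOut hs]
        congr 1
        unfold triadsOut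
        apply filter_congr
        intro y _
        simp only [hc]
        rw [disjoint_iff_inter_eq_empty, ← card_eq_zero]
        have := hcle y
        split_ifs with h
        · constructor
          · intro h'; exfalso; omega
          · rintro ⟨-, h'⟩; exact absurd h.2 h'
        · constructor
          · intro h'
            have h0 : (s ∩ y).card = 0 := by omega
            exact ⟨h0, fun h'' => h ⟨h0, h''⟩⟩
          · rintro ⟨h0, -⟩; omega
      · have := hpos 1 (by norm_num)
        simp only [and_true, Nat.one_le_ofNat] at this
        rw [this, h1]; decide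
      · have := hpos 2 (by norm_num)
        simp only [and_true, Nat.reduceLeDiff] at this
        rw [this, h2]; decide
      · have := hpos 3 (by norm_num)
        simp only [le_refl, and_true] at this
        rw [this, h3]; decide
      · -- class 4 : triadsIn
        rw [if_neg (by norm_num), if_neg (by norm_num), if_neg (by norm_num), if_neg (by norm_num),
          ← card_triadsIn hs]
        congr 1
        unfold triadsIn
        apply filter_congr
        intro y _
        simp only [hc]
        rw [disjoint_iff_inter_eq_empty, ← card_eq_zero]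
        have := hcle y
        split_ifs with h
        · constructor
          · intro _; exact h
          · intro _; omega
        · constructor
          · intro h'; omega
          · intro h'; exact absurd h' h)
  have hcs : c s = 3 := by
    simp only [hc, inter_self, hs]
    norm_num
  rw [hΩcard, hcs]
  decide

end Triad

end Cfsg.Agent.Lib.H28
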