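/-
helper28 library: packaging class structures with a fixed member into orbit decompositions.
-/
import Cfsg.Agent.Lib.H28.SuborbitClasses

set_option autoImplicit false

namespace Cfsg.Agent.Lib.H28

section
variable {G α β : Type*} [Group G] [MulAction G α] [MulAction G β]

/-- A class of size one is the singleton of any of its members. -/
theorem class_eq_singleton (F : Set β) (inv : α → β → ℕ) (a : α) (j0 : ℕ) (n : ℕ → ℕ) (x0 : β)
    (hx0F : x0 ∈ F) (hx0 : inv a x0 = j0) (hn0 : n j0 = 1)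
    (h1 : ∃ X ∈ F, inv a X = j0 ∧ (MulAction.orbit ↥(MulAction.stabilizer G a) X).ncard = n j0)
    (h2 : ∀ X ∈ F, MulAction.orbit ↥(MulAction.stabilizer G a) X = {y | y ∈ F ∧ inv a y = inv a X}) :
    ∀ y ∈ F, inv a y = j0 → y = x0 := by
  obtain ⟨X, hX, e, c⟩ := h1
  rw [hn0, h2 X hX, e, Set.ncard_eq_one] at c
  obtain ⟨z, hz⟩ := c
  have hx0z : x0 = z := by
    have : x0 ∈ {y | y ∈ F ∧ inv a y = j0} := ⟨hx0F, hx0⟩
    rw [hz] at this
    exact this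
  intro y hy hyj
  have : y ∈ {y | y ∈ F ∧ inv a y = j0} := ⟨hy, hyj⟩
  rw [hz] at this
  rw [hx0z]
  exact this

/-- Packaging a fixed member and three further classes. -/
theorem pack3s (F : Set β) (inv : α → β → ℕ) (a : α) (j0 j1 j2 j3 : ℕ) (n : ℕ → ℕ) (x0 : β)
    (hx0F : x0 ∈ F) (hx0 : inv a x0 = j0) (hn0 : n j0 = 1)
    (h1 : ∀ j ∈ [j0, j1, j2, j3], ∃ X ∈ F, inv a X = j ∧
      (MulAction.orbit ↥(MulAction.stabilizer G a) X).ncard = n j)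
    (h2 : ∀ X ∈ F, MulAction.orbit ↥(MulAction.stabilizer G a) X = {y | y ∈ F ∧ inv a y = inv a X})
    (h3 : ∀ y ∈ F, inv a y ∈ [j0, j1, j2, j3]) :
    ∃ X₁ ∈ F, ∃ X₂ ∈ F, ∃ X₃ ∈ F,
      (MulAction.orbit ↥(MulAction.stabilizer G a) X₁).ncard = n j1 ∧
      (MulAction.orbit ↥(MulAction.stabilizer G a) X₂).ncard = n j2 ∧
      (MulAction.orbit ↥(MulAction.stabilizer G a) X₃).ncard = n j3 ∧
      F = {x0} ∪ MulAction.orbit ↥(MulAction.stabilizer G a) X₁ ∪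
        MulAction.orbit ↥(MulAction.stabilizer G a) X₂ ∪ MulAction.orbit ↥(MulAction.stabilizer G a) X₃ := by
  have hs := class_eq_singleton F inv a j0 n x0 hx0F hx0 hn0 (h1 j0 (by simp)) h2
  obtain ⟨X₁, hX₁, e₁, c₁⟩ := h1 j1 (by simp)
  obtain ⟨X₂, hX₂, e₂, c₂⟩ := h1 j2 (by simp)
  obtain ⟨X₃, hX₃, e₃, c₃⟩ := h1 j3 (by simp)
  refine ⟨X₁, hX₁, X₂, hX₂, X₃, hX₃, c₁, c₂, c₃, ?_⟩
  ext y
  rw [Set.mem_union, Set.mem_union, Set.mem_union, h2 X₁ hX₁, h2 X₂ hX₂, h2 X₃ hX₃, e₁, e₂, e₃]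
  simp only [Set.mem_ofPred_eq, Set.mem_singleton_iff]
  constructor
  · intro hy
    have := h3 y hy
    simp only [List.mem_cons, List.not_mem_nil, or_false] at this
    rcases this with h | h | h | h
    · exact Or.inl (Or.inl (Or.inl (hs y hy h)))
    · exact Or.inl (Or.inl (Or.inr ⟨hy, h⟩))
    · exact Or.inl (Or.inr ⟨hy, h⟩)
    · exact Or.inr ⟨hy, h⟩
  · rintro (((h | h) | h) | h)
    · rw [h]; exact hx0F
    · exact h.1
    · exact h.1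
    · exact h.1

/-- Packaging a fixed member and four further classes. -/
theorem pack4s (F : Set β) (inv : α → β → ℕ) (a : α) (j0 j1 j2 j3 j4 : ℕ) (n : ℕ → ℕ) (x0 : β)
    (hx0F : x0 ∈ F) (hx0 : inv a x0 = j0) (hn0 : n j0 = 1)
    (h1 : ∀ j ∈ [j0, j1, j2, j3, j4], ∃ X ∈ F, inv a X = j ∧
      (MulAction.orbit ↥(MulAction.stabilizer G a) X).ncard = n j)
    (h2 : ∀ X ∈ F, MulAction.orbit ↥(MulAction.stabilizer G a) X = {y | y ∈ F ∧ inv a y = inv a X})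
    (h3 : ∀ y ∈ F, inv a y ∈ [j0, j1, j2, j3, j4]) :
    ∃ X₁ ∈ F, ∃ X₂ ∈ F, ∃ X₃ ∈ F, ∃ X₄ ∈ F,
      (MulAction.orbit ↥(MulAction.stabilizer G a) X₁).ncard = n j1 ∧
      (MulAction.orbit ↥(MulAction.stabilizer G a) X₂).ncard = n j2 ∧
      (MulAction.orbit ↥(MulAction.stabilizer G a) X₃).ncard = n j3 ∧
      (MulAction.orbit ↥(MulAction.stabilizer G a) X₄).ncard = n j4 ∧
      F = {x0} ∪ MulAction.orbit ↥(MulAction.stabilizer G a) X₁ ∪
        MulAction.orbit ↥(MulAction.stabilizer G a) X₂ ∪ MulAction.orbit ↥(MulAction.stabilizer G a) X₃ ∪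
        MulAction.orbit ↥(MulAction.stabilizer G a) X₄ := by
  have hs := class_eq_singleton F inv a j0 n x0 hx0F hx0 hn0 (h1 j0 (by simp)) h2
  obtain ⟨X₁, hX₁, e₁, c₁⟩ := h1 j1 (by simp)
  obtain ⟨X₂, hX₂, e₂, c₂⟩ := h1 j2 (by simp)
  obtain ⟨X₃, hX₃, e₃, c₃⟩ := h1 j3 (by simp)
  obtain ⟨X₄, hX₄, e₄, c₄⟩ := h1 j4 (by simp)
  refine ⟨X₁, hX₁, X₂, hX₂, X₃, hX₃, X₄, hX₄, c₁, c₂, c₃, c₄, ?_⟩
  ext y
  rw [Set.mem_union, Set.mem_union, Set.mem_union, Set.mem_union, h2 X₁ hX₁, h2 X₂ hX₂, h2 X₃ hX₃, h2 X₄ hX₄,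
    e₁, e₂, e₃, e₄]
  simp only [Set.mem_ofPred_eq, Set.mem_singleton_iff]
  constructor
  · intro hy
    have := h3 y hy
    simp only [List.mem_cons, List.not_mem_nil, or_false] at this
    rcases this with h | h | h | h | h
    · exact Or.inl (Or.inl (Or.inl (Or.inl (hs y hy h))))
    · exact Or.inl (Or.inl (Or.inl (Or.inr ⟨hy, h⟩)))
    · exact Or.inl (Or.inl (Or.inr ⟨hy, h⟩))
    · exact Or.inl (Or.inr ⟨hy, h⟩)
    · exact Or.inr ⟨hy, h⟩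
  · rintro ((((h | h) | h) | h) | h)
    · rw [h]; exact hx0F
    · exact h.1
    · exact h.1
    · exact h.1
    · exact h.1

end

end Cfsg.Agent.Lib.H28
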