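/-
helper28 library: transitivity of `M24` on sextets and trios; class structures of the sextet and trio stabilizers on
octads, sextets and trios; maximality of these stabilizers.
-/
import Cfsg.Agent.Lib.H28.CertM24Sext
import Cfsg.Agent.Lib.H28.CertM24Trio
import Cfsg.Agent.Lib.H28.CertSextSext
import Cfsg.Agent.Lib.H28.CertSextTrio
import Cfsg.Agent.Lib.H28.CertSextOct
import Cfsg.Agent.Lib.H28.CertTrioSext
import Cfsg.Agent.Lib.H28.CertTrioTrio
import Cfsg.Agent.Lib.H28.CertTrioOct
import Cfsg.Agent.Lib.H28.MaskClasses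
import Cfsg.Agent.Lib.H28.KeyCoatom
import Cfsg.Agent.Lib.H28.SuborbitPack

set_option autoImplicit false

namespace Cfsg.Agent.Lib.H28

open Cfsg
open scoped Pointwise

theorem m24GenWords_mem : ∀ w ∈ m24GenWords, wordPerm w ∈ M24 := fun w _ => wordPerm_mem_M24 w

/-- `M24` is transitive on sextets. -/
theorem exists_M24_smul_sextet {S S' : Finset (Finset GolayPt)} (hS : S ∈ sextets) (hS' : S' ∈ sextets) :
    ∃ g ∈ M24, g • S = S' := by
  obtain ⟨start, cert, hcert⟩ := m24Sext_certs 0 (by unfold m24SextJ; simp)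
  exact exists_smul_of_checkK sextets sextKs 1771 (fun _ hy => exists_sextKey hy) M24 m24GenWords
    m24GenWords_mem (fun k => (fun _ => 0) k == 0) hcert hS hS' (fun _ _ _ => rfl) (fun _ _ _ => rfl)

/-- `M24` is transitive on trios. -/
theorem exists_M24_smul_trio {T T' : Finset (Finset GolayPt)} (hT : T ∈ trios) (hT' : T' ∈ trios) :
    ∃ g ∈ M24, g • T = T' := by
  obtain ⟨start, cert, hcert⟩ := m24Trio_certs 0 (by unfold m24TrioJ; simp)
  exact exists_smul_of_checkK trios trioKs 3795 (fun _ hy => exists_trioKey hy) M24 m24GenWords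
    m24GenWords_mem (fun k => (fun _ => 0) k == 0) hcert hT hT' (fun _ _ _ => rfl) (fun _ _ _ => rfl)

/-! ### The sextet stabilizer -/

theorem sextet_octad_structure (g0 : ↥M24) :
    (∀ j ∈ sextOctJ, ∃ X ∈ octads, famInv (g0 • decL sext0Key) X = j ∧
      (MulAction.orbit ↥(MulAction.stabilizer ↥M24 (g0 • decL sext0Key)) X).ncard = sextOctN j) ∧
    (∀ X ∈ octads, MulAction.orbit ↥(MulAction.stabilizer ↥M24 (g0 • decL sext0Key)) X
      = {y | y ∈ octads ∧ famInv (g0 • decL sext0Key) y = famInv (g0 • decL sext0Key) X}) ∧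
    (∀ y ∈ octads, famInv (g0 • decL sext0Key) y ∈ sextOctJ) :=
  octad_class_structure (decL sext0Key) famInv famInv_smul' (fun m => setInvK m sext0Key)
    (fun m _ => famInv_decL (sextKey_keyOK sext0Key_mem) m) sextGenWords sextGenWords_smul sextOctJ sextOctN
    sextOct_all sextOct_certs sextOct_counts sextOct_pos g0

theorem sextet_sextet_structure (g0 : ↥M24) :
    (∀ j ∈ sextSextJ, ∃ X ∈ sextets, pairInv (g0 • decL sext0Key) X = j ∧
      (MulAction.orbit ↥(MulAction.stabilizer ↥M24 (g0 • decL sext0Key)) X).ncard = sextSextN j) ∧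
    (∀ X ∈ sextets, MulAction.orbit ↥(MulAction.stabilizer ↥M24 (g0 • decL sext0Key)) X
      = {y | y ∈ sextets ∧ pairInv (g0 • decL sext0Key) y = pairInv (g0 • decL sext0Key) X}) ∧
    (∀ y ∈ sextets, pairInv (g0 • decL sext0Key) y ∈ sextSextJ) :=
  key_class_structure (decL sext0Key) sextets (fun g _ hx => smul_mem_sextets' g hx) sextKs 1771
    (fun _ hy => exists_sextKey hy) (fun _ hk => decL_mem_sextets (sextKey_ok hk)) sextKs_inj sextKs_nodup
    pairInv pairInv_smul' (pairInvK sext0Key)
    (fun _ hk => pairInv_decL (sextKey_keyOK sext0Key_mem) (sextKey_keyOK hk))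
    sextGenWords sextGenWords_smul sextSextJ sextSextN sextSext_all sextSext_certs sextSext_counts sextSext_pos g0

theorem sextet_trio_structure (g0 : ↥M24) :
    (∀ j ∈ sextTrioJ, ∃ X ∈ trios, pairInv (g0 • decL sext0Key) X = j ∧
      (MulAction.orbit ↥(MulAction.stabilizer ↥M24 (g0 • decL sext0Key)) X).ncard = sextTrioN j) ∧
    (∀ X ∈ trios, MulAction.orbit ↥(MulAction.stabilizer ↥M24 (g0 • decL sext0Key)) X
      = {y | y ∈ trios ∧ pairInv (g0 • decL sext0Key) y = pairInv (g0 • decL sext0Key) X}) ∧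
    (∀ y ∈ trios, pairInv (g0 • decL sext0Key) y ∈ sextTrioJ) :=
  key_class_structure (decL sext0Key) trios (fun g _ hx => smul_mem_trios' g hx) trioKs 3795
    (fun _ hy => exists_trioKey hy) (fun _ hk => trioKey_mem hk) trioKs_inj trioKs_nodup
    pairInv pairInv_smul' (pairInvK sext0Key)
    (fun _ hk => pairInv_decL (sextKey_keyOK sext0Key_mem) (trioKey_keyOK hk))
    sextGenWords sextGenWords_smul sextTrioJ sextTrioN sextTrio_all sextTrio_certs sextTrio_counts sextTrio_pos g0

theorem isCoatom_stabilizer_sextet (g0 : ↥M24) :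
    IsCoatom (MulAction.stabilizer ↥M24 (g0 • decL sext0Key)) :=
  key_isCoatom_stabilizer sextets (fun g _ hx => smul_mem_sextets' g hx) sextKs 1771
    (fun _ hy => exists_sextKey hy) (fun _ hk => decL_mem_sextets (sextKey_ok hk)) sextKs_inj sextKs_nodup
    (fun _ hk => sextKey_keyOK hk) sext0Key sext0Key_mem sextGenWords sextGenWords_smul sextSextJ sextSextN
    sextSext_all sextSext_certs sextSext_counts
    (fun y hy => by
      obtain ⟨g, hg, e⟩ := exists_M24_smul_sextet sext0_mem_sextets hy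
      exact ⟨⟨g, hg⟩, e⟩)
    (by norm_num) (by decide +kernel) g0

/-! ### The trio stabilizer -/

theorem trio_octad_structure (g0 : ↥M24) :
    (∀ j ∈ trioOctJ, ∃ X ∈ octads, famInv (g0 • decL trio0Key) X = j ∧
      (MulAction.orbit ↥(MulAction.stabilizer ↥M24 (g0 • decL trio0Key)) X).ncard = trioOctN j) ∧
    (∀ X ∈ octads, MulAction.orbit ↥(MulAction.stabilizer ↥M24 (g0 • decL trio0Key)) X
      = {y | y ∈ octads ∧ famInv (g0 • decL trio0Key) y = famInv (g0 • decL trio0Key) X}) ∧
    (∀ y ∈ octads, famInv (g0 • decL trio0Key) y ∈ trioOctJ) :=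
  octad_class_structure (decL trio0Key) famInv famInv_smul' (fun m => setInvK m trio0Key)
    (fun m _ => famInv_decL (trioKey_keyOK trio0Key_mem) m) trioGenWords trioGenWords_smul trioOctJ trioOctN
    trioOct_all trioOct_certs trioOct_counts trioOct_pos g0

theorem trio_sextet_structure (g0 : ↥M24) :
    (∀ j ∈ trioSextJ, ∃ X ∈ sextets, pairInv (g0 • decL trio0Key) X = j ∧
      (MulAction.orbit ↥(MulAction.stabilizer ↥M24 (g0 • decL trio0Key)) X).ncard = trioSextN j) ∧
    (∀ X ∈ sextets, MulAction.orbit ↥(MulAction.stabilizer ↥M24 (g0 • decL trio0Key)) X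
      = {y | y ∈ sextets ∧ pairInv (g0 • decL trio0Key) y = pairInv (g0 • decL trio0Key) X}) ∧
    (∀ y ∈ sextets, pairInv (g0 • decL trio0Key) y ∈ trioSextJ) :=
  key_class_structure (decL trio0Key) sextets (fun g _ hx => smul_mem_sextets' g hx) sextKs 1771
    (fun _ hy => exists_sextKey hy) (fun _ hk => decL_mem_sextets (sextKey_ok hk)) sextKs_inj sextKs_nodup
    pairInv pairInv_smul' (pairInvK trio0Key)
    (fun _ hk => pairInv_decL (trioKey_keyOK trio0Key_mem) (sextKey_keyOK hk))
    trioGenWords trioGenWords_smul trioSextJ trioSextN trioSext_all trioSext_certs trioSext_counts trioSext_pos g0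

theorem trio_trio_structure (g0 : ↥M24) :
    (∀ j ∈ trioTrioJ, ∃ X ∈ trios, pairInv (g0 • decL trio0Key) X = j ∧
      (MulAction.orbit ↥(MulAction.stabilizer ↥M24 (g0 • decL trio0Key)) X).ncard = trioTrioN j) ∧
    (∀ X ∈ trios, MulAction.orbit ↥(MulAction.stabilizer ↥M24 (g0 • decL trio0Key)) X
      = {y | y ∈ trios ∧ pairInv (g0 • decL trio0Key) y = pairInv (g0 • decL trio0Key) X}) ∧
    (∀ y ∈ trios, pairInv (g0 • decL trio0Key) y ∈ trioTrioJ) :=
  key_class_structure (decL trio0Key) trios (fun g _ hx => smul_mem_trios' g hx) trioKs 3795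
    (fun _ hy => exists_trioKey hy) (fun _ hk => trioKey_mem hk) trioKs_inj trioKs_nodup
    pairInv pairInv_smul' (pairInvK trio0Key)
    (fun _ hk => pairInv_decL (trioKey_keyOK trio0Key_mem) (trioKey_keyOK hk))
    trioGenWords trioGenWords_smul trioTrioJ trioTrioN trioTrio_all trioTrio_certs trioTrio_counts trioTrio_pos g0

theorem isCoatom_stabilizer_trio (g0 : ↥M24) :
    IsCoatom (MulAction.stabilizer ↥M24 (g0 • decL trio0Key)) :=
  key_isCoatom_stabilizer trios (fun g _ hx => smul_mem_trios' g hx) trioKs 3795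
    (fun _ hy => exists_trioKey hy) (fun _ hk => trioKey_mem hk) trioKs_inj trioKs_nodup
    (fun _ hk => trioKey_keyOK hk) trio0Key trio0Key_mem trioGenWords trioGenWords_smul trioTrioJ trioTrioN
    trioTrio_all trioTrio_certs trioTrio_counts
    (fun y hy => by
      obtain ⟨g, hg, e⟩ := exists_M24_smul_trio trio0_mem_trios hy
      exact ⟨⟨g, hg⟩, e⟩)
    (by norm_num) (by decide +kernel) g0

theorem pairInvK_sext0_self : pairInvK sext0Key sext0Key = 60030 := by decide +kernel

theorem pairInvK_trio0_self : pairInvK trio0Key trio0Key = 300000006 := by decide +kernel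

theorem pairInv_sext0_self (g0 : ↥M24) : pairInv (g0 • decL sext0Key) (g0 • decL sext0Key) = 60030 := by
  rw [pairInv_smul', pairInv_decL (sextKey_keyOK sext0Key_mem) (sextKey_keyOK sext0Key_mem), pairInvK_sext0_self]

theorem pairInv_trio0_self (g0 : ↥M24) : pairInv (g0 • decL trio0Key) (g0 • decL trio0Key) = 300000006 := by
  rw [pairInv_smul', pairInv_decL (trioKey_keyOK trio0Key_mem) (trioKey_keyOK trio0Key_mem), pairInvK_trio0_self]

end Cfsg.Agent.Lib.H28
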