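/-
helper28 library: the group `U` of unitriangular 5x5 matrices over the field of two elements and its quotient `V`
by the centre, as structures of booleans (entries above the diagonal), with explicit lists of elements for
kernel-checked enumeration.
-/
import Mathlib

set_option autoImplicit false

namespace Cfsg.Agent.Lib.H28.UT5

/-- unitriangular 5x5 matrices over the field of two elements, by their entries above the diagonal -/
structure U where
  a12 : Bool
  a13 : Bool
  a14 : Bool
  a15 : Bool
  a23 : Bool
  a24 : Bool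
  a25 : Bool
  a34 : Bool
  a35 : Bool
  a45 : Bool
  deriving DecidableEq

namespace U

/-- the matrix product -/
def mul' (a b : U) : U where
  a12 := a.a12 + b.a12
  a13 := a.a13 + b.a13 + a.a12 * b.a23
  a14 := a.a14 + b.a14 + a.a12 * b.a24 + a.a13 * b.a34
  a15 := a.a15 + b.a15 + a.a12 * b.a25 + a.a13 * b.a35 + a.a14 * b.a45
  a23 := a.a23 + b.a23
  a24 := a.a24 + b.a24 + a.a23 * b.a34
  a25 := a.a25 + b.a25 + a.a23 * b.a35 + a.a24 * b.a45
  a34 := a.a34 + b.a34
  a35 := a.a35 + b.a35 + a.a34 * b.a45
  a45 := a.a45 + b.a45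

def one' : U := ⟨false, false, false, false, false, false, false, false, false, false⟩

instance : Mul U := ⟨mul'⟩
instance : One U := ⟨one'⟩

theorem mul_def (a b : U) : a * b = mul' a b := rfl
theorem one_def : (1 : U) = one' := rfl

theorem mul_assoc' (a b c : U) : a * b * c = a * (b * c) := by
  simp only [mul_def, mul']
  congr 1 <;> ring

def ofNat (n : ℕ) : U :=
  ⟨n.testBit 0, n.testBit 1, n.testBit 2, n.testBit 3, n.testBit 4, n.testBit 5, n.testBit 6, n.testBit 7,
    n.testBit 8, n.testBit 9⟩

def toNat (x : U) : ℕ :=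
  x.a12.toNat + 2 * x.a13.toNat + 4 * x.a14.toNat + 8 * x.a15.toNat + 16 * x.a23.toNat + 32 * x.a24.toNat +
    64 * x.a25.toNat + 128 * x.a34.toNat + 256 * x.a35.toNat + 512 * x.a45.toNat

theorem toNat_lt (x : U) : toNat x < 1024 := by
  unfold toNat
  have := Bool.toNat_le x.a12
  have := Bool.toNat_le x.a13
  have := Bool.toNat_le x.a14
  have := Bool.toNat_le x.a15
  have := Bool.toNat_le x.a23
  have := Bool.toNat_le x.a24
  have := Bool.toNat_le x.a25
  have := Bool.toNat_le x.a34
  have := Bool.toNat_le x.a35
  have := Bool.toNat_le x.a45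
  omega

theorem ofNat_toNat : ∀ x : U, ofNat (toNat x) = x := by
  rintro ⟨_ | _, _ | _, _ | _, _ | _, _ | _, _ | _, _ | _, _ | _, _ | _, _ | _⟩ <;> rfl

/-- the list of the 1024 elements -/
def allU : List U := (List.range 1024).map ofNat

theorem mem_allU (x : U) : x ∈ allU :=
  List.mem_map.2 ⟨toNat x, List.mem_range.2 (toNat_lt x), ofNat_toNat x⟩

theorem forall_of_all {p : U → Bool} (h : allU.all p = true) (x : U) : p x = true :=
  List.all_eq_true.1 h x (mem_allU x)

/-- the inverse, as the seventh power -/
def inv' (a : U) : U := mul' a (mul' a (mul' a (mul' a (mul' a (mul' a a)))))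

instance : Inv U := ⟨inv'⟩

theorem inv_def (a : U) : a⁻¹ = inv' a := rfl

theorem one_mul' (a : U) : 1 * a = a := by
  rcases a with ⟨a12, a13, a14, a15, a23, a24, a25, a34, a35, a45⟩
  simp [mul_def, mul', one_def, one', Bool.add_eq_xor, Bool.mul_eq_and]

theorem inv_mul_cancel'_aux : allU.all (fun a => decide (mul' (inv' a) a = one')) = true := by decide +kernel

theorem inv_mul_cancel' (a : U) : a⁻¹ * a = 1 := by
  have := forall_of_all inv_mul_cancel'_aux a
  rwa [decide_eq_true_eq] at this

instance : Group U := Group.ofLeftAxioms mul_assoc' one_mul' inv_mul_cancel'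

theorem mul_eq (a b : U) : a * b = mul' a b := rfl
theorem one_eq : (1 : U) = one' := rfl

instance : Fintype U where
  elems := allU.toFinset
  complete x := List.mem_toFinset.2 (mem_allU x)

theorem card_eq : Nat.card U = 1024 := by
  apply le_antisymm
  · rw [Nat.card_eq_fintype_card]
    calc Fintype.card U = allU.toFinset.card := rfl
      _ ≤ allU.length := List.toFinset_card_le _
      _ = 1024 := by simp [allU]
  · have hinj : Function.Injective (fun i : Fin 1024 => ofNat i.val) := by
      intro i j hij
      have h : ∀ n : ℕ, n < 1024 → toNat (ofNat n) = n := by decide +kernel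
      have := congrArg toNat hij
      simp only [h _ i.2, h _ j.2] at this
      exact Fin.ext this
    have := Nat.card_le_card_of_injective _ hinj
    simpa using this

end U

/-- the quotient of `U` by its centre: forget the corner entry -/
structure V where
  a12 : Bool
  a13 : Bool
  a14 : Bool
  a23 : Bool
  a24 : Bool
  a25 : Bool
  a34 : Bool
  a35 : Bool
  a45 : Bool
  deriving DecidableEq

namespace V

/-- the matrix product, without the corner entry -/
def mul' (a b : V) : V where
  a12 := a.a12 + b.a12
  a13 := a.a13 + b.a13 + a.a12 * b.a23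
  a14 := a.a14 + b.a14 + a.a12 * b.a24 + a.a13 * b.a34
  a23 := a.a23 + b.a23
  a24 := a.a24 + b.a24 + a.a23 * b.a34
  a25 := a.a25 + b.a25 + a.a23 * b.a35 + a.a24 * b.a45
  a34 := a.a34 + b.a34
  a35 := a.a35 + b.a35 + a.a34 * b.a45
  a45 := a.a45 + b.a45

def one' : V := ⟨false, false, false, false, false, false, false, false, false⟩

instance : Mul V := ⟨mul'⟩
instance : One V := ⟨one'⟩

theorem mul_def (a b : V) : a * b = mul' a b := rfl
theorem one_def : (1 : V) = one' := rfl

theorem mul_assoc' (a b c : V) : a * b * c = a * (b * c) := by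
  simp only [mul_def, mul']
  congr 1 <;> ring

def ofNat (n : ℕ) : V :=
  ⟨n.testBit 0, n.testBit 1, n.testBit 2, n.testBit 3, n.testBit 4, n.testBit 5, n.testBit 6, n.testBit 7,
    n.testBit 8⟩

def toNat (x : V) : ℕ :=
  x.a12.toNat + 2 * x.a13.toNat + 4 * x.a14.toNat + 8 * x.a23.toNat + 16 * x.a24.toNat +
    32 * x.a25.toNat + 64 * x.a34.toNat + 128 * x.a35.toNat + 256 * x.a45.toNat

theorem toNat_lt (x : V) : toNat x < 512 := by
  unfold toNat
  have := Bool.toNat_le x.a12
  have := Bool.toNat_le x.a13
  have := Bool.toNat_le x.a14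
  have := Bool.toNat_le x.a23
  have := Bool.toNat_le x.a24
  have := Bool.toNat_le x.a25
  have := Bool.toNat_le x.a34
  have := Bool.toNat_le x.a35
  have := Bool.toNat_le x.a45
  omega

theorem ofNat_toNat : ∀ x : V, ofNat (toNat x) = x := by
  rintro ⟨_ | _, _ | _, _ | _, _ | _, _ | _, _ | _, _ | _, _ | _, _ | _⟩ <;> rfl

/-- the list of the 512 elements -/
def allV : List V := (List.range 512).map ofNat

theorem mem_allV (x : V) : x ∈ allV :=
  List.mem_map.2 ⟨toNat x, List.mem_range.2 (toNat_lt x), ofNat_toNat x⟩

theorem forall_of_all {p : V → Bool} (h : allV.all p = true) (x : V) : p x = true :=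
  List.all_eq_true.1 h x (mem_allV x)

/-- the inverse, as the seventh power -/
def inv' (a : V) : V := mul' a (mul' a (mul' a (mul' a (mul' a (mul' a a)))))

instance : Inv V := ⟨inv'⟩

theorem inv_def (a : V) : a⁻¹ = inv' a := rfl

theorem one_mul' (a : V) : 1 * a = a := by
  rcases a with ⟨a12, a13, a14, a23, a24, a25, a34, a35, a45⟩
  simp [mul_def, mul', one_def, one', Bool.add_eq_xor, Bool.mul_eq_and]

theorem inv_mul_cancel'_aux : allV.all (fun a => decide (mul' (inv' a) a = one')) = true := by decide +kernel

theorem inv_mul_cancel' (a : V) : a⁻¹ * a = 1 := by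
  have := forall_of_all inv_mul_cancel'_aux a
  rwa [decide_eq_true_eq] at this

instance : Group V := Group.ofLeftAxioms mul_assoc' one_mul' inv_mul_cancel'

theorem mul_eq (a b : V) : a * b = mul' a b := rfl
theorem one_eq : (1 : V) = one' := rfl

instance : Fintype V where
  elems := allV.toFinset
  complete x := List.mem_toFinset.2 (mem_allV x)

theorem card_eq : Nat.card V = 512 := by
  apply le_antisymm
  · rw [Nat.card_eq_fintype_card]
    calc Fintype.card V = allV.toFinset.card := rfl
      _ ≤ allV.length := List.toFinset_card_le _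
      _ = 512 := by simp [allV]
  · have hinj : Function.Injective (fun i : Fin 512 => ofNat i.val) := by
      intro i j hij
      have h : ∀ n : ℕ, n < 512 → toNat (ofNat n) = n := by decide +kernel
      have := congrArg toNat hij
      simp only [h _ i.2, h _ j.2] at this
      exact Fin.ext this
    have := Nat.card_le_card_of_injective _ hinj
    simpa using this

end V

/-- forgetting the corner entry -/
def proj : U →* V where
  toFun x := ⟨x.a12, x.a13, x.a14, x.a23, x.a24, x.a25, x.a34, x.a35, x.a45⟩
  map_one' := rfl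
  map_mul' _ _ := rfl

theorem proj_surjective : Function.Surjective proj := by
  intro y
  exact ⟨⟨y.a12, y.a13, y.a14, false, y.a23, y.a24, y.a25, y.a34, y.a35, y.a45⟩, rfl⟩

end Cfsg.Agent.Lib.H28.UT5
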