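/-
helper28 library: the centre of the unitriangular group `U` is the kernel of the projection to `V`; a predicate on
groups (the three assertions of S3171) and its invariance under isomorphisms.
-/
import Cfsg.Agent.Lib.H28.UT5
import Cfsg.Prelude.Def_Transfer

set_option autoImplicit false

namespace Cfsg.Agent.Lib.H28.UT5

/-! ### the centre of `U` -/

/-- the corner elementary matrix -/
def zU : U := ⟨false, false, false, true, false, false, false, false, false, false⟩

def e12U : U := ⟨true, false, false, false, false, false, false, false, false, false⟩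
def e23U : U := ⟨false, false, false, false, true, false, false, false, false, false⟩
def e34U : U := ⟨false, false, false, false, false, false, false, true, false, false⟩
def e45U : U := ⟨false, false, false, false, false, false, false, false, false, true⟩

theorem zU_central_aux : U.allU.all (fun g => decide (U.mul' g zU = U.mul' zU g)) = true := by decide +kernel

theorem zU_central (g : U) : g * zU = zU * g := by
  have := U.forall_of_all zU_central_aux g
  rwa [decide_eq_true_eq] at this

theorem central_proj_aux : U.allU.all (fun x => decide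
    (U.mul' e12U x = U.mul' x e12U → U.mul' e23U x = U.mul' x e23U → U.mul' e34U x = U.mul' x e34U →
      U.mul' e45U x = U.mul' x e45U → proj x = V.one')) = true := by decide +kernel

theorem ker_proj : proj.ker = Subgroup.center U := by
  ext x
  rw [MonoidHom.mem_ker, Subgroup.mem_center_iff]
  constructor
  · intro h
    rcases x with ⟨a12, a13, a14, a15, a23, a24, a25, a34, a35, a45⟩
    have h' : (⟨a12, a13, a14, a23, a24, a25, a34, a35, a45⟩ : V) = V.one' := h
    unfold V.one' at h'
    rw [V.mk.injEq] at h'
    obtain ⟨rfl, rfl, rfl, rfl, rfl, rfl, rfl, rfl, rfl⟩ := h'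
    intro g
    cases a15
    · show g * 1 = 1 * g
      rw [mul_one, one_mul]
    · exact zU_central g
  · intro h
    have := U.forall_of_all central_proj_aux x
    rw [decide_eq_true_eq] at this
    exact this (h e12U) (h e23U) (h e34U) (h e45U)

/-- the quotient of `U` by its centre is `V` -/
noncomputable def quotEquiv : U ⧸ Subgroup.center U ≃* V :=
  (QuotientGroup.quotientMulEquivOfEq ker_proj.symm).trans
    (QuotientGroup.quotientKerEquivOfSurjective proj proj_surjective)

/-! ### isomorphic groups have isomorphic central quotients -/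

theorem map_center {G H : Type*} [Group G] [Group H] (e : G ≃* H) :
    (Subgroup.center G).map (e : G →* H) = Subgroup.center H := by
  ext y
  rw [Subgroup.mem_map, Subgroup.mem_center_iff]
  constructor
  · rintro ⟨x, hx, rfl⟩ g
    rw [Subgroup.mem_center_iff] at hx
    have := congrArg e (hx (e.symm g))
    simpa using this
  · intro h
    refine ⟨e.symm y, ?_, by simp⟩
    rw [Subgroup.mem_center_iff]
    intro g
    apply e.injective
    have := h (e g)
    simpa using this

/-- the central quotients of isomorphic groups -/
noncomputable def centerQuotCongr {G H : Type*} [Group G] [Group H] (e : G ≃* H) :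
    G ⧸ Subgroup.center G ≃* H ⧸ Subgroup.center H :=
  QuotientGroup.congr _ _ e (map_center e)

/-! ### the assertions -/

/-- the three assertions of S3171 about a group: the centres of the maximal subgroups have order at most 8, there is
an elementary abelian subgroup of order 64, and there is at most one abelian subgroup of order 64 -/
def Good (G : Type*) [Group G] : Prop :=
  (∀ M : Subgroup G, IsCoatom M → Nat.card ↥(Subgroup.center ↥M) ≤ 8) ∧
    (∃ A : Subgroup G, Cfsg.IsElementaryAbelian 2 A ∧ Nat.card ↥A = 64) ∧
      ∀ A B : Subgroup G, IsMulCommutative ↥A → Nat.card ↥A = 64 → IsMulCommutative ↥B → Nat.card ↥B = 64 →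
        A = B

theorem comm_of_mem {G : Type*} [Group G] {A : Subgroup G} (h : IsMulCommutative ↥A) {x y : G} (hx : x ∈ A)
    (hy : y ∈ A) : x * y = y * x :=
  congrArg Subtype.val (h.is_comm.comm ⟨x, hx⟩ ⟨y, hy⟩)

theorem isMulCommutative_of {G : Type*} [Group G] {A : Subgroup G}
    (h : ∀ x ∈ A, ∀ y ∈ A, x * y = y * x) : IsMulCommutative ↥A :=
  ⟨⟨fun a b => Subtype.ext (h a.1 a.2 b.1 b.2)⟩⟩

theorem isMulCommutative_map {G H : Type*} [Group G] [Group H] (f : G →* H) {A : Subgroup G}
    (h : IsMulCommutative ↥A) : IsMulCommutative ↥(A.map f) := by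
  apply isMulCommutative_of
  rintro _ ⟨x, hx, rfl⟩ _ ⟨y, hy, rfl⟩
  rw [← map_mul, ← map_mul, comm_of_mem h hx hy]

theorem card_map_equiv {G H : Type*} [Group G] [Group H] (e : G ≃* H) (A : Subgroup G) :
    Nat.card ↥(A.map (e : G →* H)) = Nat.card ↥A :=
  Nat.card_congr (e.subgroupMap A).symm.toEquiv

theorem Good.of_equiv {G H : Type*} [Group G] [Group H] (e : G ≃* H) (h : Good G) : Good H := by
  obtain ⟨h1, ⟨A, ⟨hAc, hA2⟩, hA⟩, h3⟩ := h
  refine ⟨?_, ⟨A.map (e : G →* H), ⟨isMulCommutative_map _ hAc, ?_⟩, ?_⟩, ?_⟩
  · intro M hM
    have hM' : IsCoatom (M.map (e.symm : H →* G)) := by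
      rw [← Subgroup.comap_equiv_eq_map_symm]
      exact (Subgroup.isCoatom_comap e).2 hM
    have := h1 _ hM'
    rwa [Nat.card_congr (Subgroup.centerCongr (e.symm.subgroupMap M)).symm.toEquiv] at this
  · rintro _ ⟨x, hx, rfl⟩
    have := hA2 x hx
    show (e x) ^ 2 = 1
    rw [← map_pow, this, map_one]
  · rw [card_map_equiv, hA]
  · intro A B hA hAc hB hBc
    have := h3 (A.map (e.symm : H →* G)) (B.map (e.symm : H →* G)) (isMulCommutative_map _ hA)
      (by rw [card_map_equiv, hAc]) (isMulCommutative_map _ hB) (by rw [card_map_equiv, hBc])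
    exact Subgroup.map_injective e.symm.injective this

end Cfsg.Agent.Lib.H28.UT5
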