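/-
helper28 library: the Sylow 2-subgroups of `M24` are isomorphic to the group `U` of unitriangular 5x5 matrices over
the field of two elements. The explicit Sylow 2-subgroup `S0` is the one of helper14 (`Lib/H14/M24SylGen`).
-/
import Cfsg.Agent.Lib.H14.SylCert
import Cfsg.Agent.Lib.H28.UT5Quot

set_option autoImplicit false

namespace Cfsg.Agent.Lib.H28.UT5

open Cfsg Cfsg.Agent.Lib.H28 Cfsg.Agent.Lib.H14.SylCert Cfsg.Agent.Lib.H14.M24SylGen

/-! ### the images of the elementary matrices, as words in the generators of `S0`, and their tables -/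

def m12 : List ℕ := [1, 3, 1]
def t12 : List ℕ := [0, 1, 2, 3, 9, 5, 12, 11, 21, 4, 22, 7, 6, 15, 14, 13, 20, 17, 19, 18, 16, 8, 10, 23]
def m13 : List ℕ := [1, 3, 1, 3]
def t13 : List ℕ := [0, 1, 2, 3, 6, 5, 4, 22, 20, 12, 11, 10, 9, 19, 14, 18, 21, 17, 15, 13, 8, 16, 7, 23]
def m14 : List ℕ := [0, 3, 0, 3]
def t14 : List ℕ := [0, 1, 2, 3, 15, 5, 18, 8, 7, 13, 16, 21, 19, 9, 14, 4, 10, 17, 6, 12, 22, 11, 20, 23]
def m15 : List ℕ := [2, 3, 2, 3]
def t15 : List ℕ := [0, 1, 2, 3, 22, 5, 7, 6, 18, 10, 9, 12, 11, 16, 14, 20, 13, 17, 8, 21, 15, 19, 4, 23]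
def m23 : List ℕ := [1]
def t23 : List ℕ := [14, 2, 1, 23, 4, 17, 6, 7, 8, 12, 11, 10, 9, 19, 0, 15, 21, 5, 18, 13, 20, 16, 22, 3]
def m24 : List ℕ := [0, 1, 0, 1]
def t24 : List ℕ := [5, 23, 3, 2, 4, 0, 6, 7, 8, 13, 16, 21, 19, 9, 17, 15, 10, 14, 18, 12, 20, 11, 22, 1]
def m25 : List ℕ := [1, 2, 1, 2]
def t25 : List ℕ := [3, 17, 5, 0, 4, 2, 6, 7, 8, 10, 9, 12, 11, 16, 23, 15, 13, 1, 18, 21, 20, 19, 22, 14]
def m34 : List ℕ := [0]
def t34 : List ℕ := [3, 14, 5, 0, 4, 2, 18, 8, 7, 9, 10, 21, 19, 13, 1, 15, 16, 23, 6, 12, 20, 11, 22, 17]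
def m35 : List ℕ := [0, 2, 0, 2]
def t35 : List ℕ := [2, 23, 0, 5, 4, 3, 7, 6, 18, 9, 10, 12, 11, 13, 17, 15, 16, 14, 8, 21, 20, 19, 22, 1]
def m45 : List ℕ := [0, 3, 2, 3, 0]
def t45 : List ℕ := [14, 5, 17, 23, 4, 1, 6, 7, 18, 9, 10, 11, 12, 16, 0, 20, 13, 2, 8, 21, 15, 19, 22, 3]

/-- the element of `S0` with meta-word `m` -/
noncomputable def gM (m : List ℕ) : Equiv.Perm GolayPt := wordPerm (metaFlat sylGens m)

theorem gM_mem (m : List ℕ) : gM m ∈ S0 := wordPerm_metaFlat_mem sylGens m

theorem tabs_ok : [m12, m13, m14, m15, m23, m24, m25, m34, m35, m45].map (fun m => wordTab (metaFlat sylGens m)) =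
    [t12, t13, t14, t15, t23, t24, t25, t34, t35, t45] := by decide +kernel

theorem isTab_gM {m t : List ℕ} (h : wordTab (metaFlat sylGens m) = t) : IsTab (gM m) t := by
  rw [← h]
  exact isTab_wordPerm _

theorem tab12 : IsTab (gM m12) t12 := isTab_gM (by have := tabs_ok; simp only [List.map_cons, List.cons.injEq] at this; exact this.1)
theorem tab13 : IsTab (gM m13) t13 := isTab_gM (by have := tabs_ok; simp only [List.map_cons, List.cons.injEq] at this; exact this.2.1)
theorem tab14 : IsTab (gM m14) t14 := isTab_gM (by have := tabs_ok; simp only [List.map_cons, List.cons.injEq] at this; exact this.2.2.1)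
theorem tab15 : IsTab (gM m15) t15 := isTab_gM (by have := tabs_ok; simp only [List.map_cons, List.cons.injEq] at this; exact this.2.2.2.1)
theorem tab23 : IsTab (gM m23) t23 := isTab_gM (by have := tabs_ok; simp only [List.map_cons, List.cons.injEq] at this; exact this.2.2.2.2.1)
theorem tab24 : IsTab (gM m24) t24 := isTab_gM (by have := tabs_ok; simp only [List.map_cons, List.cons.injEq] at this; exact this.2.2.2.2.2.1)
theorem tab25 : IsTab (gM m25) t25 := isTab_gM (by have := tabs_ok; simp only [List.map_cons, List.cons.injEq] at this; exact this.2.2.2.2.2.2.1)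
theorem tab34 : IsTab (gM m34) t34 := isTab_gM (by have := tabs_ok; simp only [List.map_cons, List.cons.injEq] at this; exact this.2.2.2.2.2.2.2.1)
theorem tab35 : IsTab (gM m35) t35 := isTab_gM (by have := tabs_ok; simp only [List.map_cons, List.cons.injEq] at this; exact this.2.2.2.2.2.2.2.2.1)
theorem tab45 : IsTab (gM m45) t45 := isTab_gM (by have := tabs_ok; simp only [List.map_cons, List.cons.injEq] at this; exact this.2.2.2.2.2.2.2.2.2.1)

/-! ### the map -/

/-- a table or the identity table -/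
def selT (b : Bool) (t : List ℕ) : List ℕ := bif b then t else idT

/-- a permutation or the identity -/
noncomputable def selG (b : Bool) (g : Equiv.Perm GolayPt) : Equiv.Perm GolayPt := bif b then g else 1

theorem isTab_sel {g : Equiv.Perm GolayPt} {t : List ℕ} (h : IsTab g t) (b : Bool) : IsTab (selG b g) (selT b t) := by
  cases b
  · exact isTab_one
  · exact h

theorem selG_mem {g : Equiv.Perm GolayPt} (h : g ∈ S0) (b : Bool) : selG b g ∈ S0 := by
  cases b
  · exact S0.one_mem
  · exact h

/-- the image of `x` -/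
noncomputable def fU (x : U) : Equiv.Perm GolayPt :=
  selG x.a45 (gM m45) * (selG x.a34 (gM m34) * (selG x.a35 (gM m35) * (selG x.a23 (gM m23) *
    (selG x.a24 (gM m24) * (selG x.a25 (gM m25) * (selG x.a12 (gM m12) * (selG x.a13 (gM m13) *
      (selG x.a14 (gM m14) * selG x.a15 (gM m15)))))))))

/-- the image of the part of `x` in the rows 2, 3, 4 -/
noncomputable def fH (x : U) : Equiv.Perm GolayPt :=
  selG x.a45 (gM m45) * (selG x.a34 (gM m34) * (selG x.a35 (gM m35) * (selG x.a23 (gM m23) *
    (selG x.a24 (gM m24) * selG x.a25 (gM m25)))))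

/-- the image of the part of `x` in the first row -/
noncomputable def fL (x : U) : Equiv.Perm GolayPt :=
  selG x.a12 (gM m12) * (selG x.a13 (gM m13) * (selG x.a14 (gM m14) * selG x.a15 (gM m15)))

theorem fU_eq (x : U) : fU x = fH x * fL x := by
  unfold fU fH fL
  simp only [mul_assoc]

/-- the table of `fH x` -/
def tabH (x : U) : List ℕ :=
  compT (selT x.a45 t45) (compT (selT x.a34 t34) (compT (selT x.a35 t35) (compT (selT x.a23 t23)
    (compT (selT x.a24 t24) (selT x.a25 t25)))))

/-- the table of `fL x` -/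
def tabL (x : U) : List ℕ :=
  compT (selT x.a12 t12) (compT (selT x.a13 t13) (compT (selT x.a14 t14) (selT x.a15 t15)))

/-- the table of `fU x` -/
def tabU (x : U) : List ℕ := compT (tabH x) (tabL x)

theorem isTab_fH (x : U) : IsTab (fH x) (tabH x) :=
  isTab_mul (isTab_sel tab45 _) (isTab_mul (isTab_sel tab34 _) (isTab_mul (isTab_sel tab35 _)
    (isTab_mul (isTab_sel tab23 _) (isTab_mul (isTab_sel tab24 _) (isTab_sel tab25 _)))))

theorem isTab_fL (x : U) : IsTab (fL x) (tabL x) :=
  isTab_mul (isTab_sel tab12 _) (isTab_mul (isTab_sel tab13 _) (isTab_mul (isTab_sel tab14 _) (isTab_sel tab15 _)))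

theorem isTab_fU (x : U) : IsTab (fU x) (tabU x) := by
  rw [fU_eq]
  exact isTab_mul (isTab_fH x) (isTab_fL x)

theorem fU_mem (x : U) : fU x ∈ S0 :=
  S0.mul_mem (selG_mem (gM_mem _) _) (S0.mul_mem (selG_mem (gM_mem _) _) (S0.mul_mem (selG_mem (gM_mem _) _)
    (S0.mul_mem (selG_mem (gM_mem _) _) (S0.mul_mem (selG_mem (gM_mem _) _) (S0.mul_mem (selG_mem (gM_mem _) _)
      (S0.mul_mem (selG_mem (gM_mem _) _) (S0.mul_mem (selG_mem (gM_mem _) _)
        (S0.mul_mem (selG_mem (gM_mem _) _) (selG_mem (gM_mem _) _)))))))))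

theorem eqT_of_isTab {g : Equiv.Perm GolayPt} {a b : List ℕ} (ha : IsTab g a) (hb : IsTab g b) : eqT a b = true := by
  unfold eqT
  rw [List.all_eq_true]
  intro k hk
  rw [List.mem_range] at hk
  rw [beq_iff_eq]
  have h1 := ha (gPt k)
  have h2 := hb (gPt k)
  rw [gIdx_gPt hk] at h1 h2
  rw [← h1, ← h2]

/-! ### multiplicativity on the right by the four generators -/

/-- the part of `x` in the rows 2, 3, 4 -/
def hiP (x : U) : U := ⟨false, false, false, false, x.a23, x.a24, x.a25, x.a34, x.a35, x.a45⟩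

/-- the part of `x` in the first row -/
def loP (x : U) : U := ⟨x.a12, x.a13, x.a14, x.a15, false, false, false, false, false, false⟩

def hiList : List U := U.allU.filter (fun x => decide (hiP x = x))

def loList : List U := U.allU.filter (fun x => decide (loP x = x))

theorem hiP_mem (x : U) : hiP x ∈ hiList :=
  List.mem_filter.2 ⟨U.mem_allU _, decide_eq_true rfl⟩

theorem loP_mem (x : U) : loP x ∈ loList :=
  List.mem_filter.2 ⟨U.mem_allU _, decide_eq_true rfl⟩

theorem homH_aux : hiList.all (fun h => eqT (tabH (U.mul' h e23U)) (compT (tabH h) t23) &&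
    eqT (tabH (U.mul' h e34U)) (compT (tabH h) t34) && eqT (tabH (U.mul' h e45U)) (compT (tabH h) t45)) = true := by
  decide +kernel

theorem homL_aux : loList.all (fun l => eqT (tabL (U.mul' l e12U)) (compT (tabL l) t12)) = true := by
  decide +kernel

theorem conj_aux : loList.all (fun l =>
    eqT (compT (tabL l) t23) (compT t23 (tabL (U.mul' e23U (U.mul' l e23U)))) &&
    eqT (compT (tabL l) t34) (compT t34 (tabL (U.mul' e34U (U.mul' l e34U)))) &&
    eqT (compT (tabL l) t45) (compT t45 (tabL (U.mul' e45U (U.mul' l e45U))))) = true := by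
  decide +kernel

theorem model_aux : U.allU.all (fun x =>
    decide (hiP (U.mul' x e23U) = U.mul' (hiP x) e23U) && decide (hiP (U.mul' x e34U) = U.mul' (hiP x) e34U) &&
    decide (hiP (U.mul' x e45U) = U.mul' (hiP x) e45U) && decide (hiP (U.mul' x e12U) = hiP x) &&
    decide (loP (U.mul' x e23U) = U.mul' e23U (U.mul' (loP x) e23U)) &&
    decide (loP (U.mul' x e34U) = U.mul' e34U (U.mul' (loP x) e34U)) &&
    decide (loP (U.mul' x e45U) = U.mul' e45U (U.mul' (loP x) e45U)) &&
    decide (loP (U.mul' x e12U) = U.mul' (loP x) e12U)) = true := by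
  decide +kernel

theorem fH_hiP (x : U) : fH (hiP x) = fH x := rfl

theorem fL_loP (x : U) : fL (loP x) = fL x := rfl

theorem fU_e12 : fU e12U = gM m12 := by simp [fU, e12U, selG]
theorem fU_e23 : fU e23U = gM m23 := by simp [fU, e23U, selG]
theorem fU_e34 : fU e34U = gM m34 := by simp [fU, e34U, selG]
theorem fU_e45 : fU e45U = gM m45 := by simp [fU, e45U, selG]

/-- the step for a generator in the rows 2, 3, 4 -/
theorem fU_mul_hi {e : U} {g : Equiv.Perm GolayPt} {t : List ℕ} (he : fU e = g) (ht : IsTab g t) (x : U)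
    (h1 : hiP (x * e) = hiP x * e) (h2 : loP (x * e) = e * (loP x * e))
    (h3 : eqT (tabH (hiP x * e)) (compT (tabH (hiP x)) t) = true)
    (h4 : eqT (compT (tabL (loP x)) t) (compT t (tabL (e * (loP x * e)))) = true) :
    fU (x * e) = fU x * fU e := by
  have e1 : fH (x * e) = fH x * g := by
    rw [← fH_hiP (x * e), h1, ← fH_hiP x]
    exact eq_of_isTab (isTab_of_eqT (isTab_fH _) h3) (isTab_mul (isTab_fH _) ht)
  have e2 : fL x * g = g * fL (x * e) := by
    rw [← fL_loP (x * e), h2, ← fL_loP x]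
    exact eq_of_isTab (isTab_of_eqT (isTab_mul (isTab_fL _) ht) h4) (isTab_mul ht (isTab_fL _))
  rw [fU_eq, fU_eq, he, e1, mul_assoc, ← e2, mul_assoc]

theorem fU_mul_gen (x : U) {e : U} (he : e ∈ [e12U, e23U, e34U, e45U]) : fU (x * e) = fU x * fU e := by
  have hm := U.forall_of_all model_aux x
  simp only [Bool.and_eq_true, decide_eq_true_eq] at hm
  obtain ⟨⟨⟨⟨⟨⟨⟨m1, m2⟩, m3⟩, m4⟩, m5⟩, m6⟩, m7⟩, m8⟩ := hm
  have hH := List.all_eq_true.1 homH_aux _ (hiP_mem x)
  simp only [Bool.and_eq_true] at hH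
  obtain ⟨⟨a1, a2⟩, a3⟩ := hH
  have hC := List.all_eq_true.1 conj_aux _ (loP_mem x)
  simp only [Bool.and_eq_true] at hC
  obtain ⟨⟨c1, c2⟩, c3⟩ := hC
  have hL := List.all_eq_true.1 homL_aux _ (loP_mem x)
  simp only [List.mem_cons, List.not_mem_nil, or_false] at he
  rcases he with rfl | rfl | rfl | rfl
  · -- the generator in the first row
    have e1 : fH (x * e12U) = fH x := by
      rw [← fH_hiP (x * e12U)]
      show fH (hiP (U.mul' x e12U)) = fH x
      rw [m4, fH_hiP]
    have e2 : fL (x * e12U) = fL x * gM m12 := by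
      rw [← fL_loP (x * e12U)]
      show fL (loP (U.mul' x e12U)) = fL x * gM m12
      rw [m8, ← fL_loP x]
      exact eq_of_isTab (isTab_of_eqT (isTab_fL _) hL) (isTab_mul (isTab_fL _) tab12)
    rw [fU_eq, fU_eq, fU_e12, e1, e2, mul_assoc]
  · exact fU_mul_hi fU_e23 tab23 x m1 m5 a1 c1
  · exact fU_mul_hi fU_e34 tab34 x m2 m6 a2 c2
  · exact fU_mul_hi fU_e45 tab45 x m3 m7 a3 c3

theorem fU_one : fU 1 = 1 :=
  eq_of_isTab (isTab_of_eqT (isTab_fU 1) (by decide +kernel : eqT (tabU U.one') idT = true)) isTab_one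

/-- multiplicativity on the right by `y` -/
def RMul (y : U) : Prop := ∀ x : U, fU (x * y) = fU x * fU y

theorem RMul.mul {y z : U} (hy : RMul y) (hz : RMul z) : RMul (y * z) := by
  intro x
  rw [← mul_assoc, hz, hy, hz y, mul_assoc]

theorem RMul.one : RMul 1 := by
  intro x
  rw [mul_one, fU_one, mul_one]

def e13U : U := ⟨false, true, false, false, false, false, false, false, false, false⟩
def e14U : U := ⟨false, false, true, false, false, false, false, false, false, false⟩
def e24U : U := ⟨false, false, false, false, false, true, false, false, false, false⟩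
def e25U : U := ⟨false, false, false, false, false, false, true, false, false, false⟩
def e35U : U := ⟨false, false, false, false, false, false, false, false, true, false⟩

/-- a power with a boolean exponent -/
def pwU (b : Bool) (g : U) : U := bif b then g else U.one'

/-- the normal form -/
def nfU (x : U) : U :=
  U.mul' (pwU x.a45 e45U) (U.mul' (pwU x.a34 e34U) (U.mul' (pwU x.a35 e35U) (U.mul' (pwU x.a23 e23U)
    (U.mul' (pwU x.a24 e24U) (U.mul' (pwU x.a25 e25U) (U.mul' (pwU x.a12 e12U) (U.mul' (pwU x.a13 e13U)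
      (U.mul' (pwU x.a14 e14U) (pwU x.a15 zU)))))))))

theorem nfU_eq_aux : U.allU.all (fun x => decide (nfU x = x)) = true := by decide +kernel

theorem nfU_eq (x : U) : nfU x = x := by
  have := U.forall_of_all nfU_eq_aux x
  rwa [decide_eq_true_eq] at this

theorem RMul.pw {g : U} (hg : RMul g) (b : Bool) : RMul (pwU b g) := by
  cases b
  · exact RMul.one
  · exact hg

theorem rmul_all (y : U) : RMul y := by
  have P12 : RMul e12U := fun x => fU_mul_gen x (by simp)
  have P23 : RMul e23U := fun x => fU_mul_gen x (by simp)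
  have P34 : RMul e34U := fun x => fU_mul_gen x (by simp)
  have P45 : RMul e45U := fun x => fU_mul_gen x (by simp)
  have P13 : RMul e13U := by
    rw [show e13U = (e12U * e23U) * (e12U * e23U) from by decide]
    exact (P12.mul P23).mul (P12.mul P23)
  have P24 : RMul e24U := by
    rw [show e24U = (e23U * e34U) * (e23U * e34U) from by decide]
    exact (P23.mul P34).mul (P23.mul P34)
  have P35 : RMul e35U := by
    rw [show e35U = (e34U * e45U) * (e34U * e45U) from by decide]
    exact (P34.mul P45).mul (P34.mul P45)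
  have P14 : RMul e14U := by
    rw [show e14U = (e13U * e34U) * (e13U * e34U) from by decide]
    exact (P13.mul P34).mul (P13.mul P34)
  have P25 : RMul e25U := by
    rw [show e25U = (e24U * e45U) * (e24U * e45U) from by decide]
    exact (P24.mul P45).mul (P24.mul P45)
  have P15 : RMul zU := by
    rw [show zU = (e14U * e45U) * (e14U * e45U) from by decide]
    exact (P14.mul P45).mul (P14.mul P45)
  rw [← nfU_eq y]
  unfold nfU
  simp only [← U.mul_eq]
  exact (P45.pw _).mul ((P34.pw _).mul ((P35.pw _).mul ((P23.pw _).mul ((P24.pw _).mul ((P25.pw _).mul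
    ((P12.pw _).mul ((P13.pw _).mul ((P14.pw _).mul (P15.pw _)))))))))

/-- the homomorphism -/
noncomputable def fHom : U →* Equiv.Perm GolayPt where
  toFun := fU
  map_one' := fU_one
  map_mul' x y := rmul_all y x

/-! ### injectivity -/

theorem inj_aux : U.allU.all (fun x => decide (x = U.one') || !(eqT (tabU x) idT)) = true := by decide +kernel

theorem fHom_injective : Function.Injective fHom := by
  rw [injective_iff_map_eq_one]
  intro x hx
  have h1 : IsTab (fU x) idT := by
    have : fU x = 1 := hx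
    rw [this]
    exact isTab_one
  have h2 := eqT_of_isTab (isTab_fU x) h1
  have h3 := U.forall_of_all inj_aux x
  rw [h2, Bool.not_true, Bool.or_false, decide_eq_true_eq] at h3
  exact h3

/-! ### the isomorphism -/

theorem card_S0 : Nat.card ↥S0 = 1024 := by
  obtain ⟨P, hP⟩ := exists_sylow0
  rw [← card_S0', ← hP]
  exact Cfsg.Agent.Lib.H14.M24Sylow.card_sylow P

/-- the unitriangular group is isomorphic to the Sylow 2-subgroup `S0` of `M24` -/
noncomputable def isoS0 : U ≃* ↥S0 := by
  have hfin : Finite ↥S0 := Nat.finite_of_card_ne_zero (by rw [card_S0]; norm_num)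
  refine MulEquiv.ofBijective (fHom.codRestrict S0 fU_mem) ?_
  have hinj : Function.Injective (fHom.codRestrict S0 fU_mem) := by
    intro x y h
    exact fHom_injective (congrArg Subtype.val h)
  exact (Nat.bijective_iff_injective_and_card _).2 ⟨hinj, by rw [U.card_eq, card_S0]⟩

/-- every Sylow 2-subgroup of `M24` is isomorphic to the unitriangular group -/
theorem nonempty_iso (P : Sylow 2 ↥M24) : Nonempty (↥(P : Subgroup ↥M24) ≃* U) := by
  obtain ⟨P0, hP0⟩ := exists_sylow0
  have e1 : ↥(P : Subgroup ↥M24) ≃* ↥(P0 : Subgroup ↥M24) := Sylow.equiv P P0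
  have e2 : ↥(P0 : Subgroup ↥M24) ≃* ↥S0' := MulEquiv.subgroupCongr hP0
  have e3 : ↥S0' ≃* ↥S0 := Subgroup.subgroupOfEquivOfLe S0_le_M24
  exact ⟨((e1.trans e2).trans e3).trans isoS0.symm⟩

end Cfsg.Agent.Lib.H28.UT5
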