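/-
helper28 library: kernel-checked certificates for the double cosets of the Sylow 2-subgroup `S0` of `M24`.
-/
import Cfsg.Agent.Lib.H28.SylDCData
import Cfsg.Agent.Lib.H28.SylM24Iso
import Cfsg.Agent.Lib.H28.Affine23

set_option autoImplicit false

namespace Cfsg.Agent.Lib.H28.SylDC

open Cfsg Cfsg.Agent.Lib.H28 Cfsg.Agent.Lib.H28.UT5 Cfsg.Agent.Lib.H14.M24SylGen Cfsg.Agent.Lib.H14.SylCert

/-! ### The representatives and the elements of `S0`, with their index functions -/

/-- The word of the `i`-th representative. -/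
def rW (i : ℕ) : List ℕ := repWords.getD i []

/-- The `i`-th representative. -/
noncomputable def rP (i : ℕ) : Equiv.Perm GolayPt := wordPerm (rW i)

/-- The index function of the `i`-th representative. -/
def rF (i p : ℕ) : ℕ := (repBig >>> (120 * i + 5 * p)) % 32

/-- The index function of an element of `S0` with entries in the rows 2, 3, 4. -/
def hF (h p : ℕ) : ℕ := (hiBig >>> (120 * h + 5 * p)) % 32

/-- The index function of an element of `S0` with entries in the first row. -/
def lF (l p : ℕ) : ℕ := (loBig >>> (120 * l + 5 * p)) % 32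

/-- The index function of the element of `S0` with code `c`. -/
def sF (c p : ℕ) : ℕ := hF (c / 16) (lF (c % 16) p)

/-- The element of `S0` with code `c`. -/
noncomputable def sE (c : ℕ) : Equiv.Perm GolayPt := fU (U.ofNat c)

theorem forall_of_chunks3 {P : ℕ → Prop} {a b c : ℕ} (h1 : ∀ i, 0 ≤ i → i < a → P i)
    (h2 : ∀ i, a ≤ i → i < b → P i) (h3 : ∀ i, b ≤ i → i < c → P i) : ∀ i < c, P i := by
  intro i hi
  by_cases ha : i < a
  · exact h1 i (Nat.zero_le _) ha
  by_cases hb : i < b
  · exact h2 i (not_lt.1 ha) hb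
  exact h3 i (not_lt.1 hb) hi

set_option maxRecDepth 100000 in
theorem rep_ok_a : ∀ i, 0 ≤ i → i < 170 → ∀ p < 24, evalPt (rW i) p = rF i p := by decide +kernel

set_option maxRecDepth 100000 in
theorem rep_ok_b : ∀ i, 170 ≤ i → i < 340 → ∀ p < 24, evalPt (rW i) p = rF i p := by decide +kernel

set_option maxRecDepth 100000 in
theorem rep_ok_c : ∀ i, 340 ≤ i → i < 510 → ∀ p < 24, evalPt (rW i) p = rF i p := by decide +kernel

theorem isF_rP {i : ℕ} (hi : i < 510) : IsF (rP i) (rF i) :=
  (isF_wordPerm (rW i)).congr (forall_of_chunks3 rep_ok_a rep_ok_b rep_ok_c i hi)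

set_option maxRecDepth 100000 in
theorem hi_ok : ∀ h < 64, ∀ p < 24, tabF (tabH (U.ofNat (16 * h))) p = hF h p := by decide +kernel

set_option maxRecDepth 100000 in
theorem lo_ok : ∀ l < 16, ∀ p < 24, tabF (tabL (U.ofNat l)) p = lF l p := by decide +kernel

theorem parts_ok : ∀ c < 1024, hiP (U.ofNat c) = U.ofNat (16 * (c / 16)) ∧ loP (U.ofNat c) = U.ofNat (c % 16) := by
  decide +kernel

theorem isF_sE {c : ℕ} (hc : c < 1024) : IsF (sE c) (sF c) := by
  obtain ⟨e1, e2⟩ := parts_ok c hc
  have h1 : IsF (fH (U.ofNat c)) (hF (c / 16)) := by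
    rw [← fH_hiP, e1]
    exact IsF.congr (f := tabF (tabH (U.ofNat (16 * (c / 16))))) (isTab_fH _) (hi_ok (c / 16) (by omega))
  have h2 : IsF (fL (U.ofNat c)) (lF (c % 16)) := by
    rw [← fL_loP, e2]
    exact IsF.congr (f := tabF (tabL (U.ofNat (c % 16)))) (isTab_fL _) (lo_ok (c % 16) (Nat.mod_lt _ (by norm_num)))
  unfold sE
  rw [fU_eq]
  exact h1.mul h2

theorem sE_mem (c : ℕ) : sE c ∈ S0 := fU_mem _

theorem sE_zero : sE 0 = 1 := fU_one

theorem exists_sE {g : Equiv.Perm GolayPt} (hg : g ∈ S0) : ∃ c < 1024, g = sE c := by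
  obtain ⟨x, hx⟩ := isoS0.surjective ⟨g, hg⟩
  have h1 : fU x = g := congrArg Subtype.val hx
  have h2 := U.mem_allU x
  unfold U.allU at h2
  rw [List.mem_map] at h2
  obtain ⟨c, hc, rfl⟩ := h2
  exact ⟨c, List.mem_range.1 hc, h1.symm⟩

/-! ### Moving an element of `S0` across a minimal parabolic representative -/

/-- The code of the element `c_k` of `S0`, for `k = 2, 3, 4`. -/
def cK (k : ℕ) : ℕ := if k = 2 then 16 else if k = 3 then 128 else 1

/-- The packed certificate. -/
def nqV (k c : ℕ) : ℕ := (nqBig >>> (11 * (1024 * (k - 2) + c))) % 2048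

def nqC (k c : ℕ) : ℕ := nqV k c % 1024

def nqE (k c : ℕ) : ℕ := nqV k c / 1024

/-- The check that `r_k * s_c = s_c' * (r_k * c_k^e)`. -/
def nqOK (k c : ℕ) : Bool :=
  (List.range 24).all fun p => rF k (sF c p) == sF (nqC k c) (rF k (sF (nqE k c * cK k) p))

theorem cK_le (k : ℕ) : cK k ≤ 128 := by
  unfold cK
  split_ifs <;> norm_num

theorem nqE_le (k c : ℕ) : nqE k c ≤ 1 := by
  unfold nqE nqV
  have := Nat.mod_lt (nqBig >>> (11 * (1024 * (k - 2) + c))) (by norm_num : 0 < 2048)
  omega

theorem nqOK_spec {k c : ℕ} (hk : k < 510) (hc : c < 1024) (h : nqOK k c = true) :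
    rP k * sE c = sE (nqC k c) * (rP k * sE (nqE k c * cK k)) := by
  have h1 : nqC k c < 1024 := Nat.mod_lt _ (by norm_num)
  have h2 : nqE k c * cK k < 1024 := by
    have := nqE_le k c
    have := cK_le k
    nlinarith
  apply ((isF_rP hk).mul (isF_sE hc)).eq_of ((isF_sE h1).mul ((isF_rP hk).mul (isF_sE h2)))
  intro p hp
  unfold nqOK at h
  rw [List.all_eq_true] at h
  have := h p (List.mem_range.2 hp)
  rw [beq_iff_eq] at this
  exact this

set_option maxRecDepth 100000 in
theorem nq_ok_2 : ∀ c < 1024, nqOK 2 c = true := by decide +kernel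

set_option maxRecDepth 100000 in
theorem nq_ok_3 : ∀ c < 1024, nqOK 3 c = true := by decide +kernel

set_option maxRecDepth 100000 in
theorem nq_ok_4 : ∀ c < 1024, nqOK 4 c = true := by decide +kernel

theorem nq_spec {k c : ℕ} (hk : k = 2 ∨ k = 3 ∨ k = 4) (hc : c < 1024) :
    rP k * sE c = sE (nqC k c) * (rP k * sE (nqE k c * cK k)) := by
  rcases hk with rfl | rfl | rfl
  · exact nqOK_spec (by norm_num) hc (nq_ok_2 c hc)
  · exact nqOK_spec (by norm_num) hc (nq_ok_3 c hc)
  · exact nqOK_spec (by norm_num) hc (nq_ok_4 c hc)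

/-! ### Multiplication of the double cosets by the minimal parabolic representatives -/

/-- The packed certificate. -/
def clV (k e i : ℕ) : ℕ := (clBig >>> (32 * (510 * (2 * (k - 2) + e) + i))) % 4294967296

def clJ (k e i : ℕ) : ℕ := clV k e i % 512

def clD1 (k e i : ℕ) : ℕ := clV k e i / 512 % 1024

def clD2 (k e i : ℕ) : ℕ := clV k e i / 524288 % 1024

/-- The check that `r_k * c_k^e * r_i = s' * r_j * s''`. -/
def clOK (k e i : ℕ) : Bool :=
  decide (clJ k e i < 510) && (List.range 24).all fun p =>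
    rF k (sF (e * cK k) (rF i p)) == sF (clD1 k e i) (rF (clJ k e i) (sF (clD2 k e i) p))

theorem clOK_spec {k e i : ℕ} (hk : k < 510) (he : e ≤ 1) (hi : i < 510) (h : clOK k e i = true) :
    ∃ j < 510, ∃ d1 d2 : ℕ, rP k * sE (e * cK k) * rP i = sE d1 * rP j * sE d2 := by
  unfold clOK at h
  rw [Bool.and_eq_true, decide_eq_true_eq] at h
  obtain ⟨hj, h⟩ := h
  refine ⟨clJ k e i, hj, clD1 k e i, clD2 k e i, ?_⟩
  have h1 : clD1 k e i < 1024 := Nat.mod_lt _ (by norm_num)
  have h2 : clD2 k e i < 1024 := Nat.mod_lt _ (by norm_num)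
  have h3 : e * cK k < 1024 := by
    have := cK_le k
    nlinarith
  apply (((isF_rP hk).mul (isF_sE h3)).mul (isF_rP hi)).eq_of (((isF_sE h1).mul (isF_rP hj)).mul (isF_sE h2))
  intro p hp
  rw [List.all_eq_true] at h
  have := h p (List.mem_range.2 hp)
  rw [beq_iff_eq] at this
  exact this

set_option maxRecDepth 100000 in
theorem cl_ok_2 : ∀ e < 2, ∀ i < 510, clOK 2 e i = true := by decide +kernel

set_option maxRecDepth 100000 in
theorem cl_ok_3 : ∀ e < 2, ∀ i < 510, clOK 3 e i = true := by decide +kernel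

set_option maxRecDepth 100000 in
theorem cl_ok_4 : ∀ e < 2, ∀ i < 510, clOK 4 e i = true := by decide +kernel

theorem cl_spec {k e i : ℕ} (hk : k = 2 ∨ k = 3 ∨ k = 4) (he : e ≤ 1) (hi : i < 510) :
    ∃ j < 510, ∃ d1 d2 : ℕ, rP k * sE (e * cK k) * rP i = sE d1 * rP j * sE d2 := by
  have he' : e < 2 := by omega
  rcases hk with rfl | rfl | rfl
  · exact clOK_spec (by norm_num) he hi (cl_ok_2 e he' i hi)
  · exact clOK_spec (by norm_num) he hi (cl_ok_3 e he' i hi)
  · exact clOK_spec (by norm_num) he hi (cl_ok_4 e he' i hi)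

/-! ### Derivations -/

def stA (st : ℕ) : ℕ := st % 512
def stB (st : ℕ) : ℕ := st / 512 % 512
def stM (st : ℕ) : ℕ := st / 262144 % 512
def stC (st : ℕ) : ℕ := st / 134217728 % 1024
def stC1 (st : ℕ) : ℕ := st / 137438953472 % 1024
def stC2 (st : ℕ) : ℕ := st / 140737488355328 % 1024

/-- The check that `r_a * s_c * r_b = s_c1 * r_m * s_c2`. -/
def stOK (st : ℕ) : Bool :=
  decide (stA st < 510) && decide (stB st < 510) && decide (stM st < 510) && (List.range 24).all fun p =>
    rF (stA st) (sF (stC st) (rF (stB st) p)) == sF (stC1 st) (rF (stM st) (sF (stC2 st) p))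

theorem stOK_spec {st : ℕ} (h : stOK st = true) :
    rP (stA st) * sE (stC st) * rP (stB st) = sE (stC1 st) * rP (stM st) * sE (stC2 st) := by
  unfold stOK at h
  rw [Bool.and_eq_true, Bool.and_eq_true, Bool.and_eq_true, decide_eq_true_eq, decide_eq_true_eq,
    decide_eq_true_eq] at h
  obtain ⟨⟨⟨ha, hb⟩, hm⟩, h⟩ := h
  have h0 : stC st < 1024 := Nat.mod_lt _ (by norm_num)
  have h1 : stC1 st < 1024 := Nat.mod_lt _ (by norm_num)
  have h2 : stC2 st < 1024 := Nat.mod_lt _ (by norm_num)
  apply (((isF_rP ha).mul (isF_sE h0)).mul (isF_rP hb)).eq_of (((isF_sE h1).mul (isF_rP hm)).mul (isF_sE h2))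
  intro p hp
  rw [List.all_eq_true] at h
  have := h p (List.mem_range.2 hp)
  rw [beq_iff_eq] at this
  exact this

/-- Run a derivation: a step whose two factors are known, and which checks, adds its result. -/
def run : List ℕ → List ℕ → List ℕ
  | known, [] => known
  | known, st :: rest =>
    if known.contains (stA st) && known.contains (stB st) && stOK st then run (stM st :: known) rest
    else run known rest

theorem run_sound {K : Subgroup (Equiv.Perm GolayPt)} (hS : ∀ c, sE c ∈ K) :
    ∀ (steps known : List ℕ), (∀ i ∈ known, rP i ∈ K) → ∀ i ∈ run known steps, rP i ∈ K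
  | [], known, h => h
  | st :: rest, known, h => by
    unfold run
    split_ifs with hc
    · apply run_sound hS rest
      intro i hi
      rw [List.mem_cons] at hi
      rcases hi with rfl | hi
      · rw [Bool.and_eq_true, Bool.and_eq_true, List.contains_iff_mem, List.contains_iff_mem] at hc
        obtain ⟨⟨ha, hb⟩, hok⟩ := hc
        have e := stOK_spec hok
        have : rP (stM st) = (sE (stC1 st))⁻¹ * (rP (stA st) * sE (stC st) * rP (stB st)) * (sE (stC2 st))⁻¹ := by
          rw [e]
          group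
        rw [this]
        exact K.mul_mem (K.mul_mem (K.inv_mem (hS _)) (K.mul_mem (K.mul_mem (h _ ha) (hS _)) (h _ hb)))
          (K.inv_mem (hS _))
      · exact h i hi
    · exact run_sound hS rest known h

/-- What must be derived from the `i`-th representative. -/
def needOK (i : ℕ) (L : List ℕ) : Bool :=
  (idxO.contains i || L.contains 4) && (idxT.contains i || L.contains 2) && (idxX.contains i || L.contains 3)

set_option maxRecDepth 100000 in
theorem der_ok_a : ∀ i, 0 ≤ i → i < 170 → needOK i (run [0, i] (derTab.getD i [])) = true := by decide +kernel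

set_option maxRecDepth 100000 in
theorem der_ok_b : ∀ i, 170 ≤ i → i < 340 → needOK i (run [0, i] (derTab.getD i [])) = true := by decide +kernel

set_option maxRecDepth 100000 in
theorem der_ok_c : ∀ i, 340 ≤ i → i < 510 → needOK i (run [0, i] (derTab.getD i [])) = true := by decide +kernel

theorem der_ok : ∀ i < 510, needOK i (run [0, i] (derTab.getD i [])) = true :=
  forall_of_chunks3 der_ok_a der_ok_b der_ok_c

theorem gen_ok : ((run [0, 2, 3, 4] genDer).contains 193 && (run [0, 2, 3, 4] genDer).contains 265 &&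
    (run [0, 2, 3, 4] genDer).contains 195) = true := by decide +kernel

theorem rW_gen : rW 193 = [0] ∧ rW 265 = [2] ∧ rW 195 = [3] ∧ rW 0 = [] := by decide +kernel

end Cfsg.Agent.Lib.H28.SylDC
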