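/-
helper28 library: the 510 double cosets of the Sylow 2-subgroup `S0` cover `M24`, and the subgroups of `M24`
containing `S0` fix the base octad, the base trio or the base sextet, or are `M24` itself.
-/
import Cfsg.Agent.Lib.H28.SylDCCert
import Cfsg.Agent.Lib.H28.M24Order
import Cfsg.Agent.Lib.H28.FixedCount

set_option autoImplicit false

namespace Cfsg.Agent.Lib.H28.SylDC

open Cfsg Cfsg.Agent.Lib.H28 Cfsg.Agent.Lib.H28.UT5 Cfsg.Agent.Lib.H14.M24SylGen Cfsg.Agent.Lib.H14.SylCert
open scoped Pointwise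

/-! ### The double cosets cover `M24` -/

/-- The union of the double cosets of the representatives. -/
def Cover : Set (Equiv.Perm GolayPt) := {g | ∃ i < 510, ∃ s ∈ S0, ∃ s' ∈ S0, g = s * rP i * s'}

theorem rP_zero : rP 0 = 1 := by
  unfold rP
  rw [rW_gen.2.2.2, wordPerm_nil]

theorem one_mem_Cover : (1 : Equiv.Perm GolayPt) ∈ Cover :=
  ⟨0, by norm_num, 1, S0.one_mem, 1, S0.one_mem, by rw [rP_zero, mul_one, mul_one]⟩

theorem S0_mul_mem_Cover {s g : Equiv.Perm GolayPt} (hs : s ∈ S0) (hg : g ∈ Cover) : s * g ∈ Cover := by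
  obtain ⟨i, hi, s1, hs1, s2, hs2, rfl⟩ := hg
  exact ⟨i, hi, s * s1, S0.mul_mem hs hs1, s2, hs2, by group⟩

theorem rP_mul_mem_Cover {k : ℕ} (hk : k = 2 ∨ k = 3 ∨ k = 4) {g : Equiv.Perm GolayPt} (hg : g ∈ Cover) :
    rP k * g ∈ Cover := by
  obtain ⟨i, hi, s, hs, s', hs', rfl⟩ := hg
  obtain ⟨c, hc, rfl⟩ := exists_sE hs
  have h1 := nq_spec hk hc
  obtain ⟨j, hj, d1, d2, h2⟩ := cl_spec hk (nqE_le k c) hi
  refine ⟨j, hj, sE (nqC k c) * sE d1, S0.mul_mem (sE_mem _) (sE_mem _), sE d2 * s',
    S0.mul_mem (sE_mem _) hs', ?_⟩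
  calc rP k * (sE c * rP i * s') = (rP k * sE c) * rP i * s' := by group
    _ = sE (nqC k c) * (rP k * sE (nqE k c * cK k) * rP i) * s' := by rw [h1]; group
    _ = sE (nqC k c) * sE d1 * rP j * (sE d2 * s') := by rw [h2]; group

/-- The subgroup generated by `S0` and the representatives 2, 3, 4. -/
noncomputable def Lgen : Subgroup (Equiv.Perm GolayPt) :=
  Subgroup.closure ((S0 : Set (Equiv.Perm GolayPt)) ∪ {rP 2, rP 3, rP 4})

theorem mem_Cover_of_mem_Lgen {g : Equiv.Perm GolayPt} (hg : g ∈ Lgen) : g ∈ Cover := by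
  have key : ∀ x ∈ Submonoid.closure ((S0 : Set (Equiv.Perm GolayPt)) ∪ {rP 2, rP 3, rP 4}), x ∈ Cover := by
    intro x h
    induction h using Submonoid.closure_induction_left with
    | one => exact one_mem_Cover
    | mul_left x hx y _ ih =>
      rcases hx with hx | hx
      · exact S0_mul_mem_Cover hx ih
      · simp only [Set.mem_insert_iff, Set.mem_singleton_iff] at hx
        rcases hx with rfl | rfl | rfl
        · exact rP_mul_mem_Cover (Or.inl rfl) ih
        · exact rP_mul_mem_Cover (Or.inr (Or.inl rfl)) ih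
        · exact rP_mul_mem_Cover (Or.inr (Or.inr rfl)) ih
  apply key
  rw [← Subgroup.closure_toSubmonoid_of_finite]
  exact hg

/-- A subgroup containing `S0` and the representatives 2, 3, 4 contains `M24`. -/
theorem M24_le_of_mem {K : Subgroup (Equiv.Perm GolayPt)} (hS : S0 ≤ K) (h2 : rP 2 ∈ K) (h3 : rP 3 ∈ K)
    (h4 : rP 4 ∈ K) : M24 ≤ K := by
  have hrun := run_sound (K := K) (fun c => hS (sE_mem c)) genDer [0, 2, 3, 4] (by
    intro i hi
    simp only [List.mem_cons, List.not_mem_nil, or_false] at hi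
    rcases hi with rfl | rfl | rfl | rfl
    · rw [rP_zero]; exact K.one_mem
    · exact h2
    · exact h3
    · exact h4)
  have hg := gen_ok
  rw [Bool.and_eq_true, Bool.and_eq_true, List.contains_iff_mem, List.contains_iff_mem,
    List.contains_iff_mem] at hg
  obtain ⟨⟨g1, g2⟩, g3⟩ := hg
  have m1 := hrun _ g1
  have m2 := hrun _ g2
  have m3 := hrun _ g3
  unfold rP at m1 m2 m3
  rw [rW_gen.1, wordPerm_singleton] at m1
  rw [rW_gen.2.1, wordPerm_singleton] at m2
  rw [rW_gen.2.2.1, wordPerm_singleton] at m3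
  rw [← genSubgroup_eq_M24]
  unfold genSubgroup
  rw [Subgroup.closure_le]
  intro x hx
  simp only [Set.mem_insert_iff, Set.mem_singleton_iff] at hx
  rcases hx with rfl | rfl | rfl
  · exact m1
  · exact m2
  · exact m3

theorem M24_le_Lgen : M24 ≤ Lgen := by
  apply M24_le_of_mem
  · intro s hs
    exact Subgroup.subset_closure (Or.inl hs)
  · exact Subgroup.subset_closure (Or.inr (by simp))
  · exact Subgroup.subset_closure (Or.inr (by simp))
  · exact Subgroup.subset_closure (Or.inr (by simp))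

/-- Every element of `M24` lies in one of the 510 double cosets. -/
theorem mem_Cover_of_mem_M24 {g : Equiv.Perm GolayPt} (hg : g ∈ M24) : g ∈ Cover :=
  mem_Cover_of_mem_Lgen (M24_le_Lgen hg)

/-! ### The base octad, trio and sextet -/

/-- The base trio. -/
def trio1 : Finset (Finset GolayPt) := decL trioK

/-- The base sextet. -/
def sext1 : Finset (Finset GolayPt) := decL sextK

theorem sylGens_fix : sylGens.all (fun w => pullMask (wordTab (invWord w)) baseOctad == baseOctad &&
    sameL (trioK.map (pullMask (wordTab (invWord w)))) trioK &&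
    sameL (sextK.map (pullMask (wordTab (invWord w)))) sextK) = true := by decide +kernel

theorem S0_fix {s : Equiv.Perm GolayPt} (hs : s ∈ S0) : s • oct0 = oct0 ∧ s • trio1 = trio1 ∧ s • sext1 = sext1 := by
  have h : S0 ≤ MulAction.stabilizer (Equiv.Perm GolayPt) oct0 ⊓ MulAction.stabilizer (Equiv.Perm GolayPt) trio1 ⊓
      MulAction.stabilizer (Equiv.Perm GolayPt) sext1 := by
    apply wordsClosure_le
    intro w hw
    have h := List.all_eq_true.1 sylGens_fix w hw
    rw [Bool.and_eq_true, Bool.and_eq_true, beq_iff_eq] at h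
    obtain ⟨⟨h1, h2⟩, h3⟩ := h
    refine Subgroup.mem_inf.2 ⟨Subgroup.mem_inf.2 ⟨?_, ?_⟩, ?_⟩
    · rw [MulAction.mem_stabilizer_iff]
      show wordPerm w • ptsMask baseOctad = ptsMask baseOctad
      rw [wordPerm_smul_ptsMask, h1]
    · rw [MulAction.mem_stabilizer_iff]
      exact wordPerm_smul_decL_of_sameL h2
    · rw [MulAction.mem_stabilizer_iff]
      exact wordPerm_smul_decL_of_sameL h3
  have := h hs
  rw [Subgroup.mem_inf, Subgroup.mem_inf, MulAction.mem_stabilizer_iff, MulAction.mem_stabilizer_iff,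
    MulAction.mem_stabilizer_iff] at this
  exact ⟨this.1.1, this.1.2, this.2⟩

theorem idxO_fix : idxO.all (fun i => pullMask (wordTab (invWord (rW i))) baseOctad == baseOctad) = true := by
  decide +kernel

theorem idxT_fix : idxT.all (fun i => sameL (trioK.map (pullMask (wordTab (invWord (rW i))))) trioK) = true := by
  decide +kernel

theorem idxX_fix : idxX.all (fun i => sameL (sextK.map (pullMask (wordTab (invWord (rW i))))) sextK) = true := by
  decide +kernel

theorem rP_smul_oct0 {i : ℕ} (hi : idxO.contains i = true) : rP i • oct0 = oct0 := by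
  rw [List.contains_iff_mem] at hi
  have h := List.all_eq_true.1 idxO_fix i hi
  rw [beq_iff_eq] at h
  show wordPerm (rW i) • ptsMask baseOctad = ptsMask baseOctad
  rw [wordPerm_smul_ptsMask, h]

theorem rP_smul_trio1 {i : ℕ} (hi : idxT.contains i = true) : rP i • trio1 = trio1 := by
  rw [List.contains_iff_mem] at hi
  exact wordPerm_smul_decL_of_sameL (List.all_eq_true.1 idxT_fix i hi)

theorem rP_smul_sext1 {i : ℕ} (hi : idxX.contains i = true) : rP i • sext1 = sext1 := by
  rw [List.contains_iff_mem] at hi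
  exact wordPerm_smul_decL_of_sameL (List.all_eq_true.1 idxX_fix i hi)

/-! ### The subgroups containing `S0` -/

/-- What a subgroup containing `S0` and the `i`-th representative contains. -/
theorem need_mem {K : Subgroup (Equiv.Perm GolayPt)} (hS : S0 ≤ K) {i : ℕ} (hi : i < 510) (hr : rP i ∈ K) :
    (idxO.contains i = true ∨ rP 4 ∈ K) ∧ (idxT.contains i = true ∨ rP 2 ∈ K) ∧
      (idxX.contains i = true ∨ rP 3 ∈ K) := by
  have hrun := run_sound (K := K) (fun c => hS (sE_mem c)) (derTab.getD i []) [0, i] (by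
    intro j hj
    simp only [List.mem_cons, List.not_mem_nil, or_false] at hj
    rcases hj with rfl | rfl
    · rw [rP_zero]; exact K.one_mem
    · exact hr)
  have h := der_ok i hi
  unfold needOK at h
  rw [Bool.and_eq_true, Bool.and_eq_true, Bool.or_eq_true, Bool.or_eq_true, Bool.or_eq_true] at h
  obtain ⟨⟨h1, h2⟩, h3⟩ := h
  refine ⟨h1.imp id fun h => hrun _ (List.contains_iff_mem.1 h), h2.imp id fun h => hrun _ (List.contains_iff_mem.1 h),
    h3.imp id fun h => hrun _ (List.contains_iff_mem.1 h)⟩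

/-- The representative of the double coset of an element of a subgroup containing `S0`. -/
theorem exists_rep {K : Subgroup (Equiv.Perm GolayPt)} (hS : S0 ≤ K) (hK : K ≤ M24) {g : Equiv.Perm GolayPt}
    (hg : g ∈ K) : ∃ i < 510, rP i ∈ K ∧ ∃ s ∈ S0, ∃ s' ∈ S0, g = s * rP i * s' := by
  obtain ⟨i, hi, s, hs, s', hs', rfl⟩ := mem_Cover_of_mem_M24 (hK hg)
  refine ⟨i, hi, ?_, s, hs, s', hs', rfl⟩
  have : rP i = s⁻¹ * (s * rP i * s') * s'⁻¹ := by group
  rw [this]
  exact K.mul_mem (K.mul_mem (K.inv_mem (hS hs)) hg) (K.inv_mem (hS hs'))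

/-- A subgroup of `M24` containing `S0` fixes the base octad, the base trio or the base sextet, or is `M24`. -/
theorem overgroup_cases {K : Subgroup (Equiv.Perm GolayPt)} (hS : S0 ≤ K) (hK : K ≤ M24) :
    (∀ g ∈ K, g • oct0 = oct0) ∨ (∀ g ∈ K, g • trio1 = trio1) ∨ (∀ g ∈ K, g • sext1 = sext1) ∨ M24 ≤ K := by
  by_cases hO : ∀ g ∈ K, g • oct0 = oct0
  · exact Or.inl hO
  by_cases hT : ∀ g ∈ K, g • trio1 = trio1
  · exact Or.inr (Or.inl hT)
  by_cases hX : ∀ g ∈ K, g • sext1 = sext1
  · exact Or.inr (Or.inr (Or.inl hX))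
  right; right; right
  push Not at hO hT hX
  have h4 : rP 4 ∈ K := by
    obtain ⟨g, hg, hne⟩ := hO
    obtain ⟨i, hi, hr, s, hs, s', hs', rfl⟩ := exists_rep hS hK hg
    rcases (need_mem hS hi hr).1 with h | h
    · exfalso
      apply hne
      rw [mul_smul, mul_smul, (S0_fix hs').1, rP_smul_oct0 h, (S0_fix hs).1]
    · exact h
  have h2 : rP 2 ∈ K := by
    obtain ⟨g, hg, hne⟩ := hT
    obtain ⟨i, hi, hr, s, hs, s', hs', rfl⟩ := exists_rep hS hK hg
    rcases (need_mem hS hi hr).2.1 with h | h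
    · exfalso
      apply hne
      rw [mul_smul, mul_smul, (S0_fix hs').2.1, rP_smul_trio1 h, (S0_fix hs).2.1]
    · exact h
  have h3 : rP 3 ∈ K := by
    obtain ⟨g, hg, hne⟩ := hX
    obtain ⟨i, hi, hr, s, hs, s', hs', rfl⟩ := exists_rep hS hK hg
    rcases (need_mem hS hi hr).2.2 with h | h
    · exfalso
      apply hne
      rw [mul_smul, mul_smul, (S0_fix hs').2.2, rP_smul_sext1 h, (S0_fix hs).2.2]
    · exact h
  exact M24_le_of_mem hS h2 h3 h4

end Cfsg.Agent.Lib.H28.SylDC
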