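/-
helper28 library: the subgroups of `M24` of index 759 and 1771 are the octad and the sextet stabilizers, and there is
no subgroup of index 253: such a subgroup contains a Sylow 2-subgroup.
-/
import Cfsg.Agent.Lib.H28.SylDCCover
import Cfsg.Agent.Lib.H28.SextTrioStructure
import Cfsg.Agent.Lib.H28.M24OctadStab
import Cfsg.Agent.Lib.H14.M24Sylow

set_option autoImplicit false

namespace Cfsg.Agent.Lib.H28.SylDC

open Cfsg Cfsg.Agent.Lib.H28 Cfsg.Agent.Lib.H28.UT5 Cfsg.Agent.Lib.H14.M24SylGen Cfsg.Agent.Lib.H14.SylCert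
open scoped Pointwise

/-! ### The base objects and the orders of the stabilizers -/

theorem trio1_mem : trio1 ∈ trios := trio0_mem_trios

theorem sext1_mem : sext1 ∈ sextets := decL_mem_sextets (by decide +kernel)

theorem card_eq_ncard_mul_card_stabilizer {α : Type*} [MulAction ↥M24 α] (x : α) (X : Set α)
    (hX : ∀ y, y ∈ X ↔ ∃ g : ↥M24, g • x = y) :
    Nat.card ↥M24 = X.ncard * Nat.card (MulAction.stabilizer ↥M24 x) := by
  have h1 := Subgroup.card_eq_card_quotient_mul_card_subgroup (MulAction.stabilizer ↥M24 x)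
  have h2 : Nat.card (↥M24 ⧸ MulAction.stabilizer ↥M24 x) = Nat.card (MulAction.orbit ↥M24 x) :=
    Nat.card_congr (MulAction.orbitEquivQuotientStabilizer ↥M24 x).symm
  have h3 : MulAction.orbit ↥M24 x = X := by
    ext y
    rw [MulAction.mem_orbit_iff, hX]
  rw [h2, h3, Nat.card_coe_set_eq] at h1
  exact h1

/-- A sextet stabilizer has order `138240`. -/
theorem card_stabilizer_sextet {S : Finset (Finset GolayPt)} (hS : S ∈ sextets) :
    Nat.card (MulAction.stabilizer ↥M24 S) = 138240 := by
  have h := card_eq_ncard_mul_card_stabilizer S sextets (fun y => by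
    constructor
    · intro hy
      obtain ⟨g, hg, h⟩ := exists_M24_smul_sextet hS hy
      exact ⟨⟨g, hg⟩, h⟩
    · rintro ⟨g, rfl⟩
      exact smul_mem_sextets' g hS)
  have hn : sextets.ncard = 1771 := by
    rw [sextets_eq_absSextets]
    exact ncard_absSextets golayCode_isAbsGolay
  rw [card_M24, hn] at h
  omega

/-- A trio stabilizer has order `64512`. -/
theorem card_stabilizer_trio {T : Finset (Finset GolayPt)} (hT : T ∈ trios) :
    Nat.card (MulAction.stabilizer ↥M24 T) = 64512 := by
  have h := card_eq_ncard_mul_card_stabilizer T trios (fun y => by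
    constructor
    · intro hy
      obtain ⟨g, hg, h⟩ := exists_M24_smul_trio hT hy
      exact ⟨⟨g, hg⟩, h⟩
    · rintro ⟨g, rfl⟩
      exact smul_mem_trios' g hT)
  have hn : trios.ncard = 3795 := by
    rw [trios_eq_absTrios]
    exact ncard_absTrios golayCode_isAbsGolay
  rw [card_M24, hn] at h
  omega

/-! ### The subgroups containing the Sylow 2-subgroup -/

theorem overgroup_cases' {H1 : Subgroup ↥M24} (hS : S0' ≤ H1) :
    H1 ≤ MulAction.stabilizer ↥M24 oct0 ∨ H1 ≤ MulAction.stabilizer ↥M24 trio1 ∨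
      H1 ≤ MulAction.stabilizer ↥M24 sext1 ∨ H1 = ⊤ := by
  have hS' : S0 ≤ H1.map M24.subtype := by
    intro s hs
    exact ⟨⟨s, S0_le_M24 hs⟩, hS (Subgroup.mem_subgroupOf.2 hs), rfl⟩
  have hK : H1.map M24.subtype ≤ M24 := by
    rintro _ ⟨x, -, rfl⟩
    exact x.2
  rcases overgroup_cases hS' hK with h | h | h | h
  · left
    intro x hx
    rw [MulAction.mem_stabilizer_iff]
    exact h x.1 ⟨x, hx, rfl⟩
  · right; left
    intro x hx
    rw [MulAction.mem_stabilizer_iff]
    exact h x.1 ⟨x, hx, rfl⟩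
  · right; right; left
    intro x hx
    rw [MulAction.mem_stabilizer_iff]
    exact h x.1 ⟨x, hx, rfl⟩
  · right; right; right
    rw [eq_top_iff]
    intro x _
    obtain ⟨y, hy, hxy⟩ := h x.2
    have : y = x := Subtype.ext hxy
    rwa [← this]

/-- A subgroup whose order is divisible by 1024 contains a conjugate of `S0`. -/
theorem exists_conj_S0'_le (H : Subgroup ↥M24) (h : 2 ^ 10 ∣ Nat.card ↥H) :
    ∃ g : ↥M24, S0' ≤ H.map (MulAut.conj g).toMonoidHom := by
  have hp : Fact (Nat.Prime 2) := ⟨Nat.prime_two⟩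
  obtain ⟨Q, hQ⟩ := Sylow.exists_subgroup_card_pow_prime 2 h
  have hcQ' : Nat.card ↥(Q.map H.subtype) = 2 ^ 10 := by
    rw [Subgroup.card_map_of_injective H.subtype_injective, hQ]
  have hQH : Q.map H.subtype ≤ H := by
    rintro _ ⟨x, -, rfl⟩
    exact x.2
  have hPG : IsPGroup 2 ↥(Q.map H.subtype) := IsPGroup.of_card hcQ'
  obtain ⟨P, hP⟩ := hPG.exists_le_sylow
  have hPeq : Q.map H.subtype = (P : Subgroup ↥M24) :=
    Subgroup.eq_of_le_of_card_ge hP (by rw [Cfsg.Agent.Lib.H14.M24Sylow.card_sylow P, hcQ']; norm_num)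
  obtain ⟨P0, hP0⟩ := exists_sylow0
  obtain ⟨g, hg⟩ := MulAction.exists_smul_eq ↥M24 P P0
  refine ⟨g, ?_⟩
  intro x hx
  rw [← hP0, ← hg, mem_smul_sylow_iff, ← hPeq] at hx
  refine ⟨g⁻¹ * x * g, hQH hx, ?_⟩
  show g * (g⁻¹ * x * g) * g⁻¹ = x
  group

theorem map_conj_inv_map_conj {G : Type*} [Group G] (H : Subgroup G) (g : G) :
    (H.map (MulAut.conj g).toMonoidHom).map (MulAut.conj g⁻¹).toMonoidHom = H := by
  ext x
  constructor
  · rintro ⟨_, ⟨y, hy, rfl⟩, rfl⟩
    have : g⁻¹ * (g * y * g⁻¹) * g⁻¹⁻¹ = y := by group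
    show g⁻¹ * (g * y * g⁻¹) * g⁻¹⁻¹ ∈ H
    rw [this]
    exact hy
  · intro hx
    refine ⟨g * x * g⁻¹, ⟨x, hx, rfl⟩, ?_⟩
    show g⁻¹ * (g * x * g⁻¹) * g⁻¹⁻¹ = x
    group

/-- If a conjugate of a subgroup is a stabilizer, so is the subgroup. -/
theorem eq_stabilizer_of_map_conj {α : Type*} [MulAction ↥M24 α] {H : Subgroup ↥M24} {g : ↥M24} {x : α}
    (h : H.map (MulAut.conj g).toMonoidHom = MulAction.stabilizer ↥M24 x) :
    H = MulAction.stabilizer ↥M24 (g⁻¹ • x) := by
  rw [MulAction.stabilizer_smul_eq_stabilizer_map_conj, ← h, map_conj_inv_map_conj]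

theorem card_of_index {H : Subgroup ↥M24} {n m : ℕ} (h : H.index = n) (hm : n * m = 244823040) (hn : 0 < n) :
    Nat.card ↥H = m := by
  have h1 := Subgroup.index_mul_card H
  rw [card_M24, h, ← hm] at h1
  exact Nat.eq_of_mul_eq_mul_left hn h1

/-- The subgroups of index 759 are the octad stabilizers. -/
theorem index_759 (H : Subgroup ↥M24) (h : H.index = 759) :
    ∃ o ∈ octads, H = MulAction.stabilizer ↥M24 o := by
  have hc : Nat.card ↥H = 322560 := card_of_index h (by norm_num) (by norm_num)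
  obtain ⟨g, hg⟩ := exists_conj_S0'_le H (by rw [hc]; norm_num)
  have hc1 : Nat.card ↥(H.map (MulAut.conj g).toMonoidHom) = 322560 := by
    rw [Subgroup.card_map_of_injective (MulAut.conj g).injective, hc]
  rcases overgroup_cases' hg with h1 | h1 | h1 | h1
  · refine ⟨g⁻¹ • oct0, smul_mem_octads' _ oct0_mem_octads, eq_stabilizer_of_map_conj ?_⟩
    exact Subgroup.eq_of_le_of_card_ge h1 (by rw [hc1, card_stabilizer_octad oct0_mem_octads])
  · have := Subgroup.card_le_of_le h1
    rw [hc1, card_stabilizer_trio trio1_mem] at this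
    omega
  · have := Subgroup.card_le_of_le h1
    rw [hc1, card_stabilizer_sextet sext1_mem] at this
    omega
  · rw [h1, Subgroup.card_top, card_M24] at hc1
    omega

/-- The subgroups of index 1771 are the sextet stabilizers. -/
theorem index_1771 (H : Subgroup ↥M24) (h : H.index = 1771) :
    ∃ S ∈ sextets, H = MulAction.stabilizer ↥M24 S := by
  have hc : Nat.card ↥H = 138240 := card_of_index h (by norm_num) (by norm_num)
  obtain ⟨g, hg⟩ := exists_conj_S0'_le H (by rw [hc]; norm_num)
  have hc1 : Nat.card ↥(H.map (MulAut.conj g).toMonoidHom) = 138240 := by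
    rw [Subgroup.card_map_of_injective (MulAut.conj g).injective, hc]
  rcases overgroup_cases' hg with h1 | h1 | h1 | h1
  · have := Subgroup.card_dvd_of_le h1
    rw [hc1, card_stabilizer_octad oct0_mem_octads] at this
    norm_num at this
  · have := Subgroup.card_le_of_le h1
    rw [hc1, card_stabilizer_trio trio1_mem] at this
    omega
  · refine ⟨g⁻¹ • sext1, smul_mem_sextets' _ sext1_mem, eq_stabilizer_of_map_conj ?_⟩
    exact Subgroup.eq_of_le_of_card_ge h1 (by rw [hc1, card_stabilizer_sextet sext1_mem])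
  · rw [h1, Subgroup.card_top, card_M24] at hc1
    omega

/-- There is no subgroup of index 253. -/
theorem index_ne_253 (H : Subgroup ↥M24) : H.index ≠ 253 := by
  intro h
  have hc : Nat.card ↥H = 967680 := card_of_index h (by norm_num) (by norm_num)
  obtain ⟨g, hg⟩ := exists_conj_S0'_le H (by rw [hc]; norm_num)
  have hc1 : Nat.card ↥(H.map (MulAut.conj g).toMonoidHom) = 967680 := by
    rw [Subgroup.card_map_of_injective (MulAut.conj g).injective, hc]
  rcases overgroup_cases' hg with h1 | h1 | h1 | h1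
  · have := Subgroup.card_le_of_le h1
    rw [hc1, card_stabilizer_octad oct0_mem_octads] at this
    omega
  · have := Subgroup.card_le_of_le h1
    rw [hc1, card_stabilizer_trio trio1_mem] at this
    omega
  · have := Subgroup.card_le_of_le h1
    rw [hc1, card_stabilizer_sextet sext1_mem] at this
    omega
  · rw [h1, Subgroup.card_top, card_M24] at hc1
    omega

end Cfsg.Agent.Lib.H28.SylDC
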