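/-
helper28 library: the subgroups of `M24` of index 276 are the stabilizers of the pairs of points.
-/
import Cfsg.Agent.Lib.H28.M22BIndex
import Cfsg.Agent.Lib.H28.M24DuadTriad
import Cfsg.Agent.Lib.H28.M24OddIndex

set_option autoImplicit false

namespace Cfsg.Agent.Lib.H28.M22B

open Cfsg Cfsg.Agent.Lib.H28 Cfsg.Agent.Lib.H28.PSL23 Cfsg.Agent.Lib.H28.SylDC
open scoped Pointwise

/-! ### The second double coset of `11:5` -/

/-- Certificates for `r_1 * b = b' * r_1 * m^j` with `b`, `b'` in `11:5` and `m` the map `x ↦ 2 x`. -/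
def r1Cert : List (List ℕ) := [[0, 55, 110, 165, 220, 275, 330, 385, 440, 495, 550], [309, 364, 419, 474, 529, 584, 34, 89, 144, 199, 254], [178, 233, 288, 343, 398, 453, 508, 563, 13, 68, 123], [337, 392, 447, 502, 557, 7, 62, 117, 172, 227, 282], [431, 486, 541, 596, 46, 101, 156, 211, 266, 321, 376]]

/-- The check that `r_1 * cE a k = cE a1 k1 * r_1 * m^j`. -/
def r1OK (a k : ℕ) : Bool :=
  decide (((r1Cert.getD a []).getD k 0) / 55 < 11) && (List.range 24).all fun p =>
    tabF (rT 1) (cF a k p) ==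
      cF (((r1Cert.getD a []).getD k 0) % 5) (((r1Cert.getD a []).getD k 0) / 5 % 11)
        (tabF (rT 1) (affF (((r1Cert.getD a []).getD k 0) / 55) 0 p))

theorem r1_ok : ∀ a < 5, ∀ k < 11, r1OK a k = true := by decide +kernel

theorem r1_spec {a k : ℕ} (ha : a < 5) (hk : k < 11) :
    ∃ a1 k1 : ℕ, ∃ j < 11, rP 1 * cE a k = cE a1 k1 * rP 1 * bP j 0 := by
  have h := r1_ok a ha k hk
  unfold r1OK at h
  rw [Bool.and_eq_true, decide_eq_true_eq] at h
  obtain ⟨hj, h⟩ := h
  refine ⟨((r1Cert.getD a []).getD k 0) % 5, ((r1Cert.getD a []).getD k 0) / 5 % 11,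
    ((r1Cert.getD a []).getD k 0) / 55, hj, ?_⟩
  apply ((isF_rP (by norm_num : 1 < 150)).mul (isF_cE a k)).eq_of
    (((isF_cE _ _).mul (isF_rP (by norm_num : 1 < 150))).mul (isF_bP _ 0))
  intro p hp
  rw [List.all_eq_true] at h
  have := h p (List.mem_range.2 hp)
  rw [beq_iff_eq] at this
  exact this

/-- A subgroup of `M22` containing `11:5` but not `M22` has order at most 660. -/
theorem card_le_of_B55_le {K : Subgroup (Equiv.Perm GolayPt)} (hK : K ≤ M22s) (hB : B55 ≤ K) (hne : ¬ M22s ≤ K) :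
    Nat.card ↥K ≤ 660 := by
  have h : ∀ g ∈ K, ∀ i, 2 ≤ i → i < 150 → ∀ b ∈ B55, ∀ b' ∈ B55, g ≠ b * rP i * b' := by
    intro g hg i h2 hi b hb b' hb' he
    subst he
    exact hne (M22s_le_of_mem hB h2 hi hb hb' hg)
  have hsub : (K : Set (Equiv.Perm GolayPt)) ⊆ (B55 : Set (Equiv.Perm GolayPt)) ∪
      (fun bj : Equiv.Perm GolayPt × ℕ => bj.1 * (rP 1 * bP bj.2 0)) ''
        ((B55 : Set (Equiv.Perm GolayPt)) ×ˢ (Finset.range 11 : Set ℕ)) := by
    intro g hg
    obtain ⟨i, hi, b, hb, b', hb', rfl⟩ := mem_Cover_of_mem_M22s (hK hg)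
    have hlt : i < 2 := by
      by_contra hcon
      exact h _ hg i (not_lt.1 hcon) hi b hb b' hb' rfl
    interval_cases i
    · left
      rw [rP_zero, mul_one]
      exact B55.mul_mem hb hb'
    · right
      obtain ⟨a, ha, k, hk, rfl⟩ := exists_cE_of_mem hb'
      obtain ⟨a1, k1, j, hj, he⟩ := r1_spec ha hk
      refine ⟨(b * cE a1 k1, j), ⟨B55.mul_mem hb (cE_mem_B55 _ _), by simpa using hj⟩, ?_⟩
      show b * cE a1 k1 * (rP 1 * bP j 0) = b * rP 1 * cE a k
      rw [mul_assoc b (rP 1), he]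
      group
  have hB55 : (B55 : Set (Equiv.Perm GolayPt)).ncard = 55 := by
    rw [← Nat.card_coe_set_eq]
    exact card_B55
  have hc : (K : Set (Equiv.Perm GolayPt)).ncard ≤ 55 + 55 * 11 := by
    refine le_trans (Set.ncard_le_ncard hsub (Set.toFinite _)) ?_
    refine le_trans (Set.ncard_union_le _ _) ?_
    apply Nat.add_le_add (le_of_eq hB55)
    refine le_trans (Set.ncard_image_le (Set.toFinite _)) ?_
    rw [Set.ncard_prod, hB55, Set.ncard_coe_finset, Finset.card_range]
  rw [← Nat.card_coe_set_eq] at hc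
  exact hc

/-! ### The fixed points of the elements of order 11 -/

theorem affF_fix : ∀ j, 1 ≤ j → j < 11 → ∀ p < 24, affF j 0 p = p → p = 0 ∨ p = 23 := by decide +kernel

theorem eq_of_bP_fix {j : ℕ} (h1 : 1 ≤ j) (hj : j < 11) {p : GolayPt} (h : bP j 0 p = p) :
    p = gPt 0 ∨ p = gPt 23 := by
  have e := isF_bP j 0 p
  rw [h] at e
  rcases affF_fix j h1 hj (gIdx p) (gIdx_lt p) e.symm with h0 | h0
  · left
    apply gIdx_injective
    rw [h0, gIdx_gPt (by norm_num)]
  · right
    apply gIdx_injective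
    rw [h0, gIdx_gPt (by norm_num)]

theorem bP_one_fix : bP 1 0 (gPt 0) = gPt 0 ∧ bP 1 0 (gPt 23) = gPt 23 := (mem_M22s.1 (bP_mem_M22s 1)).2

/-- The set of the two fixed points. -/
def IsFixPt (p : GolayPt) : Prop := p = gPt 0 ∨ p = gPt 23

/-- An element conjugating `x ↦ 2 x` to a nontrivial power of it permutes the two fixed points. -/
theorem isFixPt_of_conj {g : Equiv.Perm GolayPt} {j : ℕ} (h1 : 1 ≤ j) (hj : j < 11)
    (h : g * bP 1 0 * g⁻¹ = bP j 0) : IsFixPt (g (gPt 0)) ∧ IsFixPt (g (gPt 23)) := by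
  have key : ∀ p, bP 1 0 p = p → bP j 0 (g p) = g p := by
    intro p hp
    rw [← h]
    show g (bP 1 0 (g⁻¹ (g p))) = g p
    rw [Equiv.Perm.inv_def, Equiv.symm_apply_apply, hp]
  exact ⟨eq_of_bP_fix h1 hj (key _ bP_one_fix.1), eq_of_bP_fix h1 hj (key _ bP_one_fix.2)⟩

theorem isFixPt_of_mem_normalizer {g : Equiv.Perm GolayPt}
    (hn : g ∈ Subgroup.normalizer (Subgroup.zpowers (bP 1 0) : Set (Equiv.Perm GolayPt))) :
    IsFixPt (g (gPt 0)) ∧ IsFixPt (g (gPt 23)) := by
  rw [Subgroup.mem_normalizer_iff] at hn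
  have h1 := (hn (bP 1 0)).1 (Subgroup.mem_zpowers _)
  obtain ⟨j, hj, he⟩ := mem_zpowers_bP h1
  have hj0 : j ≠ 0 := by
    rintro rfl
    rw [bP_zero_zero, mul_inv_eq_one] at he
    have : bP 1 0 = 1 := by
      have := congrArg (fun x => g⁻¹ * x) he
      simpa using this
    exact bP_one_ne_one this
  exact isFixPt_of_conj (Nat.one_le_iff_ne_zero.2 hj0) hj he

/-- An element of `M24` permuting the two fixed points and not in `M22` swaps them. -/
theorem swap_of_not_mem {g : Equiv.Perm GolayPt} (hg : g ∈ M24) (h : IsFixPt (g (gPt 0)) ∧ IsFixPt (g (gPt 23)))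
    (hn : g ∉ M22s) : g (gPt 0) = gPt 23 ∧ g (gPt 23) = gPt 0 := by
  have hne : g (gPt 0) ≠ g (gPt 23) := by
    intro he
    have := g.injective he
    revert this
    decide
  rw [mem_M22s] at hn
  rcases h.1 with h0 | h0 <;> rcases h.2 with h1 | h1
  · exact absurd (h0.trans h1.symm) hne
  · exact absurd ⟨hg, h0, h1⟩ hn
  · exact ⟨h0, h1⟩
  · exact absurd (h0.trans h1.symm) hne

/-- A subgroup of `M24` permuting the two fixed points has order at most twice that of its part in `M22`. -/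
theorem card_le_two_mul {N : Subgroup (Equiv.Perm GolayPt)} (hN : N ≤ M24)
    (h : ∀ g ∈ N, IsFixPt (g (gPt 0)) ∧ IsFixPt (g (gPt 23))) : Nat.card ↥N ≤ 2 * Nat.card ↥(N ⊓ M22s) := by
  by_cases hle : N ≤ M22s
  · have : N ⊓ M22s = N := inf_eq_left.2 hle
    rw [this]
    omega
  · rw [SetLike.not_le_iff_exists] at hle
    obtain ⟨t, ht, htn⟩ := hle
    have hts := swap_of_not_mem (hN ht) (h t ht) htn
    have hsub : (N : Set (Equiv.Perm GolayPt)) ⊆ ((N ⊓ M22s : Subgroup (Equiv.Perm GolayPt)) : Set (Equiv.Perm GolayPt)) ∪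
        (fun x => t * x) '' ((N ⊓ M22s : Subgroup (Equiv.Perm GolayPt)) : Set (Equiv.Perm GolayPt)) := by
      intro x hx
      by_cases hxm : x ∈ M22s
      · left
        exact ⟨hx, hxm⟩
      · right
        have hxs := swap_of_not_mem (hN hx) (h x hx) hxm
        refine ⟨t⁻¹ * x, ⟨N.mul_mem (N.inv_mem ht) hx, ?_⟩, by group⟩
        show t⁻¹ * x ∈ M22s
        rw [mem_M22s]
        refine ⟨M24.mul_mem (M24.inv_mem (hN ht)) (hN hx), ?_, ?_⟩
        · rw [Equiv.Perm.mul_apply, hxs.1, Equiv.Perm.inv_eq_iff_eq, hts.1]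
        · rw [Equiv.Perm.mul_apply, hxs.2, Equiv.Perm.inv_eq_iff_eq, hts.2]
    have hc : (N : Set (Equiv.Perm GolayPt)).ncard ≤
        ((N ⊓ M22s : Subgroup (Equiv.Perm GolayPt)) : Set (Equiv.Perm GolayPt)).ncard +
          ((N ⊓ M22s : Subgroup (Equiv.Perm GolayPt)) : Set (Equiv.Perm GolayPt)).ncard := by
      refine le_trans (Set.ncard_le_ncard hsub (Set.toFinite _)) ?_
      refine le_trans (Set.ncard_union_le _ _) ?_
      exact Nat.add_le_add_left (Set.ncard_image_le (Set.toFinite _)) _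
    rw [← Nat.card_coe_set_eq, ← Nat.card_coe_set_eq] at hc
    have e1 : Nat.card ↥N = Nat.card ↥(N : Set (Equiv.Perm GolayPt)) := rfl
    have e2 : Nat.card ↥(N ⊓ M22s) = Nat.card ↥((N ⊓ M22s : Subgroup (Equiv.Perm GolayPt)) : Set (Equiv.Perm GolayPt)) := rfl
    omega

/-! ### Counting the Sylow 11-subgroups -/

theorem sylow11_count {K : Subgroup (Equiv.Perm GolayPt)} (hm : bP 1 0 ∈ K) (h121 : ¬ 121 ∣ Nat.card ↥K) :
    (Nat.card ↥K / Nat.card ↥(Subgroup.normalizer (Subgroup.zpowers (bP 1 0) : Set (Equiv.Perm GolayPt)) ⊓ K)) % 11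
      = 1 := by
  have hp : Fact (Nat.Prime 11) := ⟨by norm_num⟩
  have hPK : Subgroup.zpowers (bP 1 0) ≤ K := by
    rw [Subgroup.zpowers_le]
    exact hm
  have hcP : Nat.card ↥(Subgroup.zpowers (bP 1 0)) = 11 := by
    rw [Nat.card_zpowers, orderOf_bP_one]
  have hcPK : Nat.card ↥((Subgroup.zpowers (bP 1 0)).subgroupOf K) = 11 := by
    rw [← hcP]
    exact Nat.card_congr (Subgroup.subgroupOfEquivOfLe hPK).toEquiv
  have hPG : IsPGroup 11 ↥((Subgroup.zpowers (bP 1 0)).subgroupOf K) :=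
    IsPGroup.of_card (n := 1) (by rw [pow_one, hcPK])
  obtain ⟨Q, hQ⟩ := hPG.exists_le_sylow
  have hcQ : Nat.card ↥(Q : Subgroup ↥K) = 11 := by
    obtain ⟨n, hn⟩ := IsPGroup.iff_card.1 Q.2
    have h1 : Nat.card ↥(Q : Subgroup ↥K) ∣ Nat.card ↥K := Subgroup.card_subgroup_dvd_card _
    have h2 : 11 ∣ Nat.card ↥(Q : Subgroup ↥K) := by
      have := Subgroup.card_dvd_of_le hQ
      rwa [hcPK] at this
    rw [hn] at h1 h2 ⊢
    have hn1 : n ≠ 0 := by
      rintro rfl
      norm_num at h2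
    have hn2 : n < 2 := by
      by_contra hcon
      apply h121
      refine dvd_trans ?_ h1
      exact pow_dvd_pow 11 (not_lt.1 hcon)
    have : n = 1 := by omega
    rw [this, pow_one]
  have hQeq : (Q : Subgroup ↥K) = (Subgroup.zpowers (bP 1 0)).subgroupOf K :=
    (Subgroup.eq_of_le_of_card_ge hQ (by rw [hcQ, hcPK])).symm
  have h1 := Sylow.card_eq_index_normalizer Q
  have h2 := card_sylow_modEq_one 11 ↥K
  have h5 : Subgroup.normalizer (Q : Set ↥K) =
      (Subgroup.normalizer (Subgroup.zpowers (bP 1 0) : Set (Equiv.Perm GolayPt)) ⊓ K).subgroupOf K := by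
    rw [Subgroup.inf_subgroupOf_right, Subgroup.subgroupOf_normalizer_eq hPK, ← hQeq]
    rfl
  rw [h1, h5] at h2
  have h3 := Subgroup.index_mul_card
    ((Subgroup.normalizer (Subgroup.zpowers (bP 1 0) : Set (Equiv.Perm GolayPt)) ⊓ K).subgroupOf K)
  have h4 : Nat.card ↥((Subgroup.normalizer (Subgroup.zpowers (bP 1 0) : Set (Equiv.Perm GolayPt)) ⊓ K).subgroupOf K)
      = Nat.card ↥(Subgroup.normalizer (Subgroup.zpowers (bP 1 0) : Set (Equiv.Perm GolayPt)) ⊓ K) :=
    Nat.card_congr (Subgroup.subgroupOfEquivOfLe inf_le_right).toEquiv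
  rw [h4] at h3
  rw [← h3, Nat.mul_div_cancel _ Nat.card_pos]
  exact h2

/-! ### The subgroups of order 887040 containing `x ↦ 2 x` -/

theorem isFixPt_of_card {K : Subgroup (Equiv.Perm GolayPt)} (hK : K ≤ M24) (hc : Nat.card ↥K = 887040)
    (hm : bP 1 0 ∈ K) : ∀ x ∈ K, IsFixPt (x (gPt 0)) ∧ IsFixPt (x (gPt 23)) := by
  have hfin : Finite ↥K := Nat.finite_of_card_ne_zero (by rw [hc]; norm_num)
  -- the normalizer of the subgroup of order 11
  have hcount := sylow11_count hm (by rw [hc]; norm_num)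
  set N := Subgroup.normalizer (Subgroup.zpowers (bP 1 0) : Set (Equiv.Perm GolayPt)) ⊓ K with hN
  have hNK : N ≤ K := inf_le_right
  have hNfix : ∀ g ∈ N, IsFixPt (g (gPt 0)) ∧ IsFixPt (g (gPt 23)) :=
    fun g hg => isFixPt_of_mem_normalizer hg.1
  have hN2 := card_le_two_mul (le_trans hNK hK) hNfix
  have hN0B : N ⊓ M22s ≤ B55 := fun g hg => mem_B55_of_mem_normalizer hg.2 hg.1.1
  have hPN0 : Subgroup.zpowers (bP 1 0) ≤ N ⊓ M22s := by
    rw [Subgroup.zpowers_le]
    exact ⟨⟨Subgroup.le_normalizer (Subgroup.mem_zpowers _), hm⟩, bP_mem_M22s 1⟩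
  have hd1 : Nat.card ↥(N ⊓ M22s) ∣ 55 := by
    rw [← card_B55]
    exact Subgroup.card_dvd_of_le hN0B
  have hd2 : 11 ∣ Nat.card ↥(N ⊓ M22s) := by
    have := Subgroup.card_dvd_of_le hPN0
    rwa [Nat.card_zpowers, orderOf_bP_one] at this
  have hd3 : Nat.card ↥(N ⊓ M22s) ∣ Nat.card ↥N := Subgroup.card_dvd_of_le inf_le_left
  have hd4 : Nat.card ↥N ∣ Nat.card ↥K := Subgroup.card_dvd_of_le hNK
  have hNpos : 0 < Nat.card ↥N := Nat.card_pos
  have hc55 : Nat.card ↥(N ⊓ M22s) = 55 := by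
    have hle : Nat.card ↥(N ⊓ M22s) ≤ 55 := Nat.le_of_dvd (by norm_num) hd1
    obtain ⟨d, hd⟩ := hd2
    obtain ⟨e, he⟩ := hd3
    have hdle : d ≤ 5 := by omega
    have hepos : 0 < e := by
      rcases Nat.eq_zero_or_pos e with h0 | h0
      · rw [h0, mul_zero] at he; omega
      · exact h0
    have hele : e ≤ 2 := by
      by_contra hcon
      have : Nat.card ↥(N ⊓ M22s) * 3 ≤ Nat.card ↥(N ⊓ M22s) * e := Nat.mul_le_mul_left _ (by omega)
      have hpos : 0 < Nat.card ↥(N ⊓ M22s) := Nat.card_pos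
      omega
    rw [hc, he, hd] at hcount
    rw [hd] at hd1
    interval_cases d <;> interval_cases e <;> omega
  have hBK : B55 ≤ K := by
    have : N ⊓ M22s = B55 := Subgroup.eq_of_le_of_card_ge hN0B (by rw [card_B55, hc55])
    rw [← this]
    exact le_trans inf_le_left hNK
  -- the part of `K` in `M22`
  have hK0 : fixSub K [0, 23] ≤ M22s := by
    intro g hg
    rw [mem_fixSub] at hg
    rw [mem_M22s]
    exact ⟨hK hg.1, hg.2 0 (by simp), hg.2 23 (by simp)⟩
  have hBK0 : B55 ≤ fixSub K [0, 23] := by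
    intro g hg
    rw [mem_fixSub]
    have := mem_M22s.1 (B55_le_M22s hg)
    refine ⟨hBK hg, ?_⟩
    intro k hk
    simp only [List.mem_cons, List.not_mem_nil, or_false] at hk
    rcases hk with rfl | rfl
    · exact this.2.1
    · exact this.2.2
  have hle1 := card_fixSub_le K [] 23 Finset.univ (fun _ _ => Finset.mem_univ _)
  have hle2 := card_fixSub_le K [23] 0 Finset.univ (fun _ _ => Finset.mem_univ _)
  rw [fixSub_nil, Finset.card_univ, card_GolayPt] at hle1
  rw [Finset.card_univ, card_GolayPt] at hle2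
  by_cases hM : M22s ≤ fixSub K [0, 23]
  · -- `M22` has index 2 in `K`, so it is normal in `K`
    have hMK : M22s ≤ K := by
      intro g hg
      exact (mem_fixSub.1 (hM hg)).1
    have hcard : Nat.card ↥(M22s.subgroupOf K) = 443520 := by
      rw [← card_M22s]
      exact Nat.card_congr (Subgroup.subgroupOfEquivOfLe hMK).toEquiv
    have hidx : (M22s.subgroupOf K).index = 2 := by
      have := Subgroup.index_mul_card (M22s.subgroupOf K)
      rw [hcard, hc] at this
      omega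
    have hnorm : (M22s.subgroupOf K).Normal := Subgroup.normal_of_index_eq_two hidx
    intro x hx
    have hconj : x⁻¹ * bP 1 0 * x⁻¹⁻¹ ∈ M22s := by
      have := hnorm.conj_mem ⟨bP 1 0, hm⟩ (Subgroup.mem_subgroupOf.2 (bP_mem_M22s 1)) ⟨x⁻¹, K.inv_mem hx⟩
      exact Subgroup.mem_subgroupOf.1 this
    rw [inv_inv] at hconj
    have hcf := (mem_M22s.1 hconj).2
    have key : ∀ p, (x⁻¹ * bP 1 0 * x) p = p → bP 1 0 (x p) = x p := by
      intro p hp
      have : x⁻¹ (bP 1 0 (x p)) = p := hp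
      rw [Equiv.Perm.inv_eq_iff_eq] at this
      exact this
    exact ⟨eq_of_bP_fix (le_refl 1) (by norm_num) (key _ hcf.1), eq_of_bP_fix (le_refl 1) (by norm_num) (key _ hcf.2)⟩
  · have h660 := card_le_of_B55_le hK0 hBK0 hM
    omega

/-! ### Conjugating an element of prime order into a subgroup -/

theorem exists_conj_mem_of_prime {G : Type*} [Group G] [Finite G] {p : ℕ} [hp : Fact p.Prime]
    (hp2 : ¬ p ^ 2 ∣ Nat.card G) (H : Subgroup G) (hH : p ∣ Nat.card ↥H) (a : G) (ha : orderOf a = p) :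
    ∃ g : G, a ∈ H.map (MulAut.conj g).toMonoidHom := by
  obtain ⟨k, hk⟩ := exists_prime_orderOf_dvd_card' (G := ↥H) p hH
  have hk1 : orderOf (k : G) = p := by rw [Subgroup.orderOf_coe, hk]
  -- all Sylow subgroups containing an element of order `p` are generated by it
  have key : ∀ (x : G), orderOf x = p → ∀ S : Sylow p G, Subgroup.zpowers x ≤ S →
      (S : Subgroup G) = Subgroup.zpowers x := by
    intro x hx S hS
    have hcx : Nat.card ↥(Subgroup.zpowers x) = p := by rw [Nat.card_zpowers, hx]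
    obtain ⟨n, hn⟩ := IsPGroup.iff_card.1 S.2
    have h1 : Nat.card ↥(S : Subgroup G) ∣ Nat.card G := Subgroup.card_subgroup_dvd_card _
    have h2 : p ∣ Nat.card ↥(S : Subgroup G) := by
      have := Subgroup.card_dvd_of_le hS
      rwa [hcx] at this
    have hn1 : n ≠ 0 := by
      rintro rfl
      rw [hn, pow_zero, Nat.dvd_one] at h2
      exact hp.out.one_lt.ne' h2
    have hn2 : n < 2 := by
      by_contra hcon
      exact hp2 (dvd_trans (pow_dvd_pow p (not_lt.1 hcon)) (hn ▸ h1))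
    have hn3 : n = 1 := by omega
    exact (Subgroup.eq_of_le_of_card_ge hS (by rw [hn, hn3, pow_one, hcx])).symm
  have pg : ∀ (x : G), orderOf x = p → IsPGroup p ↥(Subgroup.zpowers x) := by
    intro x hx
    exact IsPGroup.of_card (n := 1) (by rw [pow_one, Nat.card_zpowers, hx])
  obtain ⟨Q, hQ⟩ := (pg _ hk1).exists_le_sylow
  obtain ⟨Q0, hQ0⟩ := (pg _ ha).exists_le_sylow
  have eQ := key _ hk1 Q hQ
  have eQ0 := key _ ha Q0 hQ0
  obtain ⟨g, hg⟩ := MulAction.exists_smul_eq G Q Q0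
  have hmem : a ∈ (Q0 : Subgroup G) := by
    rw [eQ0]
    exact Subgroup.mem_zpowers _
  rw [← hg, Sylow.coe_subgroup_smul, Subgroup.mem_smul_pointwise_iff_exists] at hmem
  obtain ⟨s, hs, hsm⟩ := hmem
  rw [eQ] at hs
  have hsH : s ∈ H := by
    have : Subgroup.zpowers (k : G) ≤ H := by
      rw [Subgroup.zpowers_le]
      exact k.2
    exact this hs
  exact ⟨g, s, hsH, hsm⟩

/-! ### The subgroups of index 276 -/

/-- The pair of the two fixed points. -/
def duad0 : Finset GolayPt := {gPt 0, gPt 23}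

theorem card_duad0 : duad0.card = 2 := by decide

theorem ncard_duads : {y : Finset GolayPt | y.card = 2}.ncard = 276 := by
  have : {y : Finset GolayPt | y.card = 2} = ((Finset.univ : Finset GolayPt).powersetCard 2 : Set (Finset GolayPt)) := by
    ext y
    simp [Finset.mem_powersetCard]
  rw [this, Set.ncard_coe_finset, Finset.card_powersetCard, Finset.card_univ, card_GolayPt]
  decide

theorem card_stabilizer_duad {s : Finset GolayPt} (hs : s.card = 2) :
    Nat.card (MulAction.stabilizer ↥M24 s) = 887040 := by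
  have h := card_stabilizer_M24_finset s {y : Finset GolayPt | y.card = 2} (by
    intro y
    constructor
    · intro hy
      exact exists_M24_smul_finset (hs.trans hy.symm) (by omega)
    · rintro ⟨g, hg, rfl⟩
      show (g • s).card = 2
      rw [Finset.card_smul_finset, hs])
  rw [card_M24, ncard_duads] at h
  omega

/-- The subgroups of index 276 are the stabilizers of the pairs of points. -/
theorem index_276 (H : Subgroup ↥M24) (h : H.index = 276) :
    ∃ s : Finset GolayPt, s.card = 2 ∧ H = MulAction.stabilizer ↥M24 s := by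
  have hp : Fact (Nat.Prime 11) := ⟨by norm_num⟩
  have hc : Nat.card ↥H = 887040 := card_of_index h (by norm_num) (by norm_num)
  have hmM : bP 1 0 ∈ M24 := (mem_M22s.1 (bP_mem_M22s 1)).1
  obtain ⟨g, hg⟩ := exists_conj_mem_of_prime (p := 11) (by rw [card_M24]; norm_num) H (by rw [hc]; norm_num)
    (⟨bP 1 0, hmM⟩ : ↥M24) (by rw [Subgroup.orderOf_mk, orderOf_bP_one])
  have hc1 : Nat.card ↥(H.map (MulAut.conj g).toMonoidHom) = 887040 := by
    rw [Subgroup.card_map_of_injective (MulAut.conj g).injective, hc]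
  have hK : (H.map (MulAut.conj g).toMonoidHom).map M24.subtype ≤ M24 := by
    rintro _ ⟨x, -, rfl⟩
    exact x.2
  have hcK : Nat.card ↥((H.map (MulAut.conj g).toMonoidHom).map M24.subtype) = 887040 := by
    rw [Subgroup.card_map_of_injective M24.subtype_injective, hc1]
  have hfix := isFixPt_of_card hK hcK ⟨⟨bP 1 0, hmM⟩, hg, rfl⟩
  have hle : H.map (MulAut.conj g).toMonoidHom ≤ MulAction.stabilizer ↥M24 duad0 := by
    intro x hx
    rw [MulAction.mem_stabilizer_iff]
    obtain ⟨f0, f23⟩ := hfix x.1 ⟨x, hx, rfl⟩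
    apply Finset.eq_of_subset_of_card_le
    · intro q hq
      rw [Finset.mem_smul_finset] at hq
      obtain ⟨q0, hq0, rfl⟩ := hq
      unfold duad0 at hq0 ⊢
      rw [Finset.mem_insert, Finset.mem_singleton] at hq0 ⊢
      rcases hq0 with rfl | rfl
      · exact f0
      · exact f23
    · rw [Finset.card_smul_finset]
  refine ⟨g⁻¹ • duad0, by rw [Finset.card_smul_finset, card_duad0], eq_stabilizer_of_map_conj ?_⟩
  exact Subgroup.eq_of_le_of_card_ge hle (by rw [hc1, card_stabilizer_duad card_duad0])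

end Cfsg.Agent.Lib.H28.M22B
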