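/-
helper28 library: kernel-checked certificates for the double cosets of `23:11` in `M23`.
-/
import Cfsg.Agent.Lib.H28.PSL23Data

set_option autoImplicit false

namespace Cfsg.Agent.Lib.H28.PSL23

open Cfsg Cfsg.Agent.Lib.H28

/-- The word of the `i`-th representative. -/
def rW (i : ℕ) : List ℕ := repWords.getD i []

/-- The table of the `i`-th representative. -/
def rT (i : ℕ) : List ℕ := repTabs.getD i []

/-- The `i`-th representative. -/
noncomputable def rP (i : ℕ) : Equiv.Perm GolayPt := wordPerm (rW i)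

/-- The element of order 5. -/
noncomputable def x0P : Equiv.Perm GolayPt := wordPerm wX0

/-! ### The tables -/

theorem repTabs_ok : ∀ i < 164, ∀ p < 24, evalPt (rW i) p = tabF (rT i) p := by decide +kernel

theorem x0T_ok : ∀ p < 24, evalPt wX0 p = tabF x0T p := by decide +kernel

theorem wM2_ok : ∀ p < 24, evalPt wM2 p = affF 1 0 p := by decide +kernel

theorem isF_rP {i : ℕ} (hi : i < 164) : IsF (rP i) (tabF (rT i)) :=
  (isF_wordPerm (rW i)).congr (repTabs_ok i hi)

theorem isF_x0P : IsF x0P (tabF x0T) := (isF_wordPerm wX0).congr x0T_ok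

theorem wordPerm_wM2 : wordPerm wM2 = bP 1 0 := (isF_wordPerm wM2).eq_of (isF_bP 1 0) wM2_ok

theorem rP_zero : rP 0 = 1 := rfl

theorem rP_one : rP 1 = x0P := rfl

/-! ### Multiplication of the double cosets by `x0` -/

/-- The check that `x0 * (x ↦ x + c) * r_i = b * r_j * b'` where `j`, `b`, `b'` are given by the certificate. -/
def closOK (i c : ℕ) : Bool :=
  (List.range 24).all fun p =>
    tabF x0T (affF 0 c (tabF (rT i) p)) ==
      affF (((closCert.getD i []).getD c 0) / 164 % 11) (((closCert.getD i []).getD c 0) / 1804 % 23)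
        (tabF (rT (((closCert.getD i []).getD c 0) % 164))
          (affF (((closCert.getD i []).getD c 0) / 41492 % 11) (((closCert.getD i []).getD c 0) / 456412) p))

theorem closOK_spec {i c : ℕ} (hi : i < 164) (h : closOK i c = true) :
    ∃ j < 164, ∃ b ∈ Bsub, ∃ b' ∈ Bsub, x0P * bP 0 c * rP i = b * rP j * b' := by
  refine ⟨((closCert.getD i []).getD c 0) % 164, Nat.mod_lt _ (by norm_num),
    bP (((closCert.getD i []).getD c 0) / 164 % 11) (((closCert.getD i []).getD c 0) / 1804 % 23), bP_mem_Bsub _ _,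
    bP (((closCert.getD i []).getD c 0) / 41492 % 11) (((closCert.getD i []).getD c 0) / 456412), bP_mem_Bsub _ _, ?_⟩
  apply ((isF_x0P.mul (isF_bP 0 c)).mul (isF_rP hi)).eq_of
    (((isF_bP _ _).mul (isF_rP (Nat.mod_lt _ (by norm_num)))).mul (isF_bP _ _))
  intro p hp
  unfold closOK at h
  rw [List.all_eq_true] at h
  have := h p (List.mem_range.2 hp)
  rw [beq_iff_eq] at this
  exact this

set_option maxRecDepth 100000 in
theorem clos_a : ∀ i, 0 ≤ i → i < 41 → ∀ c, c < 23 → closOK i c = true := by decide +kernel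

set_option maxRecDepth 100000 in
theorem clos_b : ∀ i, 41 ≤ i → i < 82 → ∀ c, c < 23 → closOK i c = true := by decide +kernel

set_option maxRecDepth 100000 in
theorem clos_c : ∀ i, 82 ≤ i → i < 123 → ∀ c, c < 23 → closOK i c = true := by decide +kernel

set_option maxRecDepth 100000 in
theorem clos_d : ∀ i, 123 ≤ i → i < 164 → ∀ c, c < 23 → closOK i c = true := by decide +kernel

theorem closOK_all {i c : ℕ} (hi : i < 164) (hc : c < 23) : closOK i c = true := by
  by_cases h1 : i < 41
  · exact clos_a i (Nat.zero_le _) h1 c hc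
  by_cases h2 : i < 82
  · exact clos_b i (not_lt.1 h1) h2 c hc
  by_cases h3 : i < 123
  · exact clos_c i (not_lt.1 h2) h3 c hc
  exact clos_d i (not_lt.1 h3) hi c hc

/-- Multiplication of a double coset by `x0`, the left factor being a translation. -/
theorem x0_mul_rep {i c : ℕ} (hi : i < 164) (hc : c < 23) :
    ∃ j < 164, ∃ b ∈ Bsub, ∃ b' ∈ Bsub, x0P * bP 0 c * rP i = b * rP j * b' :=
  closOK_spec hi (closOK_all hi hc)

/-! ### The generation tree -/

/-- The parent of a representative. -/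
def treeJ (i : ℕ) : ℕ := (treeCert.getD i 0) % 164

/-- The check that `r_i * b * r_i = b' * r_j * b''`, where `j` is the parent of `i`. -/
def treeOK (i : ℕ) : Bool :=
  (List.range 24).all fun p =>
    tabF (rT i) (affF ((treeCert.getD i 0) / 164 % 11) ((treeCert.getD i 0) / 1804 % 23) (tabF (rT i) p)) ==
      affF ((treeCert.getD i 0) / 41492 % 11) ((treeCert.getD i 0) / 456412 % 23)
        (tabF (rT (treeJ i)) (affF ((treeCert.getD i 0) / 10497476 % 11) ((treeCert.getD i 0) / 115472236) p))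

theorem treeJ_lt (i : ℕ) : treeJ i < 164 := Nat.mod_lt _ (by norm_num)

theorem treeOK_spec {i : ℕ} (hi : i < 164) (h : treeOK i = true) :
    ∃ b ∈ Bsub, ∃ b' ∈ Bsub, ∃ b'' ∈ Bsub, rP i * b * rP i = b' * rP (treeJ i) * b'' := by
  refine ⟨bP ((treeCert.getD i 0) / 164 % 11) ((treeCert.getD i 0) / 1804 % 23), bP_mem_Bsub _ _,
    bP ((treeCert.getD i 0) / 41492 % 11) ((treeCert.getD i 0) / 456412 % 23), bP_mem_Bsub _ _,
    bP ((treeCert.getD i 0) / 10497476 % 11) ((treeCert.getD i 0) / 115472236), bP_mem_Bsub _ _, ?_⟩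
  apply (((isF_rP hi).mul (isF_bP _ _)).mul (isF_rP hi)).eq_of
    (((isF_bP _ _).mul (isF_rP (treeJ_lt i))).mul (isF_bP _ _))
  intro p hp
  unfold treeOK at h
  rw [List.all_eq_true] at h
  have := h p (List.mem_range.2 hp)
  rw [beq_iff_eq] at this
  exact this

set_option maxRecDepth 100000 in
theorem tree_ok : ∀ i, 2 ≤ i → i < 164 → treeOK i = true ∧ 1 ≤ treeJ i := by decide +kernel

/-- The parent, the root being its own parent. -/
def parF (i : ℕ) : ℕ := if i ≤ 1 then 1 else treeJ i

set_option maxRecDepth 100000 in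
theorem par_ok : ∀ i, 1 ≤ i → i < 164 → parF (parF (parF i)) = 1 := by decide +kernel

theorem parF_bounds {i : ℕ} (hi : i < 164) : 1 ≤ parF i ∧ parF i < 164 := by
  unfold parF
  split_ifs with h
  · exact ⟨le_refl _, by norm_num⟩
  · exact ⟨(tree_ok i (by omega) hi).2, treeJ_lt i⟩

/-- A subgroup containing `23:11` and a representative contains its parent. -/
theorem rP_parF_mem {H : Subgroup (Equiv.Perm GolayPt)} (hB : Bsub ≤ H) {i : ℕ} (h1 : 1 ≤ i) (hi : i < 164)
    (hr : rP i ∈ H) : rP (parF i) ∈ H := by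
  unfold parF
  split_ifs with h
  · have : i = 1 := le_antisymm h h1
    rwa [this] at hr
  · obtain ⟨b, hb, b', hb', b'', hb'', he⟩ := treeOK_spec hi (tree_ok i (by omega) hi).1
    have : rP (treeJ i) = b'⁻¹ * (rP i * b * rP i) * b''⁻¹ := by
      rw [he]
      group
    rw [this]
    exact H.mul_mem (H.mul_mem (H.inv_mem (hB hb')) (H.mul_mem (H.mul_mem hr (hB hb)) hr)) (H.inv_mem (hB hb''))

/-- A subgroup containing `23:11` and a representative other than `1` contains `x0`. -/
theorem x0P_mem_of_rP_mem {H : Subgroup (Equiv.Perm GolayPt)} (hB : Bsub ≤ H) {i : ℕ} (h1 : 1 ≤ i) (hi : i < 164)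
    (hr : rP i ∈ H) : x0P ∈ H := by
  have b1 := parF_bounds hi
  have m1 := rP_parF_mem hB h1 hi hr
  have b2 := parF_bounds b1.2
  have m2 := rP_parF_mem hB b1.1 b1.2 m1
  have m3 := rP_parF_mem hB b2.1 b2.2 m2
  rwa [par_ok i h1 hi, rP_one] at m3

/-! ### The element `x0` -/

theorem x0_norm_ok : ∀ k < 11, ∀ p < 24, tabF x0T (affF k 0 p) = affF (3 * k % 11) 0 (tabF x0T p) := by
  decide +kernel

theorem x0P_mul_bP {k : ℕ} (hk : k < 11) : x0P * bP k 0 = bP (3 * k % 11) 0 * x0P :=
  (isF_x0P.mul (isF_bP k 0)).eq_of ((isF_bP _ 0).mul isF_x0P) (x0_norm_ok k hk)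

theorem x0_pow_ok : ∀ p < 24, tabF x0T (tabF x0T (tabF x0T (tabF x0T (tabF x0T p)))) = p := by decide +kernel

theorem x0P_inv : x0P⁻¹ = x0P * (x0P * (x0P * x0P)) := by
  rw [inv_eq_iff_mul_eq_one]
  exact ((isF_x0P.mul (isF_x0P.mul (isF_x0P.mul (isF_x0P.mul isF_x0P))))).eq_of isF_one x0_pow_ok

theorem wX0_fix : evalPt wX0 23 = 23 := by decide +kernel

theorem wM2_fix : evalPt wM2 23 = 23 := by decide +kernel

/-! ### The map `x ↦ -1/x` -/

theorem projInv_norm_ok : ∀ k < 11, ∀ p < 24,
    tabF tabT (affF k 0 p) = affF ((11 - k) % 11) 0 (tabF tabT p) := by decide +kernel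

theorem projInv_mul_bP {k : ℕ} (hk : k < 11) : projInv * bP k 0 = bP ((11 - k) % 11) 0 * projInv :=
  (isF_projInv.mul (isF_bP k 0)).eq_of ((isF_bP _ 0).mul isF_projInv) (projInv_norm_ok k hk)

theorem projInv_sq_ok : ∀ p < 24, tabF tabT (tabF tabT p) = p := by decide +kernel

theorem projInv_mul_self : projInv * projInv = 1 :=
  (isF_projInv.mul isF_projInv).eq_of isF_one projInv_sq_ok

theorem projInv_inv : projInv⁻¹ = projInv := by
  rw [inv_eq_iff_mul_eq_one]
  exact projInv_mul_self

/-- The check that `T * (x ↦ x + e) * T = b * T * (x ↦ x + d)`. -/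
def tOK (e : ℕ) : Bool :=
  (List.range 24).all fun p =>
    tabF tabT (affF 0 e (tabF tabT p)) ==
      affF ((tCert.getD e 0) % 11) ((tCert.getD e 0) / 11 % 23) (tabF tabT (affF 0 ((tCert.getD e 0) / 253) p))

theorem t_ok : ∀ e, 1 ≤ e → e < 23 → tOK e = true := by decide +kernel

theorem projInv_conj {e : ℕ} (h1 : 1 ≤ e) (he : e < 23) :
    ∃ b ∈ Bsub, ∃ d : ℕ, projInv * bP 0 e * projInv = b * projInv * bP 0 d := by
  refine ⟨bP ((tCert.getD e 0) % 11) ((tCert.getD e 0) / 11 % 23), bP_mem_Bsub _ _, (tCert.getD e 0) / 253, ?_⟩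
  apply ((isF_projInv.mul (isF_bP 0 e)).mul isF_projInv).eq_of (((isF_bP _ _).mul isF_projInv).mul (isF_bP 0 _))
  intro p hp
  have h := t_ok e h1 he
  unfold tOK at h
  rw [List.all_eq_true] at h
  have := h p (List.mem_range.2 hp)
  rw [beq_iff_eq] at this
  exact this

/-! ### Generation of `M23` -/

/-- The generators: `x ↦ x + 1`, `x ↦ 2 x` and `x0`. -/
def genWords : List (List ℕ) := [[0], wM2, wX0]

theorem genChain_ok : chainCheck [] (metaChain genWords genChain) = true := by decide +kernel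

theorem genChain_prod : ((metaChain genWords genChain).map (fun c => c.2.length)).prod = 10200960 := by
  decide +kernel

end Cfsg.Agent.Lib.H28.PSL23
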