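/-
helper28 library: `23:11` is maximal in `M23`, and `PSL(2,23)` is maximal of order 6072 in `M24`.
-/
import Cfsg.Agent.Lib.H28.PSL23Cert
import Cfsg.Agent.Lib.H28.M23M22Simple
import Cfsg.Agent.Lib.H28.M24Stab

set_option autoImplicit false

namespace Cfsg.Agent.Lib.H28.PSL23

open Cfsg Cfsg.Agent.Lib.H28

/-! ### The stabilizer of the extra point -/

/-- The stabilizer of the extra point in `M24`. -/
noncomputable def ptStab : Subgroup (Equiv.Perm GolayPt) := fixSub M24 [23]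

theorem mem_ptStab {g : Equiv.Perm GolayPt} : g ∈ ptStab ↔ g ∈ M24 ∧ g none = none := by
  unfold ptStab
  rw [mem_fixSub]
  constructor
  · rintro ⟨h1, h2⟩
    exact ⟨h1, h2 23 (List.mem_singleton_self _)⟩
  · rintro ⟨h1, h2⟩
    refine ⟨h1, fun k hk => ?_⟩
    rw [List.mem_singleton] at hk
    subst hk
    exact h2

theorem genWords_mem : ∀ w ∈ genWords, wordPerm w ∈ ptStab := by
  intro w hw
  have h : ∀ w ∈ genWords, evalPt w 23 = 23 := by decide +kernel
  rw [mem_ptStab]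
  exact ⟨wordPerm_mem_M24 w, wordPerm_fix_of_evalPt (by norm_num) (h w hw)⟩

theorem wordsClosure_genWords : wordsClosure genWords = ptStab := by
  apply wordsClosure_eq_of_chain ptStab genWords genChain genWords_mem genChain_ok
  rw [genChain_prod]
  exact card_fixSub_chain.1

theorem mem_genWords {w : List ℕ} (hw : w ∈ genWords) : w = [0] ∨ w = wM2 ∨ w = wX0 := by
  unfold genWords at hw
  simpa using hw

theorem bP_eq (k c : ℕ) : bP k c = permS ^ c * wordPerm wM2 ^ k := by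
  rw [wordPerm_wM2, permS_pow]
  unfold bP
  rw [pow_one, Nat.cast_zero, affP_pow, ← affP_split]

theorem bP_mem_M24 (k c : ℕ) : bP k c ∈ M24 := by
  rw [bP_eq]
  exact M24.mul_mem (M24.pow_mem permS_mem_M24 _) (M24.pow_mem (wordPerm_mem_M24 _) _)

theorem Bsub_le_M24 : Bsub ≤ M24 := by
  intro g hg
  obtain ⟨k, -, c, -, rfl⟩ := exists_bP_of_mem hg
  exact bP_mem_M24 k c

theorem Bsub_le_ptStab : Bsub ≤ ptStab := fun _ hg => mem_ptStab.2 ⟨Bsub_le_M24 hg, Bsub_fix_none hg⟩

theorem bP_zero_mul (a b : ℕ) : bP 0 a * bP 0 b = bP 0 (b + a) := by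
  rw [bP_mul, pow_zero, one_mul]

/-! ### The double cosets cover `M23` -/

/-- The union of the double cosets of the representatives. -/
def Cover : Set (Equiv.Perm GolayPt) := {g | ∃ i < 164, ∃ b ∈ Bsub, ∃ b' ∈ Bsub, g = b * rP i * b'}

theorem one_mem_Cover : (1 : Equiv.Perm GolayPt) ∈ Cover :=
  ⟨0, by norm_num, 1, Bsub.one_mem, 1, Bsub.one_mem, by rw [rP_zero, mul_one, mul_one]⟩

theorem Bsub_mul_mem_Cover {b g : Equiv.Perm GolayPt} (hb : b ∈ Bsub) (hg : g ∈ Cover) : b * g ∈ Cover := by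
  obtain ⟨i, hi, b1, hb1, b2, hb2, rfl⟩ := hg
  exact ⟨i, hi, b * b1, Bsub.mul_mem hb hb1, b2, hb2, by group⟩

theorem x0P_mul_mem_Cover {g : Equiv.Perm GolayPt} (hg : g ∈ Cover) : x0P * g ∈ Cover := by
  obtain ⟨i, hi, b1, hb1, b2, hb2, rfl⟩ := hg
  obtain ⟨k, hk, e, he, rfl⟩ := exists_bP_split_of_mem hb1
  obtain ⟨j, hj, c1, hc1, c2, hc2, h⟩ := x0_mul_rep hi he
  refine ⟨j, hj, bP (3 * k % 11) 0 * c1, Bsub.mul_mem (bP_mem_Bsub _ _) hc1, c2 * b2, Bsub.mul_mem hc2 hb2, ?_⟩
  calc x0P * (bP k 0 * bP 0 e * rP i * b2) = (x0P * bP k 0) * bP 0 e * rP i * b2 := by group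
    _ = bP (3 * k % 11) 0 * (x0P * bP 0 e * rP i) * b2 := by rw [x0P_mul_bP hk]; group
    _ = bP (3 * k % 11) 0 * c1 * rP j * (c2 * b2) := by rw [h]; group

theorem mem_Cover_of_mem_ptStab {g : Equiv.Perm GolayPt} (hg : g ∈ ptStab) : g ∈ Cover := by
  rw [← wordsClosure_genWords] at hg
  unfold wordsClosure at hg
  induction hg using Subgroup.closure_induction_left with
  | one => exact one_mem_Cover
  | mul_left x hx y _ ih =>
    obtain ⟨w, hw, rfl⟩ := hx
    rcases mem_genWords hw with rfl | rfl | rfl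
    · rw [wordPerm_singleton]
      exact Bsub_mul_mem_Cover permS_mem_Bsub ih
    · rw [wordPerm_wM2]
      exact Bsub_mul_mem_Cover (bP_mem_Bsub _ _) ih
    · exact x0P_mul_mem_Cover ih
  | inv_mul_cancel x hx y _ ih =>
    obtain ⟨w, hw, rfl⟩ := hx
    rcases mem_genWords hw with rfl | rfl | rfl
    · rw [wordPerm_singleton]
      exact Bsub_mul_mem_Cover (Bsub.inv_mem permS_mem_Bsub) ih
    · rw [wordPerm_wM2]
      exact Bsub_mul_mem_Cover (Bsub.inv_mem (bP_mem_Bsub _ _)) ih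
    · show x0P⁻¹ * y ∈ Cover
      rw [x0P_inv, mul_assoc, mul_assoc, mul_assoc]
      exact x0P_mul_mem_Cover (x0P_mul_mem_Cover (x0P_mul_mem_Cover (x0P_mul_mem_Cover ih)))

/-! ### Maximality of `23:11` in `M23` -/

theorem ptStab_le_of_x0P_mem {H : Subgroup (Equiv.Perm GolayPt)} (hB : Bsub ≤ H) (hx : x0P ∈ H) : ptStab ≤ H := by
  rw [← wordsClosure_genWords]
  apply wordsClosure_le
  intro w hw
  rcases mem_genWords hw with rfl | rfl | rfl
  · rw [wordPerm_singleton]
    exact hB permS_mem_Bsub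
  · rw [wordPerm_wM2]
    exact hB (bP_mem_Bsub _ _)
  · exact hx

theorem Bsub_max {H : Subgroup (Equiv.Perm GolayPt)} (hB : Bsub ≤ H) (hH : H ≤ ptStab) :
    H = Bsub ∨ H = ptStab := by
  by_cases h : H ≤ Bsub
  · exact Or.inl (le_antisymm h hB)
  · right
    apply le_antisymm hH
    rw [SetLike.not_le_iff_exists] at h
    obtain ⟨g, hgH, hgB⟩ := h
    obtain ⟨i, hi, b, hb, b', hb', rfl⟩ := mem_Cover_of_mem_ptStab (hH hgH)
    have hr : rP i ∈ H := by
      have : rP i = b⁻¹ * (b * rP i * b') * b'⁻¹ := by group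
      rw [this]
      exact H.mul_mem (H.mul_mem (H.inv_mem (hB hb)) hgH) (H.inv_mem (hB hb'))
    have h1 : 1 ≤ i := by
      by_contra hcon
      have : i = 0 := by omega
      subst this
      apply hgB
      rw [rP_zero, mul_one]
      exact Bsub.mul_mem hb hb'
    exact ptStab_le_of_x0P_mem hB (x0P_mem_of_rP_mem hB h1 hi hr)

theorem card_ptStab : Nat.card ↥ptStab = 10200960 := by
  apply le_antisymm card_fixSub_chain.1
  have := card_ge_of_chainCheck (wordsClosure genWords) (metaChain genWords genChain) [] ?_ genChain_ok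
  · rw [fixSub_nil, genChain_prod, wordsClosure_genWords] at this
    exact this
  · intro c hc w hw
    unfold metaChain at hc
    rw [List.mem_map] at hc
    obtain ⟨c0, _, rfl⟩ := hc
    rw [List.mem_map] at hw
    obtain ⟨m, _, rfl⟩ := hw
    exact wordPerm_metaFlat_mem genWords m

/-! ### The group `PSL(2,23)` -/

/-- The group generated by `x ↦ x + 1`, `x ↦ -1/x` and the `x ↦ u x` with `u` a square. -/
noncomputable def Lgrp : Subgroup (Equiv.Perm GolayPt) :=
  Subgroup.closure ({Equiv.optionCongr (Equiv.addRight (1 : ZMod 23)), Cfsg.projInv} ∪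
    {g : Equiv.Perm GolayPt | ∃ u : (ZMod 23)ˣ, IsSquare u ∧ g = Equiv.optionCongr (Units.mulLeft u)})

/-- The elements of `PSL(2,23)`. -/
def Lset : Set (Equiv.Perm GolayPt) := {g | g ∈ Bsub ∨ ∃ b ∈ Bsub, ∃ d : ℕ, g = b * projInv * bP 0 d}

theorem Bsub_mul_mem_Lset {b g : Equiv.Perm GolayPt} (hb : b ∈ Bsub) (hg : g ∈ Lset) : b * g ∈ Lset := by
  rcases hg with hg | ⟨b1, hb1, d, rfl⟩
  · exact Or.inl (Bsub.mul_mem hb hg)
  · exact Or.inr ⟨b * b1, Bsub.mul_mem hb hb1, d, by group⟩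

theorem projInv_mul_mem_Lset {g : Equiv.Perm GolayPt} (hg : g ∈ Lset) : projInv * g ∈ Lset := by
  rcases hg with hg | ⟨b1, hb1, d, rfl⟩
  · obtain ⟨k, hk, e, he, rfl⟩ := exists_bP_split_of_mem hg
    refine Or.inr ⟨bP ((11 - k) % 11) 0, bP_mem_Bsub _ _, e, ?_⟩
    rw [← mul_assoc, projInv_mul_bP hk]
  · obtain ⟨k, hk, e, he, rfl⟩ := exists_bP_split_of_mem hb1
    have h1 : projInv * (bP k 0 * bP 0 e * projInv * bP 0 d) =
        bP ((11 - k) % 11) 0 * (projInv * bP 0 e * projInv) * bP 0 d := by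
      calc projInv * (bP k 0 * bP 0 e * projInv * bP 0 d)
          = (projInv * bP k 0) * bP 0 e * projInv * bP 0 d := by group
        _ = bP ((11 - k) % 11) 0 * (projInv * bP 0 e * projInv) * bP 0 d := by
          rw [projInv_mul_bP hk]; group
    rw [h1]
    rcases Nat.eq_zero_or_pos e with rfl | hpos
    · left
      rw [bP_zero_zero, mul_one, projInv_mul_self, mul_one]
      exact Bsub.mul_mem (bP_mem_Bsub _ _) (bP_mem_Bsub _ _)
    · obtain ⟨b, hb, d', h2⟩ := projInv_conj hpos he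
      right
      refine ⟨bP ((11 - k) % 11) 0 * b, Bsub.mul_mem (bP_mem_Bsub _ _) hb, d + d', ?_⟩
      rw [h2, ← bP_zero_mul]
      group

theorem Bsub_le_Lgrp : Bsub ≤ Lgrp := by
  rw [← closure_eq_Bsub]
  unfold Lgrp
  apply Subgroup.closure_mono
  rintro g (hg | hg)
  · left
    rw [Set.mem_singleton_iff] at hg
    rw [hg]
    exact Set.mem_insert _ _
  · right
    exact hg

theorem projInv_mem_Lgrp : projInv ∈ Lgrp := by
  unfold Lgrp
  apply Subgroup.subset_closure
  left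
  right
  rfl

theorem mem_Lset_of_mem_Lgrp {g : Equiv.Perm GolayPt} (hg : g ∈ Lgrp) : g ∈ Lset := by
  unfold Lgrp at hg
  induction hg using Subgroup.closure_induction_left with
  | one => exact Or.inl Bsub.one_mem
  | mul_left x hx y _ ih =>
    rcases hx with (hx | hx) | ⟨u, hu, rfl⟩
    · rw [hx]
      exact Bsub_mul_mem_Lset permS_mem_Bsub ih
    · rw [Set.mem_singleton_iff] at hx
      rw [hx]
      exact projInv_mul_mem_Lset ih
    · rw [mulLeft_eq_affP]
      exact Bsub_mul_mem_Lset (affP_mem_Bsub hu 0) ih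
  | inv_mul_cancel x hx y _ ih =>
    rcases hx with (hx | hx) | ⟨u, hu, rfl⟩
    · rw [hx]
      exact Bsub_mul_mem_Lset (Bsub.inv_mem permS_mem_Bsub) ih
    · rw [Set.mem_singleton_iff] at hx
      rw [hx, projInv_inv]
      exact projInv_mul_mem_Lset ih
    · rw [mulLeft_eq_affP]
      exact Bsub_mul_mem_Lset (Bsub.inv_mem (affP_mem_Bsub hu 0)) ih

/-- The stabilizer of the extra point in `PSL(2,23)` is `23:11`. -/
theorem mem_Bsub_of_mem_Lgrp {g : Equiv.Perm GolayPt} (hg : g ∈ Lgrp) (hfix : g none = none) : g ∈ Bsub := by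
  rcases mem_Lset_of_mem_Lgrp hg with h | ⟨b, hb, d, rfl⟩
  · exact h
  · exfalso
    obtain ⟨u, c, -, rfl⟩ := hb
    rw [Equiv.Perm.mul_apply, Equiv.Perm.mul_apply] at hfix
    have h1 : bP 0 d none = none := rfl
    have h2 : projInv none = some 0 := rfl
    rw [h1, h2, affP_some] at hfix
    exact Option.some_ne_none _ hfix

theorem Lgrp_trans (y : GolayPt) : ∃ g ∈ Lgrp, g none = y := by
  rcases y with _ | c
  · exact ⟨1, Lgrp.one_mem, rfl⟩
  · refine ⟨affP 1 c * projInv, Lgrp.mul_mem (Bsub_le_Lgrp (affP_mem_Bsub IsSquare.one c)) projInv_mem_Lgrp, ?_⟩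
    rw [Equiv.Perm.mul_apply]
    have h2 : projInv none = some 0 := rfl
    rw [h2, affP_some, mul_zero, zero_add]

theorem Lgrp_le_M24 : Lgrp ≤ M24 := by
  unfold Lgrp
  rw [Subgroup.closure_le]
  rintro g ((hg | hg) | ⟨u, hu, rfl⟩)
  · rw [hg]
    exact permS_mem_M24
  · rw [Set.mem_singleton_iff] at hg
    rw [hg]
    exact projInv_mem_M24
  · rw [mulLeft_eq_affP]
    exact Bsub_le_M24 (affP_mem_Bsub hu 0)

theorem card_Lgrp : Nat.card ↥Lgrp = 6072 := by
  have h1 := Subgroup.card_eq_card_quotient_mul_card_subgroup (MulAction.stabilizer ↥Lgrp (none : GolayPt))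
  have h2 : Nat.card (↥Lgrp ⧸ MulAction.stabilizer ↥Lgrp (none : GolayPt)) =
      Nat.card (MulAction.orbit ↥Lgrp (none : GolayPt)) :=
    Nat.card_congr (MulAction.orbitEquivQuotientStabilizer ↥Lgrp (none : GolayPt)).symm
  have h3 : MulAction.orbit ↥Lgrp (none : GolayPt) = Set.univ := by
    ext y
    simp only [Set.mem_univ, iff_true]
    obtain ⟨g, hg, h⟩ := Lgrp_trans y
    exact ⟨⟨g, hg⟩, h⟩
  have h4 : Nat.card (MulAction.orbit ↥Lgrp (none : GolayPt)) = 24 := by
    rw [h3, Nat.card_coe_set_eq, Set.ncard_univ, Nat.card_eq_fintype_card, card_GolayPt]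
  have h5 : Nat.card (MulAction.stabilizer ↥Lgrp (none : GolayPt)) = 253 := by
    have : MulAction.stabilizer ↥Lgrp (none : GolayPt) = Bsub.subgroupOf Lgrp := by
      ext ⟨g, hg⟩
      rw [MulAction.mem_stabilizer_iff, Subgroup.mem_subgroupOf]
      constructor
      · intro h
        exact mem_Bsub_of_mem_Lgrp hg h
      · intro h
        exact Bsub_fix_none h
    rw [this, ← card_Bsub]
    exact Nat.card_congr (Subgroup.subgroupOfEquivOfLe Bsub_le_Lgrp).toEquiv
  rw [h2, h4, h5] at h1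
  omega

/-- Maximality of `PSL(2,23)` in `M24`. -/
theorem Lgrp_max {H : Subgroup (Equiv.Perm GolayPt)} (hL : Lgrp ≤ H) (hH : H ≤ M24) : H = Lgrp ∨ H = M24 := by
  have key : ∀ g : Equiv.Perm GolayPt, ∃ l ∈ Lgrp, (l⁻¹ * g) none = none := by
    intro g
    obtain ⟨l, hl, hlg⟩ := Lgrp_trans (g none)
    refine ⟨l, hl, ?_⟩
    rw [Equiv.Perm.mul_apply, Equiv.Perm.inv_eq_iff_eq]
    exact hlg.symm
  rcases Bsub_max (H := H ⊓ ptStab) (le_inf (Bsub_le_Lgrp.trans hL) Bsub_le_ptStab) inf_le_right with h1 | h1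
  · left
    apply le_antisymm _ hL
    intro g hg
    obtain ⟨l, hl, hfix⟩ := key g
    have h2 : l⁻¹ * g ∈ H ⊓ ptStab := by
      have h3 : l⁻¹ * g ∈ H := H.mul_mem (H.inv_mem (hL hl)) hg
      exact ⟨h3, mem_ptStab.2 ⟨hH h3, hfix⟩⟩
    rw [h1] at h2
    have : g = l * (l⁻¹ * g) := by group
    rw [this]
    exact Lgrp.mul_mem hl (Bsub_le_Lgrp h2)
  · right
    apply le_antisymm hH
    intro g hg
    obtain ⟨l, hl, hfix⟩ := key g
    have h2 : l⁻¹ * g ∈ ptStab := mem_ptStab.2 ⟨M24.mul_mem (M24.inv_mem (hH (hL hl))) hg, hfix⟩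
    rw [← h1] at h2
    have : g = l * (l⁻¹ * g) := by group
    rw [this]
    exact H.mul_mem (hL hl) h2.1

/-! ### Coatoms of relative subgroup lattices -/

theorem isCoatom_subgroupOf {G : Type*} [Group G] {H K : Subgroup G} (hHK : H ≤ K) (hne : H ≠ K)
    (hmax : ∀ J : Subgroup G, H ≤ J → J ≤ K → J = H ∨ J = K) : IsCoatom (H.subgroupOf K) := by
  constructor
  · rw [Ne, Subgroup.subgroupOf_eq_top]
    intro h
    exact hne (le_antisymm hHK h)
  · intro b hb
    have h1 : H ≤ b.map K.subtype := by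
      intro g hg
      exact ⟨⟨g, hHK hg⟩, hb.le (Subgroup.mem_subgroupOf.2 hg), rfl⟩
    have h2 : b.map K.subtype ≤ K := by
      rintro _ ⟨x, -, rfl⟩
      exact x.2
    rcases hmax _ h1 h2 with h3 | h3
    · exfalso
      apply hb.not_ge
      intro x hx
      rw [Subgroup.mem_subgroupOf, ← h3]
      exact ⟨x, hx, rfl⟩
    · rw [eq_top_iff]
      intro x _
      have hx : (x : G) ∈ b.map K.subtype := by
        rw [h3]
        exact x.2
      obtain ⟨y, hy, hyx⟩ := hx
      have : y = x := Subtype.ext hyx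
      rwa [← this]

theorem isCoatom_Lgrp : IsCoatom (Lgrp.subgroupOf M24) := by
  apply isCoatom_subgroupOf Lgrp_le_M24
  · intro h
    have := card_Lgrp
    rw [h, card_M24] at this
    omega
  · intro J h1 h2
    exact Lgrp_max h1 h2

theorem isCoatom_Bsub :
    IsCoatom ((Bsub.subgroupOf M24).subgroupOf (MulAction.stabilizer M24 (none : GolayPt))) := by
  have hmem : ∀ x : ↥M24, x ∈ MulAction.stabilizer M24 (none : GolayPt) ↔ x.1 none = none := by
    intro x
    rw [MulAction.mem_stabilizer_iff]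
    rfl
  have hcard : Nat.card ↥(Bsub.subgroupOf M24) = 253 := by
    rw [← card_Bsub]
    exact Nat.card_congr (Subgroup.subgroupOfEquivOfLe Bsub_le_M24).toEquiv
  apply isCoatom_subgroupOf
  · intro x hx
    rw [Subgroup.mem_subgroupOf] at hx
    rw [hmem]
    exact Bsub_fix_none hx
  · intro h
    rw [h, card_stabilizer_M24] at hcard
    omega
  · intro J h1 h2
    have hJ : ∀ x : ↥M24, x.1 ∈ J.map M24.subtype ↔ x ∈ J := fun x =>
      Subgroup.mem_map_iff_mem M24.subtype_injective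
    have h3 : Bsub ≤ J.map M24.subtype := by
      intro g hg
      exact ⟨⟨g, Bsub_le_M24 hg⟩, h1 (Subgroup.mem_subgroupOf.2 hg), rfl⟩
    have h4 : J.map M24.subtype ≤ ptStab := by
      rintro _ ⟨x, hx, rfl⟩
      exact mem_ptStab.2 ⟨x.2, (hmem x).1 (h2 hx)⟩
    rcases Bsub_max h3 h4 with h5 | h5
    · left
      ext x
      rw [← hJ, h5, Subgroup.mem_subgroupOf]
    · right
      ext x
      rw [← hJ, h5, mem_ptStab, hmem]
      exact ⟨fun h => h.2, fun h => ⟨x.2, h⟩⟩

end Cfsg.Agent.Lib.H28.PSL23
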