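/-
helper28 library: kernel-checked certificates for the double cosets of the Sylow 2-subgroup `S7` of the stabilizer `M23`
of the last point in `M24`.
-/
import Cfsg.Agent.Lib.H28.SylDC23Data
import Cfsg.Agent.Lib.H28.SylDCCert

set_option autoImplicit false

namespace Cfsg.Agent.Lib.H28.SylDC23

open Cfsg Cfsg.Agent.Lib.H28 Cfsg.Agent.Lib.H28.UT5 Cfsg.Agent.Lib.H14.M24SylGen Cfsg.Agent.Lib.H14.SylCert
open Cfsg.Agent.Lib.H28.SylDC (sE sF isF_sE sE_mem sE_zero exists_sE forall_of_chunks3)

/-! ### The representatives and the elements of `S7` -/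

/-- The word of the `i`-th representative. -/
def rW (i : ℕ) : List ℕ := repWords.getD i []

/-- The `i`-th representative. -/
noncomputable def rP (i : ℕ) : Equiv.Perm GolayPt := wordPerm (rW i)

/-- The index function of the `i`-th representative. -/
def rF (i p : ℕ) : ℕ := (repChunks.getD (i / 32) 0 >>> (120 * (i % 32) + 5 * p)) % 32

set_option maxRecDepth 100000 in
theorem rep_ok_a : ∀ i, 0 ≤ i → i < 280 → ∀ p < 24, evalPt (rW i) p = rF i p := by decide +kernel

set_option maxRecDepth 100000 in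
theorem rep_ok_b : ∀ i, 280 ≤ i → i < 560 → ∀ p < 24, evalPt (rW i) p = rF i p := by decide +kernel

set_option maxRecDepth 100000 in
theorem rep_ok_c : ∀ i, 560 ≤ i → i < 835 → ∀ p < 24, evalPt (rW i) p = rF i p := by decide +kernel

theorem isF_rP {i : ℕ} (hi : i < 835) : IsF (rP i) (rF i) :=
  (isF_wordPerm (rW i)).congr (forall_of_chunks3 rep_ok_a rep_ok_b rep_ok_c i hi)

/-- The Sylow 2-subgroup of `M23`: the stabilizer of the last point in `S0`. -/
noncomputable def S7 : Subgroup (Equiv.Perm GolayPt) := S0 ⊓ MulAction.stabilizer (Equiv.Perm GolayPt) (gPt 23)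

/-- The code of the `p`-th element of `S7`. -/
def s7C (p : ℕ) : ℕ := (s7Big >>> (10 * p)) % 1024

/-- The code `c` is the code of an element of `S7`. -/
def in7 (c : ℕ) : Bool := decide (c < 1024) && sF c 23 == 23

theorem sE_mem_S7 {c : ℕ} (h : in7 c = true) : sE c ∈ S7 := by
  unfold in7 at h
  rw [Bool.and_eq_true, decide_eq_true_eq, beq_iff_eq] at h
  refine Subgroup.mem_inf.2 ⟨sE_mem c, ?_⟩
  rw [MulAction.mem_stabilizer_iff, Equiv.Perm.smul_def]
  apply gIdx_injective
  rw [isF_sE h.1 (gPt 23), gIdx_gPt (by norm_num), h.2]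

theorem s7C_in7 : ∀ p < 128, in7 (s7C p) = true := by decide +kernel

set_option maxRecDepth 100000 in
theorem s7C_surj : ∀ c < 1024, sF c 23 = 23 → ∃ p < 128, s7C p = c := by decide +kernel

theorem exists_s7 {g : Equiv.Perm GolayPt} (hg : g ∈ S7) : ∃ p < 128, g = sE (s7C p) := by
  rw [S7, Subgroup.mem_inf] at hg
  obtain ⟨c, hc, rfl⟩ := exists_sE hg.1
  have h2 := hg.2
  rw [MulAction.mem_stabilizer_iff, Equiv.Perm.smul_def] at h2
  have h3 := isF_sE hc (gPt 23)
  rw [h2, gIdx_gPt (by norm_num)] at h3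
  obtain ⟨p, hp, e⟩ := s7C_surj c hc h3.symm
  exact ⟨p, hp, by rw [e]⟩

/-! ### Moving an element of `S7` across a generating representative -/

/-- The three generating representatives. -/
def gK (gi : ℕ) : ℕ := if gi = 0 then 1 else if gi = 1 then 3 else 13

/-- The number of cosets in their double cosets. -/
def mK (gi : ℕ) : ℕ := if gi = 2 then 4 else 2

/-- The transversals. -/
def tau (gi j : ℕ) : ℕ := (tauTab.getD gi []).getD j 0

def nqV (gi p : ℕ) : ℕ := (nqBig >>> (12 * (128 * gi + p))) % 4096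

def nqC (gi p : ℕ) : ℕ := nqV gi p % 1024

def nqJ (gi p : ℕ) : ℕ := nqV gi p / 1024

/-- The check that `r_k * s = s' * (r_k * tau_j)`. -/
def nqOK (gi p : ℕ) : Bool :=
  in7 (nqC gi p) && decide (nqJ gi p < mK gi) && (List.range 24).all fun x =>
    rF (gK gi) (sF (s7C p) x) == sF (nqC gi p) (rF (gK gi) (sF (tau gi (nqJ gi p)) x))

theorem tau_in7 : ∀ gi < 3, ∀ j < 4, in7 (tau gi j) = true := by decide +kernel

theorem gK_lt (gi : ℕ) : gK gi < 835 := by
  unfold gK
  split_ifs <;> norm_num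

set_option maxRecDepth 100000 in
theorem nq_ok : ∀ gi < 3, ∀ p < 128, nqOK gi p = true := by decide +kernel

theorem in7_lt {c : ℕ} (h : in7 c = true) : c < 1024 := by
  unfold in7 at h
  rw [Bool.and_eq_true, decide_eq_true_eq] at h
  exact h.1

theorem nq_spec {gi p : ℕ} (hgi : gi < 3) (hp : p < 128) :
    in7 (nqC gi p) = true ∧ nqJ gi p < mK gi ∧
      rP (gK gi) * sE (s7C p) = sE (nqC gi p) * (rP (gK gi) * sE (tau gi (nqJ gi p))) := by
  have h := nq_ok gi hgi p hp
  unfold nqOK at h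
  rw [Bool.and_eq_true, Bool.and_eq_true, decide_eq_true_eq] at h
  obtain ⟨⟨h1, h2⟩, h3⟩ := h
  refine ⟨h1, h2, ?_⟩
  have hj : nqJ gi p < 4 := by
    have : mK gi ≤ 4 := by
      unfold mK
      split_ifs <;> norm_num
    omega
  apply ((isF_rP (gK_lt gi)).mul (isF_sE (in7_lt (s7C_in7 p hp)))).eq_of
    ((isF_sE (in7_lt h1)).mul ((isF_rP (gK_lt gi)).mul (isF_sE (in7_lt (tau_in7 gi hgi _ hj)))))
  intro x hx
  rw [List.all_eq_true] at h3
  have := h3 x (List.mem_range.2 hx)
  rw [beq_iff_eq] at this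
  exact this

/-! ### Multiplication of the double cosets by the generating representatives -/

def clV (gi j i : ℕ) : ℕ := ((clTab.getD (4 * gi + j) []).getD (i / 32) 0 >>> (32 * (i % 32))) % 4294967296

def clI (gi j i : ℕ) : ℕ := clV gi j i % 1024

def clD1 (gi j i : ℕ) : ℕ := clV gi j i / 1024 % 1024

def clD2 (gi j i : ℕ) : ℕ := clV gi j i / 1048576 % 1024

/-- The check that `r_k * tau_j * r_i = s' * r_i' * s''`. -/
def clOK (gi j i : ℕ) : Bool :=
  decide (clI gi j i < 835) && in7 (clD1 gi j i) && in7 (clD2 gi j i) && (List.range 24).all fun x =>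
    rF (gK gi) (sF (tau gi j) (rF i x)) == sF (clD1 gi j i) (rF (clI gi j i) (sF (clD2 gi j i) x))

set_option maxRecDepth 100000 in
theorem cl_ok_00 : ∀ i < 835, clOK 0 0 i = true := by decide +kernel

set_option maxRecDepth 100000 in
theorem cl_ok_01 : ∀ i < 835, clOK 0 1 i = true := by decide +kernel

set_option maxRecDepth 100000 in
theorem cl_ok_10 : ∀ i < 835, clOK 1 0 i = true := by decide +kernel

set_option maxRecDepth 100000 in
theorem cl_ok_11 : ∀ i < 835, clOK 1 1 i = true := by decide +kernel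

set_option maxRecDepth 100000 in
theorem cl_ok_20 : ∀ i < 835, clOK 2 0 i = true := by decide +kernel

set_option maxRecDepth 100000 in
theorem cl_ok_21 : ∀ i < 835, clOK 2 1 i = true := by decide +kernel

set_option maxRecDepth 100000 in
theorem cl_ok_22 : ∀ i < 835, clOK 2 2 i = true := by decide +kernel

set_option maxRecDepth 100000 in
theorem cl_ok_23 : ∀ i < 835, clOK 2 3 i = true := by decide +kernel

theorem cl_ok {gi j i : ℕ} (hgi : gi < 3) (hj : j < mK gi) (hi : i < 835) : clOK gi j i = true := by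
  interval_cases gi
  · have : j < 2 := hj
    interval_cases j
    · exact cl_ok_00 i hi
    · exact cl_ok_01 i hi
  · have : j < 2 := hj
    interval_cases j
    · exact cl_ok_10 i hi
    · exact cl_ok_11 i hi
  · have : j < 4 := hj
    interval_cases j
    · exact cl_ok_20 i hi
    · exact cl_ok_21 i hi
    · exact cl_ok_22 i hi
    · exact cl_ok_23 i hi

theorem cl_spec {gi j i : ℕ} (hgi : gi < 3) (hj : j < mK gi) (hi : i < 835) :
    ∃ i' < 835, ∃ d1 d2 : ℕ, in7 d1 = true ∧ in7 d2 = true ∧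
      rP (gK gi) * sE (tau gi j) * rP i = sE d1 * rP i' * sE d2 := by
  have h := cl_ok hgi hj hi
  unfold clOK at h
  rw [Bool.and_eq_true, Bool.and_eq_true, Bool.and_eq_true, decide_eq_true_eq] at h
  obtain ⟨⟨⟨h0, h1⟩, h2⟩, h3⟩ := h
  refine ⟨clI gi j i, h0, clD1 gi j i, clD2 gi j i, h1, h2, ?_⟩
  have hj4 : j < 4 := by
    have : mK gi ≤ 4 := by
      unfold mK
      split_ifs <;> norm_num
    omega
  apply (((isF_rP (gK_lt gi)).mul (isF_sE (in7_lt (tau_in7 gi hgi j hj4)))).mul (isF_rP hi)).eq_of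
    (((isF_sE (in7_lt h1)).mul (isF_rP h0)).mul (isF_sE (in7_lt h2)))
  intro x hx
  rw [List.all_eq_true] at h3
  have := h3 x (List.mem_range.2 hx)
  rw [beq_iff_eq] at this
  exact this

end Cfsg.Agent.Lib.H28.SylDC23
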