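/-
helper28 library: kernel-checked derivations between the double cosets of the Sylow 2-subgroup `S7` of `M23`.
-/
import Cfsg.Agent.Lib.H28.SylDC23Cert

set_option autoImplicit false

namespace Cfsg.Agent.Lib.H28.SylDC23

open Cfsg Cfsg.Agent.Lib.H28 Cfsg.Agent.Lib.H28.UT5 Cfsg.Agent.Lib.H14.M24SylGen Cfsg.Agent.Lib.H14.SylCert
open Cfsg.Agent.Lib.H28.SylDC (sE sF isF_sE sE_mem sE_zero exists_sE forall_of_chunks3)

/-! ### Derivations -/

def stA (st : ℕ) : ℕ := st % 1024
def stB (st : ℕ) : ℕ := st / 1024 % 1024
def stM (st : ℕ) : ℕ := st / 1048576 % 1024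
def stC (st : ℕ) : ℕ := st / 1073741824 % 1024
def stC1 (st : ℕ) : ℕ := st / 1099511627776 % 1024
def stC2 (st : ℕ) : ℕ := st / 1125899906842624 % 1024

/-- The check that `r_a * s_c * r_b = s_c1 * r_m * s_c2`, the three elements `s` being in `S7`. -/
def stOK (st : ℕ) : Bool :=
  decide (stA st < 835) && decide (stB st < 835) && decide (stM st < 835) && in7 (stC st) && in7 (stC1 st) &&
    in7 (stC2 st) && (List.range 24).all fun p =>
      rF (stA st) (sF (stC st) (rF (stB st) p)) == sF (stC1 st) (rF (stM st) (sF (stC2 st) p))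

theorem stOK_spec {st : ℕ} (h : stOK st = true) :
    in7 (stC st) = true ∧ in7 (stC1 st) = true ∧ in7 (stC2 st) = true ∧
      rP (stA st) * sE (stC st) * rP (stB st) = sE (stC1 st) * rP (stM st) * sE (stC2 st) := by
  unfold stOK at h
  simp only [Bool.and_eq_true, decide_eq_true_eq] at h
  obtain ⟨⟨⟨⟨⟨⟨ha, hb⟩, hm⟩, h0⟩, h1⟩, h2⟩, h⟩ := h
  refine ⟨h0, h1, h2, ?_⟩
  apply (((isF_rP ha).mul (isF_sE (in7_lt h0))).mul (isF_rP hb)).eq_of
    (((isF_sE (in7_lt h1)).mul (isF_rP hm)).mul (isF_sE (in7_lt h2)))
  intro p hp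
  rw [List.all_eq_true] at h
  have := h p (List.mem_range.2 hp)
  rw [beq_iff_eq] at this
  exact this

/-- Run a derivation: a step whose two factors are known, and which checks, adds its result. -/
def run : List ℕ → List ℕ → List ℕ
  | known, [] => known
  | known, st :: rest =>
    if known.contains (stA st) && known.contains (stB st) && stOK st then run (stM st :: known) rest
    else run known rest

theorem run_sound {K : Subgroup (Equiv.Perm GolayPt)} (hS : S7 ≤ K) :
    ∀ (steps known : List ℕ), (∀ i ∈ known, rP i ∈ K) → ∀ i ∈ run known steps, rP i ∈ K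
  | [], known, h => h
  | st :: rest, known, h => by
    unfold run
    split_ifs with hc
    · apply run_sound hS rest
      intro i hi
      rw [List.mem_cons] at hi
      rcases hi with rfl | hi
      · rw [Bool.and_eq_true, Bool.and_eq_true, List.contains_iff_mem, List.contains_iff_mem] at hc
        obtain ⟨⟨ha, hb⟩, hok⟩ := hc
        obtain ⟨h0, h1, h2, e⟩ := stOK_spec hok
        have : rP (stM st) = (sE (stC1 st))⁻¹ * (rP (stA st) * sE (stC st) * rP (stB st)) * (sE (stC2 st))⁻¹ := by
          rw [e]
          group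
        rw [this]
        exact K.mul_mem (K.mul_mem (K.inv_mem (hS (sE_mem_S7 h1)))
          (K.mul_mem (K.mul_mem (h _ ha) (hS (sE_mem_S7 h0))) (h _ hb))) (K.inv_mem (hS (sE_mem_S7 h2)))
      · exact h i hi
    · exact run_sound hS rest known h

/-- The number of the subgroup generated by `S7` and the `i`-th representative. -/
def dOf (i : ℕ) : ℕ := dTab.getD i 14

/-- The canonical representative of a small subgroup. -/
def cOf (t : ℕ) : ℕ := cTab.getD t 0

/-- What is derived from the `i`-th representative. -/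
def tgt (i : ℕ) : ℕ := if dOf i = 14 then 58 else cOf (dOf i)

set_option maxRecDepth 100000 in
theorem der_ok_a : ∀ i, 0 ≤ i → i < 280 → (run [0, i] (derTab.getD i [])).contains (tgt i) = true := by
  decide +kernel

set_option maxRecDepth 100000 in
theorem der_ok_b : ∀ i, 280 ≤ i → i < 560 → (run [0, i] (derTab.getD i [])).contains (tgt i) = true := by
  decide +kernel

set_option maxRecDepth 100000 in
theorem der_ok_c : ∀ i, 560 ≤ i → i < 835 → (run [0, i] (derTab.getD i [])).contains (tgt i) = true := by
  decide +kernel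

theorem der_ok : ∀ i < 835, (run [0, i] (derTab.getD i [])).contains (tgt i) = true :=
  forall_of_chunks3 der_ok_a der_ok_b der_ok_c

/-- The small subgroups not fixing the base octad, the base pair, the base sextet. -/
def tA : List ℕ := [7, 10, 13]
def tB : List ℕ := [1, 2, 3, 5, 8, 9, 10, 11, 12]
def tX : List ℕ := [3, 6, 8, 9, 11, 12, 13]

set_option maxRecDepth 100000 in
theorem tri_ok : ∀ a < 3, ∀ b < 9, ∀ c < 7,
    (run [0, cOf (tA.getD a 0), cOf (tB.getD b 0), cOf (tX.getD c 0)] (triTab.getD (a * 63 + b * 7 + c) [])).contains 58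
      = true := by decide +kernel

set_option maxRecDepth 100000 in
theorem class_ok : ∀ i < 835, dOf i = 14 ∨
    ((idxA.contains i = true ∨ tA.contains (dOf i) = true) ∧ (idxB.contains i = true ∨ tB.contains (dOf i) = true) ∧
      (idxX.contains i = true ∨ tX.contains (dOf i) = true)) := by decide +kernel

theorem gen_ok : ((run [0, 1, 3, 13] genDer).contains 313 && (run [0, 1, 3, 13] genDer).contains 168) = true := by
  decide +kernel

theorem rW_gen : rW 313 = [0] ∧ rW 168 = [3] ∧ rW 0 = [] := by decide +kernel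

/-! ### The representative of order 11 -/

theorem r58_pow : ∀ p < 24, (rF 58)^[11] p = p := by decide +kernel

theorem r58_ne : rF 58 0 ≠ 0 := by decide +kernel

end Cfsg.Agent.Lib.H28.SylDC23
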