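/-
helper28 library: the 835 double cosets of the Sylow 2-subgroup `S7` cover the stabilizer `M23` of the last point in
`M24`, and the subgroups of `M23` containing `S7`, of order not divisible by 11, fix the base octad, the base pair of
points or the base sextet.
-/
import Cfsg.Agent.Lib.H28.SylDC23Der
import Cfsg.Agent.Lib.H28.SylDCCover
import Cfsg.Agent.Lib.H28.M23M22Simple
import Cfsg.Agent.Lib.H28.M22BCert

set_option autoImplicit false

namespace Cfsg.Agent.Lib.H28.SylDC23

open Cfsg Cfsg.Agent.Lib.H28 Cfsg.Agent.Lib.H28.UT5 Cfsg.Agent.Lib.H14.M24SylGen Cfsg.Agent.Lib.H14.SylCert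
open Cfsg.Agent.Lib.H28.SylDC (sE sF isF_sE sE_mem sE_zero exists_sE forall_of_chunks3 sext1 sextK S0_fix)
open scoped Pointwise

/-! ### The double cosets cover `M23` -/

/-- The union of the double cosets of the representatives. -/
def Cover : Set (Equiv.Perm GolayPt) := {g | ∃ i < 835, ∃ s ∈ S7, ∃ s' ∈ S7, g = s * rP i * s'}

theorem rP_zero : rP 0 = 1 := by
  unfold rP
  rw [rW_gen.2.2, wordPerm_nil]

theorem one_mem_Cover : (1 : Equiv.Perm GolayPt) ∈ Cover :=
  ⟨0, by norm_num, 1, S7.one_mem, 1, S7.one_mem, by rw [rP_zero, mul_one, mul_one]⟩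

theorem S7_mul_mem_Cover {s g : Equiv.Perm GolayPt} (hs : s ∈ S7) (hg : g ∈ Cover) : s * g ∈ Cover := by
  obtain ⟨i, hi, s1, hs1, s2, hs2, rfl⟩ := hg
  exact ⟨i, hi, s * s1, S7.mul_mem hs hs1, s2, hs2, by group⟩

theorem rP_mul_mem_Cover {gi : ℕ} (hgi : gi < 3) {g : Equiv.Perm GolayPt} (hg : g ∈ Cover) :
    rP (gK gi) * g ∈ Cover := by
  obtain ⟨i, hi, s, hs, s', hs', rfl⟩ := hg
  obtain ⟨p, hp, rfl⟩ := exists_s7 hs
  obtain ⟨h1, hj, e1⟩ := nq_spec hgi hp
  obtain ⟨i', hi', d1, d2, hd1, hd2, e2⟩ := cl_spec hgi hj hi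
  refine ⟨i', hi', sE (nqC gi p) * sE d1, S7.mul_mem (sE_mem_S7 h1) (sE_mem_S7 hd1), sE d2 * s',
    S7.mul_mem (sE_mem_S7 hd2) hs', ?_⟩
  calc rP (gK gi) * (sE (s7C p) * rP i * s') = (rP (gK gi) * sE (s7C p)) * rP i * s' := by group
    _ = sE (nqC gi p) * (rP (gK gi) * sE (tau gi (nqJ gi p)) * rP i) * s' := by rw [e1]; group
    _ = sE (nqC gi p) * sE d1 * rP i' * (sE d2 * s') := by rw [e2]; group

/-- The subgroup generated by `S7` and the representatives 1, 3, 13. -/
noncomputable def Lgen : Subgroup (Equiv.Perm GolayPt) :=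
  Subgroup.closure ((S7 : Set (Equiv.Perm GolayPt)) ∪ {rP 1, rP 3, rP 13})

theorem mem_Cover_of_mem_Lgen {g : Equiv.Perm GolayPt} (hg : g ∈ Lgen) : g ∈ Cover := by
  have key : ∀ x ∈ Submonoid.closure ((S7 : Set (Equiv.Perm GolayPt)) ∪ {rP 1, rP 3, rP 13}), x ∈ Cover := by
    intro x h
    induction h using Submonoid.closure_induction_left with
    | one => exact one_mem_Cover
    | mul_left x hx y _ ih =>
      rcases hx with hx | hx
      · exact S7_mul_mem_Cover hx ih
      · simp only [Set.mem_insert_iff, Set.mem_singleton_iff] at hx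
        rcases hx with rfl | rfl | rfl
        · exact rP_mul_mem_Cover (gi := 0) (by norm_num) ih
        · exact rP_mul_mem_Cover (gi := 1) (by norm_num) ih
        · exact rP_mul_mem_Cover (gi := 2) (by norm_num) ih
  apply key
  rw [← Subgroup.closure_toSubmonoid_of_finite]
  exact hg

/-- `M23` is generated by the first and the third generator of `M24`. -/
theorem wordsClosure_M23 : wordsClosure [[0], [3]] = fixSub M24 [23] := by
  have h := m23Cert_ok
  apply wordsClosure_eq_of_chain (fixSub M24 [23]) [[0], [3]] m23Cert.chain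
  · intro w hw
    exact wordPerm_mem_fixSub inOct_23 (h.1 w hw)
  · exact h.2.1
  · refine le_trans card_fixSub_chain.1 ?_
    decide +kernel

/-- A subgroup containing `S7` and the representatives 1, 3, 13 contains `M23`. -/
theorem M23_le_of_mem {K : Subgroup (Equiv.Perm GolayPt)} (hS : S7 ≤ K) (h1 : rP 1 ∈ K) (h3 : rP 3 ∈ K)
    (h13 : rP 13 ∈ K) : fixSub M24 [23] ≤ K := by
  have hrun := run_sound (K := K) hS genDer [0, 1, 3, 13] (by
    intro i hi
    simp only [List.mem_cons, List.not_mem_nil, or_false] at hi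
    rcases hi with rfl | rfl | rfl | rfl
    · rw [rP_zero]; exact K.one_mem
    · exact h1
    · exact h3
    · exact h13)
  have hg := gen_ok
  rw [Bool.and_eq_true, List.contains_iff_mem, List.contains_iff_mem] at hg
  obtain ⟨g1, g2⟩ := hg
  have m1 := hrun _ g1
  have m2 := hrun _ g2
  unfold rP at m1 m2
  rw [rW_gen.1] at m1
  rw [rW_gen.2.1] at m2
  rw [← wordsClosure_M23]
  apply wordsClosure_le
  intro w hw
  simp only [List.mem_cons, List.not_mem_nil, or_false] at hw
  rcases hw with rfl | rfl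
  · exact m1
  · exact m2

theorem M23_le_Lgen : fixSub M24 [23] ≤ Lgen := by
  apply M23_le_of_mem
  · intro s hs
    exact Subgroup.subset_closure (Or.inl hs)
  · exact Subgroup.subset_closure (Or.inr (by simp))
  · exact Subgroup.subset_closure (Or.inr (by simp))
  · exact Subgroup.subset_closure (Or.inr (by simp))

/-- Every element of `M23` lies in one of the 835 double cosets. -/
theorem mem_Cover_of_mem_M23 {g : Equiv.Perm GolayPt} (hg : g ∈ fixSub M24 [23]) : g ∈ Cover :=
  mem_Cover_of_mem_Lgen (M23_le_Lgen hg)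

/-! ### The base octad, the base pair and the base sextet -/

/-- The base pair of points. -/
def duadB : Finset GolayPt := ptsMask 131074

theorem smul_ptsMask_of_isF {g : Equiv.Perm GolayPt} {f : ℕ → ℕ} {m : ℕ} (hg : IsF g f)
    (h : ∀ x < 24, m.testBit (f x) = m.testBit x) : g • ptsMask m = ptsMask m := by
  apply smul_ptsMask_eq
  intro p
  rw [hg p]
  exact h _ (gIdx_lt p)

theorem S7_le_S0 : S7 ≤ S0 := inf_le_left

theorem s7_fix_duad : ∀ p < 128, ∀ x < 24, (131074 : ℕ).testBit (sF (s7C p) x) = (131074 : ℕ).testBit x := by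
  decide +kernel

theorem S7_fix {s : Equiv.Perm GolayPt} (hs : s ∈ S7) : s • oct0 = oct0 ∧ s • duadB = duadB ∧ s • sext1 = sext1 := by
  have h := S0_fix (S7_le_S0 hs)
  refine ⟨h.1, ?_, h.2.2⟩
  obtain ⟨p, hp, rfl⟩ := exists_s7 hs
  exact smul_ptsMask_of_isF (isF_sE (in7_lt (s7C_in7 p hp))) (s7_fix_duad p hp)

theorem idxA_fix : ∀ i ∈ idxA, i < 835 ∧ ∀ x < 24, baseOctad.testBit (rF i x) = baseOctad.testBit x := by
  decide +kernel

theorem idxB_fix : ∀ i ∈ idxB, i < 835 ∧ ∀ x < 24, (131074 : ℕ).testBit (rF i x) = (131074 : ℕ).testBit x := by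
  decide +kernel

theorem idxX_fix : idxX.all (fun i => sameL (sextK.map (pullMask (wordTab (invWord (rW i))))) sextK) = true := by
  decide +kernel

theorem rP_smul_oct0 {i : ℕ} (hi : idxA.contains i = true) : rP i • oct0 = oct0 := by
  rw [List.contains_iff_mem] at hi
  obtain ⟨h1, h2⟩ := idxA_fix i hi
  exact smul_ptsMask_of_isF (isF_rP h1) h2

theorem rP_smul_duadB {i : ℕ} (hi : idxB.contains i = true) : rP i • duadB = duadB := by
  rw [List.contains_iff_mem] at hi
  obtain ⟨h1, h2⟩ := idxB_fix i hi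
  exact smul_ptsMask_of_isF (isF_rP h1) h2

theorem rP_smul_sext1 {i : ℕ} (hi : idxX.contains i = true) : rP i • sext1 = sext1 := by
  rw [List.contains_iff_mem] at hi
  exact wordPerm_smul_decL_of_sameL (List.all_eq_true.1 idxX_fix i hi)

/-! ### The representative of order 11 -/

theorem rP58_pow : rP 58 ^ 11 = 1 :=
  (Cfsg.Agent.Lib.H28.M22B.isF_pow (isF_rP (by norm_num : 58 < 835)) 11).eq_of isF_one r58_pow

theorem rP58_ne : rP 58 ≠ 1 := by
  intro h
  have h1 := isF_rP (by norm_num : 58 < 835)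
  rw [h] at h1
  have := Cfsg.Agent.Lib.H28.M22B.isF_apply_eq h1 isF_one (p := 0) (by norm_num)
  exact r58_ne this

theorem orderOf_rP58 : orderOf (rP 58) = 11 := by
  have : Fact (Nat.Prime 11) := ⟨by norm_num⟩
  exact orderOf_eq_prime rP58_pow rP58_ne

/-! ### The subgroups containing `S7` -/

theorem exists_rep {K : Subgroup (Equiv.Perm GolayPt)} (hS : S7 ≤ K) (hK : K ≤ fixSub M24 [23])
    {g : Equiv.Perm GolayPt} (hg : g ∈ K) : ∃ i < 835, rP i ∈ K ∧ ∃ s ∈ S7, ∃ s' ∈ S7, g = s * rP i * s' := by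
  obtain ⟨i, hi, s, hs, s', hs', rfl⟩ := mem_Cover_of_mem_M23 (hK hg)
  refine ⟨i, hi, ?_, s, hs, s', hs', rfl⟩
  have : rP i = s⁻¹ * (s * rP i * s') * s'⁻¹ := by group
  rw [this]
  exact K.mul_mem (K.mul_mem (K.inv_mem (hS hs)) hg) (K.inv_mem (hS hs'))

theorem exists_getD_of_contains {l : List ℕ} {t : ℕ} (h : l.contains t = true) : ∃ a < l.length, l.getD a 0 = t := by
  rw [List.contains_iff_mem] at h
  obtain ⟨a, ha, e⟩ := List.getElem_of_mem h
  exact ⟨a, ha, by rw [List.getD_eq_getElem _ _ ha, e]⟩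

/-- A subgroup of `M23` containing `S7` and a representative contains the representative of order 11 or the
canonical representative of a small subgroup. -/
theorem tgt_mem {K : Subgroup (Equiv.Perm GolayPt)} (hS : S7 ≤ K) {i : ℕ} (hi : i < 835) (hr : rP i ∈ K) :
    rP (tgt i) ∈ K := by
  have hrun := run_sound (K := K) hS (derTab.getD i []) [0, i] (by
    intro j hj
    simp only [List.mem_cons, List.not_mem_nil, or_false] at hj
    rcases hj with rfl | rfl
    · rw [rP_zero]; exact K.one_mem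
    · exact hr)
  exact hrun _ (List.contains_iff_mem.1 (der_ok i hi))

/-- A subgroup of `M23` containing `S7`, of order not divisible by 11, fixes the base octad, the base pair of points
or the base sextet. -/
theorem overgroup_cases {K : Subgroup (Equiv.Perm GolayPt)} (hS : S7 ≤ K) (hK : K ≤ fixSub M24 [23])
    (h11 : ¬ 11 ∣ Nat.card ↥K) :
    (∀ g ∈ K, g • oct0 = oct0) ∨ (∀ g ∈ K, g • duadB = duadB) ∨ (∀ g ∈ K, g • sext1 = sext1) := by
  have h58 : rP 58 ∉ K := by
    intro h
    apply h11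
    rw [← orderOf_rP58]
    exact Subgroup.orderOf_dvd_natCard K h
  by_contra hcon
  push Not at hcon
  obtain ⟨⟨g1, hg1, hne1⟩, ⟨g2, hg2, hne2⟩, ⟨g3, hg3, hne3⟩⟩ := hcon
  obtain ⟨i1, hi1, hr1, s1, hs1, s1', hs1', rfl⟩ := exists_rep hS hK hg1
  obtain ⟨i2, hi2, hr2, s2, hs2, s2', hs2', rfl⟩ := exists_rep hS hK hg2
  obtain ⟨i3, hi3, hr3, s3, hs3, s3', hs3', rfl⟩ := exists_rep hS hK hg3
  have t1 := tgt_mem hS hi1 hr1
  have t2 := tgt_mem hS hi2 hr2
  have t3 := tgt_mem hS hi3 hr3
  have nb : ∀ i, rP (tgt i) ∈ K → dOf i ≠ 14 ∧ rP (cOf (dOf i)) ∈ K := by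
    intro i h
    unfold tgt at h
    split_ifs at h with hd
    · exact absurd h h58
    · exact ⟨hd, h⟩
  obtain ⟨d1, c1⟩ := nb i1 t1
  obtain ⟨d2, c2⟩ := nb i2 t2
  obtain ⟨d3, c3⟩ := nb i3 t3
  have hA : tA.contains (dOf i1) = true := by
    rcases class_ok i1 hi1 with h | h
    · exact absurd h d1
    · rcases h.1 with h | h
      · exfalso
        apply hne1
        rw [mul_smul, mul_smul, (S7_fix hs1').1, rP_smul_oct0 h, (S7_fix hs1).1]
      · exact h
  have hB : tB.contains (dOf i2) = true := by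
    rcases class_ok i2 hi2 with h | h
    · exact absurd h d2
    · rcases h.2.1 with h | h
      · exfalso
        apply hne2
        rw [mul_smul, mul_smul, (S7_fix hs2').2.1, rP_smul_duadB h, (S7_fix hs2).2.1]
      · exact h
  have hX : tX.contains (dOf i3) = true := by
    rcases class_ok i3 hi3 with h | h
    · exact absurd h d3
    · rcases h.2.2 with h | h
      · exfalso
        apply hne3
        rw [mul_smul, mul_smul, (S7_fix hs3').2.2, rP_smul_sext1 h, (S7_fix hs3).2.2]
      · exact h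
  obtain ⟨a, ha, ea⟩ := exists_getD_of_contains hA
  obtain ⟨b, hb, eb⟩ := exists_getD_of_contains hB
  obtain ⟨c, hc, ec⟩ := exists_getD_of_contains hX
  have hrun := run_sound (K := K) hS (triTab.getD (a * 63 + b * 7 + c) [])
    [0, cOf (tA.getD a 0), cOf (tB.getD b 0), cOf (tX.getD c 0)] (by
    intro j hj
    simp only [List.mem_cons, List.not_mem_nil, or_false] at hj
    rcases hj with rfl | rfl | rfl | rfl
    · rw [rP_zero]; exact K.one_mem
    · rw [ea]; exact c1
    · rw [eb]; exact c2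
    · rw [ec]; exact c3)
  exact h58 (hrun _ (List.contains_iff_mem.1 (tri_ok a ha b hb c hc)))

end Cfsg.Agent.Lib.H28.SylDC23
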