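/-
helper28 library: the subgroups of index 253 of the stabilizer of a point in `M24` are the stabilizers of the pairs of
points not containing the point, and of the octads containing the point.
-/
import Cfsg.Agent.Lib.H28.SylDC23Cover
import Cfsg.Agent.Lib.H28.M24Index276
import Cfsg.Agent.Lib.H28.PSL23Max

set_option autoImplicit false

namespace Cfsg.Agent.Lib.H28.SylDC23

open Cfsg Cfsg.Agent.Lib.H28 Cfsg.Agent.Lib.H28.UT5 Cfsg.Agent.Lib.H14.M24SylGen Cfsg.Agent.Lib.H14.SylCert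
open Cfsg.Agent.Lib.H28.SylDC (sE sF isF_sE sE_mem sE_zero exists_sE forall_of_chunks3 sext1 sextK S0_fix)
open scoped Pointwise

/-! ### The orbit of the last point under `S0` -/

theorem orbit_codes : ∀ q ∈ octPts, ∃ c < 1024, sF c 23 = q := by decide +kernel

theorem gPt23_mem_oct0 : gPt 23 ∈ oct0 := by
  rw [mem_oct0_iff, gIdx_gPt (by norm_num)]
  decide

theorem exists_S0_map {q : GolayPt} (hq : q ∈ oct0) : ∃ s ∈ S0, s (gPt 23) = q := by
  rw [mem_oct0_iff] at hq
  obtain ⟨c, hc, e⟩ := orbit_codes _ hq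
  refine ⟨sE c, sE_mem c, ?_⟩
  apply gIdx_injective
  rw [isF_sE hc (gPt 23), gIdx_gPt (by norm_num), e]

theorem card_oct0 : oct0.card = 8 := by
  have := oct0_mem_octads
  exact this.2

/-- `S7` has at least 128 elements. -/
theorem card_S7_ge : 128 ≤ Nat.card ↥S7 := by
  have hfin : Finite ↥S0 := Nat.finite_of_card_ne_zero (by rw [card_S0]; norm_num)
  have h := card_eq_orbit_mul_stab S0 (gPt 23)
  rw [card_S0] at h
  have hsub : {y | ∃ h ∈ S0, h • gPt 23 = y} ⊆ (oct0 : Set GolayPt) := by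
    rintro y ⟨s, hs, rfl⟩
    have := (S0_fix hs).1
    rw [Finset.mem_coe, ← this]
    exact Finset.smul_mem_smul_finset gPt23_mem_oct0
  have hle : {y | ∃ h ∈ S0, h • gPt 23 = y}.ncard ≤ 8 := by
    have := Set.ncard_le_ncard hsub (Finset.finite_toSet oct0)
    rwa [Set.ncard_coe_finset, card_oct0] at this
  have : Nat.card ↥(S0 ⊓ MulAction.stabilizer (Equiv.Perm GolayPt) (gPt 23)) = Nat.card ↥S7 := rfl
  rw [this] at h
  nlinarith

theorem isPGroup_S7 : IsPGroup 2 ↥S7 :=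
  isPGroup_S0.to_le S7_le_S0

theorem S7_le_M23 : S7 ≤ fixSub M24 [23] := by
  intro s hs
  rw [mem_fixSub]
  rw [S7, Subgroup.mem_inf] at hs
  refine ⟨S0_le_M24 hs.1, ?_⟩
  intro k hk
  simp only [List.mem_cons, List.not_mem_nil, or_false] at hk
  subst hk
  exact MulAction.mem_stabilizer_iff.1 hs.2

/-! ### The orders of the three stabilizers -/

/-- The stabilizer in `M24` of `x`, as a subgroup of the symmetric group. -/
noncomputable def stabP {α : Type*} [MulAction (Equiv.Perm GolayPt) α] (x : α) : Subgroup (Equiv.Perm GolayPt) :=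
  M24 ⊓ MulAction.stabilizer (Equiv.Perm GolayPt) x

theorem mem_stabP {α : Type*} [MulAction (Equiv.Perm GolayPt) α] {x : α} {g : Equiv.Perm GolayPt} :
    g ∈ stabP x ↔ g ∈ M24 ∧ g • x = x := by
  unfold stabP
  rw [Subgroup.mem_inf]
  exact ⟨fun h => ⟨h.1, MulAction.mem_stabilizer_iff.1 h.2⟩, fun h => ⟨h.1, MulAction.mem_stabilizer_iff.2 h.2⟩⟩

theorem card_stabP {α : Type*} [MulAction (Equiv.Perm GolayPt) α] (x : α) :
    Nat.card ↥(stabP x) = Nat.card ↥(MulAction.stabilizer ↥M24 x) := by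
  have : stabP x = (MulAction.stabilizer ↥M24 x).map M24.subtype := by
    ext g
    rw [mem_stabP, Subgroup.mem_map]
    constructor
    · rintro ⟨h1, h2⟩
      exact ⟨⟨g, h1⟩, MulAction.mem_stabilizer_iff.2 h2, rfl⟩
    · rintro ⟨y, hy, rfl⟩
      exact ⟨y.2, MulAction.mem_stabilizer_iff.1 hy⟩
  rw [this, Subgroup.card_map_of_injective M24.subtype_injective]

theorem S0_le_stabP_oct0 : S0 ≤ stabP oct0 := fun _ hs => mem_stabP.2 ⟨S0_le_M24 hs, (S0_fix hs).1⟩

theorem S0_le_stabP_sext1 : S0 ≤ stabP sext1 := fun _ hs => mem_stabP.2 ⟨S0_le_M24 hs, (S0_fix hs).2.2⟩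

theorem card_fixSub_stabP_oct0 : Nat.card ↥(fixSub (stabP oct0) [23]) ≤ 40320 := by
  have h := card_fixSub_ge (stabP oct0) [] 23 oct0 (by
    intro q hq
    obtain ⟨s, hs, e⟩ := exists_S0_map hq
    exact ⟨s, S0_le_stabP_oct0 hs, e⟩)
  rw [fixSub_nil, card_stabP, card_stabilizer_octad oct0_mem_octads, card_oct0] at h
  omega

theorem card_fixSub_stabP_sext1 : Nat.card ↥(fixSub (stabP sext1) [23]) ≤ 17280 := by
  have h := card_fixSub_ge (stabP sext1) [] 23 oct0 (by
    intro q hq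
    obtain ⟨s, hs, e⟩ := exists_S0_map hq
    exact ⟨s, S0_le_stabP_sext1 hs, e⟩)
  rw [fixSub_nil, card_stabP, Cfsg.Agent.Lib.H28.SylDC.card_stabilizer_sextet Cfsg.Agent.Lib.H28.SylDC.sext1_mem,
    card_oct0] at h
  omega

theorem duadB_eq : duadB = {gPt 1, gPt 17} := by decide

theorem injective_triple {α : Type*} {a b c : α} (hab : a ≠ b) (hac : a ≠ c) (hbc : b ≠ c) :
    Function.Injective ![a, b, c] := by
  intro i j hij
  match i, j with
  | 0, 0 => rfl
  | 1, 1 => rfl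
  | 2, 2 => rfl
  | 0, 1 => exact absurd hij hab
  | 1, 0 => exact absurd hij.symm hab
  | 0, 2 => exact absurd hij hac
  | 2, 0 => exact absurd hij.symm hac
  | 1, 2 => exact absurd hij hbc
  | 2, 1 => exact absurd hij.symm hbc

theorem card_duadB : duadB.card = 2 := by decide

theorem card_fixSub_stabP_duadB : Nat.card ↥(fixSub (stabP duadB) [23]) ≤ 40320 := by
  have hc : (Finset.univ \ duadB).card = 22 := by decide
  have h := card_fixSub_ge (stabP duadB) [] 23 (Finset.univ \ duadB) (by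
    intro q hq
    rw [Finset.mem_sdiff, duadB_eq, Finset.mem_insert, Finset.mem_singleton] at hq
    have hq1 : q ≠ gPt 1 := fun h => hq.2 (Or.inl h)
    have hq17 : q ≠ gPt 17 := fun h => hq.2 (Or.inr h)
    have hinj1 : Function.Injective ![gPt 1, gPt 17, gPt 23] := by decide
    have hinj2 : Function.Injective ![gPt 1, gPt 17, q] :=
      injective_triple (by decide) (Ne.symm hq1) (Ne.symm hq17)
    obtain ⟨g, hg, hmap⟩ := exists_M24_map (n := 3) (by norm_num) ![gPt 1, gPt 17, gPt 23] ![gPt 1, gPt 17, q]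
      hinj1 hinj2
    have h1 : g (gPt 1) = gPt 1 := hmap 0
    have h17 : g (gPt 17) = gPt 17 := hmap 1
    have h23 : g (gPt 23) = q := hmap 2
    refine ⟨g, ?_, h23⟩
    rw [fixSub_nil, mem_stabP]
    refine ⟨hg, ?_⟩
    rw [duadB_eq, Finset.smul_finset_insert, Finset.smul_finset_singleton, Equiv.Perm.smul_def, Equiv.Perm.smul_def,
      h1, h17])
  rw [fixSub_nil, card_stabP, Cfsg.Agent.Lib.H28.M22B.card_stabilizer_duad card_duadB, hc] at h
  omega


/-! ### Conjugating a Sylow 2-subgroup -/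

theorem card_M23 : Nat.card ↥(fixSub M24 [23]) = 10200960 := Cfsg.Agent.Lib.H28.PSL23.card_ptStab

theorem mem_smul_sylow_iff' {G : Type*} [Group G] {p : ℕ} [Fact p.Prime] (P : Sylow p G) (g x : G) :
    x ∈ ((g • P : Sylow p G) : Subgroup G) ↔ g⁻¹ * x * g ∈ (P : Subgroup G) := by
  rw [Sylow.coe_subgroup_smul, Subgroup.mem_pointwise_smul_iff_inv_smul_mem, MulAut.smul_def,
    ← map_inv, MulAut.conj_apply, inv_inv]

theorem card_sylow_le (P : Sylow 2 ↥(fixSub M24 [23])) :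
    Nat.card ↥(P : Subgroup ↥(fixSub M24 [23])) ≤ 128 := by
  obtain ⟨n, hn⟩ := IsPGroup.iff_card.1 P.2
  have h1 : Nat.card ↥(P : Subgroup ↥(fixSub M24 [23])) ∣ Nat.card ↥(fixSub M24 [23]) :=
    Subgroup.card_subgroup_dvd_card _
  rw [hn, card_M23] at h1
  rw [hn]
  have : n ≤ 7 := by
    by_contra hcon
    have : 2 ^ 8 ∣ 10200960 := dvd_trans (pow_dvd_pow 2 (by omega)) h1
    norm_num at this
  calc 2 ^ n ≤ 2 ^ 7 := Nat.pow_le_pow_right (by norm_num) this
    _ = 128 := by norm_num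

/-- A subgroup of `M23` whose order is divisible by 128 contains a conjugate of `S7`. -/
theorem exists_conj_S7_le {K : Subgroup (Equiv.Perm GolayPt)} (hK : K ≤ fixSub M24 [23]) (h : 2 ^ 7 ∣ Nat.card ↥K) :
    ∃ v ∈ fixSub M24 [23], S7 ≤ K.map (MulAut.conj v).toMonoidHom := by
  have hp : Fact (Nat.Prime 2) := ⟨Nat.prime_two⟩
  obtain ⟨Q, hQ⟩ := Sylow.exists_subgroup_card_pow_prime 2 h
  have hQK : Q.map K.subtype ≤ K := by
    rintro _ ⟨x, -, rfl⟩
    exact x.2
  have hcQ1 : Nat.card ↥((Q.map K.subtype).subgroupOf (fixSub M24 [23])) = 2 ^ 7 := by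
    rw [← hQ, ← Subgroup.card_map_of_injective K.subtype_injective]
    exact Nat.card_congr (Subgroup.subgroupOfEquivOfLe (le_trans hQK hK)).toEquiv
  have hPG1 : IsPGroup 2 ↥((Q.map K.subtype).subgroupOf (fixSub M24 [23])) := IsPGroup.of_card hcQ1
  obtain ⟨P, hP⟩ := hPG1.exists_le_sylow
  have eQ : (Q.map K.subtype).subgroupOf (fixSub M24 [23]) = (P : Subgroup ↥(fixSub M24 [23])) :=
    Subgroup.eq_of_le_of_card_ge hP (by rw [hcQ1]; exact card_sylow_le P)
  have hcS : Nat.card ↥(S7.subgroupOf (fixSub M24 [23])) = Nat.card ↥S7 :=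
    Nat.card_congr (Subgroup.subgroupOfEquivOfLe S7_le_M23).toEquiv
  have hPG2 : IsPGroup 2 ↥(S7.subgroupOf (fixSub M24 [23])) :=
    isPGroup_S7.of_equiv (Subgroup.subgroupOfEquivOfLe S7_le_M23).symm
  obtain ⟨P0, hP0⟩ := hPG2.exists_le_sylow
  have eS : S7.subgroupOf (fixSub M24 [23]) = (P0 : Subgroup ↥(fixSub M24 [23])) :=
    Subgroup.eq_of_le_of_card_ge hP0 (by rw [hcS]; exact le_trans (card_sylow_le P0) card_S7_ge)
  obtain ⟨v, hv⟩ := MulAction.exists_smul_eq ↥(fixSub M24 [23]) P P0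
  refine ⟨v.1, v.2, ?_⟩
  intro x hx
  have hx1 : (⟨x, S7_le_M23 hx⟩ : ↥(fixSub M24 [23])) ∈ (P0 : Subgroup ↥(fixSub M24 [23])) := by
    rw [← eS]
    exact Subgroup.mem_subgroupOf.2 hx
  rw [← hv, mem_smul_sylow_iff', ← eQ, Subgroup.mem_subgroupOf] at hx1
  refine ⟨v.1⁻¹ * x * v.1, hQK hx1, ?_⟩
  show v.1 * (v.1⁻¹ * x * v.1) * v.1⁻¹ = x
  group

/-! ### The subgroups of order 40320 of `M23` -/

theorem conj_mem_iff (x : Finset GolayPt) {v g : Equiv.Perm GolayPt} (hvM : v ∈ M24)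
    (hv23 : v (gPt 23) = gPt 23) :
    v * g * v⁻¹ ∈ fixSub (stabP x) [23] ↔ g ∈ fixSub M24 [23] ∧ g • (v⁻¹ • x) = v⁻¹ • x := by
  have hvi : v⁻¹ (gPt 23) = gPt 23 := by rw [Equiv.Perm.inv_eq_iff_eq, hv23]
  rw [mem_fixSub, mem_stabP, mem_fixSub]
  constructor
  · rintro ⟨⟨h1, h2⟩, h3⟩
    refine ⟨⟨?_, ?_⟩, ?_⟩
    · have := M24.mul_mem (M24.mul_mem (M24.inv_mem hvM) h1) hvM
      have e : v⁻¹ * (v * g * v⁻¹) * v = g := by group
      rwa [e] at this
    · intro k hk
      simp only [List.mem_cons, List.not_mem_nil, or_false] at hk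
      subst hk
      have := h3 23 (by simp)
      rw [Equiv.Perm.mul_apply, Equiv.Perm.mul_apply, hvi] at this
      exact v.injective (by rw [this, hv23])
    · rw [mul_smul, mul_smul] at h2
      have h4 := congrArg (fun t => v⁻¹ • t) h2
      simp only [inv_smul_smul] at h4
      exact h4
  · rintro ⟨⟨h1, h2⟩, h3⟩
    refine ⟨⟨M24.mul_mem (M24.mul_mem hvM h1) (M24.inv_mem hvM), ?_⟩, ?_⟩
    · rw [mul_smul, mul_smul, h3, smul_inv_smul]
    · intro k hk
      simp only [List.mem_cons, List.not_mem_nil, or_false] at hk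
      subst hk
      rw [Equiv.Perm.mul_apply, Equiv.Perm.mul_apply, hvi, h2 23 (by simp), hv23]

theorem index_253_core {K : Subgroup (Equiv.Perm GolayPt)} (hK : K ≤ fixSub M24 [23]) (hc : Nat.card ↥K = 40320) :
    (∃ o ∈ octads, gPt 23 ∈ o ∧ ∀ g, g ∈ K ↔ g ∈ fixSub M24 [23] ∧ g • o = o) ∨
      (∃ s : Finset GolayPt, s.card = 2 ∧ gPt 23 ∉ s ∧ ∀ g, g ∈ K ↔ g ∈ fixSub M24 [23] ∧ g • s = s) := by
  obtain ⟨v, hv, hS⟩ := exists_conj_S7_le hK (by rw [hc]; norm_num)
  have hK1le : K.map (MulAut.conj v).toMonoidHom ≤ fixSub M24 [23] := by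
    rintro _ ⟨x, hx, rfl⟩
    exact Subgroup.mul_mem _ (Subgroup.mul_mem _ hv (hK hx)) (Subgroup.inv_mem _ hv)
  have hc1 : Nat.card ↥(K.map (MulAut.conj v).toMonoidHom) = 40320 := by
    rw [Subgroup.card_map_of_injective (MulAut.conj v).injective, hc]
  have hmemK : ∀ g, g ∈ K ↔ v * g * v⁻¹ ∈ K.map (MulAut.conj v).toMonoidHom := by
    intro g
    constructor
    · intro hg
      exact ⟨g, hg, rfl⟩
    · rintro ⟨y, hy, e⟩
      have e' : v * y * v⁻¹ = v * g * v⁻¹ := e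
      have : y = g := by
        have := congrArg (fun t => v⁻¹ * t * v) e'
        simpa [mul_assoc] using this
      rwa [← this]
  have hv23 : v (gPt 23) = gPt 23 := (mem_fixSub.1 hv).2 23 (by simp)
  have hvM : v ∈ M24 := (mem_fixSub.1 hv).1
  have hvi : v⁻¹ (gPt 23) = gPt 23 := by rw [Equiv.Perm.inv_eq_iff_eq, hv23]
  rcases overgroup_cases hS hK1le (by rw [hc1]; norm_num) with h | h | h
  · left
    have hle : K.map (MulAut.conj v).toMonoidHom ≤ fixSub (stabP oct0) [23] := by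
      intro g hg
      rw [mem_fixSub]
      exact ⟨mem_stabP.2 ⟨(mem_fixSub.1 (hK1le hg)).1, h g hg⟩, (mem_fixSub.1 (hK1le hg)).2⟩
    have heq : K.map (MulAut.conj v).toMonoidHom = fixSub (stabP oct0) [23] :=
      Subgroup.eq_of_le_of_card_ge hle (by rw [hc1]; exact card_fixSub_stabP_oct0)
    refine ⟨v⁻¹ • oct0, smul_mem_octads (M24.inv_mem hvM) oct0_mem_octads, ?_, ?_⟩
    · rw [Finset.mem_smul_finset]
      exact ⟨gPt 23, gPt23_mem_oct0, hvi⟩
    · intro g
      rw [hmemK, heq, conj_mem_iff oct0 hvM hv23]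
  · right
    have hle : K.map (MulAut.conj v).toMonoidHom ≤ fixSub (stabP duadB) [23] := by
      intro g hg
      rw [mem_fixSub]
      exact ⟨mem_stabP.2 ⟨(mem_fixSub.1 (hK1le hg)).1, h g hg⟩, (mem_fixSub.1 (hK1le hg)).2⟩
    have heq : K.map (MulAut.conj v).toMonoidHom = fixSub (stabP duadB) [23] :=
      Subgroup.eq_of_le_of_card_ge hle (by rw [hc1]; exact card_fixSub_stabP_duadB)
    refine ⟨v⁻¹ • duadB, by rw [Finset.card_smul_finset, card_duadB], ?_, ?_⟩
    · rw [Finset.mem_smul_finset]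
      rintro ⟨q, hq, e⟩
      rw [Equiv.Perm.smul_def, Equiv.Perm.inv_eq_iff_eq, hv23] at e
      rw [e] at hq
      revert hq
      decide
    · intro g
      rw [hmemK, heq, conj_mem_iff duadB hvM hv23]
  · exfalso
    have hle : K.map (MulAut.conj v).toMonoidHom ≤ fixSub (stabP sext1) [23] := by
      intro g hg
      rw [mem_fixSub]
      exact ⟨mem_stabP.2 ⟨(mem_fixSub.1 (hK1le hg)).1, h g hg⟩, (mem_fixSub.1 (hK1le hg)).2⟩
    have := Subgroup.card_le_of_le hle
    have := card_fixSub_stabP_sext1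
    omega


/-! ### The stabilizer of any point -/

/-- Transport of a characterization of the conjugate of `H` to `H` itself. -/
theorem eq_subgroupOf_of_conj {x : GolayPt} (H : Subgroup ↥(MulAction.stabilizer ↥M24 x)) (u : ↥M24)
    (K : Subgroup (Equiv.Perm GolayPt)) (y : Finset GolayPt)
    (hmem : ∀ g, g ∈ K ↔ ∃ h ∈ H, u.1⁻¹ * h.1.1 * u.1 = g)
    (hu : u.1 (gPt 23) = x)
    (hiff : ∀ g, g ∈ K ↔ g ∈ fixSub M24 [23] ∧ g • y = y) :
    H = (MulAction.stabilizer ↥M24 (u.1 • y)).subgroupOf (MulAction.stabilizer ↥M24 x) := by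
  ext h
  rw [Subgroup.mem_subgroupOf, MulAction.mem_stabilizer_iff]
  constructor
  · intro hh
    have hk : u.1⁻¹ * h.1.1 * u.1 ∈ K := (hmem _).2 ⟨h, hh, rfl⟩
    have h2 := ((hiff _).1 hk).2
    rw [mul_smul, mul_smul] at h2
    have h3 := congrArg (fun t => u.1 • t) h2
    simp only [smul_inv_smul] at h3
    exact h3
  · intro hst
    have hst' : h.1.1 • (u.1 • y) = u.1 • y := hst
    have hx : h.1.1 x = x := by
      have := h.2
      rw [MulAction.mem_stabilizer_iff] at this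
      exact this
    have hk : u.1⁻¹ * h.1.1 * u.1 ∈ K := by
      rw [hiff]
      refine ⟨?_, ?_⟩
      · rw [mem_fixSub]
        refine ⟨M24.mul_mem (M24.mul_mem (M24.inv_mem u.2) h.1.2) u.2, ?_⟩
        intro k hk
        simp only [List.mem_cons, List.not_mem_nil, or_false] at hk
        subst hk
        rw [Equiv.Perm.mul_apply, Equiv.Perm.mul_apply, hu, hx, Equiv.Perm.inv_eq_iff_eq, hu]
      · rw [mul_smul, mul_smul, hst', inv_smul_smul]
    obtain ⟨h', hh', e⟩ := (hmem _).1 hk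
    have e2 : h'.1.1 = h.1.1 := by
      have := congrArg (fun t => u.1 * t * u.1⁻¹) e
      simpa [mul_assoc] using this
    have : h' = h := Subtype.ext (Subtype.ext e2)
    rwa [← this]

/-- The subgroups of index 253 of the stabilizer of a point. -/
theorem index_253 (x : GolayPt) (H : Subgroup ↥(MulAction.stabilizer ↥M24 x)) (hH : H.index = 253) :
    (∃ s : Finset GolayPt, s.card = 2 ∧ x ∉ s ∧
        H = (MulAction.stabilizer ↥M24 s).subgroupOf (MulAction.stabilizer ↥M24 x)) ∨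
      ∃ o ∈ octads, x ∈ o ∧ H = (MulAction.stabilizer ↥M24 o).subgroupOf (MulAction.stabilizer ↥M24 x) := by
  have hcH : Nat.card ↥H = 40320 := by
    have h1 := Subgroup.index_mul_card H
    rw [card_stabilizer_M24 x, hH] at h1
    omega
  have := M24_isPretransitive
  obtain ⟨u, hu⟩ := MulAction.exists_smul_eq ↥M24 (gPt 23) x
  have hu' : u.1 (gPt 23) = x := hu
  set K : Subgroup (Equiv.Perm GolayPt) :=
    ((H.map (MulAction.stabilizer ↥M24 x).subtype).map M24.subtype).map (MulAut.conj u.1⁻¹).toMonoidHom with hKdef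
  have hmem : ∀ g, g ∈ K ↔ ∃ h ∈ H, u.1⁻¹ * h.1.1 * u.1 = g := by
    intro g
    constructor
    · rintro ⟨_, ⟨_, ⟨h, hh, rfl⟩, rfl⟩, rfl⟩
      refine ⟨h, hh, ?_⟩
      show u.1⁻¹ * h.1.1 * u.1 = u.1⁻¹ * h.1.1 * u.1⁻¹⁻¹
      rw [inv_inv]
    · rintro ⟨h, hh, rfl⟩
      refine ⟨h.1.1, ⟨h.1, ⟨h, hh, rfl⟩, rfl⟩, ?_⟩
      show u.1⁻¹ * h.1.1 * u.1⁻¹⁻¹ = u.1⁻¹ * h.1.1 * u.1
      rw [inv_inv]
  have hK : K ≤ fixSub M24 [23] := by
    intro g hg
    obtain ⟨h, -, rfl⟩ := (hmem g).1 hg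
    have hx : h.1.1 x = x := by
      have := h.2
      rw [MulAction.mem_stabilizer_iff] at this
      exact this
    rw [mem_fixSub]
    refine ⟨M24.mul_mem (M24.mul_mem (M24.inv_mem u.2) h.1.2) u.2, ?_⟩
    intro k hk
    simp only [List.mem_cons, List.not_mem_nil, or_false] at hk
    subst hk
    rw [Equiv.Perm.mul_apply, Equiv.Perm.mul_apply, hu', hx, Equiv.Perm.inv_eq_iff_eq, hu']
  have hcK : Nat.card ↥K = 40320 := by
    rw [hKdef, Subgroup.card_map_of_injective (MulAut.conj u.1⁻¹).injective,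
      Subgroup.card_map_of_injective M24.subtype_injective,
      Subgroup.card_map_of_injective (MulAction.stabilizer ↥M24 x).subtype_injective, hcH]
  rcases index_253_core hK hcK with ⟨o, ho, h23, hiff⟩ | ⟨s, hs, h23, hiff⟩
  · right
    refine ⟨u.1 • o, smul_mem_octads u.2 ho, ?_, eq_subgroupOf_of_conj H u K o hmem hu' hiff⟩
    rw [← hu']
    exact Finset.smul_mem_smul_finset h23
  · left
    refine ⟨u.1 • s, by rw [Finset.card_smul_finset, hs], ?_, eq_subgroupOf_of_conj H u K s hmem hu' hiff⟩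
    rw [← hu']
    intro hcon
    rw [Finset.mem_smul_finset] at hcon
    obtain ⟨q, hq, e⟩ := hcon
    rw [Equiv.Perm.smul_def] at e
    rw [u.1.injective e] at hq
    exact h23 hq


end Cfsg.Agent.Lib.H28.SylDC23
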