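import Cfsg.Agent.Lib.H28.StemSplitD

/-!
# Stem extensions of multiply transitive groups, V (helper28)

Counting: the kernel of the stem extension has at most two elements.
-/

set_option autoImplicit false

namespace Cfsg.Agent.Lib.H28.StemSplit

universe u v w

open scoped commutatorElement

variable {G : Type u} [Group G] {α : Type w} [MulAction G α] {Γ : Type v} [Group Γ]

namespace Setup

variable {S : Setup G α Γ} (C : S.Cov)

namespace Cov

theorem card_A_o [Finite Γ] : Nat.card ↥(S.A C.o) = Nat.card ↥(MulAction.stabilizer G C.o) := by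
  have hinj : Function.Injective (S.tau C.o) := (MonoidHom.ker_eq_bot_iff _).1 (S.tau_ker C.ho)
  exact Nat.card_congr (Equiv.ofBijective _ ⟨hinj, (S.tau_stem C.ho).1⟩)

omit C in
theorem card_Γ (S : Setup G α Γ) : Nat.card Γ = Nat.card S.σ.ker * Nat.card G := by
  rw [← Subgroup.card_mul_index S.σ.ker, Subgroup.index_ker, MonoidHom.range_eq_top.2 S.hsurj,
    Subgroup.card_top]

theorem orbit_eq : MulAction.orbit G C.o = (S.D : Set α) := by
  ext a
  constructor
  · rintro ⟨g, rfl⟩
    exact S.hinv g _ C.ho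
  · intro ha
    obtain ⟨g, hg⟩ := S.trans1 C.ho ha
    exact ⟨g, hg⟩

theorem card_G : Nat.card G = S.D.card * Nat.card ↥(MulAction.stabilizer G C.o) := by
  rw [← Subgroup.card_mul_index (MulAction.stabilizer G C.o), MulAction.index_stabilizer, C.orbit_eq,
    Set.ncard_coe_finset, mul_comm]

theorem card_le [Finite Γ] : Nat.card Γ ≤ S.D.card * Nat.card ↥(S.A C.o) * 2 := by
  let f : (↥S.D × ↥(S.A C.o)) × Bool → Γ := fun t => C.R t.1.1.1 * t.1.2.1 * (if t.2 then C.z0 else 1)
  have hf : Function.Surjective f := by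
    intro γ
    obtain ⟨k, hk, hm⟩ := C.cover γ
    obtain ⟨y, hy, e⟩ := C.mem_M.1 hm
    rcases e with e | e
    · refine ⟨((⟨k, hk⟩, ⟨y, hy⟩), false), ?_⟩
      show C.R k * y * (if false = true then C.z0 else 1) = γ
      rw [if_neg (by simp), mul_one, ← e]; group
    · refine ⟨((⟨k, hk⟩, ⟨y, hy⟩), true), ?_⟩
      show C.R k * y * (if true = true then C.z0 else 1) = γ
      rw [if_pos rfl, mul_assoc, ← e]; group
  have h1 := Nat.card_le_card_of_surjective f hf
  rw [Nat.card_prod, Nat.card_prod, Nat.card_eq_fintype_card (α := ↥S.D), Fintype.card_coe,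
    Nat.card_eq_fintype_card (α := Bool), Fintype.card_bool] at h1
  exact h1

include C in
theorem ker_le_two [Finite Γ] : Nat.card S.σ.ker ≤ 2 := by
  have h1 := C.card_le
  rw [card_Γ S, C.card_A_o, ← C.card_G] at h1
  have := S.finite_G
  have hpos : 0 < Nat.card G := Nat.card_pos
  have h2 : Nat.card S.σ.ker * Nat.card G ≤ 2 * Nat.card G := by rw [mul_comm 2]; exact h1
  exact Nat.le_of_mul_le_mul_right h2 hpos

end Cov

/-- Main bound: a finite stem extension of a 3-transitive group with perfect, Schur-trivial point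
stabilizers and two-point stabilizers of abelianization at most 2 has kernel of order at most 2. -/
theorem card_ker_le_two (S : Setup G α Γ) [Finite Γ] {a0 b0 : α} (ha0 : a0 ∈ S.D) (hb0 : b0 ∈ S.D)
    (hne : a0 ≠ b0)
    (hidx : (commutator ↥(MulAction.stabilizer G a0 ⊓ MulAction.stabilizer G b0)).index ≤ 2) :
    Nat.card S.σ.ker ≤ 2 := by
  obtain ⟨z0, hz0, hsq, hz⟩ := S.exists_z0 ha0 hb0 hne hidx
  exact Cov.ker_le_two (S := S) ⟨a0, ha0, z0, hz0, hsq, hz⟩

namespace Cov

theorem card_le_of_z0 [Finite Γ] (h0 : C.z0 = 1) : Nat.card Γ ≤ S.D.card * Nat.card ↥(S.A C.o) := by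
  let f : ↥S.D × ↥(S.A C.o) → Γ := fun t => C.R t.1.1 * t.2.1
  have hf : Function.Surjective f := by
    intro γ
    obtain ⟨k, hk, hm⟩ := C.cover γ
    obtain ⟨y, hy, e⟩ := C.mem_M.1 hm
    have e' : (C.R k)⁻¹ * γ = y := by
      rcases e with e | e
      · exact e
      · rw [e, h0, mul_one]
    refine ⟨(⟨k, hk⟩, ⟨y, hy⟩), ?_⟩
    show C.R k * y = γ
    rw [← e']; group
  have h1 := Nat.card_le_card_of_surjective f hf
  rw [Nat.card_prod, Nat.card_eq_fintype_card (α := ↥S.D), Fintype.card_coe] at h1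
  exact h1

include C in
theorem ker_eq_bot_of_z0 [Finite Γ] (h0 : C.z0 = 1) : S.σ.ker = ⊥ := by
  have h1 := C.card_le_of_z0 h0
  rw [card_Γ S, C.card_A_o, ← C.card_G] at h1
  have := S.finite_G
  have hpos : 0 < Nat.card G := Nat.card_pos
  have h2 : Nat.card S.σ.ker * Nat.card G ≤ 1 * Nat.card G := by rw [one_mul]; exact h1
  have h3 : Nat.card S.σ.ker ≤ 1 := Nat.le_of_mul_le_mul_right h2 hpos
  have h4 : Subsingleton ↥S.σ.ker := (Finite.card_le_one_iff_subsingleton).1 h3
  exact Subgroup.eq_bot_of_subsingleton _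

end Cov

/-- If moreover the two-point stabilizer is perfect, the stem extension is an isomorphism. -/
theorem ker_eq_bot_of_perfect (S : Setup G α Γ) [Finite Γ] {a0 b0 : α} (ha0 : a0 ∈ S.D) (hb0 : b0 ∈ S.D)
    (hne : a0 ≠ b0)
    (hK : commutator ↥(MulAction.stabilizer G a0 ⊓ MulAction.stabilizer G b0) = ⊤) :
    S.σ.ker = ⊥ := by
  have hz := S.dl_eq_one_of_perfect ha0 hb0 hne hK
  exact Cov.ker_eq_bot_of_z0 (S := S)
    ⟨a0, ha0, 1, Subgroup.one_mem _, one_mul 1, fun a ha b hb h h1 h2 => Or.inl (hz a ha b hb h h1 h2)⟩ rfl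

end Setup

end Cfsg.Agent.Lib.H28.StemSplit
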