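import Cfsg.Agent.Lib.H28.M23Heptad
import Cfsg.Agent.Lib.H28.StemTools2
import Cfsg.Agent.Lib.H28.StemSplitE
import Cfsg.Agent.Lib.H28.M12Mult
import Cfsg.Agent.Lib.H28.M23M22Simple
import Cfsg.Agent.S5620

/-!
# The Schur multiplier of `M₂₃` is trivial (helper28)

Odd primes: transfer into `M₁₁` (trivial multiplier) and into cyclic subgroups of orders 7 and 23.
The prime 2: in a stem extension with kernel of order two all involutions lift to involutions
(because of `M₁₁`); the preimage of the subgroup `2⁴:A₇` would again be a stem extension, its point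
stabilizers `A₇` split because their dihedral Sylow subgroups do, the two-point stabilizers `L₃(2)`
are perfect, and the amalgam argument shows that the kernel is trivial.
-/

set_option autoImplicit false
set_option maxRecDepth 100000

namespace Cfsg.Agent.Lib.H28.M23Mult

open Cfsg Cfsg.Agent.Lib.H28 Cfsg.Agent.Lib.H28.M23H Cfsg.Agent.Lib.H28.StemTools
open scoped Pointwise commutatorElement

/-- `M₂₃` -/
abbrev G23 : Subgroup (Equiv.Perm GolayPt) := fixSub M24 [23]

theorem card_G23 : Nat.card G23 = 10200960 := by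
  apply le_antisymm card_fixSub_chain.1
  have h := card_fixSub_le M24 [] 23 Finset.univ (fun g _ => Finset.mem_univ _)
  rw [fixSub_nil, card_M24, Finset.card_univ, card_GolayPt] at h
  show 10200960 ≤ Nat.card (fixSub M24 [23])
  omega

/-! ### the subgroup `M₁₁` -/

theorem W23_eq : W23 = Cfsg.Spor.M12 ⊓ MulAction.stabilizer (Equiv.Perm GolayPt) (none : GolayPt) := by
  unfold Cfsg.Spor.M12
  rw [squareDodecad_eq_ptsMask, ← gPt_23_eq]
  rfl

noncomputable def eW : ↥W23 ≃* ↥G11 :=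
  (MulEquiv.subgroupCongr W23_eq).trans ((Classical.choice Cfsg.Agent.S5620.result.1).trans
    (MulEquiv.subgroupCongr Cfsg.Agent.Lib.H18.M11Mult.M11_eq))

theorem W23_le : W23 ≤ G23 := by
  intro g hg
  rw [mem_fixSub] at hg ⊢
  exact ⟨stabMask_le_M24 _ hg.1, hg.2⟩

/-- `M₁₁` as a subgroup of `M₂₃`. -/
abbrev Wsub : Subgroup ↥G23 := W23.subgroupOf G23

noncomputable def eWsub : ↥Wsub ≃* ↥G11 := (Subgroup.subgroupOfEquivOfLe W23_le).trans eW

theorem Wsub_perf : ⁅Wsub, Wsub⁆ = Wsub :=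
  M12Mult.perfect_subgroup_of_equiv Wsub eWsub commutator_G11_eq_top

theorem Wsub_mult : ∀ (E : Type) [Group E] [Finite E] (τ : E →* ↥Wsub),
    Cfsg.IsStemExtension τ → τ.ker = ⊥ :=
  M12Mult.stem_trivial_of_equiv eWsub
    (fun E _ _ τ hτ => Cfsg.Agent.Lib.H18.M11Mult.ker_eq_bot E τ hτ)

theorem Wsub_index : Wsub.index = 1288 := by
  have h := Subgroup.card_mul_index Wsub
  rw [Nat.card_congr eWsub.toEquiv, Cfsg.Agent.Lib.H18.M11Mult.card_G11, card_G23] at h
  omega

/-! ### the odd part of the kernel -/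

theorem index_zpowers {c : ↥G23} {r : ℕ} (hr : r.Prime) (hc : c ^ r = 1) (hc1 : c ≠ 1) :
    r * (Subgroup.zpowers c).index = 10200960 := by
  have h := Subgroup.card_mul_index (Subgroup.zpowers c)
  rw [Nat.card_zpowers, card_G23] at h
  have : Fact r.Prime := ⟨hr⟩
  rw [orderOf_eq_prime hc hc1] at h
  exact h

theorem prime_cases {r : ℕ} (hr : r.Prime) (h : r ∣ 10200960) :
    r = 2 ∨ r = 3 ∨ r = 5 ∨ r = 7 ∨ r = 11 ∨ r = 23 := by
  have e : (10200960 : ℕ) = 2 ^ 7 * (3 ^ 2 * (5 * (7 * (11 * 23)))) := by norm_num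
  rw [e] at h
  rcases (Nat.Prime.dvd_mul hr).1 h with h | h
  · left
    exact (Nat.prime_dvd_prime_iff_eq hr Nat.prime_two).1 (hr.dvd_of_dvd_pow h)
  rcases (Nat.Prime.dvd_mul hr).1 h with h | h
  · right; left
    exact (Nat.prime_dvd_prime_iff_eq hr Nat.prime_three).1 (hr.dvd_of_dvd_pow h)
  rcases (Nat.Prime.dvd_mul hr).1 h with h | h
  · right; right; left
    exact (Nat.prime_dvd_prime_iff_eq hr (by norm_num)).1 h
  rcases (Nat.Prime.dvd_mul hr).1 h with h | h
  · right; right; right; left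
    exact (Nat.prime_dvd_prime_iff_eq hr (by norm_num)).1 h
  rcases (Nat.Prime.dvd_mul hr).1 h with h | h
  · right; right; right; right; left
    exact (Nat.prime_dvd_prime_iff_eq hr (by norm_num)).1 h
  · right; right; right; right; right
    exact (Nat.prime_dvd_prime_iff_eq hr (by norm_num)).1 h

theorem odd_part {Γ : Type} [Group Γ] [Finite Γ] (σ : Γ →* ↥G23) (hσ : Cfsg.IsStemExtension σ)
    {x : Γ} (hx : x ∈ σ.ker) {r : ℕ} (hr : r.Prime) (hr2 : r ≠ 2) (hxr : x ^ r = 1) : x = 1 := by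
  by_cases hdvd : r ∣ 10200960
  · rcases prime_cases hr hdvd with rfl | rfl | rfl | rfl | rfl | rfl
    · exact absurd rfl hr2
    · exact eq_one_of_subgroup_trivial σ hσ Wsub Wsub_perf Wsub_mult hx hxr (by rw [Wsub_index]; decide)
    · exact eq_one_of_subgroup_trivial σ hσ Wsub Wsub_perf Wsub_mult hx hxr (by rw [Wsub_index]; decide)
    · have hc : (⟨wordPerm c7, wordPerm_mem_G23 c7_facts.1⟩ : ↥G23) ^ 7 = 1 := Subtype.ext c7_pow
      have hc1 : (⟨wordPerm c7, wordPerm_mem_G23 c7_facts.1⟩ : ↥G23) ≠ 1 :=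
        fun h => c7_ne (congrArg Subtype.val h)
      have hi := index_zpowers hr hc hc1
      refine eq_one_of_cyclic σ hσ (⟨wordPerm c7, wordPerm_mem_G23 c7_facts.1⟩ : ↥G23) hx hxr ?_
      have : (Subgroup.zpowers (⟨wordPerm c7, wordPerm_mem_G23 c7_facts.1⟩ : ↥G23)).index = 1457280 := by
        omega
      rw [this]
      decide
    · exact eq_one_of_subgroup_trivial σ hσ Wsub Wsub_perf Wsub_mult hx hxr (by rw [Wsub_index]; decide)
    · have hc : (⟨wordPerm c23, wordPerm_mem_G23 c23_facts.1⟩ : ↥G23) ^ 23 = 1 := Subtype.ext c23_pow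
      have hc1 : (⟨wordPerm c23, wordPerm_mem_G23 c23_facts.1⟩ : ↥G23) ≠ 1 :=
        fun h => c23_ne (congrArg Subtype.val h)
      have hi := index_zpowers hr hc hc1
      refine eq_one_of_cyclic σ hσ (⟨wordPerm c23, wordPerm_mem_G23 c23_facts.1⟩ : ↥G23) hx hxr ?_
      have : (Subgroup.zpowers (⟨wordPerm c23, wordPerm_mem_G23 c23_facts.1⟩ : ↥G23)).index = 443520 := by
        omega
      rw [this]
      decide
  · refine eq_one_of_coprime_card σ hσ hx hxr ?_
    rw [card_G23, Nat.coprime_comm]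
    exact (Nat.Prime.coprime_iff_not_dvd hr).2 hdvd

theorem isPGroup_ker {Γ : Type} [Group Γ] [Finite Γ] (σ : Γ →* ↥G23) (hσ : Cfsg.IsStemExtension σ) :
    IsPGroup 2 σ.ker := by
  intro g
  have hn0 : orderOf g.1 ≠ 0 := (orderOf_pos g.1).ne'
  have hpow := Nat.eq_prime_pow_of_unique_prime_dvd (p := 2) hn0 (by
    intro d hd hdvd
    by_contra hd2
    obtain ⟨m, hm⟩ := hdvd
    have hy : (g.1 ^ m) ^ d = 1 := by
      rw [← pow_mul, mul_comm, ← hm, pow_orderOf_eq_one]
    have hy1 := odd_part σ hσ (σ.ker.pow_mem g.2 m) hd hd2 hy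
    have h1 := orderOf_dvd_of_pow_eq_one hy1
    have hmpos : 0 < m := by
      rcases Nat.eq_zero_or_pos m with h | h
      · rw [h, mul_zero] at hm
        exact absurd hm hn0
      · exact h
    have h2 := Nat.le_of_dvd hmpos h1
    have h3 : 2 ≤ d := hd.two_le
    nlinarith)
  refine ⟨(orderOf g.1).primeFactorsList.length, ?_⟩
  apply Subtype.ext
  rw [Subgroup.coe_pow, ← hpow, pow_orderOf_eq_one]
  rfl

end Cfsg.Agent.Lib.H28.M23Mult
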