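import Cfsg.Agent.Lib.H28.M23Mult

/-!
# The multiplier of `M₂₃`: the splitting over `2⁴:A₇` (helper28)
-/

set_option autoImplicit false
set_option maxRecDepth 100000
set_option linter.unusedSectionVars false

namespace Cfsg.Agent.Lib.H28.M23Mult

open Cfsg Cfsg.Agent.Lib.H28 Cfsg.Agent.Lib.H28.M23H Cfsg.Agent.Lib.H28.StemTools
open scoped commutatorElement

/-! ### generic stabilizer isomorphisms -/

/-- The stabilizer of a point in `fixSub K L`. -/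
noncomputable def stabFixEquiv (K : Subgroup (Equiv.Perm GolayPt)) (L : List ℕ) (k : ℕ) :
    ↥(MulAction.stabilizer ↥(fixSub K L) (gPt k)) ≃* ↥(fixSub K (k :: L)) where
  toFun x := ⟨x.1.1, by
    rw [fixSub_cons, Subgroup.mem_inf]
    exact ⟨x.1.2, MulAction.mem_stabilizer_iff.2 (MulAction.mem_stabilizer_iff.1 x.2)⟩⟩
  invFun y := ⟨⟨y.1, (Subgroup.mem_inf.1 y.2).1⟩, by
    rw [MulAction.mem_stabilizer_iff]
    exact MulAction.mem_stabilizer_iff.1 (Subgroup.mem_inf.1 y.2).2⟩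
  left_inv x := rfl
  right_inv y := rfl
  map_mul' x y := rfl

/-- The stabilizer of two points in `fixSub K L`. -/
noncomputable def stabFixEquiv2 (K : Subgroup (Equiv.Perm GolayPt)) (L : List ℕ) (k j : ℕ) :
    ↥(MulAction.stabilizer ↥(fixSub K L) (gPt k) ⊓ MulAction.stabilizer ↥(fixSub K L) (gPt j)) ≃*
      ↥(fixSub K (j :: k :: L)) where
  toFun x := ⟨x.1.1, by
    rw [fixSub_cons, fixSub_cons, Subgroup.mem_inf, Subgroup.mem_inf]
    have h := Subgroup.mem_inf.1 x.2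
    exact ⟨⟨x.1.2, MulAction.mem_stabilizer_iff.2 (MulAction.mem_stabilizer_iff.1 h.1)⟩,
      MulAction.mem_stabilizer_iff.2 (MulAction.mem_stabilizer_iff.1 h.2)⟩⟩
  invFun y := ⟨⟨y.1, (Subgroup.mem_inf.1 (Subgroup.mem_inf.1 y.2).1).1⟩, by
    refine Subgroup.mem_inf.2 ⟨MulAction.mem_stabilizer_iff.2 ?_, MulAction.mem_stabilizer_iff.2 ?_⟩
    · exact MulAction.mem_stabilizer_iff.1 (Subgroup.mem_inf.1 (Subgroup.mem_inf.1 y.2).1).2
    · exact MulAction.mem_stabilizer_iff.1 (Subgroup.mem_inf.1 y.2).2⟩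
  left_inv x := rfl
  right_inv y := rfl
  map_mul' x y := rfl

theorem commutator_eq_top_of_perfect {G : Type*} [Group G] (H : Subgroup G) (h : ⁅H, H⁆ = H) :
    commutator ↥H = ⊤ := by
  apply Subgroup.map_injective H.subtype_injective
  rw [Subgroup.map_subtype_commutator, h, ← MonoidHom.range_eq_map, Subgroup.range_subtype]

theorem mem_commutator_sub {G : Type*} [Group G] (E : Subgroup G) (x : ↥E) (h : x.1 ∈ ⁅E, E⁆) :
    x ∈ commutator ↥E := by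
  rw [← Subgroup.map_subtype_commutator] at h
  obtain ⟨y, hy, hyx⟩ := h
  have : y = x := Subtype.ext hyx
  rw [← this]
  exact hy

/-! ### the group `2⁴:A₇` acting on the sixteen points -/

theorem smulU (g : ↥Uo) (p : GolayPt) : g • p = g.1 p := rfl

theorem Uo_le_G23 : Uo ≤ G23 := by
  intro g hg
  rw [mem_fixSub] at hg ⊢
  exact ⟨stabMask_le_M24 _ hg.1, hg.2⟩

theorem P4_le_Uo : P4 ≤ Uo := by
  intro g hg
  rw [mem_fixSub] at hg ⊢
  exact ⟨hg.1, fun k hk => hg.2 k (by simp only [List.mem_singleton] at hk; subst hk; simp)⟩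

theorem invU (g : ↥Uo) (a : GolayPt) (ha : a ∈ ptsMask octC) : g • a ∈ ptsMask octC := by
  have := (So_preserves_D g.1 (Uo_le_So g.2) a).2 (Finset.mem_coe.2 ha)
  exact Finset.mem_coe.1 this

theorem transU : ∀ n ≤ 3, ∀ x y : Fin n → GolayPt, Function.Injective x → Function.Injective y →
    (∀ i, x i ∈ ptsMask octC) → (∀ i, y i ∈ ptsMask octC) →
    ∃ g : ↥Uo, ∀ i, g • x i = y i := by
  intro n hn x y hx hy hxd hyd
  obtain ⟨g, hg, hmap⟩ := uo_trans n hn x y hx hy hxd hyd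
  exact ⟨⟨g, hg⟩, hmap⟩

theorem card_D : (ptsMask octC).card = 16 := by
  unfold ptsMask
  decide +kernel

theorem gPt4_mem : gPt 4 ∈ ptsMask octC := by
  rw [mem_ptsMask, gIdx_gPt (by norm_num)]
  decide

theorem gPt6_mem : gPt 6 ∈ ptsMask octC := by
  rw [mem_ptsMask, gIdx_gPt (by norm_num)]
  decide

theorem exists_to_four {a : GolayPt} (ha : a ∈ ptsMask octC) :
    ∃ g : ↥Uo, gPt 4 = g • a := by
  obtain ⟨g, hg⟩ := transU 1 (by norm_num) ![a] ![gPt 4]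
    (fun i j _ => Subsingleton.elim i j) (fun i j _ => Subsingleton.elim i j)
    (by intro i; fin_cases i; simpa using ha) (by intro i; fin_cases i; simpa using gPt4_mem)
  exact ⟨g, (hg 0).symm⟩

/-- Every point stabilizer of `2⁴:A₇` on the sixteen points is `A₇`. -/
noncomputable def stabEquivU {a : GolayPt} (ha : a ∈ ptsMask octC) :
    ↥(MulAction.stabilizer ↥Uo a) ≃* ↥P4 :=
  (MulAction.stabilizerEquivStabilizer (Classical.choose_spec (exists_to_four ha))).trans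
    (stabFixEquiv So [23] 4)

theorem perfU {a : GolayPt} (ha : a ∈ ptsMask octC) :
    ⁅MulAction.stabilizer ↥Uo a, MulAction.stabilizer ↥Uo a⁆ = MulAction.stabilizer ↥Uo a :=
  M12Mult.perfect_subgroup_of_equiv _ (stabEquivU ha) (commutator_eq_top_of_perfect P4 P4_perfect)

theorem perfK :
    commutator ↥(MulAction.stabilizer ↥Uo (gPt 4) ⊓ MulAction.stabilizer ↥Uo (gPt 6)) = ⊤ :=
  M12Mult.commutator_eq_top_of_equiv (stabFixEquiv2 So [23] 4 6)
    (commutator_eq_top_of_perfect K6 K6_perfect)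

theorem index_Uo : (Uo.subgroupOf G23).index = 253 := by
  have h := Subgroup.card_mul_index (Uo.subgroupOf G23)
  rw [Nat.card_congr (Subgroup.subgroupOfEquivOfLe Uo_le_G23).toEquiv, card_Uo, card_G23] at h
  omega

/-! ### the dihedral group of order eight in `A₇` -/

theorem card_Dg :
    Nat.card (Subgroup.closure ({wordPerm wr, wordPerm ws} : Set (Equiv.Perm GolayPt))) = 8 :=
  le_antisymm (card_closure_dihedral_le _ _ wr_pow ws_pow wrs_pow) card_Dg_ge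

theorem Dg_le_P4 :
    Subgroup.closure ({wordPerm wr, wordPerm ws} : Set (Equiv.Perm GolayPt)) ≤ P4 := by
  rw [Subgroup.closure_le]
  intro x hx
  rcases hx with rfl | rfl
  · exact wr_mem_P4
  · exact ws_mem_P4

theorem relIndex_Dg :
    (Subgroup.closure ({wordPerm wr, wordPerm ws} : Set (Equiv.Perm GolayPt))).relIndex P4 = 315 := by
  have h := Subgroup.card_mul_index
    ((Subgroup.closure ({wordPerm wr, wordPerm ws} : Set (Equiv.Perm GolayPt))).subgroupOf P4)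
  rw [Nat.card_congr (Subgroup.subgroupOfEquivOfLe Dg_le_P4).toEquiv, card_Dg, card_P4] at h
  unfold Subgroup.relIndex
  omega

/-! ### a stem extension with kernel of exponent two -/

section Main

variable {Γ : Type} [Group Γ] [Finite Γ] (σ : Γ →* ↥G23)

/-- The composite into the permutations. -/
noncomputable def rho : Γ →* Equiv.Perm GolayPt := G23.subtype.comp σ

/-- The preimage of `2⁴:A₇`. -/
noncomputable def E : Subgroup Γ := Uo.comap (rho σ)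

/-- The restriction of `σ` to it. -/
noncomputable def sigE : ↥(E σ) →* ↥Uo := (rho σ).subgroupComap Uo

theorem sigE_coe (x : ↥(E σ)) : (sigE σ x).1 = (σ x.1).1 := rfl

theorem mem_E {x : Γ} : x ∈ E σ ↔ (σ x).1 ∈ Uo := Iff.rfl

theorem sigE_surj (hs : Function.Surjective σ) : Function.Surjective (sigE σ) := by
  intro u
  obtain ⟨x, hx⟩ := hs ⟨u.1, Uo_le_G23 u.2⟩
  have hxE : x ∈ E σ := by
    rw [mem_E, hx]
    exact u.2
  exact ⟨⟨x, hxE⟩, Subtype.ext (by rw [sigE_coe, hx])⟩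

theorem sigE_ker {x : ↥(E σ)} : x ∈ (sigE σ).ker ↔ x.1 ∈ σ.ker := by
  rw [MonoidHom.mem_ker, MonoidHom.mem_ker]
  constructor
  · intro h
    have h1 := congrArg Subtype.val h
    rw [sigE_coe] at h1
    exact Subtype.ext h1
  · intro h
    apply Subtype.ext
    rw [sigE_coe, h]
    rfl

theorem ker_le_E : σ.ker ≤ E σ := by
  intro x hx
  rw [mem_E, MonoidHom.mem_ker.1 hx]
  exact Uo.one_mem

theorem index_E (hs : Function.Surjective σ) : (E σ).index = 253 := by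
  have h : E σ = (Uo.subgroupOf G23).comap σ := rfl
  rw [h, Subgroup.index_comap_of_surjective _ hs, index_Uo]

theorem sigE_ker_le_center (hc : σ.ker ≤ Subgroup.center Γ) :
    (sigE σ).ker ≤ Subgroup.center ↥(E σ) := by
  intro x hx
  have h := Subgroup.mem_center_iff.1 (hc ((sigE_ker σ).1 hx))
  rw [Subgroup.mem_center_iff]
  intro g
  apply Subtype.ext
  exact h g.1

theorem sigE_ker_le_commutator (hσ : Cfsg.IsStemExtension σ) (hk2 : ∀ k ∈ σ.ker, k ^ 2 = 1) :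
    (sigE σ).ker ≤ commutator ↥(E σ) := by
  obtain ⟨hs, hc, hd⟩ := hσ
  intro x hx
  have hxk := (sigE_ker σ).1 hx
  apply mem_commutator_sub
  have hfi : (E σ).FiniteIndex := ⟨by rw [index_E σ hs]; norm_num⟩
  refine mem_commutator_of_central (E σ) (hc hxk) x.2 (hd hxk) (hk2 _ hxk) ?_
  rw [index_E σ hs]
  decide

/-- The preimage of the point stabilizer `A₇`. -/
noncomputable def XE : Subgroup ↥(E σ) := (MulAction.stabilizer ↥Uo (gPt 4)).comap (sigE σ)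

/-- The map from it to the permutations. -/
noncomputable def piX : ↥(XE σ) →* Equiv.Perm GolayPt :=
  (rho σ).comp ((E σ).subtype.comp (XE σ).subtype)

theorem piX_apply (x : ↥(XE σ)) : piX σ x = (σ x.1.1).1 := rfl

theorem mem_XE {x : ↥(E σ)} : x ∈ XE σ ↔ (σ x.1).1 (gPt 4) = gPt 4 := by
  unfold XE
  rw [Subgroup.mem_comap, MulAction.mem_stabilizer_iff]
  rfl

theorem piX_ker_le (hc : σ.ker ≤ Subgroup.center Γ) : (piX σ).ker ≤ Subgroup.center ↥(XE σ) := by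
  intro x hx
  rw [MonoidHom.mem_ker, piX_apply] at hx
  have hx' : x.1.1 ∈ σ.ker := MonoidHom.mem_ker.2 (Subtype.ext hx)
  have h := Subgroup.mem_center_iff.1 (hc hx')
  rw [Subgroup.mem_center_iff]
  intro g
  apply Subtype.ext
  apply Subtype.ext
  exact h g.1.1

theorem piX_range (hs : Function.Surjective σ) : (piX σ).range = P4 := by
  ext p
  constructor
  · rintro ⟨x, rfl⟩
    rw [piX_apply]
    show (σ x.1.1).1 ∈ fixSub So [4, 23]
    rw [fixSub_cons, Subgroup.mem_inf]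
    exact ⟨x.1.2, MulAction.mem_stabilizer_iff.2 ((mem_XE σ).1 x.2)⟩
  · intro hp
    obtain ⟨γ, hγ⟩ := hs ⟨p, Uo_le_G23 (P4_le_Uo hp)⟩
    have hγE : γ ∈ E σ := by
      rw [mem_E, hγ]
      exact P4_le_Uo hp
    have hγX : (⟨γ, hγE⟩ : ↥(E σ)) ∈ XE σ := by
      rw [mem_XE, hγ]
      exact (mem_fixSub.1 hp).2 4 (by simp)
    exact ⟨⟨⟨γ, hγE⟩, hγX⟩, by rw [piX_apply, hγ]⟩

theorem sub_pow_eq_one {G : Type*} [Group G] {H : Subgroup G} {a : G} (ha : a ∈ H) {n : ℕ}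
    (h : a ^ n = 1) : (⟨a, ha⟩ : ↥H) ^ n = 1 :=
  Subtype.ext (by rw [Subgroup.coe_pow]; exact h)

theorem sub_mul_pow_eq_one {G : Type*} [Group G] {H : Subgroup G} {a b : G} (ha : a ∈ H) (hb : b ∈ H)
    {n : ℕ} (h : (a * b) ^ n = 1) : ((⟨a, ha⟩ : ↥H) * ⟨b, hb⟩) ^ n = 1 :=
  Subtype.ext (by rw [Subgroup.coe_pow]; exact h)

theorem sub_conj_mem {G : Type*} [Group G] {H W : Subgroup G} {g t : G} (hg : g ∈ H) (ht : t ∈ H)
    (h : g * t * g⁻¹ ∈ W) : (⟨g, hg⟩ : ↥H) * ⟨t, ht⟩ * (⟨g, hg⟩ : ↥H)⁻¹ ∈ W.subgroupOf H :=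
  Subgroup.mem_subgroupOf.2 h

theorem sub_conj_mul_mem {G : Type*} [Group G] {H W : Subgroup G} {g a b : G} (hg : g ∈ H) (ha : a ∈ H)
    (hb : b ∈ H) (h : g * (a * b) * g⁻¹ ∈ W) :
    (⟨g, hg⟩ : ↥H) * ((⟨a, ha⟩ : ↥H) * ⟨b, hb⟩) * (⟨g, hg⟩ : ↥H)⁻¹ ∈ W.subgroupOf H :=
  Subgroup.mem_subgroupOf.2 h

/-- In a stem extension with kernel of exponent two, the dihedral group lifts. -/
theorem exists_dihedral_lift (hσ : Cfsg.IsStemExtension σ) (hk2 : ∀ k ∈ σ.ker, k ^ 2 = 1) :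
    ∃ γr γs : Γ, (σ γr).1 = wordPerm wr ∧ (σ γs).1 = wordPerm ws ∧ γr ^ 4 = 1 ∧ γs ^ 2 = 1 ∧
      (γr * γs) ^ 2 = 1 := by
  obtain ⟨hs, hc, hd⟩ := hσ
  have hrG : wordPerm wr ∈ G23 := Uo_le_G23 (P4_le_Uo wr_mem_P4)
  have hsG : wordPerm ws ∈ G23 := Uo_le_G23 (P4_le_Uo ws_mem_P4)
  obtain ⟨γr, hγr⟩ := hs ⟨wordPerm wr, hrG⟩
  obtain ⟨γs, hγs⟩ := hs ⟨wordPerm ws, hsG⟩
  refine ⟨γr, γs, by rw [hγr], by rw [hγs], ?_, ?_, ?_⟩
  · have h := sq_eq_one_of_conj σ hs hc hk2 Wsub Wsub_perf Wsub_mult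
      (sub_mul_pow_eq_one hrG hrG wr2_pow)
      (sub_conj_mul_mem (wordPerm_mem_G23 conj_facts.2.2.2.2.2) hrG hrG conj_r2) (γ := γr * γr)
      (by rw [map_mul, hγr])
    rw [← pow_two, ← pow_mul] at h
    exact h
  · exact sq_eq_one_of_conj σ hs hc hk2 Wsub Wsub_perf Wsub_mult
      (sub_pow_eq_one hsG ws_pow)
      (sub_conj_mem (wordPerm_mem_G23 conj_facts.2.2.2.1) hsG conj_s) (γ := γs) hγs
  · exact sq_eq_one_of_conj σ hs hc hk2 Wsub Wsub_perf Wsub_mult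
      (sub_mul_pow_eq_one hrG hsG wrs_pow)
      (sub_conj_mul_mem (wordPerm_mem_G23 conj_facts.2.2.2.2.1) hrG hsG conj_rs) (γ := γr * γs)
      (by rw [map_mul, hγr, hγs])

theorem split0 (hσ : Cfsg.IsStemExtension σ) (hk2 : ∀ k ∈ σ.ker, k ^ 2 = 1) :
    ∀ y ∈ ⁅XE σ, XE σ⁆, sigE σ y = 1 → y = 1 := by
  intro y hy hy1
  by_contra hne
  obtain ⟨γr, γs, hγr, hγs, h4, h2, hrs⟩ := exists_dihedral_lift σ hσ hk2
  obtain ⟨hs, hc, hd⟩ := hσ
  have hγrE : γr ∈ E σ := by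
    rw [mem_E, hγr]
    exact P4_le_Uo wr_mem_P4
  have hγsE : γs ∈ E σ := by
    rw [mem_E, hγs]
    exact P4_le_Uo ws_mem_P4
  have hγrX : (⟨γr, hγrE⟩ : ↥(E σ)) ∈ XE σ := by
    rw [mem_XE, hγr]
    exact (mem_fixSub.1 wr_mem_P4).2 4 (by simp)
  have hγsX : (⟨γs, hγsE⟩ : ↥(E σ)) ∈ XE σ := by
    rw [mem_XE, hγs]
    exact (mem_fixSub.1 ws_mem_P4).2 4 (by simp)
  have hπr : piX σ ⟨⟨γr, hγrE⟩, hγrX⟩ = wordPerm wr := hγr
  have hπs : piX σ ⟨⟨γs, hγsE⟩, hγsX⟩ = wordPerm ws := hγs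
  have hyX : y ∈ XE σ := Cfsg.Agent.Lib.H28.StemLift.comm_le_self _ hy
  have hzc : (⟨y, hyX⟩ : ↥(XE σ)) ∈ commutator ↥(XE σ) := mem_commutator_sub (XE σ) ⟨y, hyX⟩ hy
  have hzk : (⟨y, hyX⟩ : ↥(XE σ)) ∈ (piX σ).ker := by
    rw [MonoidHom.mem_ker, piX_apply]
    exact congrArg Subtype.val hy1
  have hyk : y.1 ∈ σ.ker := (sigE_ker σ).1 (MonoidHom.mem_ker.2 hy1)
  have hz2 : (⟨y, hyX⟩ : ↥(XE σ)) ^ 2 = 1 := by
    apply Subtype.ext
    apply Subtype.ext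
    exact hk2 _ hyk
  have hz1 : (⟨y, hyX⟩ : ↥(XE σ)) ≠ 1 := fun h => hne (congrArg Subtype.val h)
  refine not_mem_commutator_of_dihedral (piX σ) (piX_ker_le σ hc) ⟨⟨γr, hγrE⟩, hγrX⟩ ⟨⟨γs, hγsE⟩, hγsX⟩
    ?_ ?_ ?_ ?_ ?_ hzk hz2 hz1 hzc
  · apply Subtype.ext
    apply Subtype.ext
    exact h4
  · apply Subtype.ext
    apply Subtype.ext
    exact h2
  · apply Subtype.ext
    apply Subtype.ext
    exact hrs
  · rw [hπr, hπs]
    exact card_Dg_ge
  · rw [hπr, hπs, Subgroup.index_comap, piX_range σ hs, relIndex_Dg]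
    decide

/-- The setup for the amalgam argument in `2⁴:A₇`. -/
noncomputable def setupU (hσ : Cfsg.IsStemExtension σ) (hk2 : ∀ k ∈ σ.ker, k ^ 2 = 1) :
    StemSplit.Setup ↥Uo GolayPt ↥(E σ) where
  σ := sigE σ
  D := ptsMask octC
  hsurj := sigE_surj σ hσ.1
  hcen := sigE_ker_le_center σ hσ.2.1
  hder := sigE_ker_le_commutator σ hσ hk2
  hinv := invU
  htrans := transU
  hcard := by rw [card_D]; norm_num
  hperf := fun a ha => perfU ha
  a0 := gPt 4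
  ha0 := gPt4_mem
  hsplit0 := split0 σ hσ hk2

theorem ker_eq_bot_of_exp_two (hσ : Cfsg.IsStemExtension σ) (hk2 : ∀ k ∈ σ.ker, k ^ 2 = 1) :
    σ.ker = ⊥ := by
  have h : (sigE σ).ker = ⊥ :=
    (setupU σ hσ hk2).ker_eq_bot_of_perfect (a0 := gPt 4) (b0 := gPt 6) gPt4_mem gPt6_mem
      (gPt_ne (by norm_num) (by norm_num) (by norm_num)) perfK
  rw [Subgroup.eq_bot_iff_forall]
  intro x hx
  have hxE := ker_le_E σ hx
  have h1 : (⟨x, hxE⟩ : ↥(E σ)) ∈ (sigE σ).ker := (sigE_ker σ).2 hx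
  rw [h, Subgroup.mem_bot] at h1
  exact congrArg Subtype.val h1

end Main

/-- Every finite stem extension of `M₂₃` is an isomorphism. -/
theorem ker_eq_bot (Γ : Type) [Group Γ] [Finite Γ] (σ : Γ →* ↥G23) (hσ : Cfsg.IsStemExtension σ) :
    σ.ker = ⊥ := by
  by_contra hne
  obtain ⟨Γ', _, _, σ', hσ', h2⟩ := exists_stem_card_two σ hσ hne (isPGroup_ker σ hσ)
  have hk2 : ∀ k ∈ σ'.ker, k ^ 2 = 1 := by
    intro k hk
    have h := pow_card_eq_one' (G := ↥σ'.ker) (x := ⟨k, hk⟩)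
    rw [h2] at h
    exact congrArg Subtype.val h
  have h := ker_eq_bot_of_exp_two σ' hσ' hk2
  rw [h, Subgroup.card_bot] at h2
  omega

theorem M23_eq : Cfsg.Spor.M23 = G23 := by
  unfold Cfsg.Spor.M23
  rw [← gPt_23_eq]
  rfl

instance finite_G23 : Finite ↥G23 := inferInstance

theorem hasMult_G23 : Cfsg.HasCyclicSchurMultiplier ↥G23 1 :=
  Cfsg.Agent.Lib.H20.hasCyclicSchurMultiplier_one_of_ker (fun Γ _ _ σ hσ => ker_eq_bot Γ σ hσ)

theorem hasMult_M23 : Cfsg.HasCyclicSchurMultiplier ↥Cfsg.Spor.M23 1 := by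
  rw [M23_eq]
  exact hasMult_G23

end Cfsg.Agent.Lib.H28.M23Mult
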