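/-
helper28 library: the stabilizer of three points of a dodecad in the dodecad stabilizer (order 72), transitive on
the complementary dodecad.
-/
import Cfsg.Agent.Lib.H28.M12

set_option autoImplicit false

namespace Cfsg.Agent.Lib.H28

open scoped Pointwise
open Cfsg

theorem perm_inv_apply_self {α : Type*} (f : Equiv.Perm α) (x : α) : f⁻¹ (f x) = x := by
  rw [Equiv.Perm.inv_def, Equiv.symm_apply_apply]

theorem perm_apply_inv_self {α : Type*} (f : Equiv.Perm α) (x : α) : f (f⁻¹ x) = x := by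
  rw [Equiv.Perm.inv_def, Equiv.apply_symm_apply]

/-- Words of the stabilizer of the dodecad of squares fixing `0, 1, 2` and mapping `5` to each point outside. -/
def m9Tab : List (List ℕ) := [[], [], [], [], [], [], [], [1, 3, 0, 0, 4, 4, 0, 0, 2, 1, 2, 3, 1, 3], [], [], [2, 1, 4, 4, 2, 1, 1, 3, 0, 0, 0, 0, 2, 4, 0, 2], [2, 1, 1, 1, 4, 0, 4, 4, 1, 1, 2], [], [], [4, 1, 1, 3, 3, 2, 1, 1, 1, 2, 3, 3, 0, 4], [3, 1, 1, 4, 1, 3, 3, 0, 3, 0, 3, 0, 2, 4, 0], [], [4, 0, 4, 2, 0, 2, 1, 1, 3, 3, 1, 1, 4, 0], [], [0, 3, 2, 0, 3, 0, 3, 0, 2, 1], [1, 3, 2, 0, 3, 3, 1, 4, 0, 2, 1, 3, 0, 3, 3], [2, 1, 4, 0, 3, 1, 1, 4, 2, 0, 0, 3, 1, 3, 0, 0], [0, 3, 2, 0, 0, 4, 1, 4, 4, 1, 2, 3, 3, 1], [2, 0, 0, 3, 3, 1, 3, 0, 0, 0, 2]]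

theorem m9Tab_ok : (List.range 24).all (fun z => dod0.testBit z ||
    (presCheck (m9Tab.getD z []) dod0 && moveCheck [0, 1, 2] 5 z (m9Tab.getD z []))) = true := by
  decide +kernel

theorem m9_base_map {z : GolayPt} (hz : z ∉ ptsMask dod0) :
    ∃ h ∈ stabMask dod0, h (gPt 0) = gPt 0 ∧ h (gPt 1) = gPt 1 ∧ h (gPt 2) = gPt 2 ∧ h (gPt 5) = z := by
  have h1 := List.all_eq_true.1 m9Tab_ok (gIdx z) (List.mem_range.2 (gIdx_lt z))
  rw [mem_ptsMask, Bool.not_eq_true] at hz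
  rw [hz, Bool.false_or, Bool.and_eq_true] at h1
  obtain ⟨h2, h3⟩ := moveCheck_spec (L := [0, 1, 2]) (by decide) (by norm_num) h1.2
  refine ⟨wordPerm (m9Tab.getD (gIdx z) []), wordPerm_mem_stabMask h1.1, h2 0 (by simp), h2 1 (by simp),
    h2 2 (by simp), ?_⟩
  rw [h3, gPt_gIdx]

theorem m9_base_trans {x y : GolayPt} (hx : x ∉ ptsMask dod0) (hy : y ∉ ptsMask dod0) :
    ∃ h ∈ stabMask dod0, h (gPt 0) = gPt 0 ∧ h (gPt 1) = gPt 1 ∧ h (gPt 2) = gPt 2 ∧ h x = y := by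
  obtain ⟨hx', hxm, a0, a1, a2, a5⟩ := m9_base_map hx
  obtain ⟨hy', hym, b0, b1, b2, b5⟩ := m9_base_map hy
  refine ⟨hy' * hx'⁻¹, (stabMask dod0).mul_mem hym ((stabMask dod0).inv_mem hxm), ?_, ?_, ?_, ?_⟩
  · rw [Equiv.Perm.mul_apply, Equiv.Perm.inv_def, (Equiv.symm_apply_eq hx').2 a0.symm, b0]
  · rw [Equiv.Perm.mul_apply, Equiv.Perm.inv_def, (Equiv.symm_apply_eq hx').2 a1.symm, b1]
  · rw [Equiv.Perm.mul_apply, Equiv.Perm.inv_def, (Equiv.symm_apply_eq hx').2 a2.symm, b2]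
  · rw [Equiv.Perm.mul_apply, Equiv.Perm.inv_def, (Equiv.symm_apply_eq hx').2 a5.symm, b5]

theorem injective_vec3 {α : Type*} {p q r : α} (hpq : p ≠ q) (hpr : p ≠ r) (hqr : q ≠ r) :
    Function.Injective ![p, q, r] := by
  intro i j h
  fin_cases i <;> fin_cases j <;> simp_all

theorem injective_vec2 {α : Type*} {p q : α} (hpq : p ≠ q) : Function.Injective ![p, q] := by
  intro i j h
  fin_cases i <;> fin_cases j <;> simp_all

/-- The stabilizer of three points of a dodecad in its stabilizer is transitive outside the dodecad. -/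
theorem m9_trans {d : Finset GolayPt} (hd : d ∈ dodecads) {p q r : GolayPt} (hp : p ∈ d) (hq : q ∈ d)
    (hr : r ∈ d) (hpq : p ≠ q) (hpr : p ≠ r) (hqr : q ≠ r) {x y : GolayPt} (hx : x ∉ d) (hy : y ∉ d) :
    ∃ g ∈ M24, g • d = d ∧ g p = p ∧ g q = q ∧ g r = r ∧ g x = y := by
  obtain ⟨g0, hg0, hg0d⟩ := exists_M24_smul_dod0 hd
  rw [← ptsMask_eq_support₂] at hg0d
  have hmem : ∀ z, z ∈ d → g0⁻¹ z ∈ ptsMask dod0 := by
    intro z hz
    rw [← hg0d, Finset.mem_smul_finset] at hz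
    obtain ⟨w, hw, rfl⟩ := hz
    rw [Equiv.Perm.smul_def, perm_inv_apply_self]
    exact hw
  have hnmem : ∀ z, z ∉ d → g0⁻¹ z ∉ ptsMask dod0 := by
    intro z hz h
    apply hz
    rw [← hg0d]
    have := Finset.smul_mem_smul_finset (a := g0) h
    rwa [Equiv.Perm.smul_def, perm_apply_inv_self] at this
  have hinj : Function.Injective ![g0⁻¹ p, g0⁻¹ q, g0⁻¹ r] :=
    injective_vec3 (fun h => hpq (g0⁻¹.injective h)) (fun h => hpr (g0⁻¹.injective h))
      (fun h => hqr (g0⁻¹.injective h))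
  obtain ⟨g1, hg1, hmap⟩ := m12_exists_map (n := 3) (by norm_num) ![g0⁻¹ p, g0⁻¹ q, g0⁻¹ r] hinj (by
    intro i
    fin_cases i
    · exact hmem p hp
    · exact hmem q hq
    · exact hmem r hr)
  have m0 : g1 (gPt 0) = g0⁻¹ p := hmap 0
  have m1 : g1 (gPt 1) = g0⁻¹ q := hmap 1
  have m2 : g1 (gPt 2) = g0⁻¹ r := hmap 2
  have hg1' := mem_stabMask_iff_smul.1 hg1
  -- the conjugating element
  have hkx : (g0 * g1)⁻¹ x ∉ ptsMask dod0 := by
    intro h
    have h1 : g1 ((g0 * g1)⁻¹ x) ∈ ptsMask dod0 := by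
      have := Finset.smul_mem_smul_finset (a := g1) h
      rwa [hg1'.2] at this
    have h2 : g1 ((g0 * g1)⁻¹ x) = g0⁻¹ x := by
      rw [mul_inv_rev, Equiv.Perm.mul_apply, perm_apply_inv_self]
    rw [h2] at h1
    exact hnmem x hx h1
  have hky : (g0 * g1)⁻¹ y ∉ ptsMask dod0 := by
    intro h
    have h1 : g1 ((g0 * g1)⁻¹ y) ∈ ptsMask dod0 := by
      have := Finset.smul_mem_smul_finset (a := g1) h
      rwa [hg1'.2] at this
    have h2 : g1 ((g0 * g1)⁻¹ y) = g0⁻¹ y := by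
      rw [mul_inv_rev, Equiv.Perm.mul_apply, perm_apply_inv_self]
    rw [h2] at h1
    exact hnmem y hy h1
  obtain ⟨h, hh, f0, f1, f2, fxy⟩ := m9_base_trans hkx hky
  have hh' := mem_stabMask_iff_smul.1 hh
  have hk : g0 * g1 ∈ M24 := M24.mul_mem hg0 hg1'.1
  have hkd : (g0 * g1) • ptsMask dod0 = d := by rw [mul_smul, hg1'.2, hg0d]
  have kp : (g0 * g1) (gPt 0) = p := by rw [Equiv.Perm.mul_apply, m0, perm_apply_inv_self]
  have kq : (g0 * g1) (gPt 1) = q := by rw [Equiv.Perm.mul_apply, m1, perm_apply_inv_self]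
  have kr : (g0 * g1) (gPt 2) = r := by rw [Equiv.Perm.mul_apply, m2, perm_apply_inv_self]
  refine ⟨(g0 * g1) * h * (g0 * g1)⁻¹, M24.mul_mem (M24.mul_mem hk hh'.1) (M24.inv_mem hk), ?_, ?_, ?_, ?_, ?_⟩
  · rw [mul_smul, mul_smul, ← hkd, inv_smul_smul, hh'.2]
  · rw [Equiv.Perm.mul_apply, Equiv.Perm.mul_apply, ← kp, perm_inv_apply_self, f0]
  · rw [Equiv.Perm.mul_apply, Equiv.Perm.mul_apply, ← kq, perm_inv_apply_self, f1]
  · rw [Equiv.Perm.mul_apply, Equiv.Perm.mul_apply, ← kr, perm_inv_apply_self, f2]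
  · rw [Equiv.Perm.mul_apply, Equiv.Perm.mul_apply, fxy, perm_apply_inv_self]

/-- The stabilizer of a dodecad and two points on it has order `720`. -/
theorem card_stabilizer_dodecad_two {d : Finset GolayPt} (hd : d ∈ dodecads) {p q : GolayPt} (hp : p ∈ d)
    (hq : q ∈ d) (hpq : p ≠ q) :
    Nat.card ↥(MulAction.stabilizer M24 d ⊓ MulAction.stabilizer M24 p ⊓ MulAction.stabilizer M24 q) = 720 := by
  have h1 := card_eq_orbit_mul_stab (G := M24) (MulAction.stabilizer M24 d ⊓ MulAction.stabilizer M24 p) q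
  have h2 : {y | ∃ h ∈ MulAction.stabilizer M24 d ⊓ MulAction.stabilizer M24 p, h • q = y} =
      ((d.erase p : Finset GolayPt) : Set GolayPt) := by
    ext y
    simp only [Set.mem_ofPred_eq, Finset.mem_coe, Finset.mem_erase]
    constructor
    · rintro ⟨h, hh, rfl⟩
      rw [Subgroup.mem_inf, MulAction.mem_stabilizer_iff, MulAction.mem_stabilizer_iff] at hh
      refine ⟨?_, ?_⟩
      · intro e
        rw [← hh.2] at e
        exact hpq (MulAction.injective h e).symm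
      · rw [← hh.1]
        exact Finset.smul_mem_smul_finset hq
    · rintro ⟨hyp, hy⟩
      obtain ⟨g, hg, hgd, hmap⟩ := dodTrans_of_mem hd 2 (by norm_num) ![p, q] ![p, y]
        (injective_vec2 hpq) (injective_vec2 (Ne.symm hyp))
        (by intro i; fin_cases i; exacts [hp, hq]) (by intro i; fin_cases i; exacts [hp, hy])
      exact ⟨⟨g, hg⟩, Subgroup.mem_inf.2 ⟨hgd, hmap 0⟩, hmap 1⟩
  rw [h2, Set.ncard_coe_finset, Finset.card_erase_of_mem hp, card_stabilizer_dodecad_point hd hp, hd.2] at h1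
  omega

/-- The stabilizer of a dodecad and three points on it has order `72`. -/
theorem card_stabilizer_dodecad_three {d : Finset GolayPt} (hd : d ∈ dodecads) {p q r : GolayPt} (hp : p ∈ d)
    (hq : q ∈ d) (hr : r ∈ d) (hpq : p ≠ q) (hpr : p ≠ r) (hqr : q ≠ r) :
    Nat.card ↥(MulAction.stabilizer M24 d ⊓ MulAction.stabilizer M24 p ⊓ MulAction.stabilizer M24 q ⊓
      MulAction.stabilizer M24 r) = 72 := by
  have h1 := card_eq_orbit_mul_stab (G := M24)
    (MulAction.stabilizer M24 d ⊓ MulAction.stabilizer M24 p ⊓ MulAction.stabilizer M24 q) r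
  have h2 : {y | ∃ h ∈ MulAction.stabilizer M24 d ⊓ MulAction.stabilizer M24 p ⊓ MulAction.stabilizer M24 q,
      h • r = y} = (((d.erase p).erase q : Finset GolayPt) : Set GolayPt) := by
    ext y
    simp only [Set.mem_ofPred_eq, Finset.mem_coe, Finset.mem_erase]
    constructor
    · rintro ⟨h, hh, rfl⟩
      rw [Subgroup.mem_inf, Subgroup.mem_inf, MulAction.mem_stabilizer_iff, MulAction.mem_stabilizer_iff,
        MulAction.mem_stabilizer_iff] at hh
      refine ⟨?_, ?_, ?_⟩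
      · intro e
        rw [← hh.2] at e
        exact hqr (MulAction.injective h e).symm
      · intro e
        rw [← hh.1.2] at e
        exact hpr (MulAction.injective h e).symm
      · rw [← hh.1.1]
        exact Finset.smul_mem_smul_finset hr
    · rintro ⟨hyq, hyp, hy⟩
      obtain ⟨g, hg, hgd, hmap⟩ := dodTrans_of_mem hd 3 (by norm_num) ![p, q, r] ![p, q, y]
        (injective_vec3 hpq hpr hqr) (injective_vec3 hpq (Ne.symm hyp) (Ne.symm hyq))
        (by intro i; fin_cases i; exacts [hp, hq, hr]) (by intro i; fin_cases i; exacts [hp, hq, hy])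
      exact ⟨⟨g, hg⟩, Subgroup.mem_inf.2 ⟨Subgroup.mem_inf.2 ⟨hgd, hmap 0⟩, hmap 1⟩, hmap 2⟩
  have hq' : q ∈ d.erase p := Finset.mem_erase.2 ⟨Ne.symm hpq, hq⟩
  rw [h2, Set.ncard_coe_finset, Finset.card_erase_of_mem hq', Finset.card_erase_of_mem hp,
    card_stabilizer_dodecad_two hd hp hq hpq, hd.2] at h1
  omega

end Cfsg.Agent.Lib.H28
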