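/-
helper28 library: the stabilizer of a dodecad and three of its points in `M24` has shape `3^2 : Q8`.
-/
import Cfsg.Agent.Lib.H28.M9
import Cfsg.Agent.Lib.H28.OrderThreeFree
import Cfsg.Agent.Lib.H28.GroupSeventyTwo

set_option autoImplicit false

namespace Cfsg.Agent.Lib.H28

open Cfsg
open scoped Pointwise

/-! ### Transport of a fourfold stabilizer along the group -/

section
variable {G α β γ δ : Type*} [Group G] [MulAction G α] [MulAction G β] [MulAction G γ] [MulAction G δ]

theorem nonempty_equiv_stabilizer_four (g : G) (a : α) (b : β) (c : γ) (d : δ) :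
    Nonempty (↥(MulAction.stabilizer G a ⊓ MulAction.stabilizer G b ⊓ MulAction.stabilizer G c ⊓
        MulAction.stabilizer G d) ≃*
      ↥(MulAction.stabilizer G (g • a) ⊓ MulAction.stabilizer G (g • b) ⊓ MulAction.stabilizer G (g • c) ⊓
        MulAction.stabilizer G (g • d))) := by
  have hf : Function.Injective (MulAut.conj g).toMonoidHom := (MulAut.conj g).injective
  rw [MulAction.stabilizer_smul_eq_stabilizer_map_conj g a, MulAction.stabilizer_smul_eq_stabilizer_map_conj g b,
    MulAction.stabilizer_smul_eq_stabilizer_map_conj g c, MulAction.stabilizer_smul_eq_stabilizer_map_conj g d,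
    ← Subgroup.map_inf _ _ _ hf, ← Subgroup.map_inf _ _ _ hf, ← Subgroup.map_inf _ _ _ hf]
  exact ⟨Subgroup.equivMapOfInjective _ _ hf⟩

end

/-- Every dodecad with three of its points is the image of the dodecad of squares with `0, 1, 2`. -/
theorem exists_M24_smul_dod_three {d : Finset GolayPt} (hd : d ∈ dodecads) {p q r : GolayPt} (hp : p ∈ d)
    (hq : q ∈ d) (hr : r ∈ d) (hpq : p ≠ q) (hpr : p ≠ r) (hqr : q ≠ r) :
    ∃ k : ↥M24, k • ptsMask dod0 = d ∧ k • gPt 0 = p ∧ k • gPt 1 = q ∧ k • gPt 2 = r := by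
  obtain ⟨g0, hg0, hg0d⟩ := exists_M24_smul_dod0 hd
  rw [← ptsMask_eq_support₂] at hg0d
  have hmem : ∀ z, z ∈ d → g0⁻¹ z ∈ ptsMask dod0 := by
    intro z hz
    rw [← hg0d, Finset.mem_smul_finset] at hz
    obtain ⟨w, hw, rfl⟩ := hz
    rw [Equiv.Perm.smul_def, perm_inv_apply_self]
    exact hw
  have hinj : Function.Injective ![g0⁻¹ p, g0⁻¹ q, g0⁻¹ r] :=
    injective_vec3 (fun h => hpq (g0⁻¹.injective h)) (fun h => hpr (g0⁻¹.injective h))
      (fun h => hqr (g0⁻¹.injective h))
  obtain ⟨g1, hg1, hmap⟩ := m12_exists_map (n := 3) (by norm_num) ![g0⁻¹ p, g0⁻¹ q, g0⁻¹ r] hinj (by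
    intro i
    fin_cases i
    · exact hmem p hp
    · exact hmem q hq
    · exact hmem r hr)
  have m0 : g1 (gPt 0) = g0⁻¹ p := hmap 0
  have m1 : g1 (gPt 1) = g0⁻¹ q := hmap 1
  have m2 : g1 (gPt 2) = g0⁻¹ r := hmap 2
  have hg1' := mem_stabMask_iff_smul.1 hg1
  have hk : g0 * g1 ∈ M24 := M24.mul_mem hg0 hg1'.1
  refine ⟨⟨g0 * g1, hk⟩, ?_, ?_, ?_, ?_⟩
  · show (g0 * g1) • ptsMask dod0 = d
    rw [mul_smul, hg1'.2, hg0d]
  · show (g0 * g1) (gPt 0) = p
    rw [Equiv.Perm.mul_apply, m0, perm_apply_inv_self]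
  · show (g0 * g1) (gPt 1) = q
    rw [Equiv.Perm.mul_apply, m1, perm_apply_inv_self]
  · show (g0 * g1) (gPt 2) = r
    rw [Equiv.Perm.mul_apply, m2, perm_apply_inv_self]

/-! ### The base group -/

/-- The stabilizer of the dodecad of squares and `0, 1, 2`. -/
def m9Base : Subgroup ↥M24 :=
  MulAction.stabilizer ↥M24 (ptsMask dod0) ⊓ MulAction.stabilizer ↥M24 (gPt 0) ⊓
    MulAction.stabilizer ↥M24 (gPt 1) ⊓ MulAction.stabilizer ↥M24 (gPt 2)

def m9Check (w : List ℕ) : Bool :=
  presCheck w dod0 && evalPt w 0 == 0 && evalPt w 1 == 1 && evalPt w 2 == 2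

theorem m9Check_mem {w : List ℕ} (h : m9Check w = true) :
    (⟨wordPerm w, wordPerm_mem_M24 w⟩ : ↥M24) ∈ m9Base := by
  unfold m9Check at h
  simp only [Bool.and_eq_true, beq_iff_eq] at h
  obtain ⟨⟨⟨h0, h1⟩, h2⟩, h3⟩ := h
  unfold m9Base
  rw [Subgroup.mem_inf, Subgroup.mem_inf, Subgroup.mem_inf, MulAction.mem_stabilizer_iff,
    MulAction.mem_stabilizer_iff, MulAction.mem_stabilizer_iff, MulAction.mem_stabilizer_iff]
  refine ⟨⟨⟨?_, ?_⟩, ?_⟩, ?_⟩
  · exact (mem_stabMask_iff_smul.1 (wordPerm_mem_stabMask h0)).2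
  · exact wordPerm_gPt (by norm_num) h1
  · exact wordPerm_gPt (by norm_num) h2
  · exact wordPerm_gPt (by norm_num) h3

/-- The element of the base group given by a word. -/
noncomputable def m9Elt (w : List ℕ) (h : m9Check w = true) : ↥m9Base := ⟨⟨wordPerm w, wordPerm_mem_M24 w⟩, m9Check_mem h⟩

/-- The inclusion of the base group into the permutations. -/
def m9Incl : ↥m9Base →* Equiv.Perm GolayPt := (M24.subtype).comp m9Base.subtype

theorem m9Incl_injective : Function.Injective m9Incl := by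
  intro u v h
  exact Subtype.ext (Subtype.ext h)

theorem m9Incl_elt (w : List ℕ) (h : m9Check w = true) : m9Incl (m9Elt w h) = wordPerm w := rfl

theorem wordPerm_ne_of_evalPt_ne {u v : List ℕ} {k : ℕ} (hk : k < 24) (h : evalPt u k ≠ evalPt v k) :
    wordPerm u ≠ wordPerm v := by
  intro e
  apply h
  have h1 := gIdx_wordPerm u (gPt k)
  have h2 := gIdx_wordPerm v (gPt k)
  rw [gIdx_gPt hk] at h1 h2
  rw [← h1, ← h2, e]

def m9a : List ℕ := [0, 3, 2, 0, 3, 0, 3, 0, 2, 1, 1, 4, 4, 1, 4, 0, 0, 0, 3, 0, 4, 4]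
def m9b : List ℕ := [2, 0, 0, 3, 3, 1, 3, 0, 0, 0, 2, 0, 3, 2, 0, 0, 4, 1, 4, 4, 1, 2, 3, 3, 1]
def m9r : List ℕ := [0, 4, 4, 2, 0, 3, 3, 0, 3, 1, 1, 2, 4, 1]
def m9x : List ℕ := [0, 2, 1, 4, 1, 4, 1, 2, 0, 4, 0, 4, 0, 4, 1, 3, 1, 2, 0, 0]

theorem m9a_check : m9Check m9a = true := by decide +kernel
theorem m9b_check : m9Check m9b = true := by decide +kernel
theorem m9r_check : m9Check m9r = true := by decide +kernel
theorem m9x_check : m9Check m9x = true := by decide +kernel

theorem m9Base_gens :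
    M9Gens (m9Elt m9a m9a_check) (m9Elt m9b m9b_check) (m9Elt m9r m9r_check) (m9Elt m9x m9x_check) where
  a3 := by
    apply m9Incl_injective
    rw [map_pow, map_one, m9Incl_elt, pow_succ, pow_two, ← wordPerm_append, ← wordPerm_append, ← wordPerm_nil]
    exact wordPerm_eq_of_eqW (by decide +kernel)
  b3 := by
    apply m9Incl_injective
    rw [map_pow, map_one, m9Incl_elt, pow_succ, pow_two, ← wordPerm_append, ← wordPerm_append, ← wordPerm_nil]
    exact wordPerm_eq_of_eqW (by decide +kernel)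
  ab := by
    apply m9Incl_injective
    rw [map_mul, map_mul, m9Incl_elt, m9Incl_elt, ← wordPerm_append, ← wordPerm_append]
    exact wordPerm_eq_of_eqW (by decide +kernel)
  a_ne := by
    intro h
    have := congrArg m9Incl h
    rw [map_one, m9Incl_elt, ← wordPerm_nil] at this
    exact wordPerm_ne_of_evalPt_ne (k := 3) (by norm_num) (by decide +kernel) this
  b_ne := by
    intro h
    have := congrArg m9Incl h
    rw [map_one, m9Incl_elt, ← wordPerm_nil] at this
    exact wordPerm_ne_of_evalPt_ne (k := 3) (by norm_num) (by decide +kernel) this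
  b_ne_a := by
    intro h
    have := congrArg m9Incl h
    rw [m9Incl_elt, m9Incl_elt] at this
    exact wordPerm_ne_of_evalPt_ne (k := 3) (by norm_num) (by decide +kernel) this
  b_ne_a2 := by
    intro h
    have := congrArg m9Incl h
    rw [map_pow, m9Incl_elt, m9Incl_elt, pow_two, ← wordPerm_append] at this
    exact wordPerm_ne_of_evalPt_ne (k := 3) (by norm_num) (by decide +kernel) this
  ra := by
    apply m9Incl_injective
    rw [map_mul, map_mul, map_mul, map_inv, map_pow, m9Incl_elt, m9Incl_elt, m9Incl_elt, pow_two,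
      ← wordPerm_invWord, ← wordPerm_append, ← wordPerm_append, ← wordPerm_append, ← wordPerm_append]
    exact wordPerm_eq_of_eqW (by decide +kernel)
  rb := by
    apply m9Incl_injective
    rw [map_mul, map_mul, map_mul, map_inv, m9Incl_elt, m9Incl_elt, m9Incl_elt,
      ← wordPerm_invWord, ← wordPerm_append, ← wordPerm_append, ← wordPerm_append]
    exact wordPerm_eq_of_eqW (by decide +kernel)
  xa := by
    apply m9Incl_injective
    rw [map_mul, map_mul, map_mul, map_inv, m9Incl_elt, m9Incl_elt, m9Incl_elt,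
      ← wordPerm_invWord, ← wordPerm_append, ← wordPerm_append, ← wordPerm_append]
    exact wordPerm_eq_of_eqW (by decide +kernel)
  xb := by
    apply m9Incl_injective
    rw [map_mul, map_mul, map_mul, map_inv, map_pow, m9Incl_elt, m9Incl_elt, m9Incl_elt, pow_two,
      ← wordPerm_invWord, ← wordPerm_append, ← wordPerm_append, ← wordPerm_append, ← wordPerm_append]
    exact wordPerm_eq_of_eqW (by decide +kernel)
  r4 := by
    apply m9Incl_injective
    rw [map_pow, map_one, m9Incl_elt, pow_succ, pow_succ, pow_two, ← wordPerm_append, ← wordPerm_append,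
      ← wordPerm_append, ← wordPerm_nil]
    exact wordPerm_eq_of_eqW (by decide +kernel)
  xx := by
    apply m9Incl_injective
    rw [map_mul, map_pow, m9Incl_elt, m9Incl_elt, pow_two, ← wordPerm_append, ← wordPerm_append]
    exact wordPerm_eq_of_eqW (by decide +kernel)
  xr := by
    apply m9Incl_injective
    rw [map_mul, map_mul, map_inv, map_inv, m9Incl_elt, m9Incl_elt, ← wordPerm_invWord, ← wordPerm_invWord,
      ← wordPerm_append, ← wordPerm_append]
    exact wordPerm_eq_of_eqW (by decide +kernel)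
  r2 := by
    intro h
    have := congrArg m9Incl h
    rw [map_pow, map_one, m9Incl_elt, pow_two, ← wordPerm_append, ← wordPerm_nil] at this
    exact wordPerm_ne_of_evalPt_ne (k := 3) (by norm_num) (by decide +kernel) this

/-- The structure of the stabilizer of a dodecad and three of its points. -/
theorem m9_sylow_structure {d : Finset GolayPt} (hd : d ∈ dodecads) {p q r : GolayPt} (hp : p ∈ d)
    (hq : q ∈ d) (hr : r ∈ d) (hpq : p ≠ q) (hpr : p ≠ r) (hqr : q ≠ r) :
    (∀ Q : Sylow 3 ↥(MulAction.stabilizer M24 d ⊓ MulAction.stabilizer M24 p ⊓ MulAction.stabilizer M24 q ⊓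
        MulAction.stabilizer M24 r),
      (Q : Subgroup ↥(MulAction.stabilizer M24 d ⊓ MulAction.stabilizer M24 p ⊓ MulAction.stabilizer M24 q ⊓
        MulAction.stabilizer M24 r)).Normal ∧ Nat.card ↥Q = 9 ∧
      ∀ x ∈ (Q : Subgroup ↥(MulAction.stabilizer M24 d ⊓ MulAction.stabilizer M24 p ⊓
        MulAction.stabilizer M24 q ⊓ MulAction.stabilizer M24 r)), x ^ 3 = 1) ∧
    ∀ P : Sylow 2 ↥(MulAction.stabilizer M24 d ⊓ MulAction.stabilizer M24 p ⊓ MulAction.stabilizer M24 q ⊓
        MulAction.stabilizer M24 r), Nonempty (↥P ≃* QuaternionGroup 2) := by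
  obtain ⟨k, rfl, rfl, rfl, rfl⟩ := exists_M24_smul_dod_three hd hp hq hr hpq hpr hqr
  obtain ⟨e⟩ := nonempty_equiv_stabilizer_four k (ptsMask dod0) (gPt 0) (gPt 1) (gPt 2)
  have hcard := card_stabilizer_dodecad_three hd hp hq hr hpq hpr hqr
  have : Finite ↥(MulAction.stabilizer M24 (k • ptsMask dod0) ⊓ MulAction.stabilizer M24 (k • gPt 0) ⊓
      MulAction.stabilizer M24 (k • gPt 1) ⊓ MulAction.stabilizer M24 (k • gPt 2)) :=
    Nat.finite_of_card_ne_zero (by rw [hcard]; norm_num)
  exact m9_structure hcard (m9Base_gens.map e)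

end Cfsg.Agent.Lib.H28
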