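/-
helper28 library: the class structure of stabilizers in `M24` on the octads, from orbit certificates on octad masks.
-/
import Cfsg.Agent.Lib.H28.KeyClasses
import Cfsg.Agent.Lib.H28.FamilySmul

set_option autoImplicit false

namespace Cfsg.Agent.Lib.H28

open Cfsg
open scoped Pointwise

section

variable {α : Type*} [MulAction (Equiv.Perm GolayPt) α]

theorem octad_class_structure (a0 : α)
    (inv : α → Finset GolayPt → ℕ)
    (hinv : ∀ (g : ↥M24) (a : α) (x : Finset GolayPt), inv (g • a) (g • x) = inv a x)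
    (invM : ℕ → ℕ) (hinvM : ∀ m ∈ octMasks, inv a0 (ptsMask m) = invM m)
    (ws : List (List ℕ)) (hws : ∀ w ∈ ws, wordPerm w • a0 = a0)
    (J : List ℕ) (N : ℕ → ℕ) (hall : octMasks.all (fun m => J.contains (invM m)) = true)
    (hcerts : ∀ j ∈ J, ∃ (start : ℕ) (cert : List (ℕ × ℕ)),
      orbCheck (wordTis ws) start cert (octMasks.filter (fun m => invM m == j)) = true)
    (hcounts : ∀ j ∈ J, (octMasks.filter (fun m => invM m == j)).length = N j)
    (hpos : ∀ j ∈ J, 0 < N j) (g0 : ↥M24) :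
    (∀ j ∈ J, ∃ X ∈ octads, inv (g0 • a0) X = j ∧
      (MulAction.orbit ↥(MulAction.stabilizer ↥M24 (g0 • a0)) X).ncard = N j) ∧
    (∀ X ∈ octads, MulAction.orbit ↥(MulAction.stabilizer ↥M24 (g0 • a0)) X
      = {y | y ∈ octads ∧ inv (g0 • a0) y = inv (g0 • a0) X}) ∧
    (∀ y ∈ octads, inv (g0 • a0) y ∈ J) := by
  have hJ : ∀ m ∈ octMasks, invM m ∈ J := by
    intro m hm
    have := List.all_eq_true.1 hall m hm
    rwa [List.contains_iff_mem] at this
  apply class_structure_smul octads (fun g _ hx => smul_mem_octads' g hx) inv hinv a0 _ J N _ hpos _ g0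
  · intro x hx y hy hxy
    obtain ⟨mx, hmx, emx⟩ := exists_octMask hx
    obtain ⟨start, cert, hcert⟩ := hcerts _ (hJ mx hmx)
    set K : Subgroup (Equiv.Perm GolayPt) := M24 ⊓ MulAction.stabilizer (Equiv.Perm GolayPt) a0 with hK
    have hwsK : ∀ w ∈ ws, wordPerm w ∈ K := by
      intro w hw
      rw [hK, Subgroup.mem_inf, MulAction.mem_stabilizer_iff]
      exact ⟨wordPerm_mem_M24 w, hws w hw⟩
    obtain ⟨g, hg, e⟩ := exists_smul_of_orbCert K ws hwsK (fun m => invM m == invM mx) hcert hx hy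
      (fun m hm hmx' => by
        rw [beq_iff_eq, ← hinvM m hm, hmx', ← emx, hinvM mx hmx])
      (fun m hm hmy => by
        rw [beq_iff_eq, ← hinvM m hm, hmy, ← hxy, ← emx, hinvM mx hmx])
    rw [hK, Subgroup.mem_inf, MulAction.mem_stabilizer_iff] at hg
    exact ⟨⟨g, hg.1⟩, hg.2, e⟩
  · intro j hj
    rw [ncard_octads_filter (fun y => inv a0 y = j) (fun m => invM m == j)
      (fun m hm => by rw [beq_iff_eq, hinvM m hm])]
    exact hcounts j hj
  · intro y hy
    obtain ⟨m, hm, rfl⟩ := exists_octMask hy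
    rw [hinvM m hm]
    exact hJ m hm

end

end Cfsg.Agent.Lib.H28
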