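import Cfsg.Agent.Lib.H17.CosetCert

set_option autoImplicit false

/-!
# Monomial permutation models from packed tables: wide entries, nine involution letters (helper28)

A copy of helper17's `M22M/MonoModel.lean` with entries of 21 bits (up to `131072` points) and nine letters, each its
own inverse.  A table for a letter stores for every point `p < n` the value `16 * p' + t` (21 bits): the letter
maps `(p, j)` to `(p', j + t)` on `Fin n × ZMod 12`.
-/

namespace Cfsg.Agent.Lib.H28.MonoModelW

open Cfsg.Agent.Lib.H17.CosetCert (force force_eq)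

/-- entry `p` of a packed table -/
def lkM (t p : ℕ) : ℕ := Nat.mod (Nat.shiftRight t (Nat.mul p 21)) 2097152

/-- traverse a word, given by the tables of its letters, first letter first -/
noncomputable def trav (ts : List ℕ) : ℕ → ℕ → ℕ × ℕ :=
  List.rec (motive := fun _ => ℕ → ℕ → ℕ × ℕ) (fun p acc => (p, acc))
    (fun t _ ih p acc =>
      force (lkM t p) fun v =>
      force (Nat.div v 16) fun p' =>
      force (Nat.add acc (Nat.mod v 16)) fun acc' => ih p' acc') ts

theorem trav_nil (p acc : ℕ) : trav [] p acc = (p, acc) := rfl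

theorem trav_cons (t : ℕ) (ts : List ℕ) (p acc : ℕ) :
    trav (t :: ts) p acc = trav ts (lkM t p / 16) (acc + lkM t p % 16) := by
  change (force (lkM t p) fun v => force (Nat.div v 16) fun p' =>
    force (Nat.add acc (Nat.mod v 16)) fun acc' => trav ts p' acc') = _
  rw [force_eq, force_eq, force_eq]
  rfl

/-- the word maps every `(p, 0)`, `p < n`, to `(p, e)` -/
noncomputable def checkWordM (ts : List ℕ) (e : ℕ) (n : ℕ) : Bool :=
  Nat.rec (motive := fun _ => Bool) true
    (fun p ih =>
      match trav ts p 0 with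
      | (p', acc) => cond (Nat.beq p' p && Nat.beq (Nat.mod acc 12) e) ih false) n

theorem checkWordM_sound (ts : List ℕ) (e n : ℕ) (h : checkWordM ts e n = true) :
    ∀ p < n, (trav ts p 0).1 = p ∧ (trav ts p 0).2 % 12 = e := by
  induction n with
  | zero => intro p hp; omega
  | succ n ih =>
    have h' : (match trav ts n 0 with
      | (p', acc) => cond (Nat.beq p' n && Nat.beq (Nat.mod acc 12) e) (checkWordM ts e n) false)
        = true := h
    rcases htr : trav ts n 0 with ⟨p', acc⟩
    rw [htr] at h'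
    simp only [] at h'
    cases hc : (Nat.beq p' n && Nat.beq (Nat.mod acc 12) e) with
    | false => rw [hc] at h'; exact absurd h' (by simp)
    | true =>
      rw [hc] at h'
      simp only [cond_true] at h'
      simp only [Bool.and_eq_true] at hc
      intro p hp
      rcases Nat.lt_succ_iff_lt_or_eq.mp hp with hlt | rfl
      · exact ih h' p hlt
      · rw [htr]
        exact ⟨Nat.eq_of_beq_eq_true hc.1, Nat.eq_of_beq_eq_true hc.2⟩

/-- all entries `p < m` of the table have a point `< n` -/
noncomputable def checkRangeM (t n : ℕ) (m : ℕ) : Bool :=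
  Nat.rec (motive := fun _ => Bool) true
    (fun p ih => cond (Nat.ble (Nat.succ (Nat.div (lkM t p) 16)) n) ih false) m

theorem checkRangeM_sound (t n m : ℕ) (h : checkRangeM t n m = true) :
    ∀ p < m, lkM t p / 16 < n := by
  induction m with
  | zero => intro p hp; omega
  | succ m ih =>
    have h' : cond (Nat.ble (Nat.succ (Nat.div (lkM t m) 16)) n) (checkRangeM t n m) false
        = true := h
    cases hc : Nat.ble (Nat.succ (Nat.div (lkM t m) 16)) n with
    | false => rw [hc] at h'; exact absurd h' (by simp)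
    | true =>
      rw [hc] at h'
      intro p hp
      rcases Nat.lt_succ_iff_lt_or_eq.mp hp with hlt | rfl
      · exact ih h' p hlt
      · exact Nat.ble_eq.mp hc

section model

variable (tabs : ℕ → ℕ) (n : ℕ)

/-- the tables have entries in range -/
def Range : Prop := ∀ x : ℕ, ∀ p < n, lkM (tabs x) p / 16 < n

variable {tabs n}

/-- the map of a letter -/
def fM (hr : Range tabs n) (x : ℕ) (q : Fin n × ZMod 12) : Fin n × ZMod 12 :=
  (⟨lkM (tabs x) q.1 / 16, hr x q.1 q.1.2⟩, q.2 + ((lkM (tabs x) q.1 % 16 : ℕ) : ZMod 12))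

/-- the map of a word, first letter first -/
def compF (hr : Range tabs n) (w : List ℕ) (q : Fin n × ZMod 12) : Fin n × ZMod 12 :=
  w.foldl (fun q x => fM hr x q) q

theorem compF_nil (hr : Range tabs n) (q : Fin n × ZMod 12) : compF hr [] q = q := rfl

theorem compF_cons (hr : Range tabs n) (x : ℕ) (w : List ℕ) (q : Fin n × ZMod 12) :
    compF hr (x :: w) q = compF hr w (fM hr x q) := rfl

theorem compF_append (hr : Range tabs n) (u w : List ℕ) (q : Fin n × ZMod 12) :
    compF hr (u ++ w) q = compF hr w (compF hr u q) := by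
  unfold compF
  rw [List.foldl_append]

theorem compF_trav (hr : Range tabs n) (w : List ℕ) :
    ∀ (q : Fin n × ZMod 12) (acc : ℕ),
      ((compF hr w q).1 : ℕ) = (trav (w.map tabs) q.1 acc).1 ∧
      (compF hr w q).2 + (acc : ZMod 12) = q.2 + ((trav (w.map tabs) q.1 acc).2 : ZMod 12) := by
  induction w with
  | nil => intro q acc; exact ⟨rfl, rfl⟩
  | cons x w ih =>
    intro q acc
    rw [compF_cons, List.map_cons, trav_cons]
    obtain ⟨h1, h2⟩ := ih (fM hr x q) (acc + lkM (tabs x) q.1 % 16)
    refine ⟨h1, ?_⟩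
    have h3 : (fM hr x q).2 = q.2 + ((lkM (tabs x) q.1 % 16 : ℕ) : ZMod 12) := rfl
    have h4 : ((fM hr x q).1 : ℕ) = lkM (tabs x) q.1 / 16 := rfl
    rw [h4, h3] at h2
    push_cast at h2
    have h5 : (compF hr w (fM hr x q)).2 + (acc : ZMod 12) =
        (compF hr w (fM hr x q)).2 + ((acc : ZMod 12) + ((lkM (tabs x) q.1 % 16 : ℕ) : ZMod 12))
          - ((lkM (tabs x) q.1 % 16 : ℕ) : ZMod 12) := by abel
    rw [h5, h2]
    abel

/-- the shift by `e` -/
def shift (n : ℕ) (e : ZMod 12) (q : Fin n × ZMod 12) : Fin n × ZMod 12 := (q.1, q.2 + e)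

theorem compF_eq_shift (hr : Range tabs n) (w : List ℕ) (e : ℕ)
    (h : checkWordM (w.map tabs) e n = true) (q : Fin n × ZMod 12) :
    compF hr w q = shift n (e : ZMod 12) q := by
  obtain ⟨h1, h2⟩ := compF_trav hr w q 0
  obtain ⟨h3, h4⟩ := checkWordM_sound _ e n h q.1 q.1.2
  apply Prod.ext
  · apply Fin.ext
    rw [h1, h3]
    rfl
  · have h5 : (((trav (w.map tabs) q.1 0).2 : ℕ) : ZMod 12) = (e : ZMod 12) := by
      rw [← h4, ZMod.natCast_mod]
    simp only [Nat.cast_zero, add_zero] at h2
    rw [h2, h5]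
    rfl

theorem shift_fM (hr : Range tabs n) (x : ℕ) (e : ZMod 12) (q : Fin n × ZMod 12) :
    shift n e (fM hr x q) = fM hr x (shift n e q) := by
  apply Prod.ext
  · rfl
  · change q.2 + ((lkM (tabs x) q.1 % 16 : ℕ) : ZMod 12) + e =
      q.2 + e + ((lkM (tabs x) q.1 % 16 : ℕ) : ZMod 12)
    abel

end model

section perms

variable {tabs : ℕ → ℕ} {n : ℕ}

/-- the inverse letter -/
def invL (x : ℕ) : ℕ := x

/-- the pair words are trivial on the tables -/
def PairsOK (tabs : ℕ → ℕ) (n : ℕ) : Prop :=
  ∀ x < 9, checkWordM [tabs x, tabs (invL x)] 0 n = true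

theorem invL_invL (x : ℕ) (hx : x < 9) : invL (invL x) = x := rfl

theorem invL_lt (x : ℕ) (hx : x < 9) : invL x < 9 := hx

theorem fM_inv (hr : Range tabs n) (hp : PairsOK tabs n) (x : ℕ) (hx : x < 9)
    (q : Fin n × ZMod 12) : fM hr (invL x) (fM hr x q) = q := by
  have h := compF_eq_shift hr [x, invL x] 0 (hp x hx) q
  have h2 : compF hr [x, invL x] q = fM hr (invL x) (fM hr x q) := rfl
  rw [h2] at h
  rw [h]
  apply Prod.ext
  · rfl
  · change q.2 + ((0 : ℕ) : ZMod 12) = q.2
    simp

open Classical in
/-- the permutation of a letter -/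
noncomputable def σM (hr : Range tabs n) (hp : PairsOK tabs n) (x : ℕ) :
    Equiv.Perm (Fin n × ZMod 12) :=
  if hx : x < 9 then
    { toFun := fM hr x
      invFun := fM hr (invL x)
      left_inv := fun q => fM_inv hr hp x hx q
      right_inv := fun q => by
        have := fM_inv hr hp (invL x) (invL_lt x hx) q
        rw [invL_invL x hx] at this
        exact this }
  else 1

theorem σM_apply (hr : Range tabs n) (hp : PairsOK tabs n) (x : ℕ) (hx : x < 9)
    (q : Fin n × ZMod 12) : σM hr hp x q = fM hr x q := by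
  unfold σM
  rw [dif_pos hx]
  rfl

/-- the shift as a permutation -/
def shiftP (n : ℕ) (e : ZMod 12) : Equiv.Perm (Fin n × ZMod 12) where
  toFun := shift n e
  invFun := shift n (-e)
  left_inv := fun q => by
    apply Prod.ext
    · rfl
    · change q.2 + e + -e = q.2
      abel
  right_inv := fun q => by
    apply Prod.ext
    · rfl
    · change q.2 + -e + e = q.2
      abel

theorem shiftP_apply (e : ZMod 12) (q : Fin n × ZMod 12) : shiftP n e q = shift n e q := rfl

theorem shiftP_comm (hr : Range tabs n) (hp : PairsOK tabs n) (x : ℕ) (hx : x < 9) (e : ZMod 12) :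
    Commute (shiftP n e) (σM hr hp x) := by
  apply Equiv.ext
  intro q
  change shiftP n e (σM hr hp x q) = σM hr hp x (shiftP n e q)
  rw [σM_apply hr hp x hx, σM_apply hr hp x hx, shiftP_apply, shiftP_apply, shift_fM]

/-- the inverse of the value of a word in the inverses of the letter permutations is the
map of the word -/
theorem word_perm (hr : Range tabs n) (hp : PairsOK tabs n) (w : List ℕ) (hw : ∀ x ∈ w, x < 9)
    (q : Fin n × ZMod 12) :
    ((w.map fun x => (σM hr hp x)⁻¹).prod)⁻¹ q = compF hr w q := by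
  induction w generalizing q with
  | nil => simp [compF_nil]
  | cons x u ih =>
    rw [List.map_cons, List.prod_cons, mul_inv_rev, inv_inv, Equiv.Perm.mul_apply,
      σM_apply hr hp x (hw x List.mem_cons_self), compF_cons]
    exact ih (fun y hy => hw y (List.mem_cons_of_mem _ hy)) _

theorem word_perm_eq (hr : Range tabs n) (hp : PairsOK tabs n) (w : List ℕ)
    (hw : ∀ x ∈ w, x < 9) (e : ℕ) (h : checkWordM (w.map tabs) e n = true) :
    (w.map fun x => (σM hr hp x)⁻¹).prod = (shiftP n (e : ZMod 12))⁻¹ := by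
  rw [← inv_inj, inv_inv]
  apply Equiv.ext
  intro q
  rw [word_perm hr hp w hw q, compF_eq_shift hr w e h q]
  rfl

theorem shiftP_zero : shiftP n (0 : ZMod 12) = 1 := by
  apply Equiv.ext
  intro q
  apply Prod.ext
  · rfl
  · change q.2 + 0 = q.2
    simp

theorem shiftP_pow (e : ZMod 12) (k : ℕ) : (shiftP n e) ^ k = shiftP n (k * e) := by
  induction k with
  | zero => simp [shiftP_zero]
  | succ k ih =>
    rw [pow_succ, ih]
    apply Equiv.ext
    intro q
    apply Prod.ext
    · rfl
    · change q.2 + e + k * e = q.2 + ((k + 1 : ℕ) : ZMod 12) * e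
      push_cast
      ring

theorem σM_inv (hr : Range tabs n) (hp : PairsOK tabs n) (x : ℕ) (hx : x < 9) :
    σM hr hp (invL x) = (σM hr hp x)⁻¹ := by
  apply Equiv.ext
  intro q
  rw [σM_apply hr hp _ (invL_lt x hx)]
  have : (σM hr hp x)⁻¹ q = fM hr (invL x) q := by
    rw [Equiv.Perm.inv_def]
    unfold σM
    rw [dif_pos hx]
    rfl
  rw [this]

end perms

end Cfsg.Agent.Lib.H28.MonoModelW
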