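import Mathlib
import Cfsg.Prelude.Def_Sporadic_a
import Cfsg.Agent.Lib.H28.Steiner
import Cfsg.Agent.Lib.H28.GolayConcrete

/-!
S1572 step (3), sub-lemma of (CNTB): there are exactly 77 octads through two given points.
-/

set_option autoImplicit false

namespace Cfsg.Agent.Lib.H28.NX

open Cfsg Finset Cfsg.Agent.Lib.H28

/-- the number of octads through two distinct points is `77` (for any decidability instance) -/
theorem card_octads_through (p q : GolayPt) (hpq : p ≠ q)
    [DecidablePred (fun O : Finset GolayPt => O ∈ octads ∧ p ∈ O ∧ q ∈ O)] :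
    ((Finset.univ : Finset (Finset GolayPt)).filter
      fun O => O ∈ octads ∧ p ∈ O ∧ q ∈ O).card = 77 := by
  classical
  have h := steiner_count octads_isSteinerSystem ({p, q} : Finset GolayPt)
    (by rw [Finset.card_pair hpq]; norm_num)
  rw [Finset.card_pair hpq] at h
  have hcard : Fintype.card GolayPt = 24 := by simp [GolayPt]
  rw [hcard] at h
  have e : (blocksF octads).filter (({p, q} : Finset GolayPt) ⊆ ·)
      = (Finset.univ : Finset (Finset GolayPt)).filter
          (fun O => O ∈ octads ∧ p ∈ O ∧ q ∈ O) := by
    ext O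
    simp only [Finset.mem_filter, mem_blocksF, Finset.mem_univ, true_and,
      Finset.insert_subset_iff, Finset.singleton_subset_iff]
  have h20 : Nat.choose (8 - 2) (5 - 2) = 20 := by decide
  have h1540 : Nat.choose (24 - 2) (5 - 2) = 1540 := by decide
  rw [h20, h1540, e] at h
  have : ∀ n : ℕ, n * 20 = 1540 → n = 77 := by intro n hn; omega
  convert this _ h using 2

/-- the same as an `ncard` -/
theorem ncard_octads_through (p q : GolayPt) (hpq : p ≠ q) :
    {O : Finset GolayPt | O ∈ octads ∧ p ∈ O ∧ q ∈ O}.ncard = 77 := by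
  classical
  rw [← card_octads_through p q hpq, ← Set.ncard_coe_finset]
  congr 1
  ext O
  simp

end Cfsg.Agent.Lib.H28.NX
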