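/-
S2345 farm-out piece STR-W (architect helper12): the Weyl element `w = s₁ s₂` lies in `Ω` and conjugates the root element
`u(X₀)` to the transvection `l(A₀)`.
-/
import Mathlib
import Cfsg.Agent.Lib.H12.OPMinDefs

set_option autoImplicit false
set_option linter.unusedSimpArgs false

namespace Cfsg.Agent.Lib.H28.OPMin

open Matrix Cfsg.Agent.Lib.H12.OPMin
open scoped commutatorElement

variable {F : Type*} [Field F]

/-- the permutation of `Fin n ⊕ Fin n` acting as `σ` on both halves -/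
def dbl {n : ℕ} (σ : Equiv.Perm (Fin n)) : Equiv.Perm (Fin n ⊕ Fin n) := Equiv.sumCongr σ σ

/-- its permutation matrix -/
def pMat {n : ℕ} (σ : Equiv.Perm (Fin n)) : Matrix (Fin n ⊕ Fin n) (Fin n ⊕ Fin n) F :=
  (dbl σ).toPEquiv.toMatrix

theorem pMat_mulVec {n : ℕ} (σ : Equiv.Perm (Fin n)) (v : Fin n ⊕ Fin n → F) :
    pMat σ *ᵥ v = v ∘ dbl σ := by
  ext k
  unfold pMat
  rw [PEquiv.toMatrix_toPEquiv_mulVec]

theorem dbl_swap_trans {n : ℕ} (a b : Fin n) :
    (dbl (Equiv.swap a b)).trans (dbl (Equiv.swap a b)) = Equiv.refl _ := by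
  ext x
  rcases x with x | x <;> simp [dbl]

theorem dbl_swap_symm {n : ℕ} (a b : Fin n) :
    (dbl (Equiv.swap a b)).symm = dbl (Equiv.swap a b) := by
  ext x
  rcases x with x | x <;> simp [dbl]

theorem pMat_mul_self {n : ℕ} (a b : Fin n) :
    pMat (F := F) (Equiv.swap a b) * pMat (Equiv.swap a b) = 1 := by
  unfold pMat
  rw [← PEquiv.toMatrix_trans, ← Equiv.toPEquiv_trans, dbl_swap_trans, Equiv.toPEquiv_refl,
    PEquiv.toMatrix_refl]

theorem quadFormPlus_pMat {n : ℕ} (σ : Equiv.Perm (Fin n)) (v : Fin n ⊕ Fin n → F) :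
    Cfsg.quadFormPlus n F (pMat σ *ᵥ v) = Cfsg.quadFormPlus n F v := by
  rw [pMat_mulVec]
  unfold Cfsg.quadFormPlus
  simp only [Function.comp_apply, dbl, Equiv.sumCongr_apply, Sum.map_inl, Sum.map_inr]
  exact Equiv.sum_comp σ (fun i => v (Sum.inl i) * v (Sum.inr i))

theorem pMat_conj {n : ℕ} (a b i : Fin n) :
    pMat (F := F) (Equiv.swap a b) * sMat i * pMat (Equiv.swap a b) = sMat (Equiv.swap a b i) := by
  have key : ((dbl (Equiv.swap a b)).trans (Equiv.swap (Sum.inl i : Fin n ⊕ Fin n) (Sum.inr i))).trans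
      (dbl (Equiv.swap a b)) =
      Equiv.swap (Sum.inl (Equiv.swap a b i) : Fin n ⊕ Fin n) (Sum.inr (Equiv.swap a b i)) := by
    have h := Equiv.symm_trans_swap_trans (Sum.inl i : Fin n ⊕ Fin n) (Sum.inr i) (dbl (Equiv.swap a b))
    rw [dbl_swap_symm] at h
    rw [h]
    simp [dbl]
  unfold pMat sMat
  rw [← PEquiv.toMatrix_trans, ← PEquiv.toMatrix_trans, ← Equiv.toPEquiv_trans, ← Equiv.toPEquiv_trans, key]

/-- the permutation `(1 2)` on both halves, as an isometry -/
def gO (m : ℕ) (F : Type*) [Field F] : OG (m + 3) F :=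
  mkO (pMat (Equiv.swap 1 2)) (pMat (Equiv.swap 1 2)) (pMat_mul_self 1 2) (pMat_mul_self 1 2)
    (quadFormPlus_pMat _)

theorem gO_mul_self (m : ℕ) : gO m F * gO m F = 1 := by
  apply OG_ext
  show pMat (Equiv.swap 1 2) * pMat (Equiv.swap 1 2) = (1 : Matrix _ _ F)
  exact pMat_mul_self 1 2

theorem sO_mul_self {n : ℕ} (i : Fin n) : sO (F := F) i * sO i = 1 := by
  apply OG_ext
  show sMat i * sMat i = (1 : Matrix _ _ F)
  exact sMat_mul_self i

theorem gO_conj (m : ℕ) : gO m F * sO 1 * (gO m F)⁻¹ = (sO 2 : OG (m + 3) F) := by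
  have hinv : (gO m F)⁻¹ = gO m F := inv_eq_of_mul_eq_one_right (gO_mul_self m)
  rw [hinv]
  apply OG_ext
  show pMat (Equiv.swap 1 2) * sMat 1 * pMat (Equiv.swap 1 2) = (sMat 2 : Matrix _ _ F)
  rw [pMat_conj]
  congr 1

theorem wO_mem_Omega (m : ℕ) : wO m F ∈ Cfsg.Omega F (Cfsg.quadFormPlus (m + 3) F) := by
  have hs : (sO (1 : Fin (m + 3)) : OG (m + 3) F)⁻¹ = sO 1 :=
    inv_eq_of_mul_eq_one_right (sO_mul_self 1)
  have hw : wO m F = ⁅(sO (1 : Fin (m + 3)) : OG (m + 3) F), gO m F⁆ := by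
    rw [commutatorElement_def, hs]
    unfold wO
    rw [← gO_conj m]
    group
  rw [hw]
  exact Subgroup.commutator_mem_commutator (Subgroup.mem_top _) (Subgroup.mem_top _)

/-! ### the conjugation `w u(X₀) w⁻¹ = l(A₀)` -/

theorem mat_ext_mulVec {ι : Type*} [Fintype ι] [DecidableEq ι] {M N : Matrix ι ι F}
    (h : ∀ v : ι → F, M *ᵥ v = N *ᵥ v) : M = N := by
  apply Matrix.toLin'.injective
  apply LinearMap.ext
  intro v
  simpa [Matrix.toLin'_apply] using h v

theorem fin01 (m : ℕ) : (0 : Fin (m + 3)) ≠ 1 := by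
  intro h; have := congrArg Fin.val h; simp at this

theorem fin02 (m : ℕ) : (0 : Fin (m + 3)) ≠ 2 := by
  intro h; have := congrArg Fin.val h; rw [Fin.val_two] at this; simp at this

theorem fin12 (m : ℕ) : (1 : Fin (m + 3)) ≠ 2 := by
  intro h; have := congrArg Fin.val h; rw [Fin.val_two] at this; simp at this

theorem A0_mulVec (m : ℕ) (x : Fin (m + 3) → F) :
    (A0 m F).1 *ᵥ x = x + Pi.single 0 (x 1) := by
  show (1 + Matrix.single 0 1 1) *ᵥ x = _
  rw [add_mulVec, one_mulVec, single_mulVec, one_mul]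
  rfl

theorem A0_inv_transpose_mulVec (m : ℕ) (y : Fin (m + 3) → F) :
    ((A0 m F)⁻¹ : GL (Fin (m + 3)) F).1ᵀ *ᵥ y = y - Pi.single 1 (y 0) := by
  show (1 - Matrix.single 0 1 1)ᵀ *ᵥ y = _
  rw [transpose_sub, transpose_one, transpose_single, sub_mulVec, one_mulVec, single_mulVec, one_mul]
  rfl

theorem X0_mulVec (m : ℕ) (y : Fin (m + 3) → F) :
    (X0 m F).1 *ᵥ y = Pi.single 0 (y 1) - Pi.single 1 (y 0) := by
  show (Matrix.single 0 1 1 - (Matrix.single 0 1 (1 : F))ᵀ) *ᵥ y = _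
  rw [transpose_single, sub_mulVec, single_mulVec, single_mulVec, one_mul, one_mul]
  rfl

theorem lO_A0 (m : ℕ) : lO (A0 m F) = wO m F * uO (X0 m F) * (wO m F)⁻¹ := by
  rw [eq_mul_inv_iff_mul_eq]
  apply OG_ext
  show lMat (A0 m F) * (sMat 1 * sMat 2) = (sMat 1 * sMat 2) * uMat (X0 m F).1
  apply mat_ext_mulVec
  intro v
  rw [← mulVec_mulVec, ← mulVec_mulVec, ← mulVec_mulVec, ← mulVec_mulVec, sMat_mulVec, sMat_mulVec,
    sMat_mulVec, sMat_mulVec]
  unfold lMat uMat
  rw [fromBlocks_mulVec, fromBlocks_mulVec, A0_mulVec, A0_inv_transpose_mulVec, X0_mulVec]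
  have h01 := fin01 m
  have h02 := fin02 m
  have h12 := fin12 m
  ext k
  rcases k with i | i
  · by_cases h0 : i = 0
    · subst h0
      simp [Equiv.swap_apply_def, h01, h02, h12, h01.symm, h02.symm, h12.symm]
    · by_cases h1 : i = 1
      · subst h1
        simp [Equiv.swap_apply_def, h01, h02, h12, h01.symm, h02.symm, h12.symm]
      · by_cases h2 : i = 2
        · subst h2
          simp [Equiv.swap_apply_def, h01, h02, h12, h01.symm, h02.symm, h12.symm]
        · simp [Equiv.swap_apply_def, h0, h1, h2, Ne.symm h0, Ne.symm h1, Ne.symm h2, h01, h02, h12,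
            h01.symm, h02.symm, h12.symm]
  · by_cases h0 : i = 0
    · subst h0
      simp [Equiv.swap_apply_def, h01, h02, h12, h01.symm, h02.symm, h12.symm]
    · by_cases h1 : i = 1
      · subst h1
        simp [Equiv.swap_apply_def, h01, h02, h12, h01.symm, h02.symm, h12.symm]
        ring
      · by_cases h2 : i = 2
        · subst h2
          simp [Equiv.swap_apply_def, h01, h02, h12, h01.symm, h02.symm, h12.symm]
        · simp [Equiv.swap_apply_def, h0, h1, h2, Ne.symm h0, Ne.symm h1, Ne.symm h2, h01, h02, h12,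
            h01.symm, h02.symm, h12.symm]

end Cfsg.Agent.Lib.H28.OPMin
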