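/-
helper28 library: the orbits of an octad stabilizer on sextets (35, 840, 896) and trios (15, 420, 3360).
-/
import Cfsg.Agent.Lib.H28.CertOctSext
import Cfsg.Agent.Lib.H28.CertOctTrio
import Cfsg.Agent.Lib.H28.FamilySmul

set_option autoImplicit false

namespace Cfsg.Agent.Lib.H28

open Cfsg
open scoped Pointwise

theorem setInv_smul' (g : ↥M24) (a : Finset GolayPt) (x : Finset (Finset GolayPt)) :
    setInv (g • a) (g • x) = setInv a x := setInv_smul (g : Equiv.Perm GolayPt) a x

theorem octGenWords_smul_oct0 : ∀ w ∈ octGenWords, wordPerm w • oct0 = oct0 := fun w hw =>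
  (mem_stabMask_iff_smul.1 (octGenWords_mem w hw)).2

/-- Class structure of an octad stabilizer on sextets. -/
theorem octad_sextet_structure (g0 : ↥M24) :
    (∀ j ∈ octSextJ, ∃ X ∈ sextets, setInv (g0 • oct0) X = j ∧
      (MulAction.orbit ↥(MulAction.stabilizer ↥M24 (g0 • oct0)) X).ncard = octSextN j) ∧
    (∀ X ∈ sextets, MulAction.orbit ↥(MulAction.stabilizer ↥M24 (g0 • oct0)) X
      = {y | y ∈ sextets ∧ setInv (g0 • oct0) y = setInv (g0 • oct0) X}) ∧
    (∀ y ∈ sextets, setInv (g0 • oct0) y ∈ octSextJ) :=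
  key_class_structure oct0 sextets (fun g _ hx => smul_mem_sextets' g hx) sextKs 1771
    (fun _ hy => exists_sextKey hy) (fun _ hk => decL_mem_sextets (sextKey_ok hk)) sextKs_inj sextKs_nodup
    setInv setInv_smul' (setInvK baseOctad) (fun _ hk => setInv_decL baseOctad (sextKey_keyOK hk))
    octGenWords octGenWords_smul_oct0 octSextJ octSextN octSext_all octSext_certs octSext_counts octSext_pos g0

/-- Class structure of an octad stabilizer on trios. -/
theorem octad_trio_structure (g0 : ↥M24) :
    (∀ j ∈ octTrioJ, ∃ X ∈ trios, setInv (g0 • oct0) X = j ∧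
      (MulAction.orbit ↥(MulAction.stabilizer ↥M24 (g0 • oct0)) X).ncard = octTrioN j) ∧
    (∀ X ∈ trios, MulAction.orbit ↥(MulAction.stabilizer ↥M24 (g0 • oct0)) X
      = {y | y ∈ trios ∧ setInv (g0 • oct0) y = setInv (g0 • oct0) X}) ∧
    (∀ y ∈ trios, setInv (g0 • oct0) y ∈ octTrioJ) :=
  key_class_structure oct0 trios (fun g _ hx => smul_mem_trios' g hx) trioKs 3795
    (fun _ hy => exists_trioKey hy) (fun _ hk => trioKey_mem hk) trioKs_inj trioKs_nodup
    setInv setInv_smul' (setInvK baseOctad) (fun _ hk => setInv_decL baseOctad (trioKey_keyOK hk))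
    octGenWords octGenWords_smul_oct0 octTrioJ octTrioN octTrio_all octTrio_certs octTrio_counts octTrio_pos g0

end Cfsg.Agent.Lib.H28
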