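/-
helper28 library: the 15 trios through an octad: the octad stabilizer is doubly transitive on them, with kernel the
pointwise stabilizer of the octad.
-/
import Cfsg.Agent.Lib.H28.CertOctThru
import Cfsg.Agent.Lib.H28.M24OctadA8

set_option autoImplicit false

namespace Cfsg.Agent.Lib.H28

open Cfsg
open scoped Pointwise

/-! ### Single-class transitivity from one certificate -/

theorem class_trans_of_cert1 {α : Type*} [MulAction (Equiv.Perm GolayPt) α] (a0 : α)
    (F : Set (Finset (Finset GolayPt))) (Ks : List (List (List ℕ))) (n : ℕ)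
    (hex : ∀ y ∈ F, ∃ k ∈ flatK Ks n, decL k = y)
    (inv : α → Finset (Finset GolayPt) → ℕ) (invK : List ℕ → ℕ)
    (hinvK : ∀ k ∈ flatK Ks n, inv a0 (decL k) = invK k)
    (ws : List (List ℕ)) (hws : ∀ w ∈ ws, wordPerm w • a0 = a0) (j : ℕ)
    {start : ℕ} {cert : List (ℕ × ℕ × ℕ)}
    (hcert : checkK (wordTis ws) Ks start cert ((List.range n).filter (fun i => invK (getK Ks i) == j)) = true) :
    ∀ x ∈ F, ∀ y ∈ F, inv a0 x = j → inv a0 y = j → ∃ g : ↥M24, g • a0 = a0 ∧ g • x = y := by
  intro x hx y hy hxj hyj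
  set K : Subgroup (Equiv.Perm GolayPt) := M24 ⊓ MulAction.stabilizer (Equiv.Perm GolayPt) a0 with hK
  have hwsK : ∀ w ∈ ws, wordPerm w ∈ K := by
    intro w hw
    rw [hK, Subgroup.mem_inf, MulAction.mem_stabilizer_iff]
    exact ⟨wordPerm_mem_M24 w, hws w hw⟩
  obtain ⟨g, hg, e⟩ := exists_smul_of_checkK F Ks n hex K ws hwsK (fun k => invK k == j) hcert hx hy
    (fun k hk hkx => by rw [beq_iff_eq, ← hinvK k hk, hkx, hxj])
    (fun k hk hky => by rw [beq_iff_eq, ← hinvK k hk, hky, hyj])
  rw [hK, Subgroup.mem_inf, MulAction.mem_stabilizer_iff] at hg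
  exact ⟨⟨g, hg.1⟩, hg.2, e⟩

/-! ### Invariants -/

/-- Indicator that a family contains a point set. -/
def memInv (o : Finset GolayPt) (T : Finset (Finset GolayPt)) : ℕ := if o ∈ T then 1 else 0

/-- Indicator that a family contains a point set and differs from a given family. -/
def memInv2 (a : Finset GolayPt × Finset (Finset GolayPt)) (T : Finset (Finset GolayPt)) : ℕ :=
  if a.1 ∈ T ∧ T ≠ a.2 then 1 else 0

theorem memInv_smul (g : ↥M24) (o : Finset GolayPt) (T : Finset (Finset GolayPt)) :
    memInv (g • o) (g • T) = memInv o T := by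
  unfold memInv
  have : g • o ∈ g • T ↔ o ∈ T := Finset.smul_mem_smul_finset_iff g
  simp only [this]

theorem memInv2_smul (g : ↥M24) (a : Finset GolayPt × Finset (Finset GolayPt)) (T : Finset (Finset GolayPt)) :
    memInv2 (g • a) (g • T) = memInv2 a T := by
  unfold memInv2
  have h1 : (g • a).1 ∈ g • T ↔ a.1 ∈ T := Finset.smul_mem_smul_finset_iff g
  have h2 : g • T ≠ (g • a).2 ↔ T ≠ a.2 := by
    show g • T ≠ g • a.2 ↔ _
    rw [Ne, Ne, smul_left_cancel_iff]
  simp only [h1, h2]

theorem baseOctad_lt : baseOctad < 2 ^ 24 := by decide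

theorem oct0_mem_decL_iff {k : List ℕ} (hk : keyOK k = true) : oct0 ∈ decL k ↔ k.contains baseOctad = true := by
  have hlt : ∀ m ∈ k, m < 2 ^ 24 := by
    unfold keyOK at hk
    rw [Bool.and_eq_true, List.all_eq_true] at hk
    intro m hm
    have := hk.1 m hm
    rwa [decide_eq_true_eq] at this
  rw [mem_decL, List.contains_iff_mem]
  constructor
  · rintro ⟨m, hm, e⟩
    have : m = baseOctad := ptsMask_inj (hlt m hm) baseOctad_lt e
    rw [← this]; exact hm
  · intro h
    exact ⟨baseOctad, h, rfl⟩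

theorem memInv_decL {k : List ℕ} (hk : k ∈ flatK trioKs 3795) : memInv oct0 (decL k) = thruK k := by
  unfold memInv thruK
  by_cases h : k.contains baseOctad = true
  · rw [if_pos ((oct0_mem_decL_iff (trioKey_keyOK hk)).2 h), if_pos h]
  · rw [if_neg (fun h' => h ((oct0_mem_decL_iff (trioKey_keyOK hk)).1 h')), if_neg h]

theorem memInv2_decL {k : List ℕ} (hk : k ∈ flatK trioKs 3795) :
    memInv2 (oct0, decL trio0Key) (decL k) = thruK2 k := by
  unfold memInv2 thruK2
  have h1 : oct0 ∈ decL k ↔ k.contains baseOctad = true := oct0_mem_decL_iff (trioKey_keyOK hk)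
  have h2 : decL k ≠ decL trio0Key ↔ (k != trio0Key) = true := by
    rw [bne_iff_ne]
    constructor
    · intro h e; exact h (by rw [e])
    · intro h e; exact h (trioKs_inj k hk trio0Key trio0Key_mem e)
  by_cases h : (k.contains baseOctad && (k != trio0Key)) = true
  · rw [if_pos h]
    rw [Bool.and_eq_true] at h
    rw [if_pos ⟨h1.2 h.1, h2.2 h.2⟩]
  · rw [if_neg h, if_neg]
    rintro ⟨ha, hb⟩
    exact h (by rw [Bool.and_eq_true]; exact ⟨h1.1 ha, h2.1 hb⟩)

/-! ### The base octad -/

theorem octTrioPairWords_smul : ∀ w ∈ octTrioPairWords,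
    wordPerm w • ((oct0, decL trio0Key) : Finset GolayPt × Finset (Finset GolayPt)) = (oct0, decL trio0Key) := by
  have h1 : ∀ w ∈ octTrioPairWords, presCheck w baseOctad = true := by decide +kernel
  have h2 : octTrioPairWords.all (fun w => sameL (trio0Key.map (pullMask (wordTab (invWord w)))) trio0Key)
      = true := by decide +kernel
  intro w hw
  rw [Prod.smul_mk]
  exact congrArg₂ Prod.mk (mem_stabMask_iff_smul.1 (wordPerm_mem_stabMask (h1 w hw))).2
    (wordPerm_smul_decL_of_sameL (List.all_eq_true.1 h2 w hw))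

theorem octGenWords_smul_oct0' : ∀ w ∈ octGenWords, wordPerm w • oct0 = oct0 := fun w hw =>
  (mem_stabMask_iff_smul.1 (octGenWords_mem w hw)).2

/-- The stabilizer of the base octad is transitive on the trios through it. -/
theorem oct0_trans_thru : ∀ x ∈ trios, ∀ y ∈ trios, oct0 ∈ x → oct0 ∈ y →
    ∃ g : ↥M24, g • oct0 = oct0 ∧ g • x = y := by
  intro x hx y hy hox hoy
  exact class_trans_of_cert1 oct0 trios trioKs 3795 (fun _ h => exists_trioKey h) memInv thruK
    (fun _ hk => memInv_decL hk) octGenWords octGenWords_smul_oct0' 1 thruCert_ok x hx y hy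
    (by unfold memInv; rw [if_pos hox]) (by unfold memInv; rw [if_pos hoy])

/-- The stabilizer of the base octad and the base trio is transitive on the other trios through the octad. -/
theorem oct0_trio0_trans_thru : ∀ x ∈ trios, ∀ y ∈ trios, oct0 ∈ x → oct0 ∈ y → x ≠ decL trio0Key →
    y ≠ decL trio0Key → ∃ g : ↥M24, g • oct0 = oct0 ∧ g • decL trio0Key = decL trio0Key ∧ g • x = y := by
  intro x hx y hy hox hoy hxT hyT
  obtain ⟨g, hg, e⟩ := class_trans_of_cert1 ((oct0, decL trio0Key) : Finset GolayPt × Finset (Finset GolayPt))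
    trios trioKs 3795 (fun _ h => exists_trioKey h) memInv2 thruK2
    (fun _ hk => memInv2_decL hk) octTrioPairWords octTrioPairWords_smul 1 thruCert2_ok x hx y hy
    (by unfold memInv2; rw [if_pos ⟨hox, hxT⟩]) (by unfold memInv2; rw [if_pos ⟨hoy, hyT⟩])
  have hg' : (g • oct0, g • decL trio0Key) = (oct0, decL trio0Key) := hg
  rw [Prod.mk.injEq] at hg'
  exact ⟨g, hg'.1, hg'.2, e⟩

theorem oct0_mem_trio0 : oct0 ∈ decL trio0Key := by
  rw [oct0_mem_decL_iff (trioKey_keyOK trio0Key_mem)]
  decide +kernel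

theorem ncard_trios_thru_oct0 : {T | T ∈ trios ∧ oct0 ∈ T}.ncard = 15 := by
  rw [ncard_filter_keys trios decL (flatK trioKs 3795) (fun _ h => exists_trioKey h) (fun _ hk => trioKey_mem hk)
    trioKs_inj trioKs_nodup (fun T => oct0 ∈ T) (fun k => k.contains baseOctad)
    (fun k hk => oct0_mem_decL_iff (trioKey_keyOK hk))]
  exact thru_count

end Cfsg.Agent.Lib.H28
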