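/-
helper28 library: the 15 trios through an arbitrary octad: count, double transitivity, kernel of the action.
-/
import Cfsg.Agent.Lib.H28.OctadTrios

set_option autoImplicit false

namespace Cfsg.Agent.Lib.H28

open Cfsg
open scoped Pointwise

theorem mem_inv_smul_family (g0 : ↥M24) (o : Finset GolayPt) (x : Finset (Finset GolayPt)) :
    o ∈ g0⁻¹ • x ↔ g0 • o ∈ x := by
  rw [← Finset.smul_mem_smul_finset_iff g0, smul_inv_smul]

/-- Transitivity of an octad stabilizer on the trios through the octad. -/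
theorem thru_trans (g0 : ↥M24) : ∀ x ∈ trios, ∀ y ∈ trios, g0 • oct0 ∈ x → g0 • oct0 ∈ y →
    ∃ g : ↥M24, g • (g0 • oct0) = g0 • oct0 ∧ g • x = y := by
  intro x hx y hy hox hoy
  obtain ⟨g, hg, e⟩ := oct0_trans_thru (g0⁻¹ • x) (smul_mem_trios' _ hx) (g0⁻¹ • y) (smul_mem_trios' _ hy)
    ((mem_inv_smul_family g0 oct0 x).2 hox) ((mem_inv_smul_family g0 oct0 y).2 hoy)
  refine ⟨g0 * g * g0⁻¹, ?_, ?_⟩
  · rw [mul_smul, mul_smul, inv_smul_smul, hg]
  · rw [mul_smul, mul_smul, e, smul_inv_smul]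

/-- Transitivity of the stabilizer of an octad and a trio through it on the other trios through the octad. -/
theorem thru_pair_trans (g1 : ↥M24) : ∀ x ∈ trios, ∀ y ∈ trios, g1 • oct0 ∈ x → g1 • oct0 ∈ y →
    x ≠ g1 • decL trio0Key → y ≠ g1 • decL trio0Key →
    ∃ g : ↥M24, g • (g1 • oct0) = g1 • oct0 ∧ g • (g1 • decL trio0Key) = g1 • decL trio0Key ∧ g • x = y := by
  intro x hx y hy hox hoy hxT hyT
  have hne : ∀ z : Finset (Finset GolayPt), z ≠ g1 • decL trio0Key → g1⁻¹ • z ≠ decL trio0Key := by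
    intro z hz e
    apply hz
    rw [← e, smul_inv_smul]
  obtain ⟨g, hg1, hg2, e⟩ := oct0_trio0_trans_thru (g1⁻¹ • x) (smul_mem_trios' _ hx) (g1⁻¹ • y)
    (smul_mem_trios' _ hy) ((mem_inv_smul_family g1 oct0 x).2 hox) ((mem_inv_smul_family g1 oct0 y).2 hoy)
    (hne x hxT) (hne y hyT)
  refine ⟨g1 * g * g1⁻¹, ?_, ?_, ?_⟩
  · rw [mul_smul, mul_smul, inv_smul_smul, hg1]
  · rw [mul_smul, mul_smul, inv_smul_smul, hg2]
  · rw [mul_smul, mul_smul, e, smul_inv_smul]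

/-- Double transitivity of an octad stabilizer on the trios through the octad. -/
theorem thru_two_trans {o : Finset GolayPt} (ho : o ∈ octads) {T₁ T₂ T₁' T₂' : Finset (Finset GolayPt)}
    (h1 : T₁ ∈ trios) (h2 : T₂ ∈ trios) (h1' : T₁' ∈ trios) (h2' : T₂' ∈ trios)
    (o1 : o ∈ T₁) (o2 : o ∈ T₂) (o1' : o ∈ T₁') (o2' : o ∈ T₂') (hne : T₁ ≠ T₂) (hne' : T₁' ≠ T₂') :
    ∃ g ∈ M24, g • o = o ∧ g • T₁ = T₁' ∧ g • T₂ = T₂' := by
  obtain ⟨g0, hg0, rfl⟩ := exists_M24_smul_octad oct0_mem_octads ho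
  set G0 : ↥M24 := ⟨g0, hg0⟩ with hG0
  have o1G : G0 • oct0 ∈ T₁ := o1
  have o2G : G0 • oct0 ∈ T₂ := o2
  have o1G' : G0 • oct0 ∈ T₁' := o1'
  have o2G' : G0 • oct0 ∈ T₂' := o2'
  -- the flag `(o, T₁')` is an image of the base flag
  obtain ⟨h0, hh0o, hh0T⟩ := oct0_trans_thru (decL trio0Key) trio0_mem_trios (G0⁻¹ • T₁')
    (smul_mem_trios' _ h1') oct0_mem_trio0 ((mem_inv_smul_family G0 oct0 T₁').2 o1G')
  have e1 : (G0 * h0) • oct0 = G0 • oct0 := by rw [mul_smul, hh0o]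
  have e2 : (G0 * h0) • decL trio0Key = T₁' := by rw [mul_smul, hh0T, smul_inv_smul]
  -- move `T₁` to `T₁'`
  obtain ⟨h, hho, hhT⟩ := thru_trans G0 T₁ h1 T₁' h1' o1G o1G'
  have hX : h • T₂ ∈ trios := smul_mem_trios' _ h2
  have hXo : (G0 * h0) • oct0 ∈ h • T₂ := by
    rw [e1, ← hho]
    exact Finset.smul_mem_smul_finset o2G
  have hXne : h • T₂ ≠ (G0 * h0) • decL trio0Key := by
    rw [e2, ← hhT]
    intro e
    exact hne (smul_left_cancel h e).symm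
  obtain ⟨k, hk1, hk2, hk3⟩ := thru_pair_trans (G0 * h0) (h • T₂) hX T₂' h2' hXo (by rw [e1]; exact o2G')
    hXne (by rw [e2]; exact hne'.symm)
  rw [e1] at hk1
  rw [e2] at hk2
  refine ⟨((k * h : ↥M24) : Equiv.Perm GolayPt), (k * h).2, ?_, ?_, ?_⟩
  · show (k * h) • (G0 • oct0) = G0 • oct0
    rw [mul_smul, hho, hk1]
  · show (k * h) • T₁ = T₁'
    rw [mul_smul, hhT, hk2]
  · show (k * h) • T₂ = T₂'
    rw [mul_smul, hk3]

/-- An octad lies in exactly 15 trios. -/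
theorem ncard_trios_thru {o : Finset GolayPt} (ho : o ∈ octads) : {T | T ∈ trios ∧ o ∈ T}.ncard = 15 := by
  obtain ⟨g0, hg0, rfl⟩ := exists_M24_smul_octad oct0_mem_octads ho
  rw [← ncard_trios_thru_oct0]
  have himg : {T | T ∈ trios ∧ g0 • oct0 ∈ T}
      = (fun T : Finset (Finset GolayPt) => g0 • T) '' {T | T ∈ trios ∧ oct0 ∈ T} := by
    ext T
    rw [Set.mem_image, Set.mem_ofPred_eq]
    constructor
    · rintro ⟨hT, hoT⟩
      refine ⟨g0⁻¹ • T, ⟨smul_mem_trios (M24.inv_mem hg0) hT, ?_⟩, smul_inv_smul _ _⟩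
      rw [← Finset.smul_mem_smul_finset_iff g0, smul_inv_smul]
      exact hoT
    · rintro ⟨T', ⟨hT', hoT'⟩, rfl⟩
      exact ⟨smul_mem_trios hg0 hT', Finset.smul_mem_smul_finset hoT'⟩
  rw [himg]
  exact Set.ncard_image_of_injective _ (MulAction.injective g0)

end Cfsg.Agent.Lib.H28
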