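/-
helper28 library: the kernel of the action of an octad stabilizer on the 15 trios through the octad is the pointwise
stabilizer of the octad.
-/
import Cfsg.Agent.Lib.H28.OctadTrios2

set_option autoImplicit false

namespace Cfsg.Agent.Lib.H28

open Cfsg
open scoped Pointwise

theorem k0Tab_fix_thru : k0Tab.all (fun w => ((flatK trioKs 3795).filter (fun k => k.contains baseOctad)).all
    (fun k => sameL (k.map (pullMask (wordTab (invWord w)))) k)) = true := by decide +kernel

theorem K0_smul_thru {g : Equiv.Perm GolayPt} (hg : g ∈ K0) {T : Finset (Finset GolayPt)} (hT : T ∈ trios)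
    (ho : oct0 ∈ T) : g • T = T := by
  obtain ⟨k, hk, rfl⟩ := exists_trioKey hT
  have hc := (oct0_mem_decL_iff (trioKey_keyOK hk)).1 ho
  rw [K0_eq_word hg]
  set z := gIdx (g (gPt 4)) with hz
  have hz24 : z < 24 := gIdx_lt _
  have hlen : k0Tab.length = 24 := by decide
  have hw : k0Tab.getD z [] ∈ k0Tab := by
    rw [List.getD_eq_getElem _ _ (by rw [hlen]; exact hz24)]
    exact List.getElem_mem _
  have h1 := List.all_eq_true.1 k0Tab_fix_thru _ hw
  have h2 := List.all_eq_true.1 h1 k (List.mem_filter.2 ⟨hk, hc⟩)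
  exact wordPerm_smul_decL_of_sameL h2

theorem mem_K0_iff {g : Equiv.Perm GolayPt} : g ∈ K0 ↔ g ∈ M24 ∧ ∀ p ∈ oct0, g p = p := by
  rw [K0_eq, Subgroup.mem_inf, mem_fixingSubgroup_iff]
  constructor
  · rintro ⟨h1, h2⟩
    exact ⟨h1, fun p hp => h2 p (Finset.mem_coe.2 hp)⟩
  · rintro ⟨h1, h2⟩
    exact ⟨h1, fun p hp => h2 p (Finset.mem_coe.1 hp)⟩

/-- A second trio through the base octad. -/
def trio1Key : List ℕ := getK trioKs 879

theorem trio1Key_mem : trio1Key ∈ flatK trioKs 3795 := mem_flatK.2 ⟨879, by norm_num, rfl⟩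

theorem trio1Key_facts : trio1Key.contains baseOctad = true ∧ (trio1Key != trio0Key) = true := by decide +kernel

/-- The kernel of the action of the stabilizer of the base octad on the trios through it. -/
theorem kernel_thru_oct0 {g : Equiv.Perm GolayPt} (hg : g ∈ M24) (hgo : g • oct0 = oct0) :
    (∀ T ∈ trios, oct0 ∈ T → g • T = T) ↔ ∀ p ∈ oct0, g p = p := by
  classical
  constructor
  · intro hfix
    let H : Subgroup (Equiv.Perm GolayPt) := M24 ⊓ MulAction.stabilizer (Equiv.Perm GolayPt) oct0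
    let φ : ↥H →* Equiv.Perm ↥oct0 := restrictHom M24 oct0
    have hHo : ∀ x : ↥H, x.1 • oct0 = oct0 := fun x => MulAction.mem_stabilizer_iff.1 (Subgroup.mem_inf.1 x.2).2
    have hHM : ∀ x : ↥H, x.1 ∈ M24 := fun x => (Subgroup.mem_inf.1 x.2).1
    let N : Subgroup ↥H :=
      { carrier := {x | ∀ T ∈ trios, oct0 ∈ T → x.1 • T = T}
        one_mem' := fun T _ _ => one_smul _ T
        mul_mem' := fun {a b} ha hb T hT ho => by
          show (a.1 * b.1) • T = T
          rw [mul_smul, hb T hT ho, ha T hT ho]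
        inv_mem' := fun {a} ha T hT ho => by
          show a.1⁻¹ • T = T
          rw [inv_smul_eq_iff, ha T hT ho] }
    have hNmem : ∀ x : ↥H, x ∈ N ↔ ∀ T ∈ trios, oct0 ∈ T → x.1 • T = T := fun x => Iff.rfl
    have hNn : N.Normal := by
      constructor
      intro n hn h
      rw [hNmem] at hn ⊢
      intro T hT ho
      show (h.1 * n.1 * h.1⁻¹) • T = T
      have h1 : h.1⁻¹ • T ∈ trios := smul_mem_trios (M24.inv_mem (hHM h)) hT
      have h2 : oct0 ∈ h.1⁻¹ • T := by
        rw [← Finset.smul_mem_smul_finset_iff h.1, smul_inv_smul, hHo h]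
        exact ho
      rw [mul_smul, mul_smul, hn _ h1 h2, smul_inv_smul]
    have hrange := range_restrictHom_octad oct0_mem_octads
    let ψ : ↥H →* ↥(alternatingGroup ↥oct0) := φ.codRestrict (alternatingGroup ↥oct0) (fun x => by
      rw [← hrange]; exact ⟨x, rfl⟩)
    have hψ : Function.Surjective ψ := by
      intro a
      have : a.1 ∈ (restrictHom M24 oct0).range := by rw [hrange]; exact a.2
      obtain ⟨x, hx⟩ := this
      exact ⟨x, Subtype.ext hx⟩
    have h8 : Nat.card ↥oct0 = 8 := by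
      rw [Nat.card_eq_fintype_card, Fintype.card_coe]
      exact oct0_mem_octads.2
    have : IsSimpleGroup ↥(alternatingGroup ↥oct0) := alternatingGroup.isSimpleGroup (by rw [h8]; norm_num)
    have hker : ∀ x : ↥H, ψ x = 1 → x.1 ∈ K0 := by
      intro x hx
      have hφ : φ x = 1 := congrArg Subtype.val hx
      have := (mem_ker_restrictHom M24 oct0 x).1 (MonoidHom.mem_ker.2 hφ)
      exact mem_K0_iff.2 ⟨hHM x, this⟩
    let gH : ↥H := ⟨g, Subgroup.mem_inf.2 ⟨hg, MulAction.mem_stabilizer_iff.2 hgo⟩⟩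
    have hgN : gH ∈ N := (hNmem gH).2 hfix
    rcases (hNn.map ψ hψ).eq_bot_or_eq_top with hbot | htop
    · have h1 : ψ gH ∈ N.map ψ := Subgroup.mem_map_of_mem ψ hgN
      rw [hbot, Subgroup.mem_bot] at h1
      exact (mem_K0_iff.1 (hker gH h1)).2
    · exfalso
      have hall : ∀ h : ↥H, h ∈ N := by
        intro h
        have h1 : ψ h ∈ N.map ψ := by rw [htop]; exact Subgroup.mem_top _
        obtain ⟨n, hn, e⟩ := Subgroup.mem_map.1 h1
        have h2 : ψ (n⁻¹ * h) = 1 := by rw [map_mul, map_inv, e, inv_mul_cancel]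
        have h3 : n⁻¹ * h ∈ N := by
          rw [hNmem]
          intro T hT ho
          exact K0_smul_thru (hker _ h2) hT ho
        have := N.mul_mem hn h3
        rwa [mul_inv_cancel_left] at this
      have hT0 := trio0_mem_trios
      have hT1 : decL trio1Key ∈ trios := trioKey_mem trio1Key_mem
      have ho1 : oct0 ∈ decL trio1Key :=
        (oct0_mem_decL_iff (trioKey_keyOK trio1Key_mem)).2 trio1Key_facts.1
      obtain ⟨h, hho, hhT⟩ := oct0_trans_thru (decL trio0Key) hT0 (decL trio1Key) hT1 oct0_mem_trio0 ho1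
      let hH : ↥H := ⟨h.1, Subgroup.mem_inf.2 ⟨h.2, MulAction.mem_stabilizer_iff.2 hho⟩⟩
      have := (hNmem hH).1 (hall hH) (decL trio0Key) hT0 oct0_mem_trio0
      have e : decL trio1Key = decL trio0Key := by rw [← hhT]; exact this
      have := trioKs_inj _ trio1Key_mem _ trio0Key_mem e
      have h2 := trio1Key_facts.2
      rw [bne_iff_ne] at h2
      exact h2 this
  · intro hfix T hT ho
    exact K0_smul_thru (mem_K0_iff.2 ⟨hg, hfix⟩) hT ho

/-- The kernel of the action of an octad stabilizer on the trios through the octad. -/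
theorem kernel_thru {o : Finset GolayPt} (ho : o ∈ octads) {g : Equiv.Perm GolayPt} (hg : g ∈ M24)
    (hgo : g • o = o) : (∀ T ∈ trios, o ∈ T → g • T = T) ↔ ∀ p ∈ o, g p = p := by
  obtain ⟨g0, hg0, rfl⟩ := exists_M24_smul_octad oct0_mem_octads ho
  have hg' : g0⁻¹ * g * g0 ∈ M24 := M24.mul_mem (M24.mul_mem (M24.inv_mem hg0) hg) hg0
  have hgo' : (g0⁻¹ * g * g0) • oct0 = oct0 := by
    rw [mul_smul, mul_smul, hgo, inv_smul_smul]
  have key := kernel_thru_oct0 hg' hgo'
  constructor
  · intro h p hp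
    obtain ⟨q, hq, rfl⟩ := Finset.mem_smul_finset.1 hp
    have h1 : ∀ T ∈ trios, oct0 ∈ T → (g0⁻¹ * g * g0) • T = T := by
      intro T hT hoT
      rw [mul_smul, mul_smul, h (g0 • T) (smul_mem_trios hg0 hT) (Finset.smul_mem_smul_finset hoT),
        inv_smul_smul]
    have := key.1 h1 q hq
    rw [Equiv.Perm.mul_apply, Equiv.Perm.mul_apply, Equiv.Perm.inv_def, Equiv.symm_apply_eq] at this
    rw [Equiv.Perm.smul_def]
    exact this
  · intro h T hT hoT
    have h1 : ∀ p ∈ oct0, (g0⁻¹ * g * g0) p = p := by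
      intro p hp
      rw [Equiv.Perm.mul_apply, Equiv.Perm.mul_apply, Equiv.Perm.inv_def, Equiv.symm_apply_eq]
      exact h (g0 p) (by rw [← Equiv.Perm.smul_def]; exact Finset.smul_mem_smul_finset hp)
    have h2 : oct0 ∈ g0⁻¹ • T := by
      rw [← Finset.smul_mem_smul_finset_iff g0, smul_inv_smul]
      exact hoT
    have := key.2 h1 (g0⁻¹ • T) (smul_mem_trios (M24.inv_mem hg0) hT) h2
    rw [mul_smul, mul_smul, smul_inv_smul, inv_smul_eq_iff, smul_inv_smul] at this
    exact this

end Cfsg.Agent.Lib.H28
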