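/-
helper28 library: commuting elements of orders 3 and 2 in M24 have (6, 8) or (0, 0) fixed points.
-/
import Cfsg.Agent.Lib.H28.InvolutionClasses

set_option autoImplicit false

namespace Cfsg.Agent.Lib.H28

open scoped Pointwise
open Cfsg

theorem eqW_of_wordPerm_eq {u v : List ℕ} (h : wordPerm u = wordPerm v) : eqW u v = true := by
  unfold eqW
  rw [List.all_eq_true]
  intro i hi
  rw [List.mem_range] at hi
  rw [beq_iff_eq]
  have := congrArg (fun f : Equiv.Perm GolayPt => gIdx (f (gPt i))) h
  simp only [gIdx_wordPerm, gIdx_gPt hi] at this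
  exact this

/-- A fixed-point-free element of order 3 commutes with no involution having eight fixed points. -/
theorem no_free_three_commute_eight (x s : Equiv.Perm GolayPt) (hx3 : x ^ 3 = 1) (hx0 : ∀ p, x p ≠ p)
    (hs8 : (fixedF s).card = 8) (hc : Commute x s) : False := by
  have hxs : ∀ p, x (s p) = s (x p) := by
    intro p
    have := congrArg (fun f : Equiv.Perm GolayPt => f p) hc.eq
    simpa [Equiv.Perm.mul_apply] using this
  have hpres : ∀ p, x p ∈ fixedF s ↔ p ∈ fixedF s := by
    intro p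
    rw [mem_fixedF, mem_fixedF]
    constructor
    · intro h
      rw [← hxs] at h
      exact x.injective h
    · intro h
      rw [← hxs, h]
  set σ : Equiv.Perm ↥(fixedF s) := x.subtypePerm hpres with hσ
  have hσ3 : σ ^ 3 ^ 1 = 1 := by
    apply Equiv.ext
    intro a
    apply Subtype.ext
    rw [pow_one, pow_succ, pow_two, Equiv.Perm.mul_apply, Equiv.Perm.mul_apply, Equiv.Perm.one_apply]
    show x (x (x a.1)) = a.1
    have : (x ^ 3) a.1 = a.1 := by rw [hx3]; rfl
    rwa [pow_succ, pow_two, Equiv.Perm.mul_apply, Equiv.Perm.mul_apply] at this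
  have : Fact (Nat.Prime 3) := ⟨Nat.prime_three⟩
  have hcard : ¬ 3 ∣ Fintype.card ↥(fixedF s) := by
    rw [Fintype.card_coe, hs8]
    norm_num
  obtain ⟨a, ha⟩ := Equiv.Perm.exists_fixed_point_of_prime hcard hσ3
  have := congrArg Subtype.val ha
  exact hx0 a.1 this

theorem w2B_w36_not_commute : (List.range 3).all (fun j => (List.range 3).all (fun i => i == 0 ||
    !eqW (pw36 i ++ (w2B ++ pw36 j)) ((w2B ++ pw36 j) ++ pw36 i))) = true := by
  decide +kernel

/-- An element of order 3 with six fixed points commutes with no fixed-point-free involution. -/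
theorem no_six_three_commute_free (x s : Equiv.Perm GolayPt) (hx : x ∈ M24) (hs : s ∈ M24)
    (h₃ : orderOf x = 3) (h₆ : (fixedF x).card = 6) (hss : s * s = 1) (hs0 : ∀ p, s p ≠ p)
    (hc : Commute x s) : False := by
  classical
  have hst : ∀ p, s (s p) = p := by
    intro p
    have : (s * s) p = p := by rw [hss]; rfl
    rwa [Equiv.Perm.mul_apply] at this
  have hxs : ∀ p, x (s p) = s (x p) := by
    intro p
    have := congrArg (fun f : Equiv.Perm GolayPt => f p) hc.eq
    simpa [Equiv.Perm.mul_apply] using this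
  have hsE : ∀ p, p ∈ fixedF x → s p ∈ fixedF x := by
    intro p hp
    rw [mem_fixedF] at hp ⊢
    rw [hxs, hp]
  -- choose the three 2-cycles of `s` on the fixed points of `x`
  have hne : (fixedF x).Nonempty := Finset.card_pos.1 (by omega)
  obtain ⟨a, ha⟩ := hne
  have hsa := hsE a ha
  have hcard1 : ({a, s a} : Finset GolayPt).card < (fixedF x).card := by
    have := Finset.card_le_two (a := a) (b := s a)
    omega
  obtain ⟨b, hb, hb'⟩ := Finset.exists_mem_notMem_of_card_lt_card hcard1
  simp only [Finset.mem_insert, Finset.mem_singleton, not_or] at hb'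
  obtain ⟨hb0, hb1⟩ := hb'
  have hsb := hsE b hb
  have hcard2 : ({a, s a, b, s b} : Finset GolayPt).card < (fixedF x).card := by
    have := Finset.card_le_four (a := a) (b := s a) (c := b) (d := s b)
    omega
  obtain ⟨c, hcE, hc'⟩ := Finset.exists_mem_notMem_of_card_lt_card hcard2
  simp only [Finset.mem_insert, Finset.mem_singleton, not_or] at hc'
  obtain ⟨hc0, hc1, hc2, hc3⟩ := hc'
  have hsc := hsE c hcE
  have hnd : [a, s a, b, s b, c, s c].Nodup := by
    simp only [List.nodup_cons, List.mem_cons, List.not_mem_nil, or_false, not_or, List.nodup_nil, and_true,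
      not_false_eq_true]
    refine ⟨⟨(hs0 a).symm, Ne.symm hb0, ?_, Ne.symm hc0, ?_⟩, ⟨Ne.symm hb1, ?_, Ne.symm hc1, ?_⟩,
      ⟨(hs0 b).symm, Ne.symm hc2, ?_⟩, ⟨Ne.symm hc3, ?_⟩, (hs0 c).symm⟩
    · intro h
      apply hb1
      rw [h, hst]
    · intro h
      apply hc1
      rw [h, hst]
    · intro h
      exact hb0 (s.injective h).symm
    · intro h
      exact hc0 (s.injective h).symm
    · intro h
      apply hc3
      rw [h, hst]
    · intro h
      exact hc2 (s.injective h).symm
  set y : Fin 6 → GolayPt := ![a, s a, b, s b, c, s c] with hy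
  have hyinj : Function.Injective y := injective_vec6 hnd
  have hyE : ∀ i, y i ∈ fixedF x := by
    intro i
    fin_cases i
    exacts [ha, hsa, hb, hsb, hcE, hsc]
  have hσ : ∀ i, s (y i) = y (![1, 0, 3, 2, 5, 4] i) := by
    intro i
    fin_cases i
    · rfl
    · exact hst a
    · rfl
    · exact hst b
    · rfl
    · exact hst c
  have himg : Finset.univ.image y = fixedF x := by
    apply Finset.eq_of_subset_of_card_le
    · intro p hp
      obtain ⟨i, -, rfl⟩ := Finset.mem_image.1 hp
      exact hyE i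
    · rw [Finset.card_image_of_injective _ hyinj, Finset.card_univ, Fintype.card_fin, h₆]
  have hno : ¬ ∃ o ∈ octads, ∀ i, y i ∈ o := by
    rintro ⟨o, ho, hyo⟩
    apply order_three_six_no_octad x hx h₃ h₆
    refine ⟨o, ho, ?_⟩
    intro p hp
    have hp' : p ∈ fixedF x := hp
    rw [← himg] at hp'
    obtain ⟨i, -, rfl⟩ := Finset.mem_image.1 hp'
    exact hyo i
  obtain ⟨k, hk, hky, j, hj, e⟩ := conj_of_six_out s hs y hyinj hno _ hσ w2B w2B_action
  have hx' : k⁻¹ * x * k ∈ fixSub M24 (levelFix 6) := by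
    rw [mem_fixSub_conj hk]
    refine ⟨hx, ?_⟩
    intro l hl
    obtain ⟨i, hi⟩ := levelFix6_base6out l hl
    have e' : gPt l = base6out i := by unfold base6out; rw [hi]
    rw [e', hky]
    exact mem_fixedF.1 (hyE i)
  obtain ⟨i, hi, ex⟩ := fixSub_level6_cases hx'
  have hcheck := List.all_eq_true.1 (List.all_eq_true.1 w2B_w36_not_commute j (List.mem_range.2 hj)) i
    (List.mem_range.2 hi)
  rw [Bool.or_eq_true, beq_iff_eq] at hcheck
  rcases hcheck with h0 | hne
  · -- x = 1
    rw [h0] at ex
    have h1 : k⁻¹ * x * k = 1 := ex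
    have h2 : x = 1 := by
      have : x = k * (k⁻¹ * x * k) * k⁻¹ := by group
      rw [this, h1]
      group
    rw [h2, orderOf_one] at h₃
    exact absurd h₃ (by norm_num)
  · have hs' : k⁻¹ * s * k = wordPerm (w2B ++ pw36 j) := by rw [e]; group
    have hcomm : wordPerm (pw36 i ++ (w2B ++ pw36 j)) = wordPerm ((w2B ++ pw36 j) ++ pw36 i) := by
      rw [wordPerm_append, wordPerm_append (w2B ++ pw36 j), ← ex, ← hs']
      calc k⁻¹ * x * k * (k⁻¹ * s * k) = k⁻¹ * (x * s) * k := by group
        _ = k⁻¹ * (s * x) * k := by rw [hc.eq]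
        _ = k⁻¹ * s * k * (k⁻¹ * x * k) := by group
    rw [eqW_of_wordPerm_eq hcomm] at hne
    simp at hne

/-- Commuting elements of orders 3 and 2. -/
theorem commuting_three_two (x s : Equiv.Perm GolayPt) (hx : x ∈ M24) (hs : s ∈ M24) (h₃ : orderOf x = 3)
    (h₂ : orderOf s = 2) (hc : Commute x s) :
    ((fixedF x).card = 6 ∧ (fixedF s).card = 8) ∨ ((fixedF x).card = 0 ∧ (fixedF s).card = 0) := by
  have hx3 : x ^ 3 = 1 := by rw [← h₃]; exact pow_orderOf_eq_one x
  have hss : s * s = 1 := by rw [← pow_two, ← h₂]; exact pow_orderOf_eq_one s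
  have zero_free : ∀ g : Equiv.Perm GolayPt, (fixedF g).card = 0 → ∀ p, g p ≠ p := by
    intro g h0 p hp
    have : p ∈ fixedF g := mem_fixedF.2 hp
    rw [Finset.card_eq_zero.1 h0] at this
    exact absurd this (Finset.notMem_empty p)
  rcases order_three_fixed_cases x hx h₃ with hfx | hfx <;>
    rcases involution_fixed_cases s hs h₂ with hfs | hfs
  · exact Or.inr ⟨hfx, hfs⟩
  · exact (no_free_three_commute_eight x s hx3 (zero_free x hfx) hfs hc).elim
  · exact (no_six_three_commute_free x s hx hs h₃ hfx hss (zero_free s hfs) hc).elim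
  · exact Or.inl ⟨hfx, hfs⟩

end Cfsg.Agent.Lib.H28
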