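/-
S2937 (architect helper3), piece PSU3 (helper28): `PMinR1 p (PSU_3(q))`, `q ≠ 2`.
Route: helper8's flag form (B,N)-pair `flagBN φ` / root data `flagRootData φ` of `GS φ = GU_3(q)` (`φ` = Frobenius), restricted
to `SUs φ` (the data of `Lib/H28/OGPSU`); rank one (`Fin (3 / 2) = Fin 1`), so helper3's `pminR1_of_bn` applies with helper1's
`spl_of_rootData`.
-/
import Mathlib
import Cfsg.Agent.Lib.H8.OGFlag
import Cfsg.Agent.Lib.H8.FBNUnitary
import Cfsg.Agent.Lib.H18.OGROOT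
import Cfsg.Agent.Lib.H3.PMinBN
import Cfsg.Agent.Lib.H1.PMLEAF

set_option autoImplicit false
set_option linter.unusedSectionVars false
set_option linter.unusedVariables false

namespace Cfsg.Agent.Lib.H28.PM

open Cfsg Cfsg.Agent.Lib.H3.PMin
open Matrix Cfsg.Agent.Lib.H12.DCos Cfsg.Agent.Lib.H8.SpBN Cfsg.Agent.Lib.H8.BNRoot Cfsg.Agent.Lib.H8.BNRes
  Cfsg.Agent.Lib.H8.BNSteinberg Cfsg.Agent.Lib.H8.FBN Cfsg.Agent.Lib.H8.OG
open Cfsg.Agent.Lib.H4.FBN (det_eq_one_of_mem_Us det_eq_one_of_mem_Y)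
open Cfsg.Agent.Lib.H6.FBN (Us_isPGroup card_Ts_coprime exists_trace_zero exists_trace_neg_one)
open Cfsg.Agent.Lib.H25.FBN (covers)
open Cfsg.Agent.Lib.H23.FBN (nonempty_iso)

/-- **PSU3** -/
theorem pm_PSU3 (F : Type*) [Field F] [Fintype F] (p : ℕ) [Fact p.Prime] [CharP F p] (q : ℕ)
    (hF : Fintype.card F = q ^ 2) (hq : q ≠ 2) : PMinR1 p (PSU 3 F q) := by
  classical
  have hpp : p.Prime := Fact.out
  obtain ⟨φ, hφ, hφ2⟩ := Cfsg.Agent.Lib.H4.exists_frob hF
  obtain ⟨ψ⟩ := nonempty_iso φ hF hφ 3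
  have hE : 3 % 2 = 0 → ∃ c : F, c ≠ 0 ∧ c + φ c = 0 := fun _ => exists_trace_zero φ hF hφ
  have hO : 3 % 2 = 1 → ∃ β : F, β + φ β + 1 = 0 := fun _ => exists_trace_neg_one φ hF hφ
  let P := flagBN (n := 3) φ hφ2 hE hO
  let D := flagRootData (n := 3) φ hφ2 hE hO
  let G' : Subgroup ↥(GS (n := 3) φ) := SUs (n := 3) φ
  have hcov : Covers P G' := by
    intro h
    obtain ⟨t, ht, h'⟩ := covers φ hF hφ (by omega : 2 ≤ 3) h
    exact ⟨t, ⟨Ts_le_Bs ht, Ts_le_Ns ht⟩, h'⟩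
  choose τ hτ1 hτ2 using covers (n := 3) φ hF hφ (by omega : 2 ≤ 3)
  have hτ : ∀ s ∈ P.S, τ s ∈ P.B ⊓ P.N := fun s _ => ⟨Ts_le_Bs (hτ1 s), Ts_le_Ns (hτ1 s)⟩
  have hτG : ∀ s ∈ P.S, s * τ s ∈ G' := fun s _ => hτ2 s
  have hτT : ∀ i, τ (D.e i) ∈ D.T := fun i => hτ1 _
  have hUG : D.U ≤ G' := fun u hu => mem_SUs.mpr (det_eq_one_of_mem_Us φ u hu)
  have hXG : ∀ i, D.X i ⊆ ((G' : Subgroup ↥(GS (n := 3) φ)) : Set ↥(GS (n := 3) φ)) :=
    fun i x hx => hUG (X_subset_Us i hx)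
  have hYG : ∀ i, D.Y i ⊆ ((G' : Subgroup ↥(GS (n := 3) φ)) : Set ↥(GS (n := 3) φ)) :=
    fun i y hy => mem_SUs.mpr (det_eq_one_of_mem_Y φ i y hy)
  let D' := D.restrict G' hcov τ hτ hτG hτT hXG hYG hUG
  let P' := Cfsg.Agent.Lib.H8.BNRes.restrict P G' hcov τ hτ hτG
  have hU' : IsPGroup p ↥D'.U := by
    have h1 : IsPGroup p ↥(Us (n := 3) φ) := Us_isPGroup φ p
    exact h1.of_injective (Subgroup.subgroupOfEquivOfLe hUG).toMonoidHom (Subgroup.subgroupOfEquivOfLe hUG).injective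
  have hT' : (Nat.card ↥D'.T).Coprime p := by
    have h1 : (Nat.card ↥(Ts (n := 3) φ)).Coprime p := card_Ts_coprime φ p
    let f : ↥((Ts (n := 3) φ).subgroupOf G') →* ↥(Ts (n := 3) φ) :=
      { toFun := fun x => ⟨(x : ↥G'), Subgroup.mem_subgroupOf.mp x.2⟩
        map_one' := rfl
        map_mul' := fun _ _ => rfl }
    have hf : Function.Injective f := by
      intro x y h
      apply Subtype.ext
      apply Subtype.ext
      exact congrArg (fun z : ↥(Ts (n := 3) φ) => (z : ↥(GS (n := 3) φ))) h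
    exact Nat.Coprime.coprime_dvd_left (Subgroup.card_dvd_of_injective f hf) h1
  -- the quotient map
  let e : (↥G' ⧸ Subgroup.center ↥G') ≃* PSU 3 F q := centerQuotientCongr ψ
  let π : ↥G' →* PSU 3 F q := e.toMonoidHom.comp (QuotientGroup.mk' (Subgroup.center ↥G'))
  have hπ : Function.Surjective π := e.surjective.comp (QuotientGroup.mk'_surjective _)
  have hkerEq : π.ker = Subgroup.center ↥G' := by
    ext x
    rw [MonoidHom.mem_ker]
    constructor
    · intro h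
      have h1 : e (QuotientGroup.mk' (Subgroup.center ↥G') x) = 1 := h
      have h2 : QuotientGroup.mk' (Subgroup.center ↥G') x = 1 := by
        rw [← map_one e] at h1
        exact e.injective h1
      exact (QuotientGroup.eq_one_iff x).mp h2
    · intro h
      have h2 : QuotientGroup.mk' (Subgroup.center ↥G') x = 1 := (QuotientGroup.eq_one_iff x).mpr h
      show e (QuotientGroup.mk' (Subgroup.center ↥G') x) = 1
      rw [h2, map_one]
  have hker : π.ker ≤ P'.B := by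
    rw [hkerEq]
    exact D'.center_le_B
  have hS : P'.S = {D'.e ⟨0, by omega⟩} := by
    rw [← D'.hS]
    ext s
    constructor
    · rintro ⟨i, rfl⟩
      have hi : i = ⟨0, by omega⟩ := by
        apply Fin.ext
        have := i.2
        show (i : ℕ) = 0
        omega
      rw [hi]
      rfl
    · intro hs
      exact ⟨⟨0, by omega⟩, hs.symm⟩
  have : Finite (PSU 3 F q) := Finite.of_surjective π hπ
  exact pminR1_of_bn (Cfsg.Agent.Lib.H1.PM.spl_of_rootData D' hU' hT') π hπ hker _ hS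

end Cfsg.Agent.Lib.H28.PM
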