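/-
S2937 (architect helper3), piece TE6 (helper28): `PMinBad p (²E₆(q))`.
Route: helper29's twisted tower (`W : TwPack`, `C.tBN W`, `H¹ = C.tH`, `U¹ = C.tU`): split data as in `Lib/H28/OGTW`, the
order of `H¹` is prime to `p` (`card_H1_E6`), and the relations between the `n_S` modulo `B¹` are read off the permutations
`fd.piS` of the roots (`fd.ncS`): the twisted diagram on the orbit representatives `0, 1, 2, 3` is the path `0 - 2 - 3 - 1`,
so `n_0` is a leaf with neighbour `n_2`, whose other neighbour is `n_3`; helper3's `pminBad_of_leaf` applies.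
-/
import Mathlib
import Cfsg.Prelude.Def_LieTypeChar
import Cfsg.Agent.Lib.H29.TwAutE6
import Cfsg.Agent.Lib.H29.TwAutD4
import Cfsg.Agent.Lib.H28.SRTD4
import Cfsg.Agent.Lib.H28.OGTW
import Cfsg.Agent.Lib.H3.PMinBN
import Cfsg.Agent.Lib.H11.PMEQV

set_option autoImplicit false
set_option linter.unusedSectionVars false
set_option linter.unusedSimpArgs false
set_option linter.unusedVariables false

namespace Cfsg.Agent.Lib.H28.PM

open Cfsg Cfsg.Agent.Lib.H3.PMin Cfsg.Agent.Lib.H2.BN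
open Cfsg.Lie Matrix Cfsg.Agent.Lib.H29.Chev

section Gen

variable {D : ChevalleyDatum} {fd : FD} {fx : FX} {fc : FC} {fz : FZ} {F : Type*} [Field F]

variable (C : Cert12 D fd fx fc fz) {ga : GA} {k : ℕ} {φ : F →+* F} {RL sreps : List ℕ} {fq : FQ} {q : ℕ}

/-- if `w_S` and `w_S'` commute, the commutator of `n_S` and `n_S'` is diagonal -/
theorem comm_nS_mem_diag (T : TwSpec fd fx ga k) (T2 : TwSpec2 fd fx ga k) (i i' : ℕ) (hi : i < fd.l)
    (hi' : i' < fd.l) (hc : fd.ncS fx ga k i i' = false) :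
    C.nS F ga k i * C.nS F ga k i' * (C.nS F ga k i)⁻¹ * (C.nS F ga k i')⁻¹ ∈ D.diagonalSubgroup F := by
  have hN := C.nS_mem_monomial T T2 (F := F) i
  have hN' := C.nS_mem_monomial T T2 (F := F) i'
  have hcN : C.nS F ga k i * C.nS F ga k i' * (C.nS F ga k i)⁻¹ * (C.nS F ga k i')⁻¹ ∈ D.monomialSubgroup F :=
    mul_mem (mul_mem (mul_mem hN hN') (inv_mem hN)) (inv_mem hN')
  have pa := C.perm_nS T T2 (F := F) i hi
  have pb := C.perm_nS T T2 (F := F) i' hi'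
  obtain ⟨_, ⟨ρa, hρa⟩⟩ := C.c6.perm_of_mem _ hN
  obtain ⟨_, ⟨ρb, hρb⟩⟩ := C.c6.perm_of_mem _ hN'
  have ia := C.perm_inv _ _ _ pa hρa
  have ib := C.perm_inv _ _ _ pb hρb
  have pc := C.c6.perm_mul (C.c6.perm_mul (C.c6.perm_mul pa pb) hρa) hρb
  have hcomm : ∀ s < fd.n, fd.piS fx ga k i (fd.piS fx ga k i' s) = fd.piS fx ga k i' (fd.piS fx ga k i s) := by
    intro s hs
    unfold FD.ncS at hc
    rw [List.any_eq_false] at hc
    have := hc s (List.mem_range.mpr hs)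
    rw [Bool.not_eq_true', Bool.not_eq_false] at this
    exact (natBeq_iff _ _).mp this
  apply C.mem_diag_of_pos _ hcN _ pc
  intro j hj
  have hs := C.c6.c2.simple_lt j hj
  simp only [Function.comp]
  have h1 : ρb (fd.simples.getD j 0) < fd.n := (hρb _ hs).1
  have h2 : ρa (ρb (fd.simples.getD j 0)) < fd.n := (hρa _ h1).1
  rw [hcomm _ h2, ia.2 _ h1, ib.2 _ hs]
  exact C.c6.simple_pos j hj

variable (W : TwPack C ga k φ RL sreps fq q)
include W

/-- the split data of a twisted group -/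
theorem tw_spl [Finite F] (p : ℕ) (hUp : IsPGroup p (C.tU ga k φ sreps))
    (hTp : ∀ t ∈ C.tH ga k φ sreps, (orderOf t).Coprime p) :
    Spl p (C.tBN W) (C.tH ga k φ sreps) (C.tU ga k φ sreps) := by
  have hUB : D.posUnipotent F ≤ D.borelSubgroup F := le_sup_left
  have hHB : D.diagonalSubgroup F ≤ D.borelSubgroup F := le_sup_right
  have hHN : D.diagonalSubgroup F ≤ D.monomialSubgroup F := le_sup_left
  have hBeq := C.tBN_B W
  refine ⟨?_, ?_, ?_, ?_, ?_, hUp, hTp⟩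
  · -- `T ≤ B`
    rw [hBeq]
    intro g hg
    exact Subgroup.mem_subgroupOf.mpr (hHB (Subgroup.mem_subgroupOf.mp hg))
  · -- `N` normalizes `T`
    intro n hn t ht
    have hn' : n ∈ (D.monomialSubgroup F ⊓ C.G1 ga k φ sreps).subgroupOf (C.G1 ga k φ sreps) := hn
    have hnN : (n : GL D.Idx F) ∈ D.monomialSubgroup F := (Subgroup.mem_inf.mp (Subgroup.mem_subgroupOf.mp hn')).1
    have htH : (t : GL D.Idx F) ∈ D.diagonalSubgroup F := Subgroup.mem_subgroupOf.mp ht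
    have := (Subgroup.mem_normalizer_iff.mp (C.c6.c2.monomial_le_normalizer_diag (inv_mem hnN)) _).mp htH
    rw [inv_inv] at this
    exact Subgroup.mem_subgroupOf.mpr this
  · -- `U ≤ B`
    rw [hBeq]
    intro g hg
    exact Subgroup.mem_subgroupOf.mpr (hUB (Subgroup.mem_subgroupOf.mp hg))
  · -- `B = T U`
    rw [hBeq]
    intro x hxB
    obtain ⟨u, hu, hufix, h, hh, hhfix, huh⟩ := C.borel_fix_decomp W (x : GL D.Idx F)
      (Subgroup.mem_subgroupOf.mp hxB) (C.sigma_of_mem W x.2)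
    have huG : u ∈ C.G1 ga k φ sreps := C.fixU_le_G1 W (Subgroup.mem_inf.mpr ⟨hufix, hu⟩)
    have hhG : h ∈ C.G1 ga k φ sreps := by
      have : h = u⁻¹ * (x : GL D.Idx F) := by rw [huh]; group
      rw [this]
      exact mul_mem (inv_mem huG) x.2
    let uG : ↥(C.G1 ga k φ sreps) := ⟨u, huG⟩
    let hG : ↥(C.G1 ga k φ sreps) := ⟨h, hhG⟩
    have hxe : x = uG * hG := Subtype.ext huh
    have huU : uG ∈ C.tU ga k φ sreps := Subgroup.mem_subgroupOf.mpr hu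
    have hhH : hG ∈ C.tH ga k φ sreps := Subgroup.mem_subgroupOf.mpr hh
    refine ⟨hG, hhH, hG⁻¹ * uG * hG, ?_, ?_⟩
    · have := (C.tH_conj_tU W hG⁻¹ (inv_mem hhH) uG).mp huU
      rwa [inv_inv] at this
    · rw [hxe]; group
  · -- `B` normalizes `U`
    rw [hBeq]
    intro b hb u hu
    have hbB : (b : GL D.Idx F) ∈ D.borelSubgroup F := Subgroup.mem_subgroupOf.mp hb
    have := C.borel_conj_pos _ _ (inv_mem hbB) (Subgroup.mem_subgroupOf.mp hu)
    rw [inv_inv] at this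
    exact Subgroup.mem_subgroupOf.mpr this

/-- commuting nodes of the twisted diagram -/
theorem tw_eqv_of_ncS_false [Finite F] (i i' : ℕ) (hi : i ∈ sreps) (hi' : i' ∈ sreps)
    (hc : fd.ncS fx ga k i i' = false) :
    Eqv (C.tBN W) (C.ns ga k φ sreps i (C.nS_mem_G1 W i hi) * C.ns ga k φ sreps i' (C.nS_mem_G1 W i' hi'))
      (C.ns ga k φ sreps i' (C.nS_mem_G1 W i' hi') * C.ns ga k φ sreps i (C.nS_mem_G1 W i hi)) := by
  have hS : C.ns ga k φ sreps i (C.nS_mem_G1 W i hi) ∈ (C.tBN W).S := ⟨i, hi, rfl⟩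
  have hS' : C.ns ga k φ sreps i' (C.nS_mem_G1 W i' hi') ∈ (C.tBN W).S := ⟨i', hi', rfl⟩
  rw [Cfsg.Agent.Lib.H11.PM.eqv_comm_iff_commutator_mem _ _ ((C.tBN W).subset hS) ((C.tBN W).subset hS'), C.tBN_B W]
  apply Subgroup.mem_subgroupOf.mpr
  have hHB : D.diagonalSubgroup F ≤ D.borelSubgroup F := le_sup_right
  exact hHB (comm_nS_mem_diag C W.T W.T2 i i' (W.S.sreps_lt i hi) (W.S.sreps_lt i' hi') hc)

/-- joined nodes of the twisted diagram -/
theorem tw_not_eqv_of_ncS [Finite F] (i i' : ℕ) (hi : i ∈ sreps) (hi' : i' ∈ sreps)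
    (hc : fd.ncS fx ga k i i' = true) :
    ¬ Eqv (C.tBN W) (C.ns ga k φ sreps i (C.nS_mem_G1 W i hi) * C.ns ga k φ sreps i' (C.nS_mem_G1 W i' hi'))
      (C.ns ga k φ sreps i' (C.nS_mem_G1 W i' hi') * C.ns ga k φ sreps i (C.nS_mem_G1 W i hi)) := by
  have hS : C.ns ga k φ sreps i (C.nS_mem_G1 W i hi) ∈ (C.tBN W).S := ⟨i, hi, rfl⟩
  have hS' : C.ns ga k φ sreps i' (C.nS_mem_G1 W i' hi') ∈ (C.tBN W).S := ⟨i', hi', rfl⟩
  rw [Cfsg.Agent.Lib.H11.PM.eqv_comm_iff_commutator_mem _ _ ((C.tBN W).subset hS) ((C.tBN W).subset hS'), C.tBN_B W]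
  intro h
  exact C.comm_nS_not_mem_borel W.T W.T2 i i' (W.S.sreps_lt i hi) (W.S.sreps_lt i' hi') hc
    (Subgroup.mem_subgroupOf.mp h)

end Gen

section E6

variable {K : Type*} [Field K] [Finite K]

/-- the order of the torus of `²E₆(q)` divides `(q - 1)² (q² - 1)²` -/
theorem te6_card_tH_dvd (q : ℕ) (hq : 1 ≤ q) (hK : Nat.card K = q ^ 2) (φ : K →+* K)
    (hφ : ∀ x, φ x = x ^ q) (hφk : ∀ x : K, φ^[2] x = x) :
    Nat.card (cert12_E6.tH gaE6a 2 φ srE6a) ∣ ((q - 1) * (q - 1)) * ((q ^ 2 - 1) * (q ^ 2 - 1)) := by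
  have W := twPack_E6 q hq hK φ hφ hφk
  rw [cert12_E6.card_subgroupOf_G1 W,
    cert12_E6.diag_inf_tw twE6a_spec twE6a_spec2 φ 3 (Or.inr ⟨rfl, rfl⟩) _ (cartB_of_chk blE6 3 twE6a_cartB)
      (cert12_E6.sigT_pow twE6a_spec twE6a_spec2 φ (by norm_num) hφk) _ (cert12_E6.G1_le_fix W)
      (cert12_E6.H1_le_G1 W)]
  exact Dvd.intro_left _ (card_H1_E6 φ q hq hK hφ hφk)

/-- the elements of the torus of `²E₆(q)` have order prime to the characteristic -/
theorem te6_torus_coprime (q : ℕ) (hq : 1 ≤ q) (hK : Nat.card K = q ^ 2) (φ : K →+* K)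
    (hφ : ∀ x, φ x = x ^ q) (hφk : ∀ x : K, φ^[2] x = x) (p : ℕ) [hp : Fact p.Prime] (hpq : p ∣ q)
    (t : ↥(cert12_E6.G1 gaE6a 2 φ srE6a)) (ht : t ∈ cert12_E6.tH gaE6a 2 φ srE6a) : (orderOf t).Coprime p := by
  have h1 : orderOf t ∣ Nat.card (cert12_E6.tH gaE6a 2 φ srE6a) := Subgroup.orderOf_dvd_natCard _ ht
  have h2 := h1.trans (te6_card_tH_dvd q hq hK φ hφ hφk)
  have hp2 : 2 ≤ p := hp.out.two_le
  have hn1 : ¬ p ∣ q - 1 := by
    have := not_dvd_pow_sub_one hp2 hpq hq 1 (by norm_num)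
    rwa [pow_one] at this
  have hn2 : ¬ p ∣ q ^ 2 - 1 := not_dvd_pow_sub_one hp2 hpq hq 2 (by norm_num)
  have hc : (((q - 1) * (q - 1)) * ((q ^ 2 - 1) * (q ^ 2 - 1))).Coprime p := by
    apply Nat.Coprime.symm
    rw [Nat.Prime.coprime_iff_not_dvd hp.out]
    intro hd
    rcases (Nat.Prime.dvd_mul hp.out).mp hd with hd | hd
    · rcases (Nat.Prime.dvd_mul hp.out).mp hd with hd | hd
      · exact hn1 hd
      · exact hn1 hd
    · rcases (Nat.Prime.dvd_mul hp.out).mp hd with hd | hd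
      · exact hn2 hd
      · exact hn2 hd
  exact Nat.Coprime.coprime_dvd_left h2 hc

end E6

/-- **TE6** -/
theorem pm_2E6 (K : Type*) [Field K] [Fintype K] (p : ℕ) [Fact p.Prime] [CharP K p] (q : ℕ) (hq : IsPrimePow q)
    (hK : Fintype.card K = q ^ 2) : PMinBad p ↥(Lie.twistedE6 K q) := by
  have hp : Fact p.Prime := inferInstance
  obtain ⟨f, hf, rfl⟩ := Cfsg.Agent.Lib.H28.SR.primePow_eq_pow_char K p q 2 hq (by norm_num) hK
  have hK' : Fintype.card K = (p ^ f) ^ 2 := hK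
  obtain ⟨φ, hφ, _, hφk⟩ := exists_frob hq hK'
  have hq1 : 1 ≤ p ^ f := hq.one_lt.le
  have hpq : p ∣ p ^ f := dvd_pow_self p (by omega)
  have hKc : Nat.card K = (p ^ f) ^ 2 := by rw [Nat.card_eq_fintype_card, hK']
  have e : twistedE6 K (p ^ f) = Subgroup.closure (cert12_E6.twGen gaE6a 2 φ srE6a) := by
    unfold twistedE6 ChevalleyDatum.genSubgroup
    rw [twGen_E6 (p ^ f) φ hφ]
  have hcard := card_twistedE6 hq hK'
  rw [e] at hcard ⊢
  have W := twPack_E6 (p ^ f) hq1 hKc φ hφ hφk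
  have hcU : Nat.card (cert12_E6.tU gaE6a 2 φ srE6a) = (p ^ f) ^ 36 := by
    rw [cert12_E6.card_subgroupOf_G1 W]
    exact hcard.2
  have hUp : IsPGroup p (cert12_E6.tU gaE6a 2 φ srE6a) := by
    apply IsPGroup.of_card (n := f * 36)
    rw [hcU, ← pow_mul]
  have hspl := tw_spl cert12_E6 W p hUp (te6_torus_coprime (p ^ f) hq1 hKc φ hφ hφk p hpq)
  have h0 : (0 : ℕ) ∈ srE6a := by decide
  have h1 : (1 : ℕ) ∈ srE6a := by decide
  have h2 : (2 : ℕ) ∈ srE6a := by decide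
  have h3 : (3 : ℕ) ∈ srE6a := by decide
  have c01 : fdE6.ncS fxE6 gaE6a 2 0 1 = false := by decide +kernel
  have c03 : fdE6.ncS fxE6 gaE6a 2 0 3 = false := by decide +kernel
  have c20 : fdE6.ncS fxE6 gaE6a 2 2 0 = true := by decide +kernel
  have c23 : fdE6.ncS fxE6 gaE6a 2 2 3 = true := by decide +kernel
  have c31 : fdE6.ncS fxE6 gaE6a 2 3 1 = true := by decide +kernel
  have n20 := tw_not_eqv_of_ncS cert12_E6 W 2 0 h2 h0 c20
  have n23 := tw_not_eqv_of_ncS cert12_E6 W 2 3 h2 h3 c23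
  have n31 := tw_not_eqv_of_ncS cert12_E6 W 3 1 h3 h1 c31
  have e01 := tw_eqv_of_ncS_false cert12_E6 W 0 1 h0 h1 c01
  have e03 := tw_eqv_of_ncS_false cert12_E6 W 0 3 h0 h3 c03
  have hker : (MonoidHom.id ↥(cert12_E6.G1 gaE6a 2 φ srE6a)).ker ≤ (cert12_E6.tBN W).B := by
    intro x hx
    have : x = 1 := hx
    rw [this]
    exact Subgroup.one_mem _
  refine pminBad_of_leaf hspl (MonoidHom.id _) Function.surjective_id hker
    (cert12_E6.ns gaE6a 2 φ srE6a 0 (cert12_E6.nS_mem_G1 W 0 h0))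
    (cert12_E6.ns gaE6a 2 φ srE6a 2 (cert12_E6.nS_mem_G1 W 2 h2))
    (cert12_E6.ns gaE6a 2 φ srE6a 3 (cert12_E6.nS_mem_G1 W 3 h3))
    ⟨0, h0, rfl⟩ ⟨2, h2, rfl⟩ ⟨3, h3, rfl⟩ ?_ ?_ ?_ n20 n23
  · -- `n_0 ≠ n_2`
    intro h
    apply n20
    rw [← h]
    exact Eqv.refl _
  · -- `n_0 ≠ n_3`
    intro h
    apply n31
    rw [← h]
    exact e01
  · -- the leaf
    intro t ht ht0 ht2
    obtain ⟨i, hi, hti⟩ := (cert12_E6.tBN_S W t).mp ht
    have hi4 : i = 0 ∨ i = 1 ∨ i = 2 ∨ i = 3 := by simpa [srE6a] using hi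
    have hte : ∀ j (hj : j ∈ srE6a), i = j → t = cert12_E6.ns gaE6a 2 φ srE6a j (cert12_E6.nS_mem_G1 W j hj) := by
      intro j hj hij
      subst hij
      exact Subtype.ext hti
    rcases hi4 with rfl | rfl | rfl | rfl
    · exact absurd (hte 0 h0 rfl) ht0
    · rw [hte 1 h1 rfl]
      exact e01
    · exact absurd (hte 2 h2 rfl) ht2
    · rw [hte 3 h3 rfl]
      exact e03

end Cfsg.Agent.Lib.H28.PM
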