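import Mathlib
import Cfsg.Agent.Lib.H28.PSp4Defs
import Cfsg.Agent.Lib.H12.SL2Syl2
import Cfsg.Agent.Lib.H25.LieCrit
import Cfsg.Agent.S2431
import Cfsg.Agent.Lib.H10.PSp4E2
import Cfsg.Agent.Lib.H10.PSp4SC1
import Cfsg.Agent.Lib.H2.PSp4N1
import Cfsg.Agent.Lib.H2.PSp4N2
import Cfsg.Agent.Lib.H21.PSp4E5
import Cfsg.Agent.Lib.H21.PSp4SC2
import Cfsg.Agent.Lib.H24.PSp4E3
import Cfsg.Agent.Lib.H27.PSp4E1
import Cfsg.Agent.Lib.H27.PSp4E4
import Cfsg.Agent.Lib.H28.PSp4E0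
import Cfsg.Agent.Lib.H7.PSp4QF
import Cfsg.Agent.Lib.H7.PSp4SC3
import Cfsg.Agent.Lib.H8.PSp4NQ8
import Cfsg.Agent.Lib.H9.PSp4SYL

set_option autoImplicit false
set_option linter.unusedSectionVars false

/-!
# S5320: assembly — the `2`-fusion system of `PSp₄(F)`, `|F|` odd, is simple (helper28)
-/

namespace Cfsg.Agent.Lib.H28.PSp4

open Matrix Cfsg.Agent.Lib.H9.SqC Cfsg.Agent.Lib.H12 Cfsg.Agent.Lib.H25.LieCrit
open Cfsg.Agent.Lib.H10.PSp4 (Ph_neg_one_one_mem mem_Et_of_comm)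
open Cfsg.Agent.Lib.H2.PSp4 (exists_Ph_of_comm normalizer_St)
open Cfsg.Agent.Lib.H21.PSp4 (exists_conj_sw mem_closure_of_inverted)
open Cfsg.Agent.Lib.H24.PSp4 (exists_two_elt)
open Cfsg.Agent.Lib.H27.PSp4 (Dg_mem_normalizer Et_le_St St_le_normalizer_Et)
open Cfsg.Agent.Lib.H7.PSp4 (exists_conj_of_sq exists_not_comm le_of_mul_mem)
open Cfsg.Agent.Lib.H8.PSp4 (normalizer_Q8)
open Cfsg.Agent.Lib.H9.PSp4 (exists_sylow_St)

variable {F : Type*} [Field F]

/-! ### Assembly -/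

theorem neg_one_ne_one' (h2 : (2 : F) ≠ 0) : (-1 : SL2 F) ≠ 1 := sl2_neg_one_ne_one h2

theorem Ph_pow (a b : SL2 F) (n : ℕ) : Ph a b ^ n = Ph (a ^ n) (b ^ n) := by
  induction n with
  | zero => simp [Ph_one]
  | succ n ih => rw [pow_succ, ih, Ph_mul, ← pow_succ, ← pow_succ]

/-- (I): a strongly closed subgroup of `St Q` not inside the centre is `St Q`. -/
theorem sc_eq [Fintype F] (hodd : Odd (Fintype.card F)) {Q : Subgroup (SL2 F)} {x s₀ : SL2 F}
    (h : Syl2Data Q x s₀) (hQ : IsPGroup 2 Q) (T : Subgroup (Sp4 F)) (hTS : T ≤ St Q)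
    (hT : ∀ t ∈ T, ∀ g : Sp4 F, g * t * g⁻¹ ∈ St Q → g * t * g⁻¹ ∈ T)
    (hne : ∃ t ∈ T, t ∉ Subgroup.center (Sp4 F)) : T = St Q := by
  have h2 : (2 : F) ≠ 0 := two_ne_zero_of_odd_card hodd
  have hTn : ∀ t ∈ T, ∀ s ∈ St Q, s * t * s⁻¹ ∈ T := fun t ht s hs =>
    hT t ht s ((St Q).mul_mem ((St Q).mul_mem hs (hTS ht)) ((St Q).inv_mem hs))
  have hneg : (-1 : SL2 F) ∈ Q := by rw [← h.xx]; exact Q.mul_mem h.xS h.xS
  -- step 1
  have hz : Ph (-1) 1 ∈ T :=
    Ph_neg_one_one_mem h2 hQ h.xS h.xx (fun b hb hb1 hb2 => exists_not_comm h2 h hb hb1 hb2)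
      T hTS hTn hne
  -- step 2
  have hsw : (sw : Sp4 F) ∈ T := by
    obtain ⟨g, hg⟩ := exists_conj_sw h2
    have := hT _ hz g (by rw [hg]; exact sw_mem_St Q)
    rwa [hg] at this
  -- step 3
  have hanti : ∀ a ∈ Q, Ph a a⁻¹ ∈ T := by
    intro a ha
    have h1 : Ph a 1 * sw * (Ph a 1)⁻¹ ∈ T :=
      hTn _ hsw _ (Ph_mem_St.2 ⟨ha, Q.one_mem⟩)
    have h3 : Ph a 1 * sw * (Ph a 1)⁻¹ = Ph a a⁻¹ * sw := by
      rw [Ph_inv, mul_assoc, sw_mul_Ph, ← mul_assoc, Ph_mul, inv_one, mul_one, one_mul]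
    rw [h3] at h1
    have := T.mul_mem h1 hsw
    rwa [mul_assoc, sw_mul_sw, mul_one] at this
  -- step 4
  have hpair : ∀ a ∈ Q, ∀ b ∈ Q, a * a = -1 → b * b = -1 → Ph a b ∈ T := by
    intro a ha b hb haa hbb
    have hai : a⁻¹ * a⁻¹ = -1 := by
      rw [← _root_.mul_inv_rev, haa]
      apply inv_eq_of_mul_eq_one_right
      simp
    obtain ⟨k, hk⟩ := exists_conj_of_sq hodd hai hbb
    have h1 : Ph 1 k * Ph a a⁻¹ * (Ph 1 k)⁻¹ = Ph a b := by
      rw [Ph_inv, Ph_mul, Ph_mul, hk, one_mul, inv_one, mul_one]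
    have := hT _ (hanti a ha) (Ph 1 k) (by rw [h1]; exact Ph_mem_St.2 ⟨ha, hb⟩)
    rwa [h1] at this
  -- step 5
  have hsnd : Q ≤ T.comap (MonoidHom.mk' (fun b : SL2 F => Ph 1 b)
      (fun b b' => by rw [Ph_mul, one_mul])) := by
    apply le_of_mul_mem h2 h
    intro a ha b hb haa hbb
    show Ph 1 (a * b) ∈ T
    have h4 := hpair a ha b hb haa hbb
    have h5 := T.mul_mem (hanti a⁻¹ (Q.inv_mem ha)) h4
    rw [Ph_mul, inv_mul_cancel, inv_inv] at h5
    exact h5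
  have hsnd' : ∀ b ∈ Q, Ph 1 b ∈ T := fun b hb => hsnd hb
  have hfst : ∀ a ∈ Q, Ph a 1 ∈ T := by
    intro a ha
    have h1 : Ph 1 a ∈ T := hsnd' a ha
    have := hTn _ h1 sw (sw_mem_St Q)
    rwa [sw_conj_Ph] at this
  apply le_antisymm hTS
  rintro _ ⟨a, ha, b, hb, rfl | rfl⟩
  · have := T.mul_mem (hfst a ha) (hsnd' b hb)
    rwa [Ph_mul, mul_one, one_mul] at this
  · have := T.mul_mem (hfst a ha) (hsnd' b hb)
    rw [Ph_mul, mul_one, one_mul] at this
    exact T.mul_mem this hsw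


/-- (II.c): in the quaternion case the diagonal normalizer elements are products of good elements. -/
theorem delta_good [Fintype F] (hq : Odd (Fintype.card F)) (Q : Sylow 2 (SL2 F)) {x s₀ : SL2 F}
    (hD : Syl2Data (Q : Subgroup (SL2 F)) x s₀) (h8 : Nat.card (Q : Subgroup (SL2 F)) = 8)
    (hSt : IsPGroup 2 (St (Q : Subgroup (SL2 F))))
    {k : SL2 F} (hk : k ∈ Subgroup.normalizer ((Q : Subgroup (SL2 F)) : Set (SL2 F))) :
    pr (Ph k k) ∈ Subgroup.closure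
      {y : Cfsg.PSp 2 F | GoodElt 2 ((St (Q : Subgroup (SL2 F))).map pr) y} := by
  have h2 := two_ne_zero_of_odd_card hq
  obtain ⟨hlist, hcomm, hsq, u, hu, hu3, huN, hcov⟩ := normalizer_Q8 hq Q hD h8
  have hneg : (-1 : SL2 F) ∈ (Q : Subgroup (SL2 F)) := by
    rw [← hD.xx]; exact mul_mem hD.xS hD.xS
  -- key: `pr (Ph u u)` is good
  have hgood : GoodElt 2 ((St (Q : Subgroup (SL2 F))).map pr) (pr (Ph u u)) := by
    right; right
    refine ⟨?_, (Et (Q : Subgroup (SL2 F))).map pr, Subgroup.map_mono (Et_le_St hneg), ?_, ?_, ?_⟩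
    · exact Subgroup.le_normalizer_map pr (Subgroup.mem_map_of_mem pr (Dg_mem_normalizer huN).1)
    · exact (Subgroup.map_mono (St_le_normalizer_Et hneg hcomm hsq)).trans
        (Subgroup.le_normalizer_map pr)
    · rintro y ⟨hyC, hyS⟩
      obtain ⟨t, ht, rfl⟩ := hyS
      refine Subgroup.mem_map_of_mem pr (mem_Et_of_comm h2 hneg
        (fun b hb hb1 hb2 => exists_not_comm h2 hD hb hb1 hb2) ht ?_)
      intro e he
      rw [← pr_eq_one_iff, map_mul, map_mul, map_mul, map_inv, map_inv]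
      have := Subgroup.mem_centralizer_iff.1 hyC (pr e) (Subgroup.mem_map_of_mem pr he)
      rw [← this]; group
    · obtain ⟨s, hsN, hs8, hs⟩ := exists_two_elt h2 hD hlist hu
      apply mem_closure_of_inverted ((Et (Q : Subgroup (SL2 F))).map pr) ?_ (pr (Ph u u)) (pr s)
        (pr (Ph s₀ s₀)) ?_ ?_ ?_ 3 ?_ ?_ ?_
      · exact (hSt.to_le (Et_le_St hneg)).map pr
      · exact Subgroup.le_normalizer_map pr (Subgroup.mem_map_of_mem pr (Dg_mem_normalizer huN).2)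
      · exact Subgroup.le_normalizer_map pr (Subgroup.mem_map_of_mem pr hsN)
      · apply Subgroup.mem_map_of_mem
        exact (le_sup_left.trans le_sup_left :
          (Q : Subgroup (SL2 F)).map Dg ≤ Et (Q : Subgroup (SL2 F))) ⟨s₀, hD.sS, rfl⟩
      · have e : (2 : ℕ) ^ 3 = 8 := by norm_num
        rw [e, ← map_pow, hs8, map_one]
      · rw [← map_pow, Ph_pow, pr_eq_one_iff, mem_center_iff]
        right
        have : u ^ 3 = -1 := by rw [pow_succ, pow_two, hu3]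
        rw [this]
      · rw [← map_mul, ← map_inv, ← map_mul, hs, map_mul, map_inv]
  -- general `k`
  have hC : pr (Ph u u) ∈ Subgroup.closure
      {y : Cfsg.PSp 2 F | GoodElt 2 ((St (Q : Subgroup (SL2 F))).map pr) y} :=
    Subgroup.subset_closure hgood
  have hQgood : ∀ q ∈ (Q : Subgroup (SL2 F)), pr (Ph q q) ∈ Subgroup.closure
      {y : Cfsg.PSp 2 F | GoodElt 2 ((St (Q : Subgroup (SL2 F))).map pr) y} := fun q hq =>
    Subgroup.subset_closure (Or.inl (Subgroup.mem_map_of_mem pr (Ph_mem_St.2 ⟨hq, hq⟩)))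
  rcases hcov k hk with h1 | h1 | h1
  · exact hQgood k h1
  · have : Ph k k = Ph u u * Ph (u⁻¹ * k) (u⁻¹ * k) := by rw [Ph_mul, mul_inv_cancel_left]
    rw [this, map_mul]
    exact Subgroup.mul_mem _ hC (hQgood _ h1)
  · have : Ph k k = Ph u u * (Ph u u * Ph (u⁻¹ * (u⁻¹ * k)) (u⁻¹ * (u⁻¹ * k))) := by
      rw [Ph_mul, Ph_mul, mul_inv_cancel_left, mul_inv_cancel_left]
    rw [this, map_mul, map_mul]
    exact Subgroup.mul_mem _ hC (Subgroup.mul_mem _ hC (hQgood _ h1))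


theorem main [Fintype F] (hodd : Fintype.card F % 2 = 1) (S : Sylow 2 (Cfsg.PSp 2 F)) :
    (Cfsg.groupFusionSystem (S : Subgroup (Cfsg.PSp 2 F))).IsSimple 2 := by
  classical
  have : Fact (Nat.Prime 2) := ⟨Nat.prime_two⟩
  have hq : Odd (Fintype.card F) := Nat.odd_iff.2 hodd
  have h2 : (2 : F) ≠ 0 := two_ne_zero_of_odd_card hq
  obtain ⟨Q⟩ := (inferInstance : Nonempty (Sylow 2 (SL2 F)))
  obtain ⟨x, s₀, hD⟩ := exists_syl2Data hq Q
  obtain ⟨P1, hP1⟩ := exists_sylow_St hq Q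
  have hneg : (-1 : SL2 F) ∈ (Q : Subgroup (SL2 F)) := by
    rw [← hD.xx]; exact mul_mem hD.xS hD.xS
  have hSt : IsPGroup 2 (St (Q : Subgroup (SL2 F))) := by
    rw [← hP1]; exact P1.isPGroup'
  have hcen : Subgroup.center (Sp4 F) ≤ St (Q : Subgroup (SL2 F)) := by
    intro z hz
    rcases mem_center_iff.1 hz with rfl | rfl
    · exact Subgroup.one_mem _
    · exact Ph_mem_St.2 ⟨hneg, hneg⟩
  have hcomap : ((St (Q : Subgroup (SL2 F))).map pr).comap pr = St (Q : Subgroup (SL2 F)) := by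
    rw [Subgroup.comap_map_eq, ker_pr, sup_eq_left.2 hcen]
  have hsyl : ((P1.mapSurjective pr_surjective : Sylow 2 (Cfsg.PSp 2 F)) : Subgroup _) =
      (St (Q : Subgroup (SL2 F))).map pr := by
    rw [Sylow.coe_mapSurjective, hP1]
  obtain ⟨g, hg⟩ := MulAction.exists_smul_eq (Cfsg.PSp 2 F) (P1.mapSurjective pr_surjective) S
  have hS : (S : Subgroup (Cfsg.PSp 2 F)) =
      Cfsg.Agent.Lib.H26.cj g ((St (Q : Subgroup (SL2 F))).map pr) := by
    rw [← hg, ← hsyl]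
    rfl
  apply isSimple_of_gen_conj S _ g hS
  · -- nontrivial
    intro hbot
    have h1 : pr (sw : Sp4 F) ∈ (St (Q : Subgroup (SL2 F))).map pr :=
      Subgroup.mem_map_of_mem pr (sw_mem_St _)
    rw [hbot, Subgroup.mem_bot, pr_eq_one_iff, mem_center_iff] at h1
    rcases h1 with h1 | h1
    · have := Ph_ne_Ph_mul_sw (1 : SL2 F) 1 1 1
      rw [Ph_one, one_mul] at this
      exact this h1.symm
    · have := Ph_ne_Ph_mul_sw (-1 : SL2 F) (-1) 1 1
      rw [Ph_one, one_mul] at this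
      exact this h1.symm
  · -- strongly closed subgroups
    rintro T ⟨hTS, hTc⟩
    by_cases hbot : T = ⊥
    · exact Or.inl hbot
    right
    have hT' := sc_eq hq hD Q.isPGroup' (T.comap pr)
      (by rw [← hcomap]; exact Subgroup.comap_mono hTS) ?_ ?_
    · rw [← Subgroup.map_comap_eq_self_of_surjective pr_surjective T, hT']
    · intro t ht k hkt
      show pr (k * t * k⁻¹) ∈ T
      rw [map_mul, map_mul, map_inv]
      apply hTc _ ht
      rw [← map_inv, ← map_mul, ← map_mul]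
      exact Subgroup.mem_map_of_mem pr hkt
    · obtain ⟨y, hy1⟩ := (Subgroup.ne_bot_iff_exists_ne_one.1 hbot)
      obtain ⟨t, ht⟩ := pr_surjective (y : Cfsg.PSp 2 F)
      refine ⟨t, ?_, fun hc => ?_⟩
      · show pr t ∈ T
        rw [ht]; exact y.2
      · apply hy1
        apply Subtype.ext
        rw [← ht]
        exact pr_eq_one_iff.2 hc
  · -- the normalizer
    intro y hy
    obtain ⟨k, rfl⟩ := pr_surjective y
    have hkN : k ∈ Subgroup.normalizer (St (Q : Subgroup (SL2 F)) : Set (Sp4 F)) := by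
      have := Subgroup.le_normalizer_comap pr (H := (St (Q : Subgroup (SL2 F))).map pr) hy
      rwa [hcomap] at this
    obtain ⟨s, hs, c, hc, rfl⟩ := normalizer_St h2 hD.xS hD.xx (exists_Ph_of_comm h2) k hkN
    rw [map_mul]
    apply Subgroup.mul_mem
    · exact Subgroup.subset_closure (Or.inl (Subgroup.mem_map_of_mem pr hs))
    · by_cases h17 : Fintype.card F % 8 = 1 ∨ Fintype.card F % 8 = 7
      · have := (Cfsg.Agent.S2431.result hq Q).2.1 h17
        rw [this] at hc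
        exact Subgroup.subset_closure
          (Or.inl (Subgroup.mem_map_of_mem pr (Ph_mem_St.2 ⟨hc, hc⟩)))
      · have h35 : Fintype.card F % 8 = 3 ∨ Fintype.card F % 8 = 5 := by omega
        exact delta_good hq Q hD (card_sylow_eq_eight h35 Q) hSt hc

end Cfsg.Agent.Lib.H28.PSp4
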