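/-
helper28 library: quartets of a dodecad: equivariance, transitivity of the dodecad stabilizer on quartets, and the
class structure of the stabilizer of a (dodecad, quartet) pair on the quartets of the dodecad.
-/
import Cfsg.Agent.Lib.H28.CertDodQuart
import Cfsg.Agent.Lib.H28.CertQuartQuart
import Cfsg.Agent.Lib.H28.HexadStab
import Cfsg.Agent.Lib.H28.SuborbitPack
import Cfsg.Agent.Lib.H28.FixedCount
import Cfsg.Agent.Lib.H28.SextTrioBase

set_option autoImplicit false

namespace Cfsg.Agent.Lib.H28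

open Cfsg
open scoped Pointwise

/-! ### Dependent families: class structure and transport -/

section
variable {G α β : Type*} [Group G] [MulAction G α] [MulAction G β]

theorem orbit_stabilizer_eq_class_dep (F : α → Set β) (hF : ∀ (g : G) (a : α), ∀ x ∈ F a, g • x ∈ F (g • a))
    (inv : α → β → ℕ) (hinv : ∀ (g : G) (a : α) (x : β), inv (g • a) (g • x) = inv a x) (a : α)
    (htrans : ∀ x ∈ F a, ∀ y ∈ F a, inv a x = inv a y → ∃ g : G, g • a = a ∧ g • x = y)
    (x : β) (hx : x ∈ F a) :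
    MulAction.orbit ↥(MulAction.stabilizer G a) x = {y | y ∈ F a ∧ inv a y = inv a x} := by
  ext y
  rw [Set.mem_ofPred_eq]
  constructor
  · rintro ⟨⟨h, hh⟩, rfl⟩
    rw [MulAction.mem_stabilizer_iff] at hh
    refine ⟨?_, ?_⟩
    · have := hF h a x hx
      rw [hh] at this
      exact this
    · show inv a (h • x) = inv a x
      conv_lhs => rw [← hh]
      exact hinv h a x
  · rintro ⟨hy, hxy⟩
    obtain ⟨g, hga, hgx⟩ := htrans x hx y hy hxy.symm
    exact ⟨⟨g, MulAction.mem_stabilizer_iff.2 hga⟩, hgx⟩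

theorem inv_smul_mem_dep (F : α → Set β) (hF : ∀ (g : G) (a : α), ∀ x ∈ F a, g • x ∈ F (g • a))
    (a0 : α) (g0 : G) {y : β} (hy : y ∈ F (g0 • a0)) : g0⁻¹ • y ∈ F a0 := by
  have := hF g0⁻¹ (g0 • a0) y hy
  rwa [inv_smul_smul] at this

theorem class_trans_smul_dep (F : α → Set β) (hF : ∀ (g : G) (a : α), ∀ x ∈ F a, g • x ∈ F (g • a))
    (inv : α → β → ℕ) (hinv : ∀ (g : G) (a : α) (x : β), inv (g • a) (g • x) = inv a x) (a0 : α)
    (htrans : ∀ x ∈ F a0, ∀ y ∈ F a0, inv a0 x = inv a0 y → ∃ g : G, g • a0 = a0 ∧ g • x = y) (g0 : G) :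
    ∀ x ∈ F (g0 • a0), ∀ y ∈ F (g0 • a0), inv (g0 • a0) x = inv (g0 • a0) y →
      ∃ g : G, g • (g0 • a0) = g0 • a0 ∧ g • x = y := by
  intro x hx y hy hxy
  have h1 : ∀ z : β, inv a0 (g0⁻¹ • z) = inv (g0 • a0) z := fun z => (inv_smul_left inv hinv a0 g0 z).symm
  obtain ⟨g, hga, hgx⟩ := htrans (g0⁻¹ • x) (inv_smul_mem_dep F hF a0 g0 hx) (g0⁻¹ • y)
    (inv_smul_mem_dep F hF a0 g0 hy) (by rw [h1, h1, hxy])
  refine ⟨g0 * g * g0⁻¹, ?_, ?_⟩
  · rw [mul_smul, mul_smul, inv_smul_smul, hga]
  · rw [mul_smul, mul_smul, hgx, smul_inv_smul]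

theorem ncard_class_smul_dep (F : α → Set β) (hF : ∀ (g : G) (a : α), ∀ x ∈ F a, g • x ∈ F (g • a))
    (inv : α → β → ℕ) (hinv : ∀ (g : G) (a : α) (x : β), inv (g • a) (g • x) = inv a x) (a0 : α) (g0 : G)
    (j : ℕ) : {y | y ∈ F (g0 • a0) ∧ inv (g0 • a0) y = j}.ncard = {y | y ∈ F a0 ∧ inv a0 y = j}.ncard := by
  have himg : {y | y ∈ F (g0 • a0) ∧ inv (g0 • a0) y = j}
      = (fun y : β => g0 • y) '' {y | y ∈ F a0 ∧ inv a0 y = j} := by
    ext y
    rw [Set.mem_image, Set.mem_ofPred_eq]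
    constructor
    · rintro ⟨hy, hj⟩
      refine ⟨g0⁻¹ • y, ⟨inv_smul_mem_dep F hF a0 g0 hy, ?_⟩, smul_inv_smul _ _⟩
      rw [← inv_smul_left inv hinv]; exact hj
    · rintro ⟨z, ⟨hz, hj⟩, rfl⟩
      exact ⟨hF g0 a0 z hz, by rw [hinv]; exact hj⟩
  rw [himg]
  exact Set.ncard_image_of_injective _ (MulAction.injective g0)

/-- The class structure at `g0 • a0` from the class structure at `a0`, for a family depending equivariantly on
the point. -/
theorem class_structure_smul_dep (F : α → Set β) (hF : ∀ (g : G) (a : α), ∀ x ∈ F a, g • x ∈ F (g • a))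
    (inv : α → β → ℕ) (hinv : ∀ (g : G) (a : α) (x : β), inv (g • a) (g • x) = inv a x) (a0 : α)
    (htrans : ∀ x ∈ F a0, ∀ y ∈ F a0, inv a0 x = inv a0 y → ∃ g : G, g • a0 = a0 ∧ g • x = y)
    (J : List ℕ) (n : ℕ → ℕ) (hn : ∀ j ∈ J, {y | y ∈ F a0 ∧ inv a0 y = j}.ncard = n j)
    (hpos : ∀ j ∈ J, 0 < n j) (hall : ∀ y ∈ F a0, inv a0 y ∈ J) (g0 : G) :
    (∀ j ∈ J, ∃ X ∈ F (g0 • a0), inv (g0 • a0) X = j ∧
      (MulAction.orbit ↥(MulAction.stabilizer G (g0 • a0)) X).ncard = n j) ∧
    (∀ X ∈ F (g0 • a0), MulAction.orbit ↥(MulAction.stabilizer G (g0 • a0)) X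
      = {y | y ∈ F (g0 • a0) ∧ inv (g0 • a0) y = inv (g0 • a0) X}) ∧
    (∀ y ∈ F (g0 • a0), inv (g0 • a0) y ∈ J) := by
  have hT := class_trans_smul_dep F hF inv hinv a0 htrans g0
  have hO := orbit_stabilizer_eq_class_dep F hF inv hinv (g0 • a0) hT
  refine ⟨?_, hO, ?_⟩
  · intro j hj
    have hc := ncard_class_smul_dep F hF inv hinv a0 g0 j
    rw [hn j hj] at hc
    have hne : {y | y ∈ F (g0 • a0) ∧ inv (g0 • a0) y = j}.Nonempty := by
      apply Set.nonempty_of_ncard_ne_zero
      rw [hc]; exact (hpos j hj).ne'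
    obtain ⟨X, hX, hXj⟩ := hne
    refine ⟨X, hX, hXj, ?_⟩
    rw [hO X hX, hXj, hc]
  · intro y hy
    rw [inv_smul_left inv hinv]
    exact hall _ (inv_smul_mem_dep F hF a0 g0 hy)

theorem stabilizer_prod_eq (a : α) (b : β) :
    MulAction.stabilizer G (a, b) = MulAction.stabilizer G a ⊓ MulAction.stabilizer G b := by
  ext g
  rw [Subgroup.mem_inf, MulAction.mem_stabilizer_iff, MulAction.mem_stabilizer_iff, MulAction.mem_stabilizer_iff,
    Prod.smul_mk, Prod.mk.injEq]

end

/-! ### Equivariance of hexads and quartets -/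

theorem smul_mem_hexadsOn_smul {g : Equiv.Perm GolayPt} (hg : g ∈ M24) {d h : Finset GolayPt}
    (hh : h ∈ hexadsOn d) : g • h ∈ hexadsOn (g • d) := by
  obtain ⟨h6, o, ho, rfl⟩ := hh
  refine ⟨by rw [Finset.card_smul_finset]; exact h6, g • o, smul_mem_octads hg ho, ?_⟩
  rw [Finset.smul_finset_inter]

theorem smul_mem_quartets {g : Equiv.Perm GolayPt} (hg : g ∈ M24) {d : Finset GolayPt}
    {Q : Finset (Finset GolayPt)} (hQ : Q ∈ quartets d) : g • Q ∈ quartets (g • d) := by
  obtain ⟨h4, h3, hp⟩ := hQ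
  refine ⟨by rw [Finset.card_smul_finset]; exact h4, ?_, ?_⟩
  · intro t ht
    obtain ⟨t', ht', rfl⟩ := Finset.mem_smul_finset.1 ht
    exact ⟨by rw [Finset.card_smul_finset]; exact (h3 t' ht').1,
      Finset.smul_finset_subset_smul_finset (h3 t' ht').2⟩
  · intro t ht u hu htu
    obtain ⟨t', ht', rfl⟩ := Finset.mem_smul_finset.1 ht
    obtain ⟨u', hu', rfl⟩ := Finset.mem_smul_finset.1 hu
    rw [← Finset.smul_finset_union]
    exact smul_mem_hexadsOn_smul hg (hp t' ht' u' hu' (fun e => htu (by rw [e])))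

theorem smul_mem_quartets' (g : ↥M24) {d : Finset GolayPt} {Q : Finset (Finset GolayPt)}
    (hQ : Q ∈ quartets d) : g • Q ∈ quartets (g • d) := smul_mem_quartets g.2 hQ

/-! ### Generators -/

theorem dodGenWords_smul : ∀ w ∈ dodGenWords, wordPerm w • ptsMask dod0 = ptsMask dod0 := by
  intro w hw
  have := dodGenWords_mem w hw
  unfold stabMask at this
  exact MulAction.mem_stabilizer_iff.1 (Subgroup.mem_inf.1 this).2

theorem quartGenWords_smul_dod : ∀ w ∈ quartGenWords, wordPerm w • ptsMask dod0 = ptsMask dod0 := by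
  have h : quartGenWords.all (fun w => pullMask (wordTab (invWord w)) dod0 == dod0) = true := by decide +kernel
  intro w hw
  exact (wordPerm_smul_ptsMask_eq_iff w (by norm_num [dod0])).2 (List.all_eq_true.1 h w hw)

theorem quartGenWords_smul : ∀ w ∈ quartGenWords, wordPerm w • decL quart0Key = decL quart0Key := by
  have h : quartGenWords.all (fun w => sameL (quart0Key.map (pullMask (wordTab (invWord w)))) quart0Key)
      = true := by decide +kernel
  intro w hw
  exact wordPerm_smul_decL_of_sameL (List.all_eq_true.1 h w hw)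

theorem quart0Key_eq : getK quartKs 0 = quart0Key := by decide +kernel

theorem quart0Key_mem : quart0Key ∈ flatK quartKs 220 := mem_flatK.2 ⟨0, by norm_num, quart0Key_eq⟩

theorem quart0_mem_quartets : decL quart0Key ∈ quartets (ptsMask dod0) := quartKey_mem quart0Key_mem

/-! ### Transitivity of the dodecad stabilizer on quartets -/

theorem dod_quartet_trans : ∀ x ∈ quartets (ptsMask dod0), ∀ y ∈ quartets (ptsMask dod0),
    ∃ g : ↥M24, g • ptsMask dod0 = ptsMask dod0 ∧ g • x = y := by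
  intro x hx y hy
  exact class_trans_of_certs (ptsMask dod0) (quartets (ptsMask dod0)) quartKs 220
    (fun _ hy => exists_quartKey hy) (fun _ _ => 0) (fun _ => 0) (fun _ _ => rfl) dodGenWords dodGenWords_smul
    dodQuartJ dodQuart_all dodQuart_certs x hx y hy rfl

/-- `M24` is transitive on pairs of a dodecad and one of its quartets. -/
theorem exists_M24_smul_dod_quartet {d : Finset GolayPt} (hd : d ∈ dodecads) {Q : Finset (Finset GolayPt)}
    (hQ : Q ∈ quartets d) : ∃ g : ↥M24, g • ptsMask dod0 = d ∧ g • decL quart0Key = Q := by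
  obtain ⟨g1, hg1, rfl⟩ := exists_M24_smul_dodecad ptsMask_dod0_mem hd
  have hQ' : g1⁻¹ • Q ∈ quartets (ptsMask dod0) := by
    have := smul_mem_quartets (M24.inv_mem hg1) hQ
    rwa [inv_smul_smul] at this
  obtain ⟨h, hh, e⟩ := dod_quartet_trans _ quart0_mem_quartets _ hQ'
  refine ⟨⟨g1, hg1⟩ * h, ?_, ?_⟩
  · rw [mul_smul, hh]; rfl
  · rw [mul_smul, e]
    show g1 • g1⁻¹ • Q = Q
    rw [smul_inv_smul]

/-- The number of quartets of a dodecad. -/
theorem ncard_quartets {d : Finset GolayPt} (hd : d ∈ dodecads) : (quartets d).ncard = 220 := by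
  obtain ⟨g1, hg1, rfl⟩ := exists_M24_smul_dodecad ptsMask_dod0_mem hd
  have himg : quartets (g1 • ptsMask dod0) = (fun Q : Finset (Finset GolayPt) => g1 • Q) '' quartets (ptsMask dod0) := by
    ext Q
    rw [Set.mem_image]
    constructor
    · intro hQ
      refine ⟨g1⁻¹ • Q, ?_, smul_inv_smul _ _⟩
      have := smul_mem_quartets (M24.inv_mem hg1) hQ
      rwa [inv_smul_smul] at this
    · rintro ⟨Q', hQ', rfl⟩
      exact smul_mem_quartets hg1 hQ'
  rw [himg, Set.ncard_image_of_injective _ (MulAction.injective g1)]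
  have := ncard_filter_keys (quartets (ptsMask dod0)) decL (flatK quartKs 220) (fun _ hy => exists_quartKey hy)
    (fun _ hk => quartKey_mem hk) quartKs_inj quartKs_nodup (fun _ => True) (fun _ => true) (fun _ _ => by simp)
  simp only [and_true, Set.ofPred_mem_eq, List.filter_true] at this
  rw [this]
  decide +kernel

/-! ### The class structure of the stabilizer of a quartet -/

theorem quartet_quartet_structure (g0 : ↥M24) :
    (∀ j ∈ quartQuartJ, ∃ X ∈ quartets (g0 • ptsMask dod0), pairInv (g0 • decL quart0Key) X = j ∧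
      (MulAction.orbit ↥(MulAction.stabilizer ↥M24 (g0 • ptsMask dod0, g0 • decL quart0Key)) X).ncard
        = quartQuartN j) ∧
    (∀ X ∈ quartets (g0 • ptsMask dod0),
      MulAction.orbit ↥(MulAction.stabilizer ↥M24 (g0 • ptsMask dod0, g0 • decL quart0Key)) X
      = {y | y ∈ quartets (g0 • ptsMask dod0) ∧
          pairInv (g0 • decL quart0Key) y = pairInv (g0 • decL quart0Key) X}) ∧
    (∀ y ∈ quartets (g0 • ptsMask dod0), pairInv (g0 • decL quart0Key) y ∈ quartQuartJ) := by
  have hkey : ∀ k ∈ flatK quartKs 220, pairInv (decL quart0Key) (decL k) = pairInvK quart0Key k :=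
    fun _ hk => pairInv_decL (quartKey_keyOK quart0Key_mem) (quartKey_keyOK hk)
  have h := class_structure_smul_dep (G := ↥M24)
    (α := Finset GolayPt × Finset (Finset GolayPt)) (β := Finset (Finset GolayPt))
    (fun a => quartets a.1) (fun g a x hx => smul_mem_quartets' g hx)
    (fun a x => pairInv a.2 x) (fun g a x => pairInv_smul' g a.2 x)
    (ptsMask dod0, decL quart0Key)
    (class_trans_of_certs (α := Finset GolayPt × Finset (Finset GolayPt)) (ptsMask dod0, decL quart0Key)
      (quartets (ptsMask dod0)) quartKs 220 (fun _ hy => exists_quartKey hy)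
      (fun a x => pairInv a.2 x) (pairInvK quart0Key) hkey quartGenWords
      (fun w hw => by rw [Prod.smul_mk, quartGenWords_smul_dod w hw, quartGenWords_smul w hw])
      quartQuartJ quartQuart_all quartQuart_certs)
    quartQuartJ quartQuartN
    (fun j hj => by
      rw [class_ncard_of_keys (α := Finset GolayPt × Finset (Finset GolayPt)) (ptsMask dod0, decL quart0Key)
        (quartets (ptsMask dod0)) quartKs 220 (fun _ hy => exists_quartKey hy)
        (fun _ hk => quartKey_mem hk) quartKs_inj quartKs_nodup (fun a x => pairInv a.2 x) (pairInvK quart0Key)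
        hkey j]
      exact quartQuart_counts j hj)
    quartQuart_pos
    (class_mem_of_keys (α := Finset GolayPt × Finset (Finset GolayPt)) (ptsMask dod0, decL quart0Key)
      (quartets (ptsMask dod0)) quartKs 220 (fun _ hy => exists_quartKey hy)
      (fun a x => pairInv a.2 x) (pairInvK quart0Key) hkey quartQuartJ quartQuart_all)
    g0
  exact h

theorem pairInvK_quart0_self : pairInvK quart0Key quart0Key = 4012 := by decide +kernel

theorem pairInv_quart0_self (g0 : ↥M24) : pairInv (g0 • decL quart0Key) (g0 • decL quart0Key) = 4012 := by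
  rw [pairInv_smul', pairInv_decL (quartKey_keyOK quart0Key_mem) (quartKey_keyOK quart0Key_mem),
    pairInvK_quart0_self]

end Cfsg.Agent.Lib.H28
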