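/-
helper28 library: two disjoint triples of a dodecad whose union is a hexad lie in exactly one quartet.
-/
import Cfsg.Agent.Lib.H28.QuartetStructure

set_option autoImplicit false
set_option Elab.async false

namespace Cfsg.Agent.Lib.H28

open Cfsg
open scoped Pointwise

/-- For masks of two triples of the dodecad of squares: if they are disjoint and their union is a hexad, exactly
one key of the table contains both. -/
def pairQuartCheck (a b : ℕ) : Bool :=
  !(Nat.beq (a &&& b) 0 && isHexF (a ||| b)) ||
    Nat.beq (quartFlat.filter (fun k => k.contains a && k.contains b)).length 1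

set_option maxHeartbeats 4000000 in
theorem pairQuartChunk0 : ([7, 11, 13, 14, 19, 21, 22, 25, 26, 28, 67, 69, 70, 73, 74, 76, 81, 82, 84, 88] : List ℕ).all (fun a => tripList.all (pairQuartCheck a)) = true := by decide +kernel

set_option maxHeartbeats 4000000 in
theorem pairQuartChunk1 : ([259, 261, 262, 265, 266, 268, 273, 274, 276, 280, 321, 322, 324, 328, 336, 515, 517, 518, 521, 522] : List ℕ).all (fun a => tripList.all (pairQuartCheck a)) = true := by decide +kernel

set_option maxHeartbeats 4000000 in
theorem pairQuartChunk2 : ([524, 529, 530, 532, 536, 577, 578, 580, 584, 592, 769, 770, 772, 776, 784, 832, 4099, 4101, 4102, 4105] : List ℕ).all (fun a => tripList.all (pairQuartCheck a)) = true := by decide +kernel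

set_option maxHeartbeats 4000000 in
theorem pairQuartChunk3 : ([4106, 4108, 4113, 4114, 4116, 4120, 4161, 4162, 4164, 4168, 4176, 4353, 4354, 4356, 4360, 4368, 4416, 4609, 4610, 4612] : List ℕ).all (fun a => tripList.all (pairQuartCheck a)) = true := by decide +kernel

set_option maxHeartbeats 4000000 in
theorem pairQuartChunk4 : ([4616, 4624, 4672, 4864, 8195, 8197, 8198, 8201, 8202, 8204, 8209, 8210, 8212, 8216, 8257, 8258, 8260, 8264, 8272, 8449] : List ℕ).all (fun a => tripList.all (pairQuartCheck a)) = true := by decide +kernel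

set_option maxHeartbeats 4000000 in
theorem pairQuartChunk5 : ([8450, 8452, 8456, 8464, 8512, 8705, 8706, 8708, 8712, 8720, 8768, 8960, 12289, 12290, 12292, 12296, 12304, 12352, 12544, 12800] : List ℕ).all (fun a => tripList.all (pairQuartCheck a)) = true := by decide +kernel

set_option maxHeartbeats 4000000 in
theorem pairQuartChunk6 : ([65539, 65541, 65542, 65545, 65546, 65548, 65553, 65554, 65556, 65560, 65601, 65602, 65604, 65608, 65616, 65793, 65794, 65796, 65800, 65808] : List ℕ).all (fun a => tripList.all (pairQuartCheck a)) = true := by decide +kernel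

set_option maxHeartbeats 4000000 in
theorem pairQuartChunk7 : ([65856, 66049, 66050, 66052, 66056, 66064, 66112, 66304, 69633, 69634, 69636, 69640, 69648, 69696, 69888, 70144, 73729, 73730, 73732, 73736] : List ℕ).all (fun a => tripList.all (pairQuartCheck a)) = true := by decide +kernel

set_option maxHeartbeats 4000000 in
theorem pairQuartChunk8 : ([73744, 73792, 73984, 74240, 77824, 262147, 262149, 262150, 262153, 262154, 262156, 262161, 262162, 262164, 262168, 262209, 262210, 262212, 262216, 262224] : List ℕ).all (fun a => tripList.all (pairQuartCheck a)) = true := by decide +kernel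

set_option maxHeartbeats 4000000 in
theorem pairQuartChunk9 : ([262401, 262402, 262404, 262408, 262416, 262464, 262657, 262658, 262660, 262664, 262672, 262720, 262912, 266241, 266242, 266244, 266248, 266256, 266304, 266496] : List ℕ).all (fun a => tripList.all (pairQuartCheck a)) = true := by decide +kernel

set_option maxHeartbeats 4000000 in
theorem pairQuartChunk10 : ([266752, 270337, 270338, 270340, 270344, 270352, 270400, 270592, 270848, 274432, 327681, 327682, 327684, 327688, 327696, 327744, 327936, 328192, 331776, 335872] : List ℕ).all (fun a => tripList.all (pairQuartCheck a)) = true := by decide +kernel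

theorem pairQuartCheck_ok {a b : ℕ} (ha : a ∈ tripList) (hb : b ∈ tripList) : pairQuartCheck a b = true := by
  have h : tripList.all (pairQuartCheck a) = true := by
    rw [← tripChunks_flatten, List.mem_flatten] at ha
    obtain ⟨ch, hch, hm⟩ := ha
    unfold tripChunks at hch
    simp only [List.mem_cons, List.not_mem_nil, or_false] at hch
    rcases hch with rfl | rfl | rfl | rfl | rfl | rfl | rfl | rfl | rfl | rfl | rfl
    · exact List.all_eq_true.1 pairQuartChunk0 a hm
    · exact List.all_eq_true.1 pairQuartChunk1 a hm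
    · exact List.all_eq_true.1 pairQuartChunk2 a hm
    · exact List.all_eq_true.1 pairQuartChunk3 a hm
    · exact List.all_eq_true.1 pairQuartChunk4 a hm
    · exact List.all_eq_true.1 pairQuartChunk5 a hm
    · exact List.all_eq_true.1 pairQuartChunk6 a hm
    · exact List.all_eq_true.1 pairQuartChunk7 a hm
    · exact List.all_eq_true.1 pairQuartChunk8 a hm
    · exact List.all_eq_true.1 pairQuartChunk9 a hm
    · exact List.all_eq_true.1 pairQuartChunk10 a hm
  exact List.all_eq_true.1 h b hb

theorem mem_key_of_ptsMask_mem {k : List ℕ} (hk : k ∈ flatK quartKs 220) {a : ℕ} (ha : a < 2 ^ 24)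
    (h : ptsMask a ∈ decL k) : a ∈ k := by
  obtain ⟨m, hm, e⟩ := mem_decL.1 h
  have := ptsMask_inj (lt_of_keyOK (quartKey_keyOK hk) m hm) ha e
  rwa [← this]

/-- In the dodecad of squares: two disjoint triples whose union is a hexad lie in exactly one quartet. -/
theorem existsUnique_quartet_dod0 {t u : Finset GolayPt} (ht : t.card = 3) (hu : u.card = 3)
    (htu : Disjoint t u) (hh : t ∪ u ∈ hexadsOn (ptsMask dod0)) :
    ∃! Q : Finset (Finset GolayPt), Q ∈ quartets (ptsMask dod0) ∧ t ∈ Q ∧ u ∈ Q := by
  have hsub := hexadsOn_subset hh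
  obtain ⟨a, ha, rfl⟩ := exists_tripList ht (Finset.subset_union_left.trans hsub)
  obtain ⟨b, hb, rfl⟩ := exists_tripList hu (Finset.subset_union_right.trans hsub)
  have hla := (tripList_spec ha).1
  have hlb := (tripList_spec hb).1
  have hz : a &&& b = 0 := land_eq_zero_of_disjoint hla htu
  have hx : isHexF (a ||| b) = true := by
    obtain ⟨m, hm, e⟩ := exists_hexList hh
    have : m = a ||| b := by
      apply ptsMask_inj (lt_of_mem_hexList hm) (Nat.or_lt_two_pow hla hlb)
      rw [e, ptsMask_or]
    rw [← this]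
    exact List.all_eq_true.1 isHexF_of_mem _ hm
  have hc := pairQuartCheck_ok ha hb
  unfold pairQuartCheck at hc
  rw [hz, hx] at hc
  have hc' : (quartFlat.filter (fun k => k.contains a && k.contains b)).length = 1 := by
    simpa using hc
  obtain ⟨k0, hk0⟩ := List.length_eq_one_iff.1 hc'
  have hmemf : ∀ k, k ∈ quartFlat.filter (fun k => k.contains a && k.contains b) ↔
      k ∈ quartFlat ∧ a ∈ k ∧ b ∈ k := by
    intro k
    rw [List.mem_filter, Bool.and_eq_true, List.contains_iff_mem, List.contains_iff_mem]
  have hk0m : k0 ∈ quartFlat ∧ a ∈ k0 ∧ b ∈ k0 := (hmemf k0).1 (by rw [hk0]; simp)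
  have hk0f := quartKs_flat_mem.2 hk0m.1
  refine ⟨decL k0, ⟨quartKey_mem hk0f, mem_decL.2 ⟨a, hk0m.2.1, rfl⟩, mem_decL.2 ⟨b, hk0m.2.2, rfl⟩⟩, ?_⟩
  rintro Q ⟨hQ, haQ, hbQ⟩
  obtain ⟨k, hk, rfl⟩ := exists_quartKey hQ
  have hkm : k ∈ quartFlat.filter (fun k => k.contains a && k.contains b) :=
    (hmemf k).2 ⟨quartKs_flat_mem.1 hk, mem_key_of_ptsMask_mem hk hla haQ, mem_key_of_ptsMask_mem hk hlb hbQ⟩
  rw [hk0, List.mem_singleton] at hkm
  rw [hkm]

/-- Two disjoint triples of a dodecad whose union is a hexad lie in exactly one quartet. -/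
theorem existsUnique_quartet {d : Finset GolayPt} (hd : d ∈ dodecads) {t u : Finset GolayPt} (ht : t.card = 3)
    (hu : u.card = 3) (htu : Disjoint t u) (hh : t ∪ u ∈ hexadsOn d) :
    ∃! Q : Finset (Finset GolayPt), Q ∈ quartets d ∧ t ∈ Q ∧ u ∈ Q := by
  obtain ⟨g, hg, rfl⟩ := exists_M24_smul_dodecad ptsMask_dod0_mem hd
  have hgi := M24.inv_mem hg
  have hh' : g⁻¹ • t ∪ g⁻¹ • u ∈ hexadsOn (ptsMask dod0) := by
    have := smul_mem_hexadsOn_smul hgi hh
    rwa [inv_smul_smul, Finset.smul_finset_union] at this
  obtain ⟨Q0, ⟨hQ0, htQ, huQ⟩, huniq⟩ := existsUnique_quartet_dod0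
    (by rw [Finset.card_smul_finset]; exact ht) (by rw [Finset.card_smul_finset]; exact hu)
    (by rw [Finset.disjoint_iff_inter_eq_empty, ← Finset.smul_finset_inter, Finset.disjoint_iff_inter_eq_empty.1 htu,
      Finset.smul_finset_empty]) hh'
  refine ⟨g • Q0, ⟨smul_mem_quartets hg hQ0, ?_, ?_⟩, ?_⟩
  · have := Finset.smul_mem_smul_finset (a := g) htQ
    rwa [smul_inv_smul] at this
  · have := Finset.smul_mem_smul_finset (a := g) huQ
    rwa [smul_inv_smul] at this
  · rintro Q ⟨hQ, htQ', huQ'⟩
    have h1 : g⁻¹ • Q ∈ quartets (ptsMask dod0) := by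
      have := smul_mem_quartets hgi hQ
      rwa [inv_smul_smul] at this
    have := huniq (g⁻¹ • Q) ⟨h1, Finset.smul_mem_smul_finset htQ', Finset.smul_mem_smul_finset huQ'⟩
    rw [← this, smul_inv_smul]

end Cfsg.Agent.Lib.H28
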