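/-
helper28 library: the stabilizer of a dodecad and one of its quartets in `M24`: order 432, a normal subgroup of order 9
with quotient `GL(2,3)`, transitivity on the dodecad.
-/
import Cfsg.Agent.Lib.H28.QuartetStructure
import Cfsg.Agent.Lib.H28.AffineQuotient
import Cfsg.Agent.Lib.H28.OrderThreeFree

set_option autoImplicit false

namespace Cfsg.Agent.Lib.H28

open Cfsg
open scoped Pointwise

/-! ### Transport of a twofold stabilizer along the group -/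

section
variable {G α β : Type*} [Group G] [MulAction G α] [MulAction G β]

/-- Conjugation by `g` as an isomorphism between twofold stabilizers. -/
theorem exists_equiv_stabilizer_two (g : G) (a : α) (b : β) :
    ∃ e : ↥(MulAction.stabilizer G a ⊓ MulAction.stabilizer G b) ≃*
      ↥(MulAction.stabilizer G (g • a) ⊓ MulAction.stabilizer G (g • b)),
      ∀ x, ((e x : ↥(MulAction.stabilizer G (g • a) ⊓ MulAction.stabilizer G (g • b))) : G)
        = g * (x : G) * g⁻¹ := by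
  have hf : Function.Injective (MulAut.conj g).toMonoidHom := (MulAut.conj g).injective
  have heq : MulAction.stabilizer G (g • a) ⊓ MulAction.stabilizer G (g • b)
      = (MulAction.stabilizer G a ⊓ MulAction.stabilizer G b).map (MulAut.conj g).toMonoidHom := by
    rw [MulAction.stabilizer_smul_eq_stabilizer_map_conj g a, MulAction.stabilizer_smul_eq_stabilizer_map_conj g b,
      ← Subgroup.map_inf _ _ _ hf]
  rw [heq]
  exact ⟨Subgroup.equivMapOfInjective _ _ hf, fun x => rfl⟩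

end

/-! ### The base group -/

/-- The stabilizer of the dodecad of squares and its base quartet. -/
abbrev kBase : Subgroup ↥M24 :=
  MulAction.stabilizer ↥M24 (ptsMask dod0) ⊓ MulAction.stabilizer ↥M24 (decL quart0Key)

def kCheck (w : List ℕ) : Bool :=
  presCheck w dod0 && sameL (quart0Key.map (pullMask (wordTab (invWord w)))) quart0Key

theorem kCheck_mem {w : List ℕ} (h : kCheck w = true) :
    (⟨wordPerm w, wordPerm_mem_M24 w⟩ : ↥M24) ∈ kBase := by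
  unfold kCheck at h
  rw [Bool.and_eq_true] at h
  unfold kBase
  rw [Subgroup.mem_inf, MulAction.mem_stabilizer_iff, MulAction.mem_stabilizer_iff]
  exact ⟨(mem_stabMask_iff_smul.1 (wordPerm_mem_stabMask h.1)).2, wordPerm_smul_decL_of_sameL h.2⟩

/-- The element of the base group given by a word. -/
noncomputable def kElt (w : List ℕ) (h : kCheck w = true) : ↥kBase :=
  ⟨⟨wordPerm w, wordPerm_mem_M24 w⟩, kCheck_mem h⟩

/-- The inclusion of the base group into the permutations. -/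
def kIncl : ↥kBase →* Equiv.Perm GolayPt := (M24.subtype).comp kBase.subtype

theorem kIncl_injective : Function.Injective kIncl := by
  intro u v h
  exact Subtype.ext (Subtype.ext h)

theorem kIncl_elt (w : List ℕ) (h : kCheck w = true) : kIncl (kElt w h) = wordPerm w := rfl

/-- Powers of a word. -/
def wpow (w : List ℕ) (n : ℕ) : List ℕ := (List.replicate n w).flatten

theorem wordPerm_wpow (w : List ℕ) (n : ℕ) : wordPerm (wpow w n) = wordPerm w ^ n := by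
  induction n with
  | zero => rfl
  | succ n ih =>
    unfold wpow at ih ⊢
    rw [List.replicate_succ, List.flatten_cons, wordPerm_append, ih, pow_succ']

theorem eqW_of_wordPerm_eq {u v : List ℕ} (h : wordPerm u = wordPerm v) : eqW u v = true := by
  unfold eqW
  rw [List.all_eq_true]
  intro k hk
  rw [List.mem_range] at hk
  rw [beq_iff_eq]
  have h1 := gIdx_wordPerm u (gPt k)
  have h2 := gIdx_wordPerm v (gPt k)
  rw [gIdx_gPt hk] at h1 h2
  rw [← h1, ← h2, h]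

def kA : List ℕ := [3, 0, 0, 4, 1, 1, 1, 1, 3, 3, 1, 4, 2, 0, 4, 4, 0, 4, 4, 0, 2, 1, 3]
def kB : List ℕ := [0, 2, 1, 4, 1, 4, 1, 2, 4, 1, 2, 1, 3, 2, 1, 3, 0, 3, 1, 3, 3, 1, 1, 2]

/-- Representatives of the cosets of the normal subgroup of order 9. -/
def kRepW : List (List ℕ) := [[], [0, 2, 1, 4, 1, 4, 1, 2, 4, 1], [1, 4, 4, 1, 4, 0, 0, 0, 3, 0, 4, 4], [3, 3, 0, 3, 1, 2, 0, 4, 0, 0, 4, 0], [0, 2, 1, 4, 2, 4, 1, 3, 3, 0, 2, 1], [3, 3, 1, 1, 1, 3, 1, 4, 4, 1, 4, 1, 3], [3, 0, 0, 4, 1, 1, 1, 1, 3, 3, 1, 1, 4], [3, 0, 0, 4, 4, 0, 0, 0, 0, 3, 1, 1, 4], [1, 4, 0, 0, 2, 0, 3, 1, 4, 0, 0, 2, 4], [4, 4, 1, 4, 0, 0, 2, 4, 4, 1, 1, 2, 3], [1, 4, 0, 4, 1, 4, 0, 3, 0, 4, 1, 4, 4], [1, 1, 4, 1, 3, 0, 2, 0, 3, 0, 4, 0, 2], [4, 2, 0, 0, 3, 3, 2, 1, 1, 3, 0, 3, 3], [0, 0, 3, 1, 3, 0, 3, 1, 2, 0, 0, 4, 0], [1, 3, 1, 1, 2, 0, 4, 1, 4, 0, 4, 1, 1], [0, 4, 0, 2, 1, 1, 1, 2, 3, 1, 2, 0, 0, 0], [2, 1, 4, 1, 4, 2,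 0, 0, 2, 3, 1, 2, 3, 1], [3, 1, 4, 0, 3, 0, 4, 1, 3, 0, 4, 4, 0, 3], [1, 3, 0, 4, 1, 2, 0, 0, 2, 1, 3, 0, 0, 3], [0, 3, 0, 0, 4, 2, 1, 1, 1, 1, 1, 2, 4, 0], [4, 0, 0, 2, 0, 0, 4, 1, 3, 1, 3, 3, 0, 2], [2, 1, 1, 2, 0, 0, 4, 2, 0, 4, 0, 4, 0, 4], [4, 1, 1, 4, 0, 2, 1, 1, 2, 0, 3, 1, 4, 0], [4, 4, 1, 2, 0, 4, 0, 2, 3, 1, 2, 0, 4, 0], [4, 1, 4, 1, 2, 1, 1, 2, 0, 4, 0, 4, 1, 2], [0, 4, 2, 0, 4, 2, 1, 1, 2, 3, 0, 3, 0, 2], [0, 3, 0, 4, 1, 2, 1, 1, 3, 3, 1, 2, 0, 3], [1, 4, 1, 3, 2, 0, 3, 0, 2, 0, 0, 3, 0, 0], [0, 0, 3, 3, 0, 4, 0, 4, 1, 1, 1, 4, 1, 3], [0, 0, 4, 0, 3, 1, 2, 4, 4, 0, 0, 0, 4, 1], [2, 1, 4, 4, 0, 4, 0, 3, 1, 1, 2, 1, 1, 3], [1, 3, 1, 2, 0, 4, 2, 1, 3, 1, 2, 0, 3, 3], [4, 0, 3, 0, 0, 0, 3, 1, 3, 1, 4, 4, 1, 1], [1, 3, 1, 1, 3, 1, 2, 4, 1, 3, 0, 3, 1, 3, 0], [1, 4, 0, 4, 1, 4, 0, 3, 2, 0, 4, 0, 0, 4, 0], [0, 0, 3, 3, 1, 1, 2, 3, 0, 0, 4, 0, 2, 3, 0, 4, 4, 1], [1, 4, 4, 1, 4, 0, 0, 0, 3,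 1, 1, 3, 1, 4, 4, 1, 4, 1, 3], [3, 3, 0, 3, 1, 2, 0, 4, 0, 2, 0, 4, 2, 1, 3, 1, 2, 0, 3, 3], [0, 2, 1, 4, 1, 4, 1, 2, 1, 1, 1, 3, 3, 2, 0, 4, 1, 3, 1, 1], [2, 0, 0, 0, 2, 1, 1, 1, 2, 1, 2, 0, 3, 1, 3, 3, 1, 1, 2, 3], [4, 4, 1, 2, 0, 4, 0, 2, 3, 1, 2, 1, 3, 1, 2, 0, 4, 1, 4, 4], [0, 2, 1, 4, 1, 4, 1, 2, 3, 1, 4, 2, 1, 3, 1, 4, 0, 0, 2, 3], [4, 2, 0, 0, 4, 4, 0, 4, 1, 2, 0, 2, 0, 0, 0, 2, 1, 1, 1, 2], [0, 3, 3, 0, 0, 0, 0, 2, 0, 3, 0, 0, 0, 0, 2, 3, 1, 1, 4, 1], [0, 3, 0, 0, 4, 2, 1, 1, 1, 1, 4, 1, 2, 1, 1, 1, 1, 4, 4, 1], [4, 2, 0, 0, 3, 3, 2, 1, 1, 3, 1, 4, 0, 3, 3, 1, 1, 4, 1, 3, 0], [4, 4, 1, 1, 4, 0, 3, 3, 1, 1, 4, 1, 4, 1, 4, 0, 0, 0, 3, 0, 4, 4], [3, 3, 1, 1, 1, 3, 1, 4, 4, 1, 4, 0, 2, 0, 0, 4, 1, 3, 1, 3, 3, 0, 2]]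

/-- The matrices of the conjugation action of the representatives. -/
def kRepE : List ((ZMod 3 × ZMod 3) × (ZMod 3 × ZMod 3)) := [((1, 0), (0, 1)), ((0, 2), (2, 0)), ((1, 0), (1, 2)), ((0, 2), (1, 2)), ((2, 1), (2, 0)), ((2, 0), (0, 2)), ((0, 1), (2, 1)), ((1, 2), (1, 0)), ((2, 2), (0, 1)), ((0, 2), (2, 1)), ((1, 0), (0, 2)), ((2, 0), (0, 1)), ((2, 2), (2, 0)), ((2, 2), (0, 2)), ((2, 1), (0, 2)), ((2, 1), (0, 1)), ((1, 2), (0, 1)), ((1, 2), (2, 0)), ((1, 2), (2, 2)), ((1, 0), (2, 2)), ((2, 2), (1, 2)), ((2, 2), (1, 0)), ((2, 1), (1, 1)), ((1, 0), (2, 1)), ((2, 0), (1, 2)), ((1, 1), (0, 1)), ((0, 2), (2, 2)), ((2, 0), (2, 2)), ((1, 1), (1, 2)), ((0, 1), (2, 2)), ((1, 2), (1, 1)), ((1, 0), (1, 1)), ((2, 2), (2, 1)), ((2, 1), (1, 0)), ((0, 1), (1, 1)), ((1, 2), (0, 2)), ((2, 0), (2, 1)), ((0, 2), (1, 1)), ((1, 1), (0, 2)), ((0, 1), (1, 2)), ((1, 1), (2, 0)), ((2, 0), (1, 1)), ((1, 1), (1, 0)),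 ((0, 2), (1, 0)), ((0, 1), (2, 0)), ((0, 1), (1, 0)), ((2, 1), (2, 2)), ((1, 1), (2, 1))]

/-- Words of the base group mapping the point `0` to the points of the dodecad of squares. -/
def kTransTab : List (List ℕ) := [[], [3, 3, 0, 3, 1, 2, 0, 4, 0, 0, 4, 0], [0, 2, 1, 4, 4, 0, 2, 3, 3, 0, 2, 1], [1, 4, 0, 0, 2, 0, 3, 1, 4, 0, 0, 2, 4], [3, 1, 4, 0, 3, 0, 4, 1, 3, 0, 4, 4, 0, 3], [], [0, 3, 1, 1, 1, 3, 3, 2, 0, 4, 1, 3, 1, 1], [], [1, 3, 2, 0, 0, 0, 0, 0, 2, 3, 1, 1, 4, 1], [0, 4, 2, 0, 4, 2, 1, 1, 2, 3, 0, 3, 0, 2], [], [], [1, 4, 0, 4, 1, 4, 0, 3, 0, 4, 1, 4, 4], [0, 0, 3, 3, 0, 4, 0, 4, 1, 1, 1, 4, 1, 3], [], [], [2, 1, 3, 1, 4, 1, 2, 1, 4, 0, 3, 0, 0], [], [1, 3, 1, 1, 2, 0, 4, 1, 4, 0, 4, 1, 1], [], [], [], [], []]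

theorem kA_check : kCheck kA = true := by decide +kernel
theorem kB_check : kCheck kB = true := by decide +kernel

theorem kA_cube : eqW (wpow kA 3) [] = true := by decide +kernel
theorem kB_cube : eqW (wpow kB 3) [] = true := by decide +kernel
theorem kAB_comm : eqW (kA ++ kB) (kB ++ kA) = true := by decide +kernel

theorem kAB_inj : (List.range 3).all (fun i => (List.range 3).all (fun j =>
    (i == 0 && j == 0) || !eqW (wpow kA i ++ wpow kB j) [])) = true := by decide +kernel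

def kRepCheck (i : ℕ) : Bool :=
  let w := kRepW.getD i []
  let e := kRepE.getD i default
  kCheck w && eqW (w ++ kA ++ invWord w) (wpow kA e.1.1.val ++ wpow kB e.1.2.val) &&
    eqW (w ++ kB ++ invWord w) (wpow kA e.2.1.val ++ wpow kB e.2.2.val)

set_option maxHeartbeats 1000000 in
theorem kRep_ok : (List.range 48).all kRepCheck = true := by decide +kernel

theorem kRepE_nodup : kRepE.Nodup := by decide +kernel

theorem kRepE_length : kRepE.length = 48 := by decide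

theorem kRep_zero : kRepW.getD 0 [] = [] ∧ kRepE.getD 0 default = ((1, 0), (0, 1)) := by decide +kernel

theorem kTrans_ok : (List.range 24).all (fun z => !dod0.testBit z ||
    (kCheck (kTransTab.getD z []) && evalPt (kTransTab.getD z []) 0 == z)) = true := by decide +kernel

/-! ### The order -/

theorem card_stabilizer_dod_quartet {d : Finset GolayPt} (hd : d ∈ dodecads) {Q : Finset (Finset GolayPt)}
    (hQ : Q ∈ quartets d) :
    Nat.card ↥(MulAction.stabilizer M24 d ⊓ MulAction.stabilizer M24 Q) = 432 := by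
  have h1 := card_eq_orbit_mul_stab (G := M24) (MulAction.stabilizer M24 d) Q
  have h2 : {y | ∃ h ∈ MulAction.stabilizer M24 d, h • Q = y} = quartets d := by
    ext y
    simp only [Set.mem_ofPred_eq]
    constructor
    · rintro ⟨h, hh, rfl⟩
      rw [MulAction.mem_stabilizer_iff] at hh
      have := smul_mem_quartets' h hQ
      rwa [hh] at this
    · intro hy
      obtain ⟨g, hgd, hgQ⟩ := exists_M24_smul_dod_quartet hd hQ
      obtain ⟨g', hgd', hgQ'⟩ := exists_M24_smul_dod_quartet hd hy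
      refine ⟨g' * g⁻¹, ?_, ?_⟩
      · rw [MulAction.mem_stabilizer_iff, mul_smul]
        conv_lhs => rw [← hgd]
        rw [inv_smul_smul, hgd']
      · rw [mul_smul, ← hgQ, inv_smul_smul, hgQ']
  rw [h2, ncard_quartets hd, card_stabilizer_dodecad hd] at h1
  omega

/-! ### The normal subgroup and the quotient -/

theorem kBase_eq : kBase = MulAction.stabilizer M24 (ptsMask dod0) ⊓ MulAction.stabilizer M24 (decL quart0Key) :=
  rfl

theorem card_kBase : Nat.card ↥kBase = 432 :=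
  card_stabilizer_dod_quartet ptsMask_dod0_mem quart0_mem_quartets

theorem kRepCheck_of_lt {i : ℕ} (hi : i < 48) : kRepCheck i = true :=
  List.all_eq_true.1 kRep_ok i (List.mem_range.2 hi)

theorem kRep_kCheck (i : Fin 48) : kCheck (kRepW.getD i.val []) = true := by
  have := kRepCheck_of_lt i.2
  unfold kRepCheck at this
  simp only [Bool.and_eq_true] at this
  exact this.1.1

theorem kBase_structure :
    ∃ (N : Subgroup ↥kBase) (_ : N.Normal), Nat.card N = 9 ∧ Nonempty (↥kBase ⧸ N ≃* GL (Fin 2) (ZMod 3)) := by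
  have hfin : Finite ↥kBase := Nat.finite_of_card_ne_zero (by rw [card_kBase]; norm_num)
  have ha3 : kElt kA kA_check ^ 3 = 1 := by
    apply kIncl_injective
    rw [map_pow, map_one, kIncl_elt, ← wordPerm_wpow, ← wordPerm_nil]
    exact wordPerm_eq_of_eqW kA_cube
  have hb3 : kElt kB kB_check ^ 3 = 1 := by
    apply kIncl_injective
    rw [map_pow, map_one, kIncl_elt, ← wordPerm_wpow, ← wordPerm_nil]
    exact wordPerm_eq_of_eqW kB_cube
  have hab : kElt kA kA_check * kElt kB kB_check = kElt kB kB_check * kElt kA kA_check := by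
    apply kIncl_injective
    rw [map_mul, map_mul, kIncl_elt, kIncl_elt, ← wordPerm_append, ← wordPerm_append]
    exact wordPerm_eq_of_eqW kAB_comm
  have hinj : ∀ i j : ZMod 3, kElt kA kA_check ^ i.val * kElt kB kB_check ^ j.val = 1 → i = 0 ∧ j = 0 := by
    intro i j h
    have h1 := congrArg kIncl h
    rw [map_mul, map_pow, map_pow, map_one, kIncl_elt, kIncl_elt, ← wordPerm_wpow, ← wordPerm_wpow,
      ← wordPerm_append, ← wordPerm_nil] at h1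
    have h2 := eqW_of_wordPerm_eq h1
    have h3 := List.all_eq_true.1 (List.all_eq_true.1 kAB_inj i.val (List.mem_range.2 (ZMod.val_lt i))) j.val
      (List.mem_range.2 (ZMod.val_lt j))
    rw [h2] at h3
    simp only [Bool.not_true, Bool.or_false, Bool.and_eq_true, beq_iff_eq] at h3
    exact ⟨(ZMod.val_eq_zero i).1 h3.1, (ZMod.val_eq_zero j).1 h3.2⟩
  have hE : Function.Injective (fun i : Fin 48 => kRepE.getD i.val default) := by
    intro i j h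
    have hi : i.val < kRepE.length := by rw [kRepE_length]; exact i.2
    have hj : j.val < kRepE.length := by rw [kRepE_length]; exact j.2
    simp only [List.getD_eq_getElem _ _ hi, List.getD_eq_getElem _ _ hj] at h
    exact Fin.ext ((List.Nodup.getElem_inj_iff kRepE_nodup).1 h)
  refine quotient_GL_of_data card_kBase (kElt kA kA_check) (kElt kB kB_check) ha3 hb3 hab hinj
    (fun i => kElt (kRepW.getD i.val []) (kRep_kCheck i)) (fun i => kRepE.getD i.val default) hE ?_ ?_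
    ⟨0, by norm_num⟩ kRep_zero.2 ?_
  · intro i
    have := kRepCheck_of_lt i.2
    unfold kRepCheck at this
    simp only [Bool.and_eq_true] at this
    apply kIncl_injective
    rw [map_mul, map_mul, map_inv, map_mul, map_pow, map_pow, kIncl_elt, kIncl_elt, kIncl_elt,
      ← wordPerm_invWord, ← wordPerm_append, ← wordPerm_append, ← wordPerm_wpow, ← wordPerm_wpow,
      ← wordPerm_append]
    exact wordPerm_eq_of_eqW this.1.2
  · intro i
    have := kRepCheck_of_lt i.2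
    unfold kRepCheck at this
    simp only [Bool.and_eq_true] at this
    apply kIncl_injective
    rw [map_mul, map_mul, map_inv, map_mul, map_pow, map_pow, kIncl_elt, kIncl_elt, kIncl_elt,
      ← wordPerm_invWord, ← wordPerm_append, ← wordPerm_append, ← wordPerm_wpow, ← wordPerm_wpow,
      ← wordPerm_append]
    exact wordPerm_eq_of_eqW this.2
  · apply kIncl_injective
    rw [map_one, kIncl_elt, ← wordPerm_nil]
    exact congrArg wordPerm kRep_zero.1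

/-- The structure of the stabilizer of a dodecad and one of its quartets. -/
theorem dod_quartet_stabilizer_structure {d : Finset GolayPt} (hd : d ∈ dodecads)
    {Q : Finset (Finset GolayPt)} (hQ : Q ∈ quartets d) :
    ∃ (N : Subgroup ↥(MulAction.stabilizer M24 d ⊓ MulAction.stabilizer M24 Q)) (_ : N.Normal),
      Nat.card N = 9 ∧
      Nonempty (↥(MulAction.stabilizer M24 d ⊓ MulAction.stabilizer M24 Q) ⧸ N ≃* GL (Fin 2) (ZMod 3)) := by
  obtain ⟨g, rfl, rfl⟩ := exists_M24_smul_dod_quartet hd hQ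
  obtain ⟨e, -⟩ := exists_equiv_stabilizer_two g (ptsMask dod0) (decL quart0Key)
  obtain ⟨N, hN, hN9, ⟨q⟩⟩ := kBase_structure
  have hsurj : Function.Surjective e.toMonoidHom := e.surjective
  refine ⟨N.map e.toMonoidHom, hN.map e.toMonoidHom hsurj, ?_, ?_⟩
  · rw [Subgroup.card_map_of_injective (f := e.toMonoidHom) e.injective]
    exact hN9
  · have := hN.map e.toMonoidHom hsurj
    exact ⟨(QuotientGroup.congr N (N.map e.toMonoidHom) e rfl).symm.trans q⟩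

/-! ### Transitivity on the dodecad -/

theorem kBase_trans {z : GolayPt} (hz : z ∈ ptsMask dod0) :
    ∃ k ∈ kBase, ((k : ↥M24) : Equiv.Perm GolayPt) (gPt 0) = z := by
  have h1 := List.all_eq_true.1 kTrans_ok (gIdx z) (List.mem_range.2 (gIdx_lt z))
  rw [mem_ptsMask] at hz
  rw [hz] at h1
  simp only [Bool.not_true, Bool.false_or, Bool.and_eq_true, beq_iff_eq] at h1
  refine ⟨⟨wordPerm (kTransTab.getD (gIdx z) []), wordPerm_mem_M24 _⟩, kCheck_mem h1.1, ?_⟩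
  show wordPerm (kTransTab.getD (gIdx z) []) (gPt 0) = z
  rw [wordPerm_gPt (by norm_num) h1.2, gPt_gIdx]

theorem dod_quartet_stabilizer_trans {d : Finset GolayPt} (hd : d ∈ dodecads)
    {Q : Finset (Finset GolayPt)} (hQ : Q ∈ quartets d) :
    ∀ p ∈ d, ∀ q ∈ d, ∃ g ∈ (MulAction.stabilizer M24 d ⊓ MulAction.stabilizer M24 Q),
      ((g : ↥M24) : Equiv.Perm GolayPt) p = q := by
  obtain ⟨g, rfl, rfl⟩ := exists_M24_smul_dod_quartet hd hQ
  obtain ⟨e, he⟩ := exists_equiv_stabilizer_two g (ptsMask dod0) (decL quart0Key)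
  intro p hp q hq
  have hmem : ∀ z ∈ g • ptsMask dod0, ((g⁻¹ : ↥M24) : Equiv.Perm GolayPt) z ∈ ptsMask dod0 := by
    intro z hz
    obtain ⟨w, hw, rfl⟩ := Finset.mem_smul_finset.1 hz
    have : ((g⁻¹ : ↥M24) : Equiv.Perm GolayPt) (g • w) = w := by
      show (g⁻¹ : ↥M24) • (g • w) = w
      rw [inv_smul_smul]
    rw [this]
    exact hw
  obtain ⟨kp, hkp, ekp⟩ := kBase_trans (hmem p hp)
  obtain ⟨kq, hkq, ekq⟩ := kBase_trans (hmem q hq)
  have hk : kq * kp⁻¹ ∈ kBase := kBase.mul_mem hkq (kBase.inv_mem hkp)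
  refine ⟨(e ⟨kq * kp⁻¹, hk⟩ : ↥M24), (e ⟨kq * kp⁻¹, hk⟩).2, ?_⟩
  rw [he]
  show (g * (kq * kp⁻¹) * g⁻¹ : ↥M24) • p = q
  rw [mul_smul, mul_smul, mul_smul]
  have e1 : (g⁻¹ : ↥M24) • p = kp • gPt 0 := ekp.symm
  have e2 : kq • gPt 0 = (g⁻¹ : ↥M24) • q := ekq
  rw [e1, inv_smul_smul, e2, smul_inv_smul]

end Cfsg.Agent.Lib.H28
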