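import Mathlib
import Cfsg.Agent.Lib.H11.RK2Defs
import Cfsg.Agent.Lib.H11.R2LIFT

/-!
# S5289 farm-out (helper11) — shared facts on Blackburn's type `T3` for pieces T3MC / T3C (helper28)

`G = ⟨x,y,z⟩` of order `p^n`, `x^p = y^p = z^(p^(n-2)) = 1`, `yz = zy`, `x⁻¹yx = y w^s`, `x⁻¹zx = yz`,
`w = z^(p^(n-3))`.  We prove: the orders of `x, y, z` are exactly `p, p, p^(n-2)`; `z^p` and `w` are central;
`⟨y⟩ ∩ ⟨z⟩ = 1`; normal forms in `M₀ = ⟨x,y,z^p⟩`; the commutation formulas.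
-/

set_option autoImplicit false

namespace Cfsg.Agent.Lib.H28.RK2

open Cfsg.Agent.Lib.H11.RK2

section generic

variable {Q : Type*} [Group Q]

/-- `x⁻¹ z^k x = (x⁻¹ z x)^k`. -/
theorem t3_conj_pow (x z : Q) (k : ℕ) : x⁻¹ * z ^ k * x = (x⁻¹ * z * x) ^ k := by
  induction k with
  | zero => simp
  | succ k ih => rw [pow_succ, pow_succ, ← ih]; group

/-- helper11's `card_dvd_of_gens` for the subgroup `⟨x⟩ ⊔ (⟨y⟩ ⊔ ⟨z⟩)` (not assumed to be everything). -/
theorem t3_card_sup3_dvd [Finite Q] (x y z : Q) (hyz : y * z = z * y)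
    (hy : x⁻¹ * y * x ∈ Subgroup.zpowers y ⊔ Subgroup.zpowers z)
    (hz : x⁻¹ * z * x ∈ Subgroup.zpowers y ⊔ Subgroup.zpowers z) :
    Nat.card ↥(Subgroup.zpowers x ⊔ (Subgroup.zpowers y ⊔ Subgroup.zpowers z)) ∣
      orderOf x * (orderOf y * orderOf z) := by
  obtain ⟨A, hA⟩ : ∃ A : Subgroup Q, A = Subgroup.zpowers y ⊔ Subgroup.zpowers z := ⟨_, rfl⟩
  have h1 : Nat.card A ∣ orderOf y * orderOf z := by
    have hn : Subgroup.zpowers y ≤ Subgroup.normalizer (Subgroup.zpowers z : Set Q) := by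
      rw [Subgroup.zpowers_le]
      apply Subgroup.mem_normalizer_fintype
      intro n hn
      obtain ⟨k, rfl⟩ := Subgroup.mem_zpowers_iff.mp hn
      have hc : Commute y (z ^ k) := (show Commute y z from hyz).zpow_right k
      have : y * z ^ k * y⁻¹ = z ^ k := by rw [hc.eq, mul_inv_cancel_right]
      rw [this]; exact hn
    have := Cfsg.Agent.Lib.H11.R2.card_sup_dvd_nrm hn
    rwa [Nat.card_zpowers, Nat.card_zpowers, ← hA] at this
  have h2 : x⁻¹ ∈ Subgroup.normalizer (A : Set Q) := by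
    apply Subgroup.mem_normalizer_fintype
    intro a ha
    have hmap : A.map (MulAut.conj x⁻¹).toMonoidHom ≤ A := by
      rw [hA, Subgroup.map_sup, MonoidHom.map_zpowers, MonoidHom.map_zpowers]
      apply sup_le
      · rw [Subgroup.zpowers_le]
        show (MulAut.conj x⁻¹) y ∈ _
        rw [MulAut.conj_apply, inv_inv]; exact hy
      · rw [Subgroup.zpowers_le]
        show (MulAut.conj x⁻¹) z ∈ _
        rw [MulAut.conj_apply, inv_inv]; exact hz
    have : (MulAut.conj x⁻¹) a ∈ A := hmap (Subgroup.mem_map_of_mem _ ha)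
    rwa [MulAut.conj_apply] at this
  have h3 : Subgroup.zpowers x ≤ Subgroup.normalizer (A : Set Q) := by
    rw [Subgroup.zpowers_le]
    have := (Subgroup.normalizer (A : Set Q)).inv_mem h2
    rwa [inv_inv] at this
  have h4 := Cfsg.Agent.Lib.H11.R2.card_sup_dvd_nrm h3
  rw [Nat.card_zpowers] at h4
  rw [← hA]
  exact h4.trans (Nat.mul_dvd_mul_left _ h1)

end generic

variable {G : Type*} [Group G] {p n s : ℕ} {x y z : G}

/-- `y x = x y w^s`. -/
theorem t3_yx (h : T3 p n s x y z) : y * x = x * y * (z ^ p ^ (n - 3)) ^ s := by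
  calc y * x = x * (x⁻¹ * y * x) := by group
    _ = x * (y * z ^ (s * p ^ (n - 3))) := by rw [h.hxy]
    _ = x * y * (z ^ p ^ (n - 3)) ^ s := by rw [pow_mul', mul_assoc]

/-- `z x = x y z`. -/
theorem t3_zx (h : T3 p n s x y z) : z * x = x * y * z := by
  have := h.hxz
  rw [mul_assoc, ← this]; group

/-- `z^p` commutes with `x`. -/
theorem t3_zp_x (h : T3 p n s x y z) : z ^ p * x = x * z ^ p := by
  have h1 : x⁻¹ * z ^ p * x = z ^ p := by
    rw [t3_conj_pow, h.hxz, (show Commute y z from h.hyz).mul_pow, h.hy, one_mul]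
  calc z ^ p * x = x * (x⁻¹ * z ^ p * x) := by group
    _ = x * z ^ p := by rw [h1]

/-- `w = (z^p)^(p^(n-4))`. -/
theorem t3_w_eq (h : T3 p n s x y z) : z ^ p ^ (n - 3) = (z ^ p) ^ p ^ (n - 4) := by
  have hn := h.hn
  rw [← pow_mul, ← pow_succ']
  congr 2
  omega

theorem t3_w_mem (h : T3 p n s x y z) : z ^ p ^ (n - 3) ∈ Subgroup.zpowers (z ^ p) := by
  rw [t3_w_eq h]
  exact Subgroup.pow_mem _ (Subgroup.mem_zpowers _) _

/-- `x^i = 1` if `p ∣ i`. -/
theorem t3_x_pow (h : T3 p n s x y z) {i : ℕ} (hi : p ∣ i) : x ^ i = 1 := by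
  obtain ⟨m, rfl⟩ := hi
  rw [pow_mul, h.hx, one_pow]

theorem t3_y_pow (h : T3 p n s x y z) {i : ℕ} (hi : p ∣ i) : y ^ i = 1 := by
  obtain ⟨m, rfl⟩ := hi
  rw [pow_mul, h.hy, one_pow]

variable [Finite G] [Fact p.Prime]

/-- The orders of the generators are exactly `p`, `p`, `p^(n-2)`. -/
theorem t3_orders (h : T3 p n s x y z) :
    orderOf x = p ∧ orderOf y = p ∧ orderOf z = p ^ (n - 2) := by
  have hp := (Fact.out : p.Prime)
  have hn := h.hn
  have hy' : x⁻¹ * y * x ∈ Subgroup.zpowers y ⊔ Subgroup.zpowers z := by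
    rw [h.hxy]
    exact mul_mem (Subgroup.mem_sup_left (Subgroup.mem_zpowers y))
      (Subgroup.mem_sup_right (Subgroup.pow_mem _ (Subgroup.mem_zpowers z) _))
  have hz' : x⁻¹ * z * x ∈ Subgroup.zpowers y ⊔ Subgroup.zpowers z := by
    rw [h.hxz]
    exact mul_mem (Subgroup.mem_sup_left (Subgroup.mem_zpowers y))
      (Subgroup.mem_sup_right (Subgroup.mem_zpowers z))
  have hdvd := Cfsg.Agent.Lib.H11.R2.card_dvd_of_gens x y z h.gen h.hyz hy' hz'
  rw [h.card] at hdvd
  obtain ⟨a, ha, hxa⟩ := (Nat.dvd_prime_pow hp).mp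
    (show orderOf x ∣ p ^ 1 by rw [pow_one]; exact orderOf_dvd_of_pow_eq_one h.hx)
  obtain ⟨b, hb, hyb⟩ := (Nat.dvd_prime_pow hp).mp
    (show orderOf y ∣ p ^ 1 by rw [pow_one]; exact orderOf_dvd_of_pow_eq_one h.hy)
  obtain ⟨c, hc, hzc⟩ := (Nat.dvd_prime_pow hp).mp (orderOf_dvd_of_pow_eq_one h.hz)
  rw [hxa, hyb, hzc, ← pow_add, ← pow_add] at hdvd
  have hle : n ≤ a + (b + c) := (Nat.pow_dvd_pow_iff_le_right hp.one_lt).mp hdvd
  have e1 : a = 1 := by omega
  have e2 : b = 1 := by omega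
  have e3 : c = n - 2 := by omega
  refine ⟨by rw [hxa, e1, pow_one], by rw [hyb, e2, pow_one], by rw [hzc, e3]⟩

omit [Finite G] [Fact p.Prime] in
/-- `z^p` is central. -/
theorem t3_zp_central (h : T3 p n s x y z) (g : G) : g * z ^ p = z ^ p * g := by
  have hle : Subgroup.closure ({x, y, z} : Set G) ≤ Subgroup.centralizer ({z ^ p} : Set G) := by
    rw [Subgroup.closure_le]
    intro a ha
    rw [SetLike.mem_coe, Subgroup.mem_centralizer_iff]
    intro b hb
    rw [Set.mem_singleton_iff] at hb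
    subst hb
    rcases ha with rfl | rfl | rfl
    · exact t3_zp_x h
    · exact ((show Commute a z from h.hyz).pow_right p).eq.symm
    · exact ((Commute.refl a).pow_left p).eq
  have hg : g ∈ Subgroup.centralizer ({z ^ p} : Set G) := hle (h.gen ▸ Subgroup.mem_top g)
  rw [Subgroup.mem_centralizer_iff] at hg
  exact (hg _ rfl).symm

omit [Finite G] [Fact p.Prime] in
/-- Every element of `⟨z^p⟩` is central. -/
theorem t3_D_central (h : T3 p n s x y z) {d : G} (hd : d ∈ Subgroup.zpowers (z ^ p)) (g : G) :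
    g * d = d * g := by
  obtain ⟨k, rfl⟩ := Subgroup.mem_zpowers_iff.mp hd
  have : Commute g (z ^ p) := t3_zp_central h g
  exact (this.zpow_right k).eq

omit [Finite G] [Fact p.Prime] in
/-- `w` is central. -/
theorem t3_w_central (h : T3 p n s x y z) (g : G) :
    g * z ^ p ^ (n - 3) = z ^ p ^ (n - 3) * g :=
  t3_D_central h (t3_w_mem h) g

/-- `w^j = 1` forces `p ∣ j`. -/
theorem t3_w_pow (h : T3 p n s x y z) {j : ℕ} (hj : (z ^ p ^ (n - 3)) ^ j = 1) : p ∣ j := by
  have hp := (Fact.out : p.Prime)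
  have hn := h.hn
  rw [← pow_mul] at hj
  have hd := orderOf_dvd_of_pow_eq_one hj
  rw [(t3_orders h).2.2] at hd
  have e : p ^ (n - 2) = p ^ (n - 3) * p := by
    rw [← pow_succ]; congr 1; omega
  rw [e] at hd
  exact (Nat.mul_dvd_mul_iff_left (pow_pos hp.pos _)).mp hd

/-- `⟨y⟩ ∩ ⟨z⟩ = 1` in the form: `y^i ∈ ⟨z⟩` forces `p ∣ i`. -/
theorem t3_y_pow_mem (h : T3 p n s x y z) {i : ℕ} (hi : y ^ i ∈ Subgroup.zpowers z) : p ∣ i := by
  have hp := (Fact.out : p.Prime)
  have hn := h.hn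
  by_contra hpi
  have hcop : Nat.Coprime i (orderOf y) := by
    rw [(t3_orders h).2.1]
    exact ((Nat.Prime.coprime_iff_not_dvd hp).mpr hpi).symm
  obtain ⟨m, hm⟩ := exists_pow_eq_self_of_coprime hcop
  have hyz : y ∈ Subgroup.zpowers z := by
    rw [← hm]; exact Subgroup.pow_mem _ hi m
  -- then `G = ⟨x⟩ ⊔ (⟨1⟩ ⊔ ⟨z⟩)` has order dividing `p^(n-1)`
  have h1 : (1 : G) * z = z * 1 := by simp
  have hA : Subgroup.zpowers (1 : G) ⊔ Subgroup.zpowers z = Subgroup.zpowers z := by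
    rw [Subgroup.zpowers_one_eq_bot, bot_sup_eq]
  have h2 : x⁻¹ * 1 * x ∈ Subgroup.zpowers (1 : G) ⊔ Subgroup.zpowers z := by
    simp
  have h3 : x⁻¹ * z * x ∈ Subgroup.zpowers (1 : G) ⊔ Subgroup.zpowers z := by
    rw [hA, h.hxz]
    exact mul_mem hyz (Subgroup.mem_zpowers z)
  have hd := t3_card_sup3_dvd x 1 z h1 h2 h3
  have htop : Subgroup.zpowers x ⊔ (Subgroup.zpowers (1 : G) ⊔ Subgroup.zpowers z) = ⊤ := by
    rw [eq_top_iff, ← h.gen, Subgroup.closure_le, hA]
    intro g hg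
    rcases hg with rfl | rfl | rfl
    · exact Subgroup.mem_sup_left (Subgroup.mem_zpowers g)
    · exact Subgroup.mem_sup_right hyz
    · exact Subgroup.mem_sup_right (Subgroup.mem_zpowers g)
  rw [htop, Subgroup.card_top, h.card, orderOf_one, one_mul, (t3_orders h).1, (t3_orders h).2.2,
    ← pow_succ'] at hd
  have := (Nat.pow_dvd_pow_iff_le_right hp.one_lt).mp hd
  omega

omit [Finite G] [Fact p.Prime] in
/-- `y x^i = x^i y w^(s i)`. -/
theorem t3_y_xpow (h : T3 p n s x y z) (i : ℕ) :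
    y * x ^ i = x ^ i * y * (z ^ p ^ (n - 3)) ^ (s * i) := by
  induction i with
  | zero => simp
  | succ i ih =>
    have hw := t3_w_central h
    have hwc : Commute x ((z ^ p ^ (n - 3)) ^ (s * i)) :=
      (show Commute x (z ^ p ^ (n - 3)) from hw x).pow_right _
    calc y * x ^ (i + 1) = y * x ^ i * x := by rw [pow_succ, mul_assoc]
      _ = x ^ i * y * (z ^ p ^ (n - 3)) ^ (s * i) * x := by rw [ih]
      _ = x ^ i * (y * x) * (z ^ p ^ (n - 3)) ^ (s * i) := by
          rw [mul_assoc (x ^ i * y), ← hwc.eq]; simp only [mul_assoc]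
      _ = x ^ i * (x * y * (z ^ p ^ (n - 3)) ^ s) * (z ^ p ^ (n - 3)) ^ (s * i) := by rw [t3_yx h]
      _ = x ^ (i + 1) * y * (z ^ p ^ (n - 3)) ^ (s * (i + 1)) := by
          rw [pow_succ x, show s * (i + 1) = s + s * i by ring, pow_add]
          simp only [mul_assoc]

omit [Finite G] [Fact p.Prime] in
/-- `y^k x = x y^k w^(s k)`. -/
theorem t3_ypow_x (h : T3 p n s x y z) (k : ℕ) :
    y ^ k * x = x * y ^ k * (z ^ p ^ (n - 3)) ^ (s * k) := by
  induction k with
  | zero => simp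
  | succ k ih =>
    have hw := t3_w_central h
    have hwc : Commute y ((z ^ p ^ (n - 3)) ^ s) :=
      (show Commute y (z ^ p ^ (n - 3)) from hw y).pow_right _
    calc y ^ (k + 1) * x = y ^ k * (y * x) := by rw [pow_succ, mul_assoc]
      _ = y ^ k * (x * y * (z ^ p ^ (n - 3)) ^ s) := by rw [t3_yx h]
      _ = (y ^ k * x) * y * (z ^ p ^ (n - 3)) ^ s := by simp only [mul_assoc]
      _ = x * y ^ k * (z ^ p ^ (n - 3)) ^ (s * k) * y * (z ^ p ^ (n - 3)) ^ s := by rw [ih]
      _ = x * y ^ (k + 1) * (z ^ p ^ (n - 3)) ^ (s * (k + 1)) := by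
          have hc2 : Commute ((z ^ p ^ (n - 3)) ^ (s * k)) y :=
            ((show Commute y (z ^ p ^ (n - 3)) from hw y).pow_right _).symm
          rw [mul_assoc (x * y ^ k), hc2.eq, pow_succ y, show s * (k + 1) = s * k + s by ring, pow_add]
          simp only [mul_assoc]

/-! ### The subgroup `M₀ = ⟨x, y, z^p⟩` -/

omit [Finite G] [Fact p.Prime] in
/-- `z` normalizes `M₀`. -/
theorem t3_conj_z_mem (h : T3 p n s x y z) {r : G}
    (hr : r ∈ Subgroup.closure ({x, y, z ^ p} : Set G)) :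
    z * r * z⁻¹ ∈ Subgroup.closure ({x, y, z ^ p} : Set G) := by
  have hmap : (Subgroup.closure ({x, y, z ^ p} : Set G)).map (MulAut.conj z).toMonoidHom ≤
      Subgroup.closure ({x, y, z ^ p} : Set G) := by
    rw [MonoidHom.map_closure, Subgroup.closure_le]
    rintro _ ⟨a, ha, rfl⟩
    show (MulAut.conj z) a ∈ _
    rw [MulAut.conj_apply]
    have hxM : x ∈ Subgroup.closure ({x, y, z ^ p} : Set G) := Subgroup.subset_closure (by simp)
    have hyM : y ∈ Subgroup.closure ({x, y, z ^ p} : Set G) := Subgroup.subset_closure (by simp)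
    have hzM : z ^ p ∈ Subgroup.closure ({x, y, z ^ p} : Set G) := Subgroup.subset_closure (by simp)
    rcases ha with rfl | rfl | rfl
    · have : z * a * z⁻¹ = a * y := by rw [t3_zx h]; group
      rw [this]; exact mul_mem hxM hyM
    · have : z * a * z⁻¹ = a := by rw [← h.hyz]; group
      rw [this]; exact hyM
    · have : z * z ^ p * z⁻¹ = z ^ p := by group
      rw [this]; exact hzM
  have : (MulAut.conj z) r ∈ Subgroup.closure ({x, y, z ^ p} : Set G) :=
    hmap (Subgroup.mem_map_of_mem _ hr)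
  rwa [MulAut.conj_apply] at this

/-- `G = M₀ ⟨z⟩`, with exponent of `z` below `p`. -/
theorem t3_exists_rep (h : T3 p n s x y z) (g : G) :
    ∃ r ∈ Subgroup.closure ({x, y, z ^ p} : Set G), ∃ i : ℕ, i < p ∧ g = r * z ^ i := by
  have hp := (Fact.out : p.Prime)
  have hxM : x ∈ Subgroup.closure ({x, y, z ^ p} : Set G) := Subgroup.subset_closure (by simp)
  have hyM : y ∈ Subgroup.closure ({x, y, z ^ p} : Set G) := Subgroup.subset_closure (by simp)
  have hzM : z ^ p ∈ Subgroup.closure ({x, y, z ^ p} : Set G) := Subgroup.subset_closure (by simp)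
  have key : ∀ g : G, g ∈ Submonoid.closure ({x, y, z} : Set G) →
      ∃ r ∈ Subgroup.closure ({x, y, z ^ p} : Set G), ∃ i : ℕ, g = r * z ^ i := by
    intro g hg
    induction hg using Submonoid.closure_induction_left with
    | one => exact ⟨1, one_mem _, 0, by simp⟩
    | mul_left a ha b _ ih =>
      obtain ⟨r, hr, i, rfl⟩ := ih
      rcases ha with rfl | rfl | rfl
      · exact ⟨a * r, mul_mem hxM hr, i, by rw [mul_assoc]⟩
      · exact ⟨a * r, mul_mem hyM hr, i, by rw [mul_assoc]⟩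
      · exact ⟨a * r * a⁻¹, t3_conj_z_mem h hr, i + 1, by rw [pow_succ']; group⟩
  have hg : g ∈ Submonoid.closure ({x, y, z} : Set G) := by
    rw [← Subgroup.closure_toSubmonoid_of_finite, Subgroup.mem_toSubmonoid, h.gen]
    exact Subgroup.mem_top g
  obtain ⟨r, hr, i, rfl⟩ := key g hg
  refine ⟨r * (z ^ p) ^ (i / p), mul_mem hr (Subgroup.pow_mem _ hzM _), i % p,
    Nat.mod_lt _ hp.pos, ?_⟩
  rw [mul_assoc, ← pow_mul, ← pow_add, Nat.div_add_mod]

/-- `|M₀|` divides `p^(n-1)`. -/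
theorem t3_card_M0_dvd (h : T3 p n s x y z) :
    Nat.card ↥(Subgroup.closure ({x, y, z ^ p} : Set G)) ∣ p ^ (n - 1) := by
  have hp := (Fact.out : p.Prime)
  have hn := h.hn
  have hyz : y * z ^ p = z ^ p * y := t3_zp_central h y
  have hy' : x⁻¹ * y * x ∈ Subgroup.zpowers y ⊔ Subgroup.zpowers (z ^ p) := by
    rw [h.hxy, pow_mul']
    exact mul_mem (Subgroup.mem_sup_left (Subgroup.mem_zpowers y))
      (Subgroup.mem_sup_right (Subgroup.pow_mem _ (t3_w_mem h) _))
  have hz' : x⁻¹ * z ^ p * x ∈ Subgroup.zpowers y ⊔ Subgroup.zpowers (z ^ p) := by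
    have : x⁻¹ * z ^ p * x = z ^ p := by rw [mul_assoc, t3_zp_x h]; group
    rw [this]
    exact Subgroup.mem_sup_right (Subgroup.mem_zpowers _)
  have hd := t3_card_sup3_dvd x y (z ^ p) hyz hy' hz'
  have hle : Subgroup.closure ({x, y, z ^ p} : Set G) ≤
      Subgroup.zpowers x ⊔ (Subgroup.zpowers y ⊔ Subgroup.zpowers (z ^ p)) := by
    rw [Subgroup.closure_le]
    intro g hg
    rcases hg with rfl | rfl | rfl
    · exact Subgroup.mem_sup_left (Subgroup.mem_zpowers g)
    · exact Subgroup.mem_sup_right (Subgroup.mem_sup_left (Subgroup.mem_zpowers g))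
    · exact Subgroup.mem_sup_right (Subgroup.mem_sup_right (Subgroup.mem_zpowers _))
  have h1 := Subgroup.card_dvd_of_le hle
  have hozp : orderOf (z ^ p) ∣ p ^ (n - 3) := by
    apply orderOf_dvd_of_pow_eq_one
    rw [← pow_mul, ← pow_succ', show n - 3 + 1 = n - 2 by omega]
    exact h.hz
  have h2 : orderOf x * (orderOf y * orderOf (z ^ p)) ∣ p ^ (n - 1) := by
    rw [(t3_orders h).1, (t3_orders h).2.1]
    have e : p ^ (n - 1) = p * (p * p ^ (n - 3)) := by
      rw [← pow_succ', ← pow_succ']; congr 1; omega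
    rw [e]
    exact Nat.mul_dvd_mul_left _ (Nat.mul_dvd_mul_left _ hozp)
  exact h1.trans (hd.trans h2)

/-- `|M₀| = p^(n-1)`. -/
theorem t3_card_M0 (h : T3 p n s x y z) :
    Nat.card ↥(Subgroup.closure ({x, y, z ^ p} : Set G)) = p ^ (n - 1) := by
  have hp := (Fact.out : p.Prime)
  have hn := h.hn
  obtain ⟨k, hk, hM⟩ := (Nat.dvd_prime_pow hp).mp (t3_card_M0_dvd h)
  -- surjection `M₀ × Fin p → G`
  let f : ↥(Subgroup.closure ({x, y, z ^ p} : Set G)) × Fin p → G := fun q => (q.1 : G) * z ^ (q.2 : ℕ)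
  have hf : Function.Surjective f := by
    intro g
    obtain ⟨r, hr, i, hi, rfl⟩ := t3_exists_rep h g
    exact ⟨(⟨r, hr⟩, ⟨i, hi⟩), rfl⟩
  have hle := Nat.card_le_card_of_surjective f hf
  rw [Nat.card_prod, Nat.card_fin, h.card, hM, ← pow_succ] at hle
  have := (Nat.pow_le_pow_iff_right hp.one_lt).mp hle
  have : k = n - 1 := by omega
  rw [hM, this]

end Cfsg.Agent.Lib.H28.RK2
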