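import Mathlib
import Cfsg.Agent.Lib.H11.RK2Defs
import Cfsg.Agent.Lib.H28.RK2T3Base

/-!
# S5289 farm-out (helper11), piece **T3C** (helper28): `Z(M₀) = ⟨z^p⟩` and the fixed points of `c_z` on
`M₀/⟨z^p⟩` are `Y/⟨z^p⟩` (`M₀ = ⟨x,y,z^p⟩`, `Y = ⟨y,z^p⟩`) in a group of Blackburn type `T3`.

Normal form `r = x^i y^k d` (`d ∈ ⟨z^p⟩` central) in `M₀`; `y x^i = x^i y w^(si)`, `y^k x = x y^k w^(sk)`,
`z x^i = x^i y^i w^e z`; `o(w) = p` and `⟨y⟩ ∩ ⟨z⟩ = 1` by counting (`RK2T3Base`).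
-/

set_option autoImplicit false

namespace Cfsg.Agent.Lib.H28.RK2

open Cfsg.Agent.Lib.H11.RK2

section aux

variable {G : Type*} [Group G] {p n s : ℕ} {x y z : G}

/-- `y (x^i y^k d) = x^i y^(k+1) (w^(si) d)` for central `d`. -/
theorem t3_y_mul_nf (h : T3 p n s x y z) (i k : ℕ) (d : G) :
    y * (x ^ i * y ^ k * d) = x ^ i * y ^ (k + 1) * ((z ^ p ^ (n - 3)) ^ (s * i) * d) := by
  have hW : (z ^ p ^ (n - 3)) ^ (s * i) * y ^ k = y ^ k * (z ^ p ^ (n - 3)) ^ (s * i) :=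
    (t3_D_central h (Subgroup.pow_mem _ (t3_w_mem h) _) (y ^ k)).symm
  calc y * (x ^ i * y ^ k * d) = (y * x ^ i) * y ^ k * d := by simp only [mul_assoc]
    _ = x ^ i * y * (z ^ p ^ (n - 3)) ^ (s * i) * y ^ k * d := by rw [t3_y_xpow h i]
    _ = x ^ i * y * (y ^ k * (z ^ p ^ (n - 3)) ^ (s * i)) * d := by
        rw [mul_assoc (x ^ i * y), hW]
    _ = x ^ i * y ^ (k + 1) * ((z ^ p ^ (n - 3)) ^ (s * i) * d) := by
        rw [pow_succ']; simp only [mul_assoc]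

/-- `z x^i = x^i y^i w^e z` for some `e`. -/
theorem t3_z_xpow (h : T3 p n s x y z) (i : ℕ) :
    ∃ e : ℕ, z * x ^ i = x ^ i * y ^ i * (z ^ p ^ (n - 3)) ^ e * z := by
  induction i with
  | zero => exact ⟨0, by simp⟩
  | succ i ih =>
    obtain ⟨e, he⟩ := ih
    have hWx : ∀ m : ℕ, (z ^ p ^ (n - 3)) ^ m * x = x * (z ^ p ^ (n - 3)) ^ m := fun m =>
      (t3_D_central h (Subgroup.pow_mem _ (t3_w_mem h) m) x).symm
    have hWy : ∀ m : ℕ, (z ^ p ^ (n - 3)) ^ m * y = y * (z ^ p ^ (n - 3)) ^ m := fun m =>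
      (t3_D_central h (Subgroup.pow_mem _ (t3_w_mem h) m) y).symm
    refine ⟨s * i + e, ?_⟩
    calc z * x ^ (i + 1) = (z * x ^ i) * x := by rw [pow_succ, mul_assoc]
      _ = x ^ i * y ^ i * (z ^ p ^ (n - 3)) ^ e * z * x := by rw [he]
      _ = x ^ i * y ^ i * (z ^ p ^ (n - 3)) ^ e * (x * y * z) := by
          rw [mul_assoc _ z x, t3_zx h]
      _ = x ^ i * y ^ i * ((z ^ p ^ (n - 3)) ^ e * x) * y * z := by simp only [mul_assoc]
      _ = x ^ i * y ^ i * (x * (z ^ p ^ (n - 3)) ^ e) * y * z := by rw [hWx e]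
      _ = x ^ i * (y ^ i * x) * ((z ^ p ^ (n - 3)) ^ e * y) * z := by simp only [mul_assoc]
      _ = x ^ i * (x * y ^ i * (z ^ p ^ (n - 3)) ^ (s * i)) * (y * (z ^ p ^ (n - 3)) ^ e) * z := by
          rw [t3_ypow_x h i, hWy e]
      _ = x ^ i * x * y ^ i * ((z ^ p ^ (n - 3)) ^ (s * i) * y) * (z ^ p ^ (n - 3)) ^ e * z := by
          simp only [mul_assoc]
      _ = x ^ i * x * y ^ i * (y * (z ^ p ^ (n - 3)) ^ (s * i)) * (z ^ p ^ (n - 3)) ^ e * z := by
          rw [hWy (s * i)]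
      _ = x ^ (i + 1) * y ^ (i + 1) * (z ^ p ^ (n - 3)) ^ (s * i + e) * z := by
          rw [pow_succ, pow_succ, pow_add]; simp only [mul_assoc]

end aux

variable {G : Type*} [Group G] [Finite G] {p n s : ℕ} [Fact p.Prime] {x y z : G}

omit [Fact p.Prime] in
/-- Normal form in `M₀`: `r = x^i y^k d`, `d ∈ ⟨z^p⟩`. -/
theorem t3_nf_M0 (h : T3 p n s x y z) {r : G}
    (hr : r ∈ Subgroup.closure ({x, y, z ^ p} : Set G)) :
    ∃ i k : ℕ, ∃ d ∈ Subgroup.zpowers (z ^ p), r = x ^ i * y ^ k * d := by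
  have key : ∀ r : G, r ∈ Submonoid.closure ({x, y, z ^ p} : Set G) →
      ∃ i k : ℕ, ∃ d ∈ Subgroup.zpowers (z ^ p), r = x ^ i * y ^ k * d := by
    intro r hr
    induction hr using Submonoid.closure_induction_left with
    | one => exact ⟨0, 0, 1, one_mem _, by simp⟩
    | mul_left a ha b _ ih =>
      obtain ⟨i, k, d, hd, rfl⟩ := ih
      rcases ha with rfl | rfl | rfl
      · exact ⟨i + 1, k, d, hd, by rw [pow_succ']; simp only [mul_assoc]⟩
      · exact ⟨i, k + 1, (z ^ p ^ (n - 3)) ^ (s * i) * d,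
          mul_mem (Subgroup.pow_mem _ (t3_w_mem h) _) hd, t3_y_mul_nf h i k d⟩
      · refine ⟨i, k, d * z ^ p, mul_mem hd (Subgroup.mem_zpowers _), ?_⟩
        rw [← t3_zp_central h (x ^ i * y ^ k * d), mul_assoc]
  apply key
  rw [← Subgroup.closure_toSubmonoid_of_finite]
  exact hr

/-- **T3M1**.  `Z(M₀) = ⟨z^p⟩`. -/
theorem T3.m1 (h : T3 p n s x y z) :
    ∀ g ∈ Subgroup.closure ({x, y, z ^ p} : Set G),
      (∀ k ∈ Subgroup.closure ({x, y, z ^ p} : Set G), g * k = k * g) →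
        g ∈ Subgroup.zpowers (z ^ p) := by
  intro g hg hc
  have hp := (Fact.out : p.Prime)
  have hxM : x ∈ Subgroup.closure ({x, y, z ^ p} : Set G) := Subgroup.subset_closure (by simp)
  have hyM : y ∈ Subgroup.closure ({x, y, z ^ p} : Set G) := Subgroup.subset_closure (by simp)
  obtain ⟨i, k, d, hd, rfl⟩ := t3_nf_M0 h hg
  -- commuting with `y` gives `p ∣ i`
  have h1 := hc y hyM
  have hdy : d * y = y * d := (t3_D_central h hd y).symm
  have hL : x ^ i * y ^ k * d * y = x ^ i * y ^ (k + 1) * d := by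
    rw [mul_assoc, hdy, pow_succ]; simp only [mul_assoc]
  rw [hL, t3_y_mul_nf h i k d] at h1
  have h2 : (1 : G) * d = (z ^ p ^ (n - 3)) ^ (s * i) * d := by
    rw [one_mul]; exact mul_left_cancel h1
  have h3 : (z ^ p ^ (n - 3)) ^ (s * i) = 1 := (mul_right_cancel h2).symm
  have hi : p ∣ i := by
    rcases (Nat.Prime.dvd_mul hp).mp (t3_w_pow h h3) with h4 | h4
    · exact absurd h4 h.hs
    · exact h4
  have hxi : x ^ i = 1 := t3_x_pow h hi
  -- commuting with `x` gives `p ∣ k`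
  have h5 := hc x hxM
  rw [hxi, one_mul] at h5
  have hdx : d * x = x * d := (t3_D_central h hd x).symm
  have hL2 : y ^ k * d * x = x * (y ^ k * ((z ^ p ^ (n - 3)) ^ (s * k) * d)) := by
    rw [mul_assoc, hdx, ← mul_assoc, t3_ypow_x h k]; simp only [mul_assoc]
  rw [hL2] at h5
  have h6 := mul_left_cancel (mul_left_cancel h5)
  have h7 : (z ^ p ^ (n - 3)) ^ (s * k) * d = 1 * d := by rw [one_mul]; exact h6
  have h8 : (z ^ p ^ (n - 3)) ^ (s * k) = 1 := mul_right_cancel h7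
  have hk : p ∣ k := by
    rcases (Nat.Prime.dvd_mul hp).mp (t3_w_pow h h8) with h4 | h4
    · exact absurd h4 h.hs
    · exact h4
  rw [hxi, t3_y_pow h hk, one_mul, one_mul]
  exact hd

/-- **T3M5**.  The fixed points of `c_z` on `M₀/⟨z^p⟩` are `Y/⟨z^p⟩`. -/
theorem T3.m5 (h : T3 p n s x y z) :
    ∀ r ∈ Subgroup.closure ({x, y, z ^ p} : Set G),
      z * r * z⁻¹ * r⁻¹ ∈ Subgroup.zpowers (z ^ p) → r ∈ Subgroup.closure ({y, z ^ p} : Set G) := by
  intro r hr hc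
  have hyY : y ∈ Subgroup.closure ({y, z ^ p} : Set G) := Subgroup.subset_closure (by simp)
  have hzY : z ^ p ∈ Subgroup.closure ({y, z ^ p} : Set G) := Subgroup.subset_closure (by simp)
  have hDY : Subgroup.zpowers (z ^ p) ≤ Subgroup.closure ({y, z ^ p} : Set G) := by
    rw [Subgroup.zpowers_le]; exact hzY
  obtain ⟨i, k, d, hd, rfl⟩ := t3_nf_M0 h hr
  obtain ⟨c, hcdef⟩ : ∃ c : G, c = z * (x ^ i * y ^ k * d) * z⁻¹ * (x ^ i * y ^ k * d)⁻¹ := ⟨_, rfl⟩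
  rw [← hcdef] at hc
  have hzr : z * (x ^ i * y ^ k * d) = c * (x ^ i * y ^ k * d) * z := by rw [hcdef]; group
  obtain ⟨e, he⟩ := t3_z_xpow h i
  -- `t = y^k d` commutes with `z`
  have hzt : z * (y ^ k * d) = (y ^ k * d) * z := by
    have h1 : Commute z (y ^ k) := ((show Commute y z from h.hyz).symm).pow_right k
    have h2 : z * d = d * z := t3_D_central h hd z
    rw [← mul_assoc, h1.eq, mul_assoc, h2, mul_assoc]
  have hWt : (z ^ p ^ (n - 3)) ^ e * (y ^ k * d) = (y ^ k * d) * (z ^ p ^ (n - 3)) ^ e :=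
    (t3_D_central h (Subgroup.pow_mem _ (t3_w_mem h) e) (y ^ k * d)).symm
  have hcx : c * x ^ i = x ^ i * c := (t3_D_central h hc (x ^ i)).symm
  have e1 : z * (x ^ i * y ^ k * d) = (x ^ i * y ^ i * (z ^ p ^ (n - 3)) ^ e * (y ^ k * d)) * z := by
    calc z * (x ^ i * y ^ k * d) = (z * x ^ i) * (y ^ k * d) := by simp only [mul_assoc]
      _ = x ^ i * y ^ i * (z ^ p ^ (n - 3)) ^ e * z * (y ^ k * d) := by rw [he]
      _ = x ^ i * y ^ i * (z ^ p ^ (n - 3)) ^ e * ((y ^ k * d) * z) := by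
          rw [mul_assoc _ z, hzt]
      _ = (x ^ i * y ^ i * (z ^ p ^ (n - 3)) ^ e * (y ^ k * d)) * z := by simp only [mul_assoc]
  have e2 : c * (x ^ i * y ^ k * d) * z = (x ^ i * c * (y ^ k * d)) * z := by
    rw [← hcx]; simp only [mul_assoc]
  rw [e1, e2] at hzr
  have h3 := mul_right_cancel (mul_right_cancel hzr)
  -- `x^i (y^i w^e) = x^i c`
  have h4 : y ^ i * (z ^ p ^ (n - 3)) ^ e = c := by
    apply mul_left_cancel (a := x ^ i)
    rw [← mul_assoc]; exact h3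
  have h5 : y ^ i ∈ Subgroup.zpowers (z ^ p) := by
    have : y ^ i = c * ((z ^ p ^ (n - 3)) ^ e)⁻¹ := by rw [← h4]; group
    rw [this]
    exact mul_mem hc (inv_mem (Subgroup.pow_mem _ (t3_w_mem h) e))
  have h6 : y ^ i ∈ Subgroup.zpowers z := by
    have hle : Subgroup.zpowers (z ^ p) ≤ Subgroup.zpowers z := by
      rw [Subgroup.zpowers_le]; exact Subgroup.pow_mem _ (Subgroup.mem_zpowers z) p
    exact hle h5
  have hi : p ∣ i := t3_y_pow_mem h h6
  rw [t3_x_pow h hi, one_mul]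
  exact mul_mem (Subgroup.pow_mem _ hyY k) (hDY hd)

end Cfsg.Agent.Lib.H28.RK2
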