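import Mathlib
import Cfsg.Agent.Lib.H11.RK2Defs
import Cfsg.Agent.Lib.H28.RK2T3Base

/-!
# S5289 farm-out (helper11), piece **T3MC** (helper28): `|M₀| = p^(n-1)` for `M₀ = ⟨x, y, z^p⟩` in a group of
Blackburn type `T3`.  Upper bound: `|⟨x⟩ ⊔ (⟨y⟩ ⊔ ⟨z^p⟩)|` divides `o(x) o(y) o(z^p)`; lower bound: `G = M₀⟨z⟩` and
`z^p ∈ M₀`, so `|G| ≤ p |M₀|`.
-/

set_option autoImplicit false

namespace Cfsg.Agent.Lib.H28.RK2

open Cfsg.Agent.Lib.H11.RK2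

variable {G : Type*} [Group G] [Finite G] {p n s : ℕ} [Fact p.Prime] {x y z : G}

/-- **T3MC**.  `|M₀| = p^(n-1)`. -/
theorem T3.m0_card (h : T3 p n s x y z) :
    Nat.card ↥(Subgroup.closure ({x, y, z ^ p} : Set G)) = p ^ (n - 1) :=
  t3_card_M0 h

end Cfsg.Agent.Lib.H28.RK2
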