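import Mathlib

/-!
# Invariant biadditive maps on a finite field vanish (helper28)

Tools for the Schur multiplier of the Ree groups `²G₂(q)` (Alperin–Gorenstein style):
a biadditive map `b : F → F → M` which is invariant under a torus `(x, y) ↦ (α x, β y)` vanishes as soon as
the weights `(α, β)` are not "Galois-dual" to each other.
-/

set_option autoImplicit false
set_option linter.unusedSectionVars false
set_option linter.unusedVariables false

namespace Cfsg.Agent.Lib.H28.ReeMult

variable {F : Type*} [Field F] {M : Type*} [AddCommGroup M]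

/-- biadditive maps -/
structure BiAdd (b : F → F → M) : Prop where
  add_left : ∀ x x' y, b (x + x') y = b x y + b x' y
  add_right : ∀ x y y', b x (y + y') = b x y + b x y'

namespace BiAdd

variable {b : F → F → M} (hb : BiAdd b)
include hb

theorem zero_left (y : F) : b 0 y = 0 := by
  have := hb.add_left 0 0 y
  rw [add_zero] at this
  exact left_eq_add.1 this

theorem zero_right (x : F) : b x 0 = 0 := by
  have := hb.add_right x 0 0
  rw [add_zero] at this
  exact left_eq_add.1 this

theorem neg_left (x y : F) : b (-x) y = -b x y := by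
  have := hb.add_left x (-x) y
  rw [add_neg_cancel, hb.zero_left] at this
  exact eq_neg_of_add_eq_zero_right this.symm

theorem neg_right (x y : F) : b x (-y) = -b x y := by
  have := hb.add_right x y (-y)
  rw [add_neg_cancel, hb.zero_right] at this
  exact eq_neg_of_add_eq_zero_right this.symm

theorem natCast_left (n : ℕ) (x y : F) : b ((n : F) * x) y = n • b x y := by
  induction n with
  | zero => rw [Nat.cast_zero, zero_mul, hb.zero_left, zero_smul]
  | succ n ih => rw [Nat.cast_succ, add_mul, one_mul, hb.add_left, ih, succ_nsmul]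

theorem natCast_right (n : ℕ) (x y : F) : b x ((n : F) * y) = n • b x y := by
  induction n with
  | zero => rw [Nat.cast_zero, zero_mul, hb.zero_right, zero_smul]
  | succ n ih => rw [Nat.cast_succ, add_mul, one_mul, hb.add_right, ih, succ_nsmul]

/-- in characteristic three the values are killed by three -/
theorem three_nsmul (h3 : (3 : F) = 0) (x y : F) : 3 • b x y = 0 := by
  have := hb.natCast_left 3 x y
  rw [Nat.cast_ofNat, h3, zero_mul, hb.zero_left] at this
  exact this.symm

/-- **parity**: invariance under `y ↦ -y` forces vanishing in characteristic three -/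
theorem parity_vanish (h3 : (3 : F) = 0) (h : ∀ x y, b x (-y) = b x y) (x y : F) : b x y = 0 := by
  have h1 : b x y + b x y = 0 := by
    have := h x y
    rw [hb.neg_right] at this
    calc b x y + b x y = b x y + -b x y := by rw [this]
      _ = 0 := add_neg_cancel _
  have h2 := hb.three_nsmul h3 x y
  have h4 : (3 : ℕ) • b x y = b x y + b x y + b x y := by
    rw [succ_nsmul, succ_nsmul, one_nsmul]
  rw [h4, h1, zero_add] at h2
  exact h2

/-- **parity**, left version -/
theorem parity_vanish_left (h3 : (3 : F) = 0) (h : ∀ x y, b (-x) y = b x y) (x y : F) :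
    b x y = 0 := by
  have hb' : BiAdd (fun x y => b y x) := ⟨fun x x' y => hb.add_right y x x', fun x y y' => hb.add_left y y' x⟩
  exact hb'.parity_vanish h3 (fun x y => h y x) y x

/-- **polarisation**: invariance under the diagonal action of `κ` and of `κ + 1`, `κ ≠ 1`, forces
vanishing in characteristic three -/
theorem polar_vanish (h3 : (3 : F) = 0) (κ : F) (hκ : κ ≠ 1)
    (h1 : ∀ x y, b (κ * x) (κ * y) = b x y) (h2 : ∀ x y, b ((κ + 1) * x) ((κ + 1) * y) = b x y)
    (x y : F) : b x y = 0 := by
  -- `b (κ x) y + b x (κ y) + b x y = 0`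
  have star : ∀ x y, b (κ * x) y + b x (κ * y) + b x y = 0 := by
    intro x y
    have e := h2 x y
    rw [add_mul, add_mul, one_mul, one_mul, hb.add_left, hb.add_right, hb.add_right, h1] at e
    have : b x y + b (κ * x) y + (b x (κ * y) + b x y) = b x y + (b (κ * x) y + b x (κ * y) + b x y) := by
      abel
    rw [this] at e
    exact add_eq_left.1 e
  have key : ∀ x y, b ((κ - 1) ^ 2 * x) y = 0 := by
    intro x y
    have e := star (κ * x) y
    rw [h1] at e
    have e3 : (κ - 1) ^ 2 * x = κ * (κ * x) + x + κ * x := by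
      linear_combination (-(κ * x)) * h3
    rw [e3, hb.add_left, hb.add_left]
    exact e
  have hc : (κ - 1) ^ 2 ≠ 0 := pow_ne_zero 2 (sub_ne_zero.2 hκ)
  have := key (((κ - 1) ^ 2)⁻¹ * x) y
  rwa [← mul_assoc, mul_inv_cancel₀ hc, one_mul] at this

end BiAdd

section weight

open Polynomial

variable {p : ℕ} [Fact p.Prime] [Algebra (ZMod p) F]

/-- a twisted invariance passes to polynomials over the prime field -/
theorem BiAdd.aeval_swap {b : F → F → M} (hb : BiAdd b) (α β : F)
    (h : ∀ x y, b (α * x) y = b x (β * y)) (g : (ZMod p)[X]) :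
    ∀ x y, b (aeval α g * x) y = b x (aeval β g * y) := by
  induction g using Polynomial.induction_on with
  | C c =>
    intro x y
    rw [aeval_C, aeval_C]
    have hc : algebraMap (ZMod p) F c = ((c.val : ℕ) : F) := by
      conv_lhs => rw [← ZMod.natCast_zmod_val c]
      rw [map_natCast]
    rw [hc, hb.natCast_left, hb.natCast_right]
  | add g₁ g₂ h₁ h₂ =>
    intro x y
    rw [map_add, map_add, add_mul, add_mul, hb.add_left, hb.add_right, h₁, h₂]
  | monomial n c ih =>
    intro x y
    have e : ∀ γ : F, aeval γ (C c * X ^ (n + 1) : (ZMod p)[X]) = aeval γ (C c * X ^ n : (ZMod p)[X]) * γ := by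
      intro γ
      rw [pow_succ, ← mul_assoc, map_mul, aeval_X]
    rw [e α, e β, mul_assoc, ih, h, ← mul_assoc, mul_comm β, mul_assoc]

variable [Finite F]

/-- **weights**: if `b (α x) y = b x (β y)` and `β` is not a Galois conjugate of `α`, then `b = 0` -/
theorem BiAdd.weight_vanish {b : F → F → M} (hb : BiAdd b) (α β : F)
    (h : ∀ x y, b (α * x) y = b x (β * y))
    (hne : ∀ e : ℕ, e < Module.finrank (ZMod p) F → α ^ (p ^ e) ≠ β) (x y : F) : b x y = 0 := by
  have hint : IsIntegral (ZMod p) α := Algebra.IsIntegral.isIntegral α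
  set P := minpoly (ZMod p) α with hP
  have h0 : aeval α P = 0 := minpoly.aeval _ _
  have hc : aeval β P ≠ 0 := by
    intro hβ
    have e1 : P = minpoly (ZMod p) β :=
      minpoly.eq_of_irreducible_of_monic (minpoly.irreducible hint) hβ (minpoly.monic hint)
    have hconj : IsConjRoot (ZMod p) α β := e1
    obtain ⟨τ, hτ⟩ := hconj.exists_algEquiv
    obtain ⟨n, hn⟩ := (FiniteField.bijective_frobeniusAlgEquivOfAlgebraic_pow (ZMod p) F).2 τ⁻¹
    simp only at hn
    have h2 : τ⁻¹ α = β := by
      rw [← hτ]
      show τ⁻¹ (τ β) = β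
      exact τ.symm_apply_apply β
    have h3 : (FiniteField.frobeniusAlgEquivOfAlgebraic (ZMod p) F ^ n.1) α = α ^ (p ^ n.1) := by
      rw [AlgEquiv.coe_pow, FiniteField.coe_frobeniusAlgEquivOfAlgebraic_iterate, ZMod.card]
    rw [hn, h2] at h3
    exact hne n.1 n.2 h3.symm
  have key := hb.aeval_swap (p := p) α β h P x ((aeval β P)⁻¹ * y)
  rw [h0, zero_mul, hb.zero_left, ← mul_assoc, mul_inv_cancel₀ hc, one_mul] at key
  exact key.symm

end weight

end Cfsg.Agent.Lib.H28.ReeMult
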