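import Mathlib
import Cfsg.Agent.Lib.H12.ReeC1
import Cfsg.Agent.Lib.H2.StemTransfer
import Cfsg.Agent.Lib.H28.ReeMultA

/-!
# Central extensions of a Ree system, part 1 (helper28)

`R : RSys G K` is helper12's abstract description of a Ree group, `σ : Γ →* G` a surjection with central kernel.
Part 1: identities in the unipotent group `U = {x(t,u,v)}`, and the first step of the Alperin–Gorenstein
argument: lifts of the centre `{x(0,0,v)}` of `U` commute with all lifts of elements of `U`.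
-/

set_option autoImplicit false
set_option linter.unusedSectionVars false
set_option linter.unusedSimpArgs false
set_option linter.unusedVariables false

namespace Cfsg.Agent.Lib.H28.ReeMult

open Cfsg.Agent.Lib.H12.ReeC Cfsg.Agent.Lib.H2.Stem
open scoped commutatorElement IsMulCommutative

variable {G K : Type*} [Group G] [Field K] (R : RSys G K)

/-! ### the three root maps -/

/-- `x(t,0,0)` -/
def xa (t : K) : G := R.x t 0 0
/-- `x(0,u,0)` -/
def xb (u : K) : G := R.x 0 u 0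
/-- `x(0,0,v)` -/
def xc (v : K) : G := R.x 0 0 v

theorem xb_add (u u' : K) : xb R (u + u') = xb R u * xb R u' := by
  unfold xb
  rw [R.x_mul]
  apply R.x_congr <;> simp

theorem xc_add (v v' : K) : xc R (v + v') = xc R v * xc R v' := by
  unfold xc
  rw [R.x_mul]
  apply R.x_congr <;> simp

/-- `x(t,u,v) = x(t,0,0) x(0,u,v)` -/
theorem x_eq_xa_mul (t u v : K) : R.x t u v = xa R t * R.x 0 u v := by
  unfold xa
  rw [R.x_mul]
  apply R.x_congr <;> simp

/-- `x(0,u,v) = x(0,u,0) x(0,0,v)` -/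
theorem x0_eq_xb_mul (u v : K) : R.x 0 u v = xb R u * xc R v := by
  unfold xb xc
  rw [R.x_mul]
  apply R.x_congr <;> simp

/-- `x(t,0,0) x(t',0,0) = x(t+t',0,0) x(0,u'',v'')` -/
theorem xa_mul_xa (t t' : K) : xa R t * xa R t' =
    xa R (t + t') * R.x 0 (-(R.σ t' * t)) (-(R.σ t' * t ^ 2) + R.σ t' * t * t') := by
  rw [← x_eq_xa_mul]
  unfold xa
  rw [R.x_mul]
  apply R.x_congr <;> ring

/-- `x(0,0,v)` is central in `U` -/
theorem xc_comm (t u v w : K) : R.x t u v * xc R w = xc R w * R.x t u v := by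
  unfold xc
  rw [R.x_mul, R.x_mul]
  apply R.x_congr <;> simp <;> ring

/-- the subgroup `{x(0,u,v)}` is commutative -/
theorem x0_comm (u v u' v' : K) : R.x 0 u v * R.x 0 u' v' = R.x 0 u' v' * R.x 0 u v := by
  rw [R.x_mul, R.x_mul]
  apply R.x_congr <;> simp <;> ring

/-- `[x(t,0,0), x(0,u,0)] = x(0,0,tu)` -/
theorem comm_xa_xb (t u : K) : ⁅xa R t, xb R u⁆ = xc R (t * u) := by
  have h1 : xa R t * xb R u = xc R (t * u) * (xb R u * xa R t) := by
    unfold xa xb xc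
    rw [R.x_mul, R.x_mul, R.x_mul]
    apply R.x_congr <;> simp
  rw [commutatorElement_def, h1]
  group

/-! ### the torus -/

theorem h_xa (z : Kˣ) (t : K) : R.h z * xa R t * (R.h z)⁻¹ = xa R (z * t) := by
  unfold xa
  rw [R.h_conj]
  apply R.x_congr <;> simp

theorem h_xb (z : Kˣ) (u : K) : R.h z * xb R u * (R.h z)⁻¹ = xb R (R.σ z * z * u) := by
  unfold xb
  rw [R.h_conj]
  apply R.x_congr <;> simp

theorem h_xc (z : Kˣ) (v : K) : R.h z * xc R v * (R.h z)⁻¹ = xc R (R.σ z * (z : K) ^ 2 * v) := by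
  unfold xc
  rw [R.h_conj]
  apply R.x_congr <;> simp

theorem sigma_neg_one : R.σ ((-1 : Kˣ) : K) = -1 := by
  rw [Units.val_neg, Units.val_one, map_neg, map_one]

/-- the subgroup `U₁ = {x(0,u,v)}` -/
def U1 : Subgroup G where
  carrier := {g | ∃ u v, g = R.x 0 u v}
  mul_mem' := by
    rintro _ _ ⟨u, v, rfl⟩ ⟨u', v', rfl⟩
    refine ⟨u + u', v + v', ?_⟩
    rw [R.x_mul]
    apply R.x_congr <;> simp
  one_mem' := ⟨0, 0, R.x_zero.symm⟩
  inv_mem' := by
    rintro _ ⟨u, v, rfl⟩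
    refine ⟨-u, -v, ?_⟩
    rw [R.x_inv]
    apply R.x_congr <;> simp

theorem mem_U1 (g : G) : g ∈ U1 R ↔ ∃ u v, g = R.x 0 u v := Iff.rfl

theorem U1_le_U : U1 R ≤ R.U := by
  rintro _ ⟨u, v, rfl⟩
  exact R.x_mem_U _ _ _

/-- commutators of elements of `U` lie in `U₁` -/
theorem comm_mem_U1 {g g' : G} (hg : g ∈ R.U) (hg' : g' ∈ R.U) : ⁅g, g'⁆ ∈ U1 R := by
  obtain ⟨t, u, v, rfl⟩ := hg
  obtain ⟨t', u', v', rfl⟩ := hg'
  rw [commutatorElement_def, R.x_inv, R.x_inv, R.x_mul, R.x_mul, R.x_mul]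
  exact ⟨_, _, R.x_congr (by ring) rfl rfl⟩

/-- conjugation by `U` preserves `U₁` -/
theorem conj_mem_U1 {g a : G} (hg : g ∈ R.U) (ha : a ∈ U1 R) : g * a * g⁻¹ ∈ U1 R := by
  have h1 : g * a * g⁻¹ = ⁅g, a⁆ * a := by
    rw [commutatorElement_def]; group
  rw [h1]
  exact mul_mem (comm_mem_U1 R hg (U1_le_U R ha)) ha

/-- `[U, U₁]` consists of elements `x(0,0,v)` -/
theorem comm_U_U1 {g a : G} (hg : g ∈ R.U) (ha : a ∈ U1 R) : ∃ w, ⁅g, a⁆ = xc R w := by
  obtain ⟨t, u, v, rfl⟩ := hg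
  obtain ⟨u', v', rfl⟩ := ha
  rw [commutatorElement_def, R.x_inv, R.x_inv, R.x_mul, R.x_mul, R.x_mul]
  unfold xc
  exact ⟨_, R.x_congr (by ring) (by simp only [map_neg, map_zero]; ring) rfl⟩

section stem

variable {Γ : Type*} [Group Γ] (σ : Γ →* G) (hσ : Function.Surjective σ)
  (hK : σ.ker ≤ Subgroup.center Γ)

/-- a pairing of two root maps with central values is biadditive -/
theorem biAdd_cc (f₁ f₂ : K → G) (r : K → K → G)
    (hf₁ : ∀ x x', f₁ x * f₁ x' = f₁ (x + x') * r x x')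
    (hr : ∀ x x' y, cc σ hσ (r x x') (f₂ y) = 1)
    (hf₂ : ∀ y y', f₂ (y + y') = f₂ y * f₂ y')
    (hcomm : ∀ x y, f₁ x * f₂ y = f₂ y * f₁ x) :
    BiAdd (fun x y => Additive.ofMul
      (⟨cc σ hσ (f₁ x) (f₂ y), cc_central σ hσ hK (hcomm x y)⟩ : Subgroup.center Γ)) := by
  constructor
  · intro x x' y
    apply congrArg Additive.ofMul
    apply Subtype.ext
    show cc σ hσ (f₁ (x + x')) (f₂ y) = cc σ hσ (f₁ x) (f₂ y) * cc σ hσ (f₁ x') (f₂ y)
    rw [← cc_mul_left σ hσ hK (cc_central σ hσ hK (hcomm x' y)), hf₁,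
      cc_mul_left σ hσ hK (by rw [hr]; exact Subgroup.one_mem _), hr, mul_one]
  · intro x y y'
    apply congrArg Additive.ofMul
    apply Subtype.ext
    show cc σ hσ (f₁ x) (f₂ (y + y')) = cc σ hσ (f₁ x) (f₂ y) * cc σ hσ (f₁ x) (f₂ y')
    rw [hf₂, cc_mul_right σ hσ hK (cc_central σ hσ hK (hcomm x y'))]

/-- vanishing of a biadditive pairing, read in `Γ` -/
theorem cc_eq_one_of_biAdd {f₁ f₂ : K → G} (hcomm : ∀ x y, f₁ x * f₂ y = f₂ y * f₁ x)
    (h0 : ∀ x y, (fun x y => Additive.ofMul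
      (⟨cc σ hσ (f₁ x) (f₂ y), cc_central σ hσ hK (hcomm x y)⟩ : Subgroup.center Γ)) x y = 0)
    (x y : K) : cc σ hσ (f₁ x) (f₂ y) = 1 := by
  have := h0 x y
  have h2 : (⟨cc σ hσ (f₁ x) (f₂ y), cc_central σ hσ hK (hcomm x y)⟩ : Subgroup.center Γ) = 1 := this
  exact congrArg Subtype.val h2

include hK in
/-- torus invariance of a pairing with central values -/
theorem cc_torus {f₁ f₂ : K → G} (hcomm : ∀ x y, f₁ x * f₂ y = f₂ y * f₁ x) (z : Kˣ) (α β : K)
    (h₁ : ∀ x, R.h z * f₁ x * (R.h z)⁻¹ = f₁ (α * x)) (h₂ : ∀ y, R.h z * f₂ y * (R.h z)⁻¹ = f₂ (β * y))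
    (x y : K) : cc σ hσ (f₁ (α * x)) (f₂ (β * y)) = cc σ hσ (f₁ x) (f₂ y) := by
  rw [← h₁, ← h₂]
  exact cc_conj σ hσ hK (R.h z) (cc_central σ hσ hK (hcomm x y))

end stem

end Cfsg.Agent.Lib.H28.ReeMult
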