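import Mathlib
import Cfsg.Agent.Lib.H28.ReeMultB

/-!
# Central extensions of a Ree system, part 2 (helper28)

Step 1 of the Alperin–Gorenstein argument: lifts of the centre `{x(0,0,v)}` of `U` commute with all lifts of
elements of `U`.  Step 2a: the preimage of `U₁ = {x(0,u,v)}` is commutative.
-/

set_option autoImplicit false
set_option linter.unusedSectionVars false
set_option linter.unusedSimpArgs false
set_option linter.unusedVariables false

namespace Cfsg.Agent.Lib.H28.ReeMult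

open Cfsg.Agent.Lib.H12.ReeC Cfsg.Agent.Lib.H2.Stem
open scoped commutatorElement IsMulCommutative

variable {G K : Type*} [Group G] [Field K] (R : RSys G K)

/-- the facts on the field and the twist that are used for the `3`-part of the multiplier -/
structure MultFacts [Algebra (ZMod 3) K] : Prop where
  chi2_surj : ∀ t : K, t ≠ 0 → ∃ z : Kˣ, R.σ z * (z : K) ^ 2 = t
  chi1_sq : ∀ y : K, y ≠ 0 → ∃ z : Kˣ, R.σ z * (z : K) = y * y
  weight : ∃ k : Kˣ, ∀ e : ℕ, e < Module.finrank (ZMod 3) K →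
    (k : K) ^ (3 ^ e) * (R.σ k * (k : K) ^ 2) ≠ 1
  exists_kappa : ∃ κ : K, κ ≠ 0 ∧ κ ≠ 1 ∧ κ + 1 ≠ 0
  exists_sq : ∃ a c : K, a ≠ 0 ∧ c ≠ 0 ∧ a * a + 1 = c * c ∧ a * a ≠ 1

variable {Γ : Type*} [Group Γ] (σ : Γ →* G) (hσ : Function.Surjective σ)
  (hK : σ.ker ≤ Subgroup.center Γ)

include hK in
theorem cc_one_left (g : G) : cc σ hσ 1 g = 1 := by
  have h := cc_spec σ hσ hK (γ := 1) (γ' := Function.surjInv hσ g) (map_one σ)
    (Function.surjInv_eq hσ g)
  rw [← h, commutatorElement_def]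
  group

section stage1

variable [Algebra (ZMod 3) K] [Finite K] (F : MultFacts R)

include hK F

/-- lifts of central elements of `U` commute -/
theorem cc_xc_xc (v' v : K) : cc σ hσ (xc R v') (xc R v) = 1 := by
  have hcomm : ∀ x y : K, xc R x * xc R y = xc R y * xc R x := fun x y => xc_comm R 0 0 x y
  have hb := biAdd_cc σ hσ hK (xc R) (xc R) (fun _ _ => 1)
    (fun x x' => by rw [mul_one, xc_add]) (fun _ _ y => cc_one_left σ hσ hK _)
    (xc_add R) hcomm
  have hinv : ∀ κ : K, κ ≠ 0 → ∀ x y, cc σ hσ (xc R (κ * x)) (xc R (κ * y)) =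
      cc σ hσ (xc R x) (xc R y) := by
    intro κ hκ x y
    obtain ⟨z, hz⟩ := F.chi2_surj κ hκ
    have := cc_torus R σ hσ hK hcomm z κ κ (fun x => by rw [h_xc, hz]) (fun y => by rw [h_xc, hz]) x y
    exact this
  obtain ⟨κ, hκ0, hκ1, hκ2⟩ := F.exists_kappa
  apply cc_eq_one_of_biAdd σ hσ hK hcomm
  intro x y
  apply hb.polar_vanish R.three κ hκ1
  · intro x y
    apply congrArg Additive.ofMul
    apply Subtype.ext
    exact hinv κ hκ0 x y
  · intro x y
    apply congrArg Additive.ofMul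
    apply Subtype.ext
    exact hinv (κ + 1) hκ2 x y

/-- lifts of `x(0,u,0)` and of central elements commute -/
theorem cc_xb_xc (u v : K) : cc σ hσ (xb R u) (xc R v) = 1 := by
  have hcomm : ∀ x y : K, xb R x * xc R y = xc R y * xb R x := fun x y => xc_comm R 0 x 0 y
  have hb := biAdd_cc σ hσ hK (xb R) (xc R) (fun _ _ => 1)
    (fun x x' => by rw [mul_one, xb_add]) (fun _ _ y => cc_one_left σ hσ hK _)
    (xc_add R) hcomm
  apply cc_eq_one_of_biAdd σ hσ hK hcomm
  intro x y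
  apply hb.parity_vanish R.three
  intro x y
  apply congrArg Additive.ofMul
  apply Subtype.ext
  show cc σ hσ (xb R x) (xc R (-y)) = cc σ hσ (xb R x) (xc R y)
  have := cc_torus R σ hσ hK hcomm (-1) 1 (-1)
    (fun x => by rw [h_xb, sigma_neg_one]; congr 1; simp)
    (fun y => by rw [h_xc, sigma_neg_one]; congr 1; simp) x y
  rw [one_mul, neg_one_mul] at this
  exact this

/-- lifts of `x(0,u,v')` and of central elements commute -/
theorem cc_x0_xc (u v' v : K) : cc σ hσ (R.x 0 u v') (xc R v) = 1 := by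
  rw [x0_eq_xb_mul, cc_mul_left σ hσ hK (by rw [cc_xc_xc R σ hσ hK F]; exact Subgroup.one_mem _),
    cc_xb_xc R σ hσ hK F, cc_xc_xc R σ hσ hK F, mul_one]

/-- lifts of `x(t,0,0)` and of central elements commute -/
theorem cc_xa_xc (t v : K) : cc σ hσ (xa R t) (xc R v) = 1 := by
  have hcomm : ∀ x y : K, xa R x * xc R y = xc R y * xa R x := fun x y => xc_comm R x 0 0 y
  have hb := biAdd_cc σ hσ hK (xa R) (xc R)
    (fun t t' => R.x 0 (-(R.σ t' * t)) (-(R.σ t' * t ^ 2) + R.σ t' * t * t'))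
    (fun x x' => xa_mul_xa R x x') (fun _ _ y => cc_x0_xc R σ hσ hK F _ _ _)
    (xc_add R) hcomm
  obtain ⟨k, hk⟩ := F.weight
  set χ : K := R.σ k * (k : K) ^ 2 with hχ
  have hχ0 : χ ≠ 0 := by
    rw [hχ]
    exact mul_ne_zero ((map_ne_zero R.σ).2 k.ne_zero) (pow_ne_zero 2 k.ne_zero)
  apply cc_eq_one_of_biAdd σ hσ hK hcomm
  intro x y
  apply hb.weight_vanish (p := 3) (k : K) χ⁻¹
  · intro x y
    apply congrArg Additive.ofMul
    apply Subtype.ext
    show cc σ hσ (xa R ((k : K) * x)) (xc R y) = cc σ hσ (xa R x) (xc R (χ⁻¹ * y))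
    have := cc_torus R σ hσ hK hcomm k (k : K) χ (fun x => h_xa R k x) (fun y => h_xc R k y) x (χ⁻¹ * y)
    rw [← mul_assoc, mul_inv_cancel₀ hχ0, one_mul] at this
    exact this
  · intro e he h
    apply hk e he
    rw [h, inv_mul_cancel₀ hχ0]

/-- **Step 1**: lifts of central elements of `U` commute with lifts of elements of `U` -/
theorem cc_U_xc {g : G} (hg : g ∈ R.U) (v : K) : cc σ hσ g (xc R v) = 1 := by
  obtain ⟨t, u, v', rfl⟩ := hg
  rw [x_eq_xa_mul, cc_mul_left σ hσ hK (by rw [cc_x0_xc R σ hσ hK F]; exact Subgroup.one_mem _),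
    cc_xa_xc R σ hσ hK F, cc_x0_xc R σ hσ hK F, mul_one]

include hσ in
theorem lift_comm_xc {γ w : Γ} (hγ : σ γ ∈ R.U) {v : K} (hw : σ w = xc R v) : γ * w = w * γ := by
  have e1 : ⁅γ, w⁆ = cc σ hσ (σ γ) (xc R v) := cc_spec σ hσ hK rfl hw
  rw [cc_U_xc R σ hσ hK F hγ] at e1
  exact commutatorElement_eq_one_iff_mul_comm.1 e1

/-- lifts of `x(0,u,0)`, `x(0,u',0)` commute -/
theorem cc_xb_xb (u u' : K) : cc σ hσ (xb R u) (xb R u') = 1 := by
  have hcomm : ∀ x y : K, xb R x * xb R y = xb R y * xb R x := fun x y => x0_comm R x 0 y 0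
  have hb := biAdd_cc σ hσ hK (xb R) (xb R) (fun _ _ => 1)
    (fun x x' => by rw [mul_one, xb_add]) (fun _ _ y => cc_one_left σ hσ hK _)
    (xb_add R) hcomm
  have hinv : ∀ a : K, a ≠ 0 → ∀ x y, cc σ hσ (xb R (a * a * x)) (xb R (a * a * y)) =
      cc σ hσ (xb R x) (xb R y) := by
    intro a ha x y
    obtain ⟨z, hz⟩ := F.chi1_sq a ha
    exact cc_torus R σ hσ hK hcomm z (a * a) (a * a) (fun x => by rw [h_xb, hz])
      (fun y => by rw [h_xb, hz]) x y
  obtain ⟨a, c, ha, hc, hac, ha1⟩ := F.exists_sq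
  apply cc_eq_one_of_biAdd σ hσ hK hcomm
  intro x y
  apply hb.polar_vanish R.three (a * a) ha1
  · intro x y
    apply congrArg Additive.ofMul
    apply Subtype.ext
    exact hinv a ha x y
  · intro x y
    apply congrArg Additive.ofMul
    apply Subtype.ext
    rw [hac]
    exact hinv c hc x y

/-- **Step 2a**: lifts of elements of `U₁` commute -/
theorem cc_U1_U1 {a a' : G} (ha : a ∈ U1 R) (ha' : a' ∈ U1 R) : cc σ hσ a a' = 1 := by
  obtain ⟨u, v, rfl⟩ := ha
  obtain ⟨u', v', rfl⟩ := ha'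
  have h1 : ∀ g : G, g ∈ R.U → ∀ w : K, cc σ hσ g (xc R w) = 1 := fun g hg w =>
    cc_U_xc R σ hσ hK F hg w
  have h2 : ∀ (w : K) (g : G), g ∈ R.U → cc σ hσ (xc R w) g = 1 := by
    intro w g hg
    have e1 : ⁅Function.surjInv hσ (xc R w), Function.surjInv hσ g⁆ = cc σ hσ (xc R w) g := rfl
    have e2 : ⁅Function.surjInv hσ g, Function.surjInv hσ (xc R w)⁆ = cc σ hσ g (xc R w) := rfl
    rw [← e1, ← commutatorElement_inv, e2, h1 g hg, inv_one]
  have hm : xb R u' * xc R v' ∈ R.U := mul_mem (R.x_mem_U _ _ _) (R.x_mem_U _ _ _)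
  have hm' : xb R u ∈ R.U := R.x_mem_U _ _ _
  rw [x0_eq_xb_mul R u v, x0_eq_xb_mul R u' v',
    cc_mul_left σ hσ hK (by rw [h2 v _ hm]; exact Subgroup.one_mem _),
    h2 v _ hm, mul_one,
    cc_mul_right σ hσ hK (by rw [h1 _ hm']; exact Subgroup.one_mem _),
    h1 _ hm', mul_one, cc_xb_xb R σ hσ hK F]

include hσ in
theorem lift_comm_U1 {α α' : Γ} (hα : σ α ∈ U1 R) (hα' : σ α' ∈ U1 R) : α * α' = α' * α := by
  have e1 : ⁅α, α'⁆ = cc σ hσ (σ α) (σ α') := cc_spec σ hσ hK rfl rfl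
  rw [cc_U1_U1 R σ hσ hK F hα hα'] at e1
  exact commutatorElement_eq_one_iff_mul_comm.1 e1

end stage1

end Cfsg.Agent.Lib.H28.ReeMult
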