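import Mathlib
import Cfsg.Agent.Lib.H28.ReeMultC

/-!
# Central extensions of a Ree system, part 3 (helper28)

The norm over the torus on the (commutative) preimage of `U₁`, steps 2 and 3 of the Alperin–Gorenstein
argument, and the conclusion: an element of the commutator subgroup of the preimage of `U` which is central in
`Γ` is killed by `q - 1`.
-/

set_option autoImplicit false
set_option linter.unusedSectionVars false
set_option linter.unusedSimpArgs false
set_option linter.unusedVariables false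

namespace Cfsg.Agent.Lib.H28.ReeMult

open Cfsg.Agent.Lib.H12.ReeC Cfsg.Agent.Lib.H2.Stem
open scoped commutatorElement IsMulCommutative

/-- conjugation by an element normalising `H`, on the centre of `H` -/
def conjC {Γ : Type*} [Group Γ] {H : Subgroup Γ} (δ : Γ) (hδ : ∀ γ ∈ H, δ * γ * δ⁻¹ ∈ H)
    (hδ' : ∀ γ ∈ H, δ⁻¹ * γ * δ ∈ H) : Subgroup.center H →* Subgroup.center H where
  toFun a := ⟨⟨δ * ((a : H) : Γ) * δ⁻¹, hδ _ (a : H).2⟩, by
    rw [Subgroup.mem_center_iff]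
    intro γ
    apply Subtype.ext
    have ha := a.2
    rw [Subgroup.mem_center_iff] at ha
    have h1 := congrArg Subtype.val (ha ⟨δ⁻¹ * (γ : Γ) * δ, hδ' _ γ.2⟩)
    simp only [Subgroup.coe_mul] at h1 ⊢
    calc (γ : Γ) * (δ * ((a : H) : Γ) * δ⁻¹)
        = δ * (δ⁻¹ * (γ : Γ) * δ * ((a : H) : Γ)) * δ⁻¹ := by group
      _ = δ * (((a : H) : Γ) * (δ⁻¹ * (γ : Γ) * δ)) * δ⁻¹ := by rw [h1]
      _ = δ * ((a : H) : Γ) * δ⁻¹ * (γ : Γ) := by group⟩
  map_one' := by
    apply Subtype.ext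
    apply Subtype.ext
    simp
  map_mul' a b := by
    apply Subtype.ext
    apply Subtype.ext
    simp only [Subgroup.coe_mul]
    group

variable {G K : Type*} [Group G] [Field K] (R : RSys G K)
variable {Γ : Type*} [Group Γ] (σ : Γ →* G) (hσ : Function.Surjective σ)
  (hK : σ.ker ≤ Subgroup.center Γ)

include hK in
/-- general expansion of the pairing in the first variable -/
theorem cc_mul_left_gen (g₁ g₂ g' : G) : cc σ hσ (g₁ * g₂) g' =
    Function.surjInv hσ g₁ * cc σ hσ g₂ g' * (Function.surjInv hσ g₁)⁻¹ * cc σ hσ g₁ g' := by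
  have e1 : ⁅Function.surjInv hσ g₁ * Function.surjInv hσ g₂, Function.surjInv hσ g'⁆ =
      cc σ hσ (g₁ * g₂) g' :=
    cc_spec σ hσ hK (by rw [map_mul, Function.surjInv_eq hσ, Function.surjInv_eq hσ])
      (Function.surjInv_eq hσ _)
  rw [← e1, comm_mul_left]
  rfl

include hK in
/-- general expansion of the pairing in the second variable -/
theorem cc_mul_right_gen (g g₁' g₂' : G) : cc σ hσ g (g₁' * g₂') =
    cc σ hσ g g₁' * (Function.surjInv hσ g₁' * cc σ hσ g g₂' * (Function.surjInv hσ g₁')⁻¹) := by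
  have e1 : ⁅Function.surjInv hσ g, Function.surjInv hσ g₁' * Function.surjInv hσ g₂'⁆ =
      cc σ hσ g (g₁' * g₂') :=
    cc_spec σ hσ hK (Function.surjInv_eq hσ _)
      (by rw [map_mul, Function.surjInv_eq hσ, Function.surjInv_eq hσ])
  rw [← e1, comm_mul_right]
  rfl

theorem cc_symm (g g' : G) : cc σ hσ g g' = (cc σ hσ g' g)⁻¹ := by
  unfold cc
  rw [commutatorElement_inv]

include hK in
/-- conjugation only depends on the image when the kernel is central -/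
theorem conj_eq_of_map_eq {δ δ' : Γ} (h : σ δ = σ δ') (a : Γ) : δ * a * δ⁻¹ = δ' * a * δ'⁻¹ := by
  have h1 : δ'⁻¹ * δ ∈ Subgroup.center Γ := hK (by
    rw [MonoidHom.mem_ker, map_mul, map_inv, h, inv_mul_cancel])
  rw [Subgroup.mem_center_iff] at h1
  have e : δ = δ' * (δ'⁻¹ * δ) := by group
  rw [e, mul_inv_rev]
  calc δ' * (δ'⁻¹ * δ) * a * ((δ'⁻¹ * δ)⁻¹ * δ'⁻¹) = δ' * ((δ'⁻¹ * δ) * a) * (δ'⁻¹ * δ)⁻¹ * δ'⁻¹ := by group
    _ = δ' * (a * (δ'⁻¹ * δ)) * (δ'⁻¹ * δ)⁻¹ * δ'⁻¹ := by rw [h1 a]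
    _ = δ' * a * δ'⁻¹ := by group

section norm

variable [Algebra (ZMod 3) K] [Fintype K] [DecidableEq K] (F : MultFacts R)

/-- the preimage of `U₁` -/
def H1 : Subgroup Γ := (U1 R).comap σ

/-- the centre of the preimage of `U₁` (which is all of it) -/
abbrev AA : Type _ := Subgroup.center (H1 R σ)

include hσ hK F in
theorem mem_center_H1 (a : Γ) (ha : σ a ∈ U1 R) :
    (⟨a, ha⟩ : H1 R σ) ∈ Subgroup.center (H1 R σ) := by
  rw [Subgroup.mem_center_iff]
  intro γ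
  apply Subtype.ext
  exact lift_comm_U1 R σ hσ hK F γ.2 ha

/-- an element of the preimage of `U₁`, as an element of its centre -/
def mkA (a : Γ) (ha : σ a ∈ U1 R) : AA R σ :=
  ⟨⟨a, ha⟩, mem_center_H1 R σ hσ hK F a ha⟩

theorem coe_mkA (a : Γ) (ha : σ a ∈ U1 R) : (((mkA R σ hσ hK F a ha : AA R σ) : H1 R σ) : Γ) = a := rfl

theorem mkA_mul (a b : Γ) (ha : σ a ∈ U1 R) (hb : σ b ∈ U1 R) :
    mkA R σ hσ hK F (a * b) (by rw [map_mul]; exact mul_mem ha hb) =
      mkA R σ hσ hK F a ha * mkA R σ hσ hK F b hb := by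
  apply Subtype.ext
  apply Subtype.ext
  rfl

theorem mkA_inv (a : Γ) (ha : σ a ∈ U1 R) :
    mkA R σ hσ hK F a⁻¹ (by rw [map_inv]; exact inv_mem ha) = (mkA R σ hσ hK F a ha)⁻¹ := by
  apply Subtype.ext
  apply Subtype.ext
  rfl

theorem mkA_one : mkA R σ hσ hK F 1 (by rw [map_one]; exact one_mem _) = 1 := by
  apply Subtype.ext
  apply Subtype.ext
  rfl

theorem mkA_congr {a b : Γ} (h : a = b) (ha : σ a ∈ U1 R) :
    mkA R σ hσ hK F a ha = mkA R σ hσ hK F b (h ▸ ha) := by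
  subst h; rfl

theorem mkA_coe (a : AA R σ) : mkA R σ hσ hK F (((a : H1 R σ) : Γ)) (a : H1 R σ).2 = a := by
  apply Subtype.ext
  apply Subtype.ext
  rfl

/-- the torus normalises `U₁` -/
theorem h_conj_mem_U1 (z : Kˣ) {a : G} (ha : a ∈ U1 R) : R.h z * a * (R.h z)⁻¹ ∈ U1 R := by
  obtain ⟨u, v, rfl⟩ := ha
  rw [R.h_conj]
  exact ⟨_, _, R.x_congr (by simp) rfl rfl⟩

theorem h_inv_conj_mem_U1 (z : Kˣ) {a : G} (ha : a ∈ U1 R) : (R.h z)⁻¹ * a * R.h z ∈ U1 R := by
  have := h_conj_mem_U1 R z⁻¹ ha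
  rwa [map_inv, inv_inv] at this

/-- the lift of a torus element -/
noncomputable def dd (z : Kˣ) : Γ := Function.surjInv hσ (R.h z)

theorem map_dd (z : Kˣ) : σ (dd R σ hσ z) = R.h z := Function.surjInv_eq hσ _

theorem dd_conj_mem (z : Kˣ) : ∀ γ ∈ H1 R σ, dd R σ hσ z * γ * (dd R σ hσ z)⁻¹ ∈ H1 R σ := by
  intro γ hγ
  show σ _ ∈ U1 R
  rw [map_mul, map_mul, map_inv, map_dd]
  exact h_conj_mem_U1 R z hγ

theorem dd_inv_conj_mem (z : Kˣ) : ∀ γ ∈ H1 R σ, (dd R σ hσ z)⁻¹ * γ * dd R σ hσ z ∈ H1 R σ := by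
  intro γ hγ
  show σ _ ∈ U1 R
  rw [map_mul, map_mul, map_inv, map_dd]
  exact h_inv_conj_mem_U1 R z hγ

/-- the action of the torus on the preimage of `U₁` -/
noncomputable def psi (z : Kˣ) : AA R σ →* AA R σ :=
  conjC (dd R σ hσ z) (dd_conj_mem R σ hσ z) (dd_inv_conj_mem R σ hσ z)

theorem coe_psi (z : Kˣ) (a : AA R σ) :
    (((psi R σ hσ z a : AA R σ) : H1 R σ) : Γ) =
      dd R σ hσ z * ((a : H1 R σ) : Γ) * (dd R σ hσ z)⁻¹ := rfl

/-- the norm over the torus -/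
noncomputable def NN : AA R σ →* AA R σ := ∏ z : Kˣ, psi R σ hσ z

theorem NN_apply (a : AA R σ) : NN R σ hσ a = ∏ z : Kˣ, psi R σ hσ z a :=
  MonoidHom.finsetProd_apply _ _ _

include hK in
theorem psi_psi (z l : Kˣ) (a : AA R σ) : psi R σ hσ z (psi R σ hσ l a) = psi R σ hσ (z * l) a := by
  apply Subtype.ext
  apply Subtype.ext
  rw [coe_psi, coe_psi, coe_psi]
  have h1 : σ (dd R σ hσ z * dd R σ hσ l) = σ (dd R σ hσ (z * l)) := by
    rw [map_mul, map_dd, map_dd, map_dd, map_mul]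
  rw [← conj_eq_of_map_eq σ hK h1]
  group

include hK in
/-- the norm is invariant under the torus -/
theorem NN_psi (l : Kˣ) (a : AA R σ) : NN R σ hσ (psi R σ hσ l a) = NN R σ hσ a := by
  rw [NN_apply, NN_apply]
  rw [← Equiv.prod_comp (Equiv.mulRight l) (fun z : Kˣ => psi R σ hσ z a)]
  refine Finset.prod_congr rfl fun z _ => ?_
  rw [psi_psi R σ hσ hK, Equiv.coe_mulRight]

/-- the norm of an element which is central in `Γ` -/
theorem NN_central (a : AA R σ) (hc : ((a : H1 R σ) : Γ) ∈ Subgroup.center Γ) :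
    NN R σ hσ a = a ^ (Fintype.card K - 1) := by
  rw [NN_apply]
  have h1 : ∀ z : Kˣ, psi R σ hσ z a = a := by
    intro z
    apply Subtype.ext
    apply Subtype.ext
    rw [coe_psi]
    rw [Subgroup.mem_center_iff] at hc
    rw [hc (dd R σ hσ z), mul_inv_cancel_right]
  rw [Finset.prod_congr rfl (fun z _ => h1 z), Finset.prod_const, Finset.card_univ,
    Fintype.card_units]

end norm

end Cfsg.Agent.Lib.H28.ReeMult
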