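import Mathlib
import Cfsg.Agent.Lib.H28.ReeMultD

/-!
# Central extensions of a Ree system, part 4 (helper28)

Steps 2 and 3 of the Alperin–Gorenstein argument and the conclusion: an element of the commutator subgroup of
the preimage of `U` which is central in `Γ` is killed by `q - 1`.
-/

set_option autoImplicit false
set_option linter.unusedSectionVars false
set_option linter.unusedSimpArgs false
set_option linter.unusedVariables false

namespace Cfsg.Agent.Lib.H28.ReeMult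

open Cfsg.Agent.Lib.H12.ReeC Cfsg.Agent.Lib.H2.Stem
open scoped commutatorElement IsMulCommutative

variable {G K : Type*} [Group G] [Field K] (R : RSys G K)
variable {Γ : Type*} [Group Γ] (σ : Γ →* G) (hσ : Function.Surjective σ)
  (hK : σ.ker ≤ Subgroup.center Γ)
variable [Algebra (ZMod 3) K] [Fintype K] [DecidableEq K] (F : MultFacts R)

open Classical in
/-- the norm of an element of the preimage of `U₁` (and `1` elsewhere) -/
noncomputable def nrm (a : Γ) : AA R σ :=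
  if h : σ a ∈ U1 R then NN R σ hσ (mkA R σ hσ hK F a h) else 1

theorem nrm_of_mem {a : Γ} (h : σ a ∈ U1 R) :
    nrm R σ hσ hK F a = NN R σ hσ (mkA R σ hσ hK F a h) := by
  unfold nrm
  rw [dif_pos h]

theorem nrm_mul {a b : Γ} (ha : σ a ∈ U1 R) (hb : σ b ∈ U1 R) :
    nrm R σ hσ hK F (a * b) = nrm R σ hσ hK F a * nrm R σ hσ hK F b := by
  have hab : σ (a * b) ∈ U1 R := by rw [map_mul]; exact mul_mem ha hb
  rw [nrm_of_mem R σ hσ hK F hab, nrm_of_mem R σ hσ hK F ha, nrm_of_mem R σ hσ hK F hb, ← map_mul,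
    ← mkA_mul]

theorem nrm_inv {a : Γ} (ha : σ a ∈ U1 R) :
    nrm R σ hσ hK F a⁻¹ = (nrm R σ hσ hK F a)⁻¹ := by
  have ha' : σ a⁻¹ ∈ U1 R := by rw [map_inv]; exact inv_mem ha
  rw [nrm_of_mem R σ hσ hK F ha', nrm_of_mem R σ hσ hK F ha, ← map_inv, ← mkA_inv]

theorem nrm_one : nrm R σ hσ hK F 1 = 1 := by
  have h1 : σ (1 : Γ) ∈ U1 R := by rw [map_one]; exact one_mem _
  rw [nrm_of_mem R σ hσ hK F h1, mkA_one, map_one]

theorem nrm_eq_one_of_eq_one {a : Γ} (h : a = 1) : nrm R σ hσ hK F a = 1 := by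
  rw [h, nrm_one]

/-- invariance under the torus -/
theorem nrm_dd_conj {a : Γ} (ha : σ a ∈ U1 R) (z : Kˣ) :
    nrm R σ hσ hK F (dd R σ hσ z * a * (dd R σ hσ z)⁻¹) = nrm R σ hσ hK F a := by
  have ha' : σ (dd R σ hσ z * a * (dd R σ hσ z)⁻¹) ∈ U1 R := dd_conj_mem R σ hσ z a ha
  have e : mkA R σ hσ hK F (dd R σ hσ z * a * (dd R σ hσ z)⁻¹) ha' =
      psi R σ hσ z (mkA R σ hσ hK F a ha) := by
    apply Subtype.ext
    apply Subtype.ext
    rfl
  rw [nrm_of_mem R σ hσ hK F ha', nrm_of_mem R σ hσ hK F ha, e, NN_psi R σ hσ hK z]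

/-- the norm of a central element -/
theorem coe_nrm_central {a : Γ} (ha : σ a ∈ U1 R) (hc : a ∈ Subgroup.center Γ) :
    (((nrm R σ hσ hK F a : AA R σ) : H1 R σ) : Γ) = a ^ (Fintype.card K - 1) := by
  rw [nrm_of_mem R σ hσ hK F ha, NN_central R σ hσ (mkA R σ hσ hK F a ha) hc]
  rfl

theorem map_cc_mem_U1 {g g' : G} (hg : g ∈ R.U) (hg' : g' ∈ R.U) : σ (cc σ hσ g g') ∈ U1 R := by
  rw [map_cc]
  exact comm_mem_U1 R hg hg'

theorem xa_mem (t : K) : xa R t ∈ R.U := R.x_mem_U _ _ _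
theorem xb_mem (u : K) : xb R u ∈ R.U := R.x_mem_U _ _ _
theorem xc_mem (v : K) : xc R v ∈ R.U := R.x_mem_U _ _ _
theorem xb_mem_U1 (u : K) : xb R u ∈ U1 R := ⟨u, 0, rfl⟩
theorem xc_mem_U1 (v : K) : xc R v ∈ U1 R := ⟨0, v, rfl⟩
theorem x0_mem_U1 (u v : K) : R.x 0 u v ∈ U1 R := ⟨u, v, rfl⟩

/-! ### Step 2 -/

include hK F in
/-- additivity of `cc (xa t) (xb u)` in `t` -/
theorem cc_xa_xb_add_left (t t' u : K) : cc σ hσ (xa R (t + t')) (xb R u) =
    cc σ hσ (xa R t') (xb R u) * cc σ hσ (xa R t) (xb R u) := by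
  have e1 := cc_mul_left_gen σ hσ hK (xa R t) (xa R t') (xb R u)
  have hc : Function.surjInv hσ (xa R t) * cc σ hσ (xa R t') (xb R u) =
      cc σ hσ (xa R t') (xb R u) * Function.surjInv hσ (xa R t) := by
    apply lift_comm_xc R σ hσ hK F (v := t' * u)
    · rw [Function.surjInv_eq hσ]; exact xa_mem R t
    · rw [map_cc, comm_xa_xb]
  rw [hc, mul_inv_cancel_right] at e1
  rw [← e1, xa_mul_xa, cc_mul_left_gen σ hσ hK,
    cc_U1_U1 R σ hσ hK F (x0_mem_U1 R _ _) (xb_mem_U1 R u), mul_one, mul_inv_cancel, one_mul]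

include hK F in
/-- additivity of `cc (xa t) (xb u)` in `u` -/
theorem cc_xa_xb_add_right (t u u' : K) : cc σ hσ (xa R t) (xb R (u + u')) =
    cc σ hσ (xa R t) (xb R u) * cc σ hσ (xa R t) (xb R u') := by
  rw [xb_add, cc_mul_right_gen σ hσ hK]
  have hc : Function.surjInv hσ (xb R u) * cc σ hσ (xa R t) (xb R u') =
      cc σ hσ (xa R t) (xb R u') * Function.surjInv hσ (xb R u) := by
    apply lift_comm_xc R σ hσ hK F (v := t * u')
    · rw [Function.surjInv_eq hσ]; exact xb_mem R u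
    · rw [map_cc, comm_xa_xb]
  rw [hc, mul_inv_cancel_right]

/-- the pairing of step 2 -/
noncomputable def B2 (t u : K) : AA R σ := nrm R σ hσ hK F (cc σ hσ (xa R t) (xb R u))

theorem biAdd_B2 : BiAdd (fun t u => Additive.ofMul (B2 R σ hσ hK F t u)) := by
  constructor
  · intro t t' u
    apply congrArg Additive.ofMul
    show B2 R σ hσ hK F (t + t') u = B2 R σ hσ hK F t u * B2 R σ hσ hK F t' u
    unfold B2
    rw [cc_xa_xb_add_left R σ hσ hK F,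
      nrm_mul R σ hσ hK F (map_cc_mem_U1 R σ hσ (xa_mem R t') (xb_mem R u))
        (map_cc_mem_U1 R σ hσ (xa_mem R t) (xb_mem R u)), mul_comm]
  · intro t u u'
    apply congrArg Additive.ofMul
    show B2 R σ hσ hK F t (u + u') = B2 R σ hσ hK F t u * B2 R σ hσ hK F t u'
    unfold B2
    rw [cc_xa_xb_add_right R σ hσ hK F,
      nrm_mul R σ hσ hK F (map_cc_mem_U1 R σ hσ (xa_mem R t) (xb_mem R u))
        (map_cc_mem_U1 R σ hσ (xa_mem R t) (xb_mem R u'))]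

theorem B2_eq_one (t u : K) : B2 R σ hσ hK F t u = 1 := by
  have h := (biAdd_B2 R σ hσ hK F).parity_vanish_left R.three (fun t u => by
    apply congrArg Additive.ofMul
    show B2 R σ hσ hK F (-t) u = B2 R σ hσ hK F t u
    unfold B2
    rw [← nrm_dd_conj R σ hσ hK F (map_cc_mem_U1 R σ hσ (xa_mem R t) (xb_mem R u)) (-1),
      conj_cc σ hσ hK, map_dd, h_xa, h_xb, sigma_neg_one]
    congr 3
    · simp
    · simp) t u
  exact h

include hK in
theorem comm_eq_cc (γ γ' : Γ) : ⁅γ, γ'⁆ = cc σ hσ (σ γ) (σ γ') := cc_spec σ hσ hK rfl rfl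

/-- **Step 2**: the norm kills `[Ũ, Ũ₁]` -/
theorem nrm_comm_U_U1 {γ α : Γ} (hγ : σ γ ∈ R.U) (hα : σ α ∈ U1 R) :
    nrm R σ hσ hK F ⁅γ, α⁆ = 1 := by
  rw [comm_eq_cc σ hσ hK]
  obtain ⟨t, u', v', hg⟩ := hγ
  obtain ⟨u, v, ha⟩ := hα
  rw [hg, ha, x_eq_xa_mul, cc_mul_left_gen σ hσ hK,
    cc_U1_U1 R σ hσ hK F (x0_mem_U1 R _ _) (x0_mem_U1 R _ _), mul_one, mul_inv_cancel, one_mul,
    x0_eq_xb_mul, cc_mul_right_gen σ hσ hK, cc_xa_xc R σ hσ hK F, mul_one, mul_inv_cancel, mul_one]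
  exact B2_eq_one R σ hσ hK F t u

/-- the norm is invariant under conjugation by the preimage of `U` -/
theorem nrm_conj {γ a : Γ} (hγ : σ γ ∈ R.U) (ha : σ a ∈ U1 R) :
    nrm R σ hσ hK F (γ * a * γ⁻¹) = nrm R σ hσ hK F a := by
  have h1 : γ * a * γ⁻¹ = ⁅γ, a⁆ * a := by
    rw [commutatorElement_def]; group
  have h2 : σ ⁅γ, a⁆ ∈ U1 R := by
    rw [map_commutatorElement]
    exact comm_mem_U1 R hγ (U1_le_U R ha)
  rw [h1, nrm_mul R σ hσ hK F h2 ha, nrm_comm_U_U1 R σ hσ hK F hγ ha, one_mul]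

/-- the norm kills `cc r g'` for `r ∈ U₁`, `g' ∈ U` -/
theorem nrm_cc_U1_U {r g' : G} (hr : r ∈ U1 R) (hg' : g' ∈ R.U) :
    nrm R σ hσ hK F (cc σ hσ r g') = 1 := by
  rw [cc_symm σ hσ, nrm_inv R σ hσ hK F (map_cc_mem_U1 R σ hσ hg' (U1_le_U R hr))]
  have := nrm_comm_U_U1 R σ hσ hK F (γ := Function.surjInv hσ g') (α := Function.surjInv hσ r)
    (by rw [Function.surjInv_eq hσ]; exact hg') (by rw [Function.surjInv_eq hσ]; exact hr)
  have e : ⁅Function.surjInv hσ g', Function.surjInv hσ r⁆ = cc σ hσ g' r := rfl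
  rw [e] at this
  rw [this, inv_one]

theorem nrm_cc_U_U1 {g r : G} (hg : g ∈ R.U) (hr : r ∈ U1 R) :
    nrm R σ hσ hK F (cc σ hσ g r) = 1 := by
  have := nrm_comm_U_U1 R σ hσ hK F (γ := Function.surjInv hσ g) (α := Function.surjInv hσ r)
    (by rw [Function.surjInv_eq hσ]; exact hg) (by rw [Function.surjInv_eq hσ]; exact hr)
  exact this

/-! ### Step 3 -/

/-- the pairing of step 3 -/
noncomputable def B3 (t t' : K) : AA R σ := nrm R σ hσ hK F (cc σ hσ (xa R t) (xa R t'))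

/-- the norm of `cc (g₁ g₂) g'` -/
theorem nrm_cc_mul_left {g₁ g₂ g' : G} (h₁ : g₁ ∈ R.U) (h₂ : g₂ ∈ R.U) (h' : g' ∈ R.U) :
    nrm R σ hσ hK F (cc σ hσ (g₁ * g₂) g') =
      nrm R σ hσ hK F (cc σ hσ g₂ g') * nrm R σ hσ hK F (cc σ hσ g₁ g') := by
  have hs : σ (Function.surjInv hσ g₁) ∈ R.U := by rw [Function.surjInv_eq hσ]; exact h₁
  have m2 := map_cc_mem_U1 R σ hσ h₂ h'
  have m1 := map_cc_mem_U1 R σ hσ h₁ h'
  have m3 : σ (Function.surjInv hσ g₁ * cc σ hσ g₂ g' * (Function.surjInv hσ g₁)⁻¹) ∈ U1 R := by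
    rw [map_mul, map_mul, map_inv]
    exact conj_mem_U1 R hs m2
  rw [cc_mul_left_gen σ hσ hK, nrm_mul R σ hσ hK F m3 m1, nrm_conj R σ hσ hK F hs m2]

/-- the norm of `cc g (g₁' g₂')` -/
theorem nrm_cc_mul_right {g g₁' g₂' : G} (h : g ∈ R.U) (h₁ : g₁' ∈ R.U) (h₂ : g₂' ∈ R.U) :
    nrm R σ hσ hK F (cc σ hσ g (g₁' * g₂')) =
      nrm R σ hσ hK F (cc σ hσ g g₁') * nrm R σ hσ hK F (cc σ hσ g g₂') := by
  have hs : σ (Function.surjInv hσ g₁') ∈ R.U := by rw [Function.surjInv_eq hσ]; exact h₁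
  have m1 := map_cc_mem_U1 R σ hσ h h₁
  have m2 := map_cc_mem_U1 R σ hσ h h₂
  have m3 : σ (Function.surjInv hσ g₁' * cc σ hσ g g₂' * (Function.surjInv hσ g₁')⁻¹) ∈ U1 R := by
    rw [map_mul, map_mul, map_inv]
    exact conj_mem_U1 R hs m2
  rw [cc_mul_right_gen σ hσ hK, nrm_mul R σ hσ hK F m1 m3, nrm_conj R σ hσ hK F hs m2]

theorem biAdd_B3 : BiAdd (fun t t' => Additive.ofMul (B3 R σ hσ hK F t t')) := by
  constructor
  · intro t t'' t'
    apply congrArg Additive.ofMul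
    show B3 R σ hσ hK F (t + t'') t' = B3 R σ hσ hK F t t' * B3 R σ hσ hK F t'' t'
    unfold B3
    have e1 := nrm_cc_mul_left R σ hσ hK F (xa_mem R t) (xa_mem R t'') (xa_mem R t')
    rw [xa_mul_xa, nrm_cc_mul_left R σ hσ hK F (xa_mem R _) (R.x_mem_U _ _ _) (xa_mem R t'),
      nrm_cc_U1_U R σ hσ hK F (x0_mem_U1 R _ _) (xa_mem R t'), one_mul] at e1
    rw [e1, mul_comm]
  · intro t t' t''
    apply congrArg Additive.ofMul
    show B3 R σ hσ hK F t (t' + t'') = B3 R σ hσ hK F t t' * B3 R σ hσ hK F t t''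
    unfold B3
    have e1 := nrm_cc_mul_right R σ hσ hK F (xa_mem R t) (xa_mem R t') (xa_mem R t'')
    rw [xa_mul_xa, nrm_cc_mul_right R σ hσ hK F (xa_mem R t) (xa_mem R _) (R.x_mem_U _ _ _),
      nrm_cc_U_U1 R σ hσ hK F (xa_mem R t) (x0_mem_U1 R _ _), mul_one] at e1
    exact e1

theorem B3_eq_one (t t' : K) : B3 R σ hσ hK F t t' = 1 := by
  have hinv : ∀ κ : K, κ ≠ 0 → ∀ x y, B3 R σ hσ hK F (κ * x) (κ * y) = B3 R σ hσ hK F x y := by
    intro κ hκ x y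
    unfold B3
    rw [← nrm_dd_conj R σ hσ hK F (map_cc_mem_U1 R σ hσ (xa_mem R x) (xa_mem R y)) (Units.mk0 κ hκ),
      conj_cc σ hσ hK, map_dd, h_xa, h_xa, Units.val_mk0]
  obtain ⟨κ, hκ0, hκ1, hκ2⟩ := F.exists_kappa
  have h := (biAdd_B3 R σ hσ hK F).polar_vanish R.three κ hκ1
    (fun x y => congrArg Additive.ofMul (hinv κ hκ0 x y))
    (fun x y => congrArg Additive.ofMul (hinv (κ + 1) hκ2 x y)) t t'
  exact h

/-- **Step 3**: the norm kills all commutators of the preimage of `U` -/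
theorem nrm_comm_U_U {γ γ' : Γ} (hγ : σ γ ∈ R.U) (hγ' : σ γ' ∈ R.U) :
    nrm R σ hσ hK F ⁅γ, γ'⁆ = 1 := by
  rw [comm_eq_cc σ hσ hK]
  obtain ⟨t, u, v, hg⟩ := hγ
  obtain ⟨t', u', v', hg'⟩ := hγ'
  rw [hg, x_eq_xa_mul, nrm_cc_mul_left R σ hσ hK F (xa_mem R t) (R.x_mem_U _ _ _) (hg' ▸ R.x_mem_U _ _ _),
    nrm_cc_U1_U R σ hσ hK F (x0_mem_U1 R _ _) (hg' ▸ R.x_mem_U _ _ _), one_mul, hg', x_eq_xa_mul,
    nrm_cc_mul_right R σ hσ hK F (xa_mem R t) (xa_mem R t') (R.x_mem_U _ _ _),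
    nrm_cc_U_U1 R σ hσ hK F (xa_mem R t) (x0_mem_U1 R _ _), mul_one]
  exact B3_eq_one R σ hσ hK F t t'

include hσ hK F in
/-- **the `3`-part**: elements of the commutator subgroup of the preimage of `U` which are central in `Γ`
are killed by `q - 1` -/
theorem pow_eq_one_of_mem_commutator {w : Γ} (hw : w ∈ ⁅R.U.comap σ, R.U.comap σ⁆)
    (hwc : w ∈ Subgroup.center Γ) : w ^ (Fintype.card K - 1) = 1 := by
  have key : ∀ w ∈ ⁅R.U.comap σ, R.U.comap σ⁆, σ w ∈ U1 R ∧ nrm R σ hσ hK F w = 1 := by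
    intro w hw
    rw [Subgroup.commutator_def] at hw
    induction hw using Subgroup.closure_induction with
    | mem x hx =>
      obtain ⟨γ, hγ, γ', hγ', rfl⟩ := hx
      refine ⟨?_, nrm_comm_U_U R σ hσ hK F hγ hγ'⟩
      rw [map_commutatorElement]
      exact comm_mem_U1 R hγ hγ'
    | one => exact ⟨by rw [map_one]; exact one_mem _, nrm_one R σ hσ hK F⟩
    | mul x y _ _ hx hy =>
      exact ⟨by rw [map_mul]; exact mul_mem hx.1 hy.1,
        by rw [nrm_mul R σ hσ hK F hx.1 hy.1, hx.2, hy.2, one_mul]⟩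
    | inv x _ hx =>
      exact ⟨by rw [map_inv]; exact inv_mem hx.1, by rw [nrm_inv R σ hσ hK F hx.1, hx.2, inv_one]⟩
  obtain ⟨h1, h2⟩ := key w hw
  have h3 := coe_nrm_central R σ hσ hK F h1 hwc
  rw [h2] at h3
  exact h3.symm

end Cfsg.Agent.Lib.H28.ReeMult
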