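import Mathlib

/-!
# Facts on the field with `3^(2m+1)` elements used for the multiplier of the Ree groups (helper28)
-/

set_option autoImplicit false

namespace Cfsg.Agent.Lib.H28.ReeMult

section FieldFacts

variable {K : Type*} [Field K] [Fintype K]

/-- a generator of the multiplicative group -/
theorem exists_unit_orderOf : ∃ k : Kˣ, orderOf k = Fintype.card K - 1 := by
  obtain ⟨k, hk⟩ := IsCyclic.exists_generator (α := Kˣ)
  refine ⟨k, ?_⟩
  rw [orderOf_eq_card_of_forall_mem_zpowers hk, Nat.card_units, Nat.card_eq_fintype_card]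

theorem finrank_zmod_three [Algebra (ZMod 3) K] (n : ℕ) (hK : Fintype.card K = 3 ^ n) :
    Module.finrank (ZMod 3) K = n := by
  have h := Module.card_eq_pow_finrank (K := ZMod 3) (V := K)
  rw [ZMod.card, hK] at h
  exact (Nat.pow_right_injective (by norm_num : 2 ≤ 3) h).symm

theorem three_pow_bound (m e : ℕ) (hm : 1 ≤ m) (he : e < 2 * m + 1) :
    3 ^ e + 3 ^ (m + 1) + 2 < 3 ^ (2 * m + 1) - 1 := by
  have hA : 3 ^ 1 ≤ 3 ^ m := Nat.pow_le_pow_right (by norm_num) hm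
  have h1 : 3 ^ (m + 1) = 3 * 3 ^ m := by rw [pow_succ]; ring
  have h2 : 3 ^ (2 * m) = 3 ^ m * 3 ^ m := by rw [two_mul, pow_add]
  have h3 : 3 ^ (2 * m + 1) = 3 * (3 ^ m * 3 ^ m) := by rw [pow_succ, h2]; ring
  have h4 : 3 ^ e ≤ 3 ^ (2 * m) := Nat.pow_le_pow_right (by norm_num) (by omega)
  rw [h1, h3]
  rw [h2] at h4
  generalize 3 ^ m = A at *
  generalize 3 ^ e = E at *
  have : 3 * A ≤ A * A := by nlinarith
  have : 9 ≤ A * A := by nlinarith
  omega

/-- the weight condition -/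
theorem weight_fact (m : ℕ) (hm : 1 ≤ m) (hK : Fintype.card K = 3 ^ (2 * m + 1)) (k : Kˣ)
    (hk : orderOf k = Fintype.card K - 1) (e : ℕ) (he : e < 2 * m + 1) :
    (k : K) ^ (3 ^ e) * ((k : K) ^ 3 ^ (m + 1) * (k : K) ^ 2) ≠ 1 := by
  intro h
  have h1 : k ^ (3 ^ e + 3 ^ (m + 1) + 2) = 1 := by
    apply Units.ext
    rw [Units.val_pow_eq_pow_val, Units.val_one, pow_add, pow_add, mul_assoc]
    exact h
  have h2 := orderOf_dvd_of_pow_eq_one h1
  rw [hk, hK] at h2
  have h3 := Nat.le_of_dvd (by positivity) h2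
  have h4 := three_pow_bound m e hm he
  omega

theorem card_ge (m : ℕ) (hm : 1 ≤ m) (hK : Fintype.card K = 3 ^ (2 * m + 1)) : 27 ≤ Fintype.card K := by
  rw [hK]
  calc 27 = 3 ^ 3 := by norm_num
    _ ≤ 3 ^ (2 * m + 1) := Nat.pow_le_pow_right (by norm_num) (by omega)

theorem unit_sq_ne_one (k : Kˣ) (hk : orderOf k = Fintype.card K - 1) (h27 : 27 ≤ Fintype.card K) :
    (k : K) * (k : K) ≠ 1 := by
  intro h
  have h1 : k ^ 2 = 1 := by
    apply Units.ext
    rw [Units.val_pow_eq_pow_val, Units.val_one, pow_two]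
    exact h
  have h2 := Nat.le_of_dvd (by norm_num) (orderOf_dvd_of_pow_eq_one h1)
  omega

theorem kappa_fact (k : Kˣ) (hk : orderOf k = Fintype.card K - 1) (h27 : 27 ≤ Fintype.card K) :
    (k : K) ≠ 0 ∧ (k : K) ≠ 1 ∧ (k : K) + 1 ≠ 0 := by
  have hsq := unit_sq_ne_one k hk h27
  refine ⟨k.ne_zero, ?_, ?_⟩
  · intro h
    apply hsq
    rw [h, mul_one]
  · intro h
    apply hsq
    have : (k : K) = -1 := by linear_combination h
    rw [this]; ring

theorem sq_fact (h3 : (3 : K) = 0) (hns : ∀ y : K, y * y ≠ -1) (k : Kˣ)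
    (hk : orderOf k = Fintype.card K - 1) (h27 : 27 ≤ Fintype.card K) :
    ∃ a c : K, a ≠ 0 ∧ c ≠ 0 ∧ a * a + 1 = c * c ∧ a * a ≠ 1 := by
  have hsq := unit_sq_ne_one k hk h27
  have hk0 : (k : K) ≠ 0 := k.ne_zero
  refine ⟨(k : K) - (k : K)⁻¹, (k : K) + (k : K)⁻¹, ?_, ?_, ?_, ?_⟩
  · intro h
    apply hsq
    have h1 : (k : K) = (k : K)⁻¹ := by linear_combination h
    calc (k : K) * (k : K) = (k : K) * (k : K)⁻¹ := by rw [← h1]
      _ = 1 := mul_inv_cancel₀ hk0
  · intro h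
    apply hns (k : K)
    have h1 : (k : K)⁻¹ = -(k : K) := by linear_combination h
    have h2 : (k : K) * (k : K)⁻¹ = 1 := mul_inv_cancel₀ hk0
    rw [h1] at h2
    linear_combination -h2
  · have h2 : (k : K) * (k : K)⁻¹ = 1 := mul_inv_cancel₀ hk0
    linear_combination (-4 : K) * h2 - h3
  · intro h
    apply hns ((k : K) * (k : K))
    have h2 : (k : K) * (k : K)⁻¹ = 1 := mul_inv_cancel₀ hk0
    have h4 : (k : K) * (k : K) + (k : K)⁻¹ * (k : K)⁻¹ = 0 := by
      linear_combination h + 2 * h2 + h3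
    linear_combination (k : K) * (k : K) * h4 - ((k : K) * (k : K)⁻¹ + 1) * h2

/-- `z^s z`, `s` odd, is not minus a square -/
theorem chi1_not_neg_sq (hns : ∀ y : K, y * y ≠ -1) (s : ℕ) (hs : Odd s) (z y : K) (hy : y ≠ 0)
    (h : z ^ s * z = -(y * y)) : False := by
  obtain ⟨j, rfl⟩ := hs
  apply hns (z ^ (j + 1) / y)
  have e : z ^ (2 * j + 1) * z = z ^ (j + 1) * z ^ (j + 1) := by ring
  rw [e] at h
  field_simp
  linear_combination h

end FieldFacts

end Cfsg.Agent.Lib.H28.ReeMult
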