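import Mathlib
import Cfsg.Agent.Lib.H2.StemTransfer

/-!
# The 2-part of the multiplier: elementary abelian subgroups with a transitive normaliser (helper28)

If `σ : Γ → G` is a central extension whose kernel has exponent two, `T ≤ G` is an elementary abelian
2-group with at least eight elements all of whose non-identity elements are conjugate in `G`, then
the preimage of `T` is abelian.
-/

set_option autoImplicit false

namespace Cfsg.Agent.Lib.H28.ReeMult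

open scoped commutatorElement

section P2

variable {G Γ : Type*} [Group G] [Group Γ] (σ : Γ →* G)

theorem mul_central_sq {g k : Γ} (hk : k ∈ Subgroup.center Γ) :
    g * k * (g * k) = g * g * (k * k) := by
  rw [Subgroup.mem_center_iff] at hk
  calc g * k * (g * k) = g * (k * g) * k := by group
    _ = g * (g * k) * k := by rw [← hk g]
    _ = g * g * (k * k) := by group

theorem conj_central {z : Γ} (hz : z ∈ Subgroup.center Γ) (δ : Γ) : δ * z * δ⁻¹ = z := by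
  rw [Subgroup.mem_center_iff] at hz
  rw [hz δ, mul_inv_cancel_right]

theorem comap_comm_of_elem_abelian (hσ : Function.Surjective σ)
    (hc : σ.ker ≤ Subgroup.center Γ) (hk2 : ∀ k ∈ σ.ker, k * k = 1)
    (T : Subgroup G) (hT2 : ∀ t ∈ T, t * t = 1)
    (htrans : ∀ s ∈ T, ∀ t ∈ T, s ≠ 1 → t ≠ 1 → ∃ n : G, n * s * n⁻¹ = t)
    (h3 : ∃ s ∈ T, ∃ t ∈ T, ∃ r ∈ T, s ≠ 1 ∧ t ≠ 1 ∧ r ≠ 1 ∧ s ≠ t ∧ s ≠ r ∧ t ≠ r ∧ t * r ≠ s) :
    ∀ a ∈ T.comap σ, ∀ b ∈ T.comap σ, a * b = b * a := by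
  -- squares of lifts are in the kernel
  have hsq : ∀ x : Γ, σ x ∈ T → x * x ∈ σ.ker := by
    intro x hx
    rw [MonoidHom.mem_ker, map_mul]; exact hT2 _ hx
  have hinv : ∀ t ∈ T, t⁻¹ = t := fun t ht => inv_eq_of_mul_eq_one_left (hT2 t ht)
  have hTc : ∀ s ∈ T, ∀ t ∈ T, s * t = t * s := by
    intro s hs t ht
    have h1 := hinv _ (T.mul_mem hs ht)
    rw [mul_inv_rev, hinv _ hs, hinv _ ht] at h1
    exact h1.symm
  have hcomm_ker : ∀ x y : Γ, σ x ∈ T → σ y ∈ T → ⁅y, x⁆ ∈ σ.ker := by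
    intro x y hx hy
    rw [MonoidHom.mem_ker, map_commutatorElement, commutatorElement_eq_one_iff_mul_comm]
    exact hTc _ hy _ hx
  -- all lifts of non-identity elements have the same square
  have hA : ∀ x y : Γ, σ x ∈ T → σ y ∈ T → σ x ≠ 1 → σ y ≠ 1 → x * x = y * y := by
    intro x y hx hy hx1 hy1
    obtain ⟨n, hn⟩ := htrans _ hx _ hy hx1 hy1
    obtain ⟨δ, rfl⟩ := hσ n
    have hk : (δ * x * δ⁻¹)⁻¹ * y ∈ σ.ker := by
      rw [MonoidHom.mem_ker, map_mul, map_inv, map_mul, map_mul, map_inv, hn, inv_mul_cancel]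
    have hy' : y = δ * x * δ⁻¹ * ((δ * x * δ⁻¹)⁻¹ * y) := by group
    rw [hy', mul_central_sq (hc hk), hk2 _ hk, mul_one]
    have e : δ * x * δ⁻¹ * (δ * x * δ⁻¹) = δ * (x * x) * δ⁻¹ := by group
    rw [e, conj_central (hc (hsq x hx))]
  -- the square of a product
  have hprod : ∀ x y : Γ, σ x ∈ T → σ y ∈ T → x * y * (x * y) = ⁅y, x⁆ * (x * x) * (y * y) := by
    intro x y hx hy
    have hz := Subgroup.mem_center_iff.1 (hc (hcomm_ker x y hx hy))
    calc x * y * (x * y) = x * ⁅y, x⁆ * x * y * y := by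
          rw [commutatorElement_def]; group
      _ = ⁅y, x⁆ * x * x * y * y := by rw [hz x]
      _ = ⁅y, x⁆ * (x * x) * (y * y) := by group
  -- the commutator of lifts of distinct non-identity elements
  have hB : ∀ x y : Γ, σ x ∈ T → σ y ∈ T → σ x ≠ 1 → σ y ≠ 1 → σ x ≠ σ y →
      ⁅y, x⁆ * (x * x) = 1 := by
    intro x y hx hy hx1 hy1 hxy
    have hxy1 : σ (x * y) ≠ 1 := by
      rw [map_mul]
      intro h
      apply hxy
      rw [mul_eq_one_iff_eq_inv, hinv _ hy] at h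
      exact h
    have hxyT : σ (x * y) ∈ T := by rw [map_mul]; exact T.mul_mem hx hy
    have h1 := hprod x y hx hy
    rw [← hA x (x * y) hx hxyT hx1 hxy1, ← hA x y hx hy hx1 hy1] at h1
    have h2 : x * x = (⁅y, x⁆ * (x * x)) * (x * x) := h1
    exact (mul_eq_right).1 h2.symm  
  obtain ⟨s, hs, t, ht, r, hr, hs1, ht1, hr1, hst, hsr, htr, htrs⟩ := h3
  obtain ⟨a0, rfl⟩ := hσ s
  obtain ⟨b0, rfl⟩ := hσ t
  obtain ⟨c0, rfl⟩ := hσ r
  -- the common square is trivial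
  have hbc1 : σ (b0 * c0) ≠ 1 := by
    rw [map_mul]
    intro h
    apply htr
    rw [mul_eq_one_iff_eq_inv, hinv _ hr] at h
    exact h
  have hbcT : σ (b0 * c0) ∈ T := by rw [map_mul]; exact T.mul_mem ht hr
  have hbca : σ (b0 * c0) ≠ σ a0 := by rw [map_mul]; exact htrs
  have e1 := hB (b0 * c0) a0 hbcT hs hbc1 hs1 hbca
  have e2 := hB b0 a0 ht hs ht1 hs1 (Ne.symm hst)
  have e3 := hB c0 a0 hr hs hr1 hs1 (Ne.symm hsr)
  rw [← hA a0 (b0 * c0) hs hbcT hs1 hbc1] at e1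
  rw [← hA a0 b0 hs ht hs1 ht1] at e2
  rw [← hA a0 c0 hs hr hs1 hr1] at e3
  have hz := hc (hcomm_ker c0 a0 hr hs)
  have e4 : ⁅a0, b0 * c0⁆ = ⁅a0, b0⁆ * ⁅a0, c0⁆ := by
    rw [Cfsg.Agent.Lib.H2.Stem.comm_mul_right, conj_central hz]
  have hq : a0 * a0 = 1 := by
    have h5 : ⁅a0, b0⁆ * ⁅a0, c0⁆ * (a0 * a0) * (a0 * a0) = a0 * a0 := by
      rw [← e4, e1, one_mul]
    have hz' := Subgroup.mem_center_iff.1 hz
    have h6 : ⁅a0, b0⁆ * ⁅a0, c0⁆ * (a0 * a0) * (a0 * a0)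
        = (⁅a0, b0⁆ * (a0 * a0)) * (⁅a0, c0⁆ * (a0 * a0)) := by
      rw [mul_assoc ⁅a0, b0⁆ ⁅a0, c0⁆, mul_assoc ⁅a0, b0⁆ (⁅a0, c0⁆ * (a0 * a0)),
        mul_assoc ⁅a0, b0⁆ (a0 * a0)]
      congr 1
      have hsqc := Subgroup.mem_center_iff.1 (hc (hsq a0 hs))
      rw [← mul_assoc (a0 * a0), ← hsqc ⁅a0, c0⁆]
    rw [h6, e2, e3, one_mul] at h5
    exact h5.symm
  -- conclusion
  intro a ha b hb
  rw [Subgroup.mem_comap] at ha hb
  by_cases ha1 : σ a = 1
  · exact ((Subgroup.mem_center_iff.1 (hc (MonoidHom.mem_ker.2 ha1))) b).symm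
  by_cases hb1 : σ b = 1
  · exact (Subgroup.mem_center_iff.1 (hc (MonoidHom.mem_ker.2 hb1))) a
  by_cases hab : σ a = σ b
  · have hk : a⁻¹ * b ∈ σ.ker := by
      rw [MonoidHom.mem_ker, map_mul, map_inv, hab, inv_mul_cancel]
    have hkc := Subgroup.mem_center_iff.1 (hc hk)
    have e : b = a * (a⁻¹ * b) := by group
    rw [e]
    calc a * (a * (a⁻¹ * b)) = a * ((a⁻¹ * b) * a) := by rw [hkc a]
      _ = a * (a⁻¹ * b) * a := by group
  · have h7 := hB b a hb ha hb1 ha1 (Ne.symm hab)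
    rw [← hA a0 b hs hb hs1 hb1, hq, mul_one, commutatorElement_eq_one_iff_mul_comm] at h7
    exact h7

/-- three suitable elements of an elementary abelian 2-group with more than four elements -/
theorem exists_three {G : Type*} [Group G] (T : Subgroup G) (hT2 : ∀ t ∈ T, t * t = 1)
    (h : 4 < Nat.card T) :
    ∃ s ∈ T, ∃ t ∈ T, ∃ r ∈ T, s ≠ 1 ∧ t ≠ 1 ∧ r ≠ 1 ∧ s ≠ t ∧ s ≠ r ∧ t ≠ r ∧ t * r ≠ s := by
  classical
  have key : ∀ l : Finset G, l.card < Nat.card T → ∃ r ∈ T, r ∉ l := by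
    intro l hl
    by_contra hcon
    push Not at hcon
    have hsub : (T : Set G) ⊆ (l : Set G) := fun x hx => hcon x hx
    have h1 := Set.ncard_le_ncard hsub (Finset.finite_toSet l)
    rw [Set.ncard_coe_finset] at h1
    have h2 : Nat.card T = (T : Set G).ncard := (Nat.card_coe_set_eq _)
    omega
  obtain ⟨s, hs, hs1⟩ := key {1} (by rw [Finset.card_singleton]; omega)
  obtain ⟨t, ht, ht1⟩ := key {1, s} (lt_of_le_of_lt Finset.card_le_two (by omega))
  obtain ⟨r, hr, hr1⟩ := key {1, s, t, t * s} (lt_of_le_of_lt Finset.card_le_four h)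
  simp only [Finset.mem_insert, Finset.mem_singleton, not_or] at hs1 ht1 hr1
  refine ⟨s, hs, t, ht, r, hr, hs1, ht1.1, hr1.1, fun e => ht1.2 e.symm, fun e => hr1.2.1 e.symm,
    fun e => hr1.2.2.1 e.symm, ?_⟩
  intro e
  apply hr1.2.2.2
  have h3 : t * (t * r) = r := by rw [← mul_assoc, hT2 t ht, one_mul]
  rw [← h3, e]

end P2

end Cfsg.Agent.Lib.H28.ReeMult
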