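import Cfsg.Agent.Lib.H12.ReeU5
import Cfsg.Agent.Lib.H28.ReeMultE
import Cfsg.Agent.Lib.H28.ReeMultP2
import Cfsg.Agent.Lib.H28.StemTools2

/-!
# The multiplier of a Ree system is trivial: assembly (helper28)

The `p`-parts for `p > 3` (cyclic Sylow subgroups), `p = 3` (the Alperin–Gorenstein argument, `ReeMultE`)
and `p = 2` (elementary abelian Sylow 2-subgroup of order eight with a transitive normaliser).
-/

set_option autoImplicit false
set_option linter.unusedSectionVars false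
set_option linter.unusedVariables false

namespace Cfsg.Agent.Lib.H28.ReeMult

open Cfsg.Agent.Lib.H12.ReeC Cfsg.Agent.Lib.H2.Stem Cfsg.Agent.Lib.H28.StemTools
open scoped commutatorElement

universe u

/-- a kernel without elements of odd prime order is a `2`-group -/
theorem isPGroup_two_ker {G Γ : Type*} [Group G] [Group Γ] [Finite Γ] (σ : Γ →* G)
    (hodd : ∀ x ∈ σ.ker, ∀ d : ℕ, d.Prime → d ≠ 2 → x ^ d = 1 → x = 1) : IsPGroup 2 σ.ker := by
  intro g
  have hn0 : orderOf g.1 ≠ 0 := (orderOf_pos g.1).ne'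
  have hpow := Nat.eq_prime_pow_of_unique_prime_dvd (p := 2) hn0 (by
    intro d hd hdvd
    by_contra hd2
    obtain ⟨m, hm⟩ := hdvd
    have hy : (g.1 ^ m) ^ d = 1 := by
      rw [← pow_mul, mul_comm, ← hm, pow_orderOf_eq_one]
    have hy1 := hodd _ (σ.ker.pow_mem g.2 m) d hd hd2 hy
    have h1 := orderOf_dvd_of_pow_eq_one hy1
    have hmpos : 0 < m := by
      rcases Nat.eq_zero_or_pos m with h | h
      · rw [h, mul_zero] at hm
        exact absurd hm hn0
      · exact h
    have h2 := Nat.le_of_dvd hmpos h1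
    have h3 : 2 ≤ d := hd.two_le
    nlinarith)
  refine ⟨(orderOf g.1).primeFactorsList.length, ?_⟩
  apply Subtype.ext
  rw [Subgroup.coe_pow, ← hpow, pow_orderOf_eq_one]
  rfl

section Assembly

variable {G : Type u} {K : Type*} [Group G] [Field K] [Fintype K] [Finite G] (R : RSys G K)
  [Algebra (ZMod 3) K] (F : MultFacts R) {q : ℕ} (D : R.ReeData q) (hF : R.TorusFacts)
  (ρ : G →* GL (Fin 7) K) (hρ : Function.Injective ρ)

include D hF hρ in
/-- primes greater than three: the Sylow subgroups are cyclic -/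
theorem odd_part_gt_three {Γ : Type u} [Group Γ] [Finite Γ] (σ : Γ →* G)
    (hσ : Cfsg.IsStemExtension σ) {x : Γ} (hx : x ∈ σ.ker) {p : ℕ} (hp : p.Prime) (hp3 : 3 < p)
    (hxp : x ^ p = 1) : x = 1 := by
  have : Fact p.Prime := ⟨hp⟩
  let P : Sylow p G := default
  have hcyc : IsCyclic (P : Subgroup G) := RSys.ReeData.sylow_cyclic D hF ρ hρ p hp3 P
  obtain ⟨c, hc⟩ := hcyc.exists_generator
  have hz : Subgroup.zpowers (c : G) = (P : Subgroup G) := by
    apply le_antisymm
    · rw [Subgroup.zpowers_le]; exact c.2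
    · intro y hy
      obtain ⟨k, hk⟩ := Subgroup.mem_zpowers_iff.1 (hc ⟨y, hy⟩)
      rw [Subgroup.mem_zpowers_iff]
      refine ⟨k, ?_⟩
      have := congrArg Subtype.val hk
      rw [Subgroup.coe_zpow] at this
      exact this
  apply eq_one_of_cyclic σ hσ (c : G) hx hxp
  rw [hz]
  exact ((Nat.Prime.coprime_iff_not_dvd hp).2 P.not_dvd_index).symm

include F D in
/-- the prime three -/
theorem odd_part_three {Γ : Type u} [Group Γ] [Finite Γ] (σ : Γ →* G)
    (hσ : Cfsg.IsStemExtension σ) {x : Γ} (hx : x ∈ σ.ker) (hx3 : x ^ 3 = 1) : x = 1 := by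
  classical
  obtain ⟨hs, hc, hd⟩ := hσ
  have h8 := D.hq8
  have hq1 : 1 < q := by omega
  have hidx : (R.U.comap σ).index = (q - 1) * (q ^ 3 + 1) := by
    rw [Subgroup.index_comap_of_surjective _ hs, R.index_U q D.hq D.hcard hq1]
  have h1 := pow_index_mem_commutator (R.U.comap σ) (hc hx) (hd hx)
  have h2 := pow_eq_one_of_mem_commutator R σ hs hc F h1 (Subgroup.pow_mem _ (hc hx) _)
  rw [← pow_mul, hidx, D.hq] at h2
  have hcop : Nat.Coprime 3 ((q - 1) * (q ^ 3 + 1) * (q - 1)) := by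
    rw [Nat.Prime.coprime_iff_not_dvd Nat.prime_three]
    obtain ⟨j, rfl⟩ := D.h3q
    have e : (3 * j) ^ 3 = 3 * (9 * j ^ 3) := by ring
    intro hdv
    rcases (Nat.Prime.dvd_mul Nat.prime_three).mp hdv with h | h
    · rcases (Nat.Prime.dvd_mul Nat.prime_three).mp h with h | h
      · omega
      · rw [e] at h
        omega
    · omega
  have h3 := pow_gcd_eq_one.mpr ⟨hx3, h2⟩
  rw [Nat.Coprime.gcd_eq_one hcop, pow_one] at h3
  exact h3

include D in
/-- a kernel of exponent two is trivial -/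
theorem ker_eq_bot_of_exp_two {Γ : Type u} [Group Γ] [Finite Γ] (σ : Γ →* G)
    (hσ : Cfsg.IsStemExtension σ) (hk2 : ∀ k ∈ σ.ker, k ^ 2 = 1) : σ.ker = ⊥ := by
  obtain ⟨hs, hc, hd⟩ := hσ
  have : Fact (Nat.Prime 2) := ⟨Nat.prime_two⟩
  have hq : Fintype.card K % 8 = 3 := by rw [D.hq]; exact D.hq8
  obtain ⟨k, hk1, hk2'⟩ := ree_order_two_part q D.hq8
  have hN : Nat.card G = 8 * k := by rw [D.hcard, ← hk1]
  let P : Sylow 2 G := default
  obtain ⟨hP8, hP2⟩ := R.sylow_two hq k hN hk2' P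
  have hP8' : Nat.card (P : Subgroup G) = 8 := hP8
  have hP2' : ∀ t ∈ (P : Subgroup G), t * t = 1 := hP2
  have htrans : ∀ s ∈ (P : Subgroup G), ∀ t ∈ (P : Subgroup G), s ≠ 1 → t ≠ 1 →
      ∃ n : G, n * s * n⁻¹ = t := by
    intro s hs' t ht hs1 ht1
    obtain ⟨g1, hg1⟩ := R.involution_conj hq k hN hk2' D.hZ s hs1 (hP2' s hs')
    obtain ⟨g2, hg2⟩ := R.involution_conj hq k hN hk2' D.hZ t ht1 (hP2' t ht)
    refine ⟨g2 * g1⁻¹, ?_⟩
    rw [← hg1, ← hg2]; group
  have h3 := exists_three (P : Subgroup G) hP2' (by rw [hP8']; norm_num)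
  have hcomm := comap_comm_of_elem_abelian σ hs hc
    (fun k hk => by rw [← pow_two]; exact hk2 k hk) (P : Subgroup G) hP2' htrans h3
  rw [Subgroup.eq_bot_iff_forall]
  intro x hx
  have h1 := pow_index_eq_one ((P : Subgroup G).comap σ) hcomm (hc hx) (hd hx)
  rw [Subgroup.index_comap_of_surjective _ hs] at h1
  have hidx : (P : Subgroup G).index = k := by
    have := (P : Subgroup G).index_mul_card
    rw [hP8', hN] at this
    omega
  rw [hidx] at h1
  have h2 := pow_gcd_eq_one.mpr ⟨hk2 x hx, h1⟩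
  rw [Nat.Coprime.gcd_eq_one ((Nat.Prime.coprime_iff_not_dvd Nat.prime_two).2 hk2'), pow_one] at h2
  exact h2

include F D hF hρ in
/-- **every finite stem extension of a Ree system is an isomorphism** -/
theorem stem_ker_eq_bot (Γ : Type u) [Group Γ] [Finite Γ] (σ : Γ →* G)
    (hσ : Cfsg.IsStemExtension σ) : σ.ker = ⊥ := by
  by_contra hne
  have hodd : ∀ x ∈ σ.ker, ∀ d : ℕ, d.Prime → d ≠ 2 → x ^ d = 1 → x = 1 := by
    intro x hx d hd hd2 hxd
    rcases lt_trichotomy d 3 with h | h | h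
    · have := hd.two_le
      omega
    · subst h
      exact odd_part_three R F D σ hσ hx hxd
    · exact odd_part_gt_three R D hF ρ hρ σ hσ hx hd h hxd
  have hp2 : IsPGroup 2 σ.ker := isPGroup_two_ker σ hodd
  obtain ⟨Γ', _, _, σ', hσ', h2⟩ := exists_stem_card_two σ hσ hne hp2
  have hk2 : ∀ k ∈ σ'.ker, k ^ 2 = 1 := by
    intro k hk
    have h := pow_card_eq_one' (G := ↥σ'.ker) (x := ⟨k, hk⟩)
    rw [h2] at h
    exact congrArg Subtype.val h
  have h := ker_eq_bot_of_exp_two R D σ' hσ' hk2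
  rw [h, Subgroup.card_bot] at h2
  omega

end Assembly

end Cfsg.Agent.Lib.H28.ReeMult
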