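import Cfsg.Agent.Lib.H12.ReeT8
import Cfsg.Agent.Lib.H12.ReeR1
import Cfsg.Agent.Lib.H20.Schur
import Cfsg.Agent.Lib.H28.ReeMultF
import Cfsg.Agent.Lib.H28.ReeMultG

/-!
# The Schur multiplier of the Ree groups `²G₂(q)`, `q = 3^(2m+1) ≥ 27`, is trivial (helper28)
-/

set_option autoImplicit false
set_option linter.unusedSectionVars false
set_option linter.unusedVariables false

namespace Cfsg.Agent.Lib.H28.ReeMult

open Cfsg.Lie Cfsg.Agent.Lib.H29.Chev Cfsg.Agent.Lib.H12.ReeC Cfsg.Agent.Lib.H12.QuadRee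

universe u

section Concrete

variable {K : Type u} [Field K] [CharP K 3] [Fintype K]

/-- the facts on the field for the concrete Ree system -/
theorem reeRSys_multFacts [Algebra (ZMod 3) K] {m : ℕ} (hm : 1 ≤ m)
    (hK : Fintype.card K = 3 ^ (2 * m + 1)) : MultFacts (reeRSys m hK) := by
  have h3 : (3 : K) = 0 := (reeRSys m hK).three
  have hns : ∀ y : K, y * y ≠ -1 := nonsq_neg_one m hK
  have h27 := card_ge m hm hK
  obtain ⟨k, hk⟩ := exists_unit_orderOf (K := K)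
  have hσ : ∀ z : K, (reeRSys m hK).σ z = z ^ 3 ^ (m + 1) := fun z => sig_pow m z
  refine ⟨?_, ?_, ?_, ?_, ?_⟩
  · intro t ht
    obtain ⟨z, hz⟩ := exists_zX m hK t⁻¹ (inv_ne_zero ht)
    refine ⟨z, ?_⟩
    have e : (reeRSys m hK).σ (z : K) = reeSig K m (z : K) := rfl
    rw [e]
    have h1 : reeSig K m (z : K) * (z : K) ^ 2 * t⁻¹ * t = 1 * t := by rw [hz]
    rw [one_mul, mul_assoc, inv_mul_cancel₀ ht, mul_one] at h1
    exact h1
  · intro y hy
    obtain ⟨z, hz⟩ := (reeRSys m hK).chi_surj (y * y) (mul_ne_zero hy hy)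
    refine ⟨z, ?_⟩
    rcases hz with hz | hz
    · exact hz
    · exfalso
      rw [hσ] at hz
      exact chi1_not_neg_sq hns (3 ^ (m + 1)) (Odd.pow (by decide)) (z : K) y hy hz
  · refine ⟨k, ?_⟩
    intro e he
    rw [finrank_zmod_three (2 * m + 1) hK] at he
    rw [hσ]
    exact weight_fact m hm hK k hk e he
  · obtain ⟨h1, h2, h3'⟩ := kappa_fact k hk h27
    exact ⟨(k : K), h1, h2, h3'⟩
  · exact sq_fact h3 hns k hk h27

/-- every finite stem extension of `²G₂(q)`, `q ≥ 27`, is an isomorphism -/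
theorem ree_stem_ker_eq_bot {m : ℕ} (hm : 1 ≤ m) (hK : Fintype.card K = 3 ^ (2 * m + 1))
    (Γ : Type u) [Group Γ] [Finite Γ] (σ : Γ →* ↥(twistedG2 K (3 ^ m)))
    (hσ : Cfsg.IsStemExtension σ) : σ.ker = ⊥ := by
  let _ : Algebra (ZMod 3) K := ZMod.algebra K 3
  have hfin : Finite ↥(twistedG2 K (3 ^ m)) := inferInstance
  obtain ⟨ρ, hρ⟩ := Cfsg.Agent.Lib.H12.ReeR.exists_faithful7 m hm hK
  exact stem_ker_eq_bot (reeRSys m hK) (reeRSys_multFacts hm hK) (reeRSys_data hm hK)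
    (reeRSys_torusFacts m hK) ρ hρ Γ σ hσ

end Concrete

/-- **the Schur multiplier of `²G₂(q)`, `q = 3^(2m+1)`, `m ≥ 1`, is trivial** -/
theorem hasMult_ree {K : Type u} [Field K] [Fintype K] {m : ℕ} (hm : 1 ≤ m)
    (hK : Fintype.card K = 3 ^ (2 * m + 1)) :
    Cfsg.HasCyclicSchurMultiplier ↥(Cfsg.Lie.twistedG2 K (3 ^ m)) 1 := by
  have : CharP K 3 := charP_of_card_pow 3 (2 * m + 1) (by norm_num) hK
  have hfin : Finite ↥(twistedG2 K (3 ^ m)) := inferInstance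
  exact Cfsg.Agent.Lib.H20.hasCyclicSchurMultiplier_one_of_ker
    (fun Γ _ _ σ hσ => ree_stem_ker_eq_bot hm hK Γ σ hσ)

end Cfsg.Agent.Lib.H28.ReeMult
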