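import Mathlib
import Cfsg.Prelude.Def_Spor_Ru

set_option autoImplicit false

namespace Cfsg.Agent.Lib.H28
namespace RuL

open Cfsg.Spor

/-- The Hermitian product on coordinate vectors. -/
def herm (x y : RuVec) : GaussianInt := ∑ p, x p * star (y p)

theorem herm_add_left (x x' y : RuVec) : herm (x + x') y = herm x y + herm x' y := by
  simp only [herm, Pi.add_apply, add_mul, Finset.sum_add_distrib]

theorem herm_add_right (x y y' : RuVec) : herm x (y + y') = herm x y + herm x y' := by
  simp only [herm, Pi.add_apply, star_add, mul_add, Finset.sum_add_distrib]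

theorem herm_smul_left (c : GaussianInt) (x y : RuVec) : herm (c • x) y = c * herm x y := by
  simp only [herm, Pi.smul_apply, smul_eq_mul, Finset.mul_sum, mul_assoc]

theorem herm_smul_right (c : GaussianInt) (x y : RuVec) :
    herm x (c • y) = star c * herm x y := by
  simp only [herm, Pi.smul_apply, smul_eq_mul, Finset.mul_sum, star_mul]
  refine Finset.sum_congr rfl fun p _ => ?_
  ring

theorem herm_zero_left (y : RuVec) : herm 0 y = 0 := by
  simp [herm]

theorem herm_zero_right (x : RuVec) : herm x 0 = 0 := by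
  simp [herm]

theorem re_sum {ι : Type*} (s : Finset ι) (f : ι → GaussianInt) :
    (∑ i ∈ s, f i).re = ∑ i ∈ s, (f i).re := by
  classical
  induction s using Finset.induction_on with
  | empty => simp
  | insert a s ha ih => rw [Finset.sum_insert ha, Finset.sum_insert ha, Zsqrtd.re_add, ih]

theorem norm_add_gi (a b : GaussianInt) :
    (a + b).norm = a.norm + b.norm + 2 * (a * star b).re := by
  simp only [Zsqrtd.norm_def, Zsqrtd.re_add, Zsqrtd.im_add, Zsqrtd.re_mul, Zsqrtd.re_star,
    Zsqrtd.im_star]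
  ring

theorem ruNorm_add (x y : RuVec) :
    ruNorm (x + y) = ruNorm x + ruNorm y + 2 * (herm x y).re := by
  simp only [ruNorm, herm, re_sum, Pi.add_apply, norm_add_gi, Finset.sum_add_distrib,
    Finset.mul_sum]

theorem ruNorm_smul (c : GaussianInt) (x : RuVec) : ruNorm (c • x) = c.norm * ruNorm x := by
  simp only [ruNorm, Pi.smul_apply, smul_eq_mul, Zsqrtd.norm_mul, Finset.mul_sum]

theorem ruNorm_zero : ruNorm (0 : RuVec) = 0 := by
  simp [ruNorm]

theorem ruNorm_nonneg (x : RuVec) : 0 ≤ ruNorm x :=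
  Finset.sum_nonneg fun p _ => Zsqrtd.norm_nonneg (by norm_num) _

/-- `(4 : ℤ[i]) ∣ z` in terms of the coordinates. -/
theorem four_dvd_iff (z : GaussianInt) : (4 : GaussianInt) ∣ z ↔ (4 : ℤ) ∣ z.re ∧ (4 : ℤ) ∣ z.im := by
  have h := Zsqrtd.intCast_dvd (d := -1) 4 z
  simpa using h

/-- The submodule of vectors all of whose entries are divisible by 4. -/
def M4 : Submodule GaussianInt RuVec where
  carrier := {x | ∀ p, (4 : GaussianInt) ∣ x p}
  zero_mem' := fun p => dvd_zero _
  add_mem' := fun hx hy p => dvd_add (hx p) (hy p)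
  smul_mem' := fun c _ hx p => Dvd.dvd.mul_left (hx p) c

theorem mem_M4 {x : RuVec} : x ∈ M4 ↔ ∀ p, (4 : GaussianInt) ∣ x p := Iff.rfl

theorem herm_M4_left {x y : RuVec} (hx : x ∈ M4) : (4 : GaussianInt) ∣ herm x y :=
  Finset.dvd_sum fun p _ => Dvd.dvd.mul_right (hx p) _

theorem herm_M4_right {x y : RuVec} (hy : y ∈ M4) : (4 : GaussianInt) ∣ herm x y := by
  refine Finset.dvd_sum fun p _ => Dvd.dvd.mul_left ?_ _
  obtain ⟨w, hw⟩ := hy p
  refine ⟨star w, ?_⟩
  rw [hw, star_mul']
  congr 1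

theorem ruNorm_M4 {x : RuVec} (hx : x ∈ M4) : (16 : ℤ) ∣ ruNorm x := by
  refine Finset.dvd_sum fun p _ => ?_
  obtain ⟨w, hw⟩ := hx p
  rw [hw, Zsqrtd.norm_mul]
  exact Dvd.dvd.mul_right (by decide) _

end RuL
end Cfsg.Agent.Lib.H28
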