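import Cfsg.Agent.Lib.H28.RuFacts

set_option autoImplicit false

namespace Cfsg.Agent.Lib.H28
namespace RuL

open Cfsg.Spor

/-- Inverse of `idx`. -/
def unidx (k : Nat) : RuIdx := (⟨k / 4 % 7, Nat.mod_lt _ (by decide)⟩, ⟨k % 4, Nat.mod_lt _ (by decide)⟩)

/-- Reduction of `uVec j` modulo `1 + i`. -/
def hbit (j : Fin 19) (p : RuIdx) : ZMod 2 :=
  if ((uVec j p).re + (uVec j p).im) % 2 = 0 then 0 else 1

def Gs1 (p : RuIdx) (f : Fin 9) : ZMod 2 := bitAt gs1Data (idx p) f.val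
def K1 (p : RuIdx) (j : Fin 19) : ZMod 2 := bitAt k1Data (idx p) j.val
def free1 (f : Fin 9) : RuIdx := unidx (free1Data.getD f.val 0)
def Gs2 (p : RuIdx) (f : Fin 10) : ZMod 2 := bitAt gs2Data (idx p) f.val
def K2 (p : RuIdx) (j : Fin 18) : ZMod 2 := bitAt k2Data (idx p) j.val
def free2 (f : Fin 10) : RuIdx := unidx (free2Data.getD f.val 0)

/-- Embedding of the first 18 check indices. -/
def up18 (j : Fin 18) : Fin 19 := ⟨j.val, by omega⟩

set_option maxRecDepth 100000 in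
theorem ident1 : ∀ p p' : RuIdx,
    (∑ f : Fin 9, Gs1 p f * (if p' = free1 f then 1 else 0)) + (∑ j : Fin 19, K1 p j * hbit j p')
      = if p = p' then 1 else 0 := by
  decide +kernel

set_option maxRecDepth 100000 in
theorem ident2 : ∀ p p' : RuIdx,
    (∑ f : Fin 10, Gs2 p f * (if p' = free2 f then 1 else 0)) +
      (∑ j : Fin 18, K2 p j * hbit (up18 j) p')
      = if p = p' then 1 else 0 := by
  decide +kernel

/-- Weight of a binary vector. -/
def wt (a : RuIdx → ZMod 2) : ℕ := ∑ p, (a p).val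

/-- The binary word supported on the quaternion component `n`. -/
def cw (n : Fin 7) : RuIdx → ZMod 2 := fun p => if p.1 = n then 1 else 0

set_option maxRecDepth 100000 in
theorem enum1 : ∀ s0 s1 s2 s3 s4 s5 s6 s7 s8 : ZMod 2,
    (∀ p, (∑ f : Fin 9, Gs1 p f * ![s0, s1, s2, s3, s4, s5, s6, s7, s8] f) = 0) ∨
    12 ≤ wt (fun p => ∑ f : Fin 9, Gs1 p f * ![s0, s1, s2, s3, s4, s5, s6, s7, s8] f) ∨
    ∃ n m : Fin 7, n ≠ m ∧ ∀ p, (∑ f : Fin 9, Gs1 p f * ![s0, s1, s2, s3, s4, s5, s6, s7, s8] f)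
      = cw n p + cw m p := by
  decide +kernel

set_option maxRecDepth 100000 in
theorem enum2 : ∀ s0 s1 s2 s3 s4 s5 s6 s7 s8 s9 : ZMod 2,
    (∀ p, (∑ f : Fin 10, Gs2 p f * ![s0, s1, s2, s3, s4, s5, s6, s7, s8, s9] f) = 0) ∨
    8 ≤ wt (fun p => ∑ f : Fin 10, Gs2 p f * ![s0, s1, s2, s3, s4, s5, s6, s7, s8, s9] f) ∨
    ∃ n : Fin 7, ∀ p, (∑ f : Fin 10, Gs2 p f * ![s0, s1, s2, s3, s4, s5, s6, s7, s8, s9] f)
      = cw n p := by
  decide +kernel

set_option maxRecDepth 100000 in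
theorem col4 : ∀ p : RuIdx, ∃ j : Fin 19, j.val < 9 ∧ hbit j p = 1 := by
  decide +kernel

set_option maxRecDepth 100000 in
theorem col3 : ∀ p q : RuIdx, p ≠ q → ∃ j : Fin 19, j.val < 10 ∧ hbit j p ≠ hbit j q := by
  decide +kernel

theorem vv_fact : ∀ j : Fin 19, (j.val < 18 → vv j ≤ 2) ∧ (j.val < 10 → vv j ≤ 1) ∧
    (j.val < 9 → vv j = 0) ∧ vv j ≤ 3 := by
  decide +kernel

/-- A vector with unit entries `i ^ e t` on the component `c` and zero elsewhere. -/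
def uvec (c : Fin 7) (e : Fin 4 → Fin 4) : RuVec := fun p => if p.1 = c then gI ^ (e p.2).val else 0

set_option maxRecDepth 100000 in
theorem bf_two : ∀ (c : Fin 7) (e0 e1 e2 e3 : Fin 4), ∃ j : Fin 19,
    ¬ Dvd4 (herm ((2 : GaussianInt) • uvec c ![e0, e1, e2, e3]) (bVec j)) := by
  decide +kernel

set_option maxRecDepth 100000 in
theorem bf_pi : ∀ (c : Fin 7) (e0 e1 e2 e3 : Fin 4), ∃ j : Fin 19,
    ¬ Dvd4 (herm (gpi • uvec c ![e0, e1, e2, e3]) (bVec j)) := by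
  decide +kernel

end RuL
end Cfsg.Agent.Lib.H28
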