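import Mathlib
import Cfsg.Prelude.Def_Spor_Ru

set_option autoImplicit false

namespace Cfsg.Agent.Lib.H28
namespace RuL

open Cfsg.Spor

/-- Linear index of a coordinate. -/
def idx (p : RuIdx) : Nat := 4 * p.1.val + p.2.val

/-- Entry lookup in a table of Gaussian integers given as pairs. -/
def entry (l : List (List (Int × Int))) (j : Nat) (k : Nat) : GaussianInt :=
  let e := (l.getD j []).getD k (0, 0)
  ⟨e.1, e.2⟩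

/-- Bit lookup in a table of bit masks. -/
def bitAt (l : List Nat) (j : Nat) (k : Nat) : ZMod 2 :=
  if (l.getD j 0).testBit k then 1 else 0

def uData : List (List (Int × Int)) :=
  [[(1, 0), (1, 0), (1, 0), (0, -1), (-1, 0), (0, 1), (0, -1), (0, 1), (0, 0), (0, 0), (0, 0), (0, 0), (0, 0), (0, 0), (0, 0), (0, 0), (0, 1), (0, 1), (-1, 0), (0, -1), (0, 0), (0, 0), (0, 0), (0, 0), (-1, 0), (0, 1), (-1, 0), (-1, 0)],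
  [(0, 0), (0, 1), (0, 1), (1, 1), (0, -1), (-1, 0), (0, 0), (-1, 1), (1, 0), (0, -1), (0, 0), (0, 0), (0, 0), (-1, 0), (0, 0), (0, -1), (0, 0), (-1, 0), (0, -1), (1, 1), (0, 0), (1, 0), (0, 0), (1, 0), (0, 0), (-1, 1), (-1, -1), (1, -1)],
  [(0, 0), (0, 0), (0, -1), (-1, 0), (0, 0), (1, 1), (1, 0), (-2, -1), (-1, 0), (0, 0), (-1, 0), (0, 0), (0, 0), (1, 0), (0, -1), (-1, 1), (0, 0), (1, 0), (-1, 1), (0, -1), (0, 0), (-2, 0), (0, 0), (-1, 1), (1, 0), (1, -1), (1, 1), (-1, 0)],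
  [(0, 0), (0, 0), (0, 0), (0, -2), (1, 0), (0, -1), (-1, 0), (-1, 0), (1, -2), (0, -1), (0, 1), (0, 1), (0, 1), (-1, 0), (-1, 0), (1, 0), (0, 0), (0, -2), (1, 1), (-1, 1), (0, 1), (1, -2), (0, -1), (-2, 1), (0, 0), (-2, 0), (-1, -1), (1, 1)],
  [(0, 0), (0, 0), (0, 0), (-1, -1), (0, 0), (0, -1), (-1, -2), (-2, 0), (-2, 1), (1, 0), (0, 0), (-1, -1), (-1, 0), (-1, -2), (0, 0), (1, 1), (0, -1), (0, 0), (1, 0), (-1, -1), (-1, 0), (0, -2), (-2, 0), (0, 1), (0, 0), (0, -1), (0, -2), (0, 1)],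
  [(0, 0), (0, 0), (0, 0), (-2, 0), (0, 0), (0, 0), (-1, 1), (1, 1), (0, 1), (0, -1), (-1, 0), (-2, 1), (0, 1), (0, 1), (0, -1), (1, 0), (-2, 0), (-2, 0), (-1, -1), (-1, -1), (0, 1), (1, 0), (0, 1), (0, 1), (1, 0), (0, -1), (0, 1), (0, -1)],
  [(0, 0), (0, 0), (0, 0), (0, -2), (0, 0), (0, 0), (1, 1), (-1, 1), (0, 0), (-1, 1), (-2, -2), (-1, 1), (0, -1), (0, 1), (-2, 1), (1, 0), (-1, 1), (0, 0), (-1, -1), (-2, -2), (1, -1), (0, 0), (-2, 0), (-1, 1), (-2, -1), (1, -2), (-2, -1), (0, -1)],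
  [(0, 0), (0, 0), (0, 0), (-2, 0), (0, 0), (0, 0), (-2, -2), (0, -2), (0, 0), (-1, -1), (-2, -2), (1, 1), (0, 0), (-2, -2), (-2, -2), (-2, -2), (-2, -1), (-2, -1), (1, 0), (-2, 1), (-1, 1), (-1, -1), (-2, 0), (-2, -2), (-2, 1), (1, 0), (-2, 1), (0, -1)],
  [(0, 0), (0, 0), (0, 0), (-2, -2), (0, 0), (0, 0), (-2, -2), (-2, 0), (0, 0), (-1, 1), (-1, -1), (0, -2), (0, 0), (0, 0), (-2, 0), (0, -2), (0, 0), (-2, 0), (1, -1), (1, -1), (-1, 0), (0, 1), (1, -2), (-1, 0), (-1, -2), (-1, 0), (-1, 0), (-2, 1)],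
  [(0, 0), (0, 0), (0, 0), (-1, 1), (0, 0), (0, 0), (-1, -1), (0, 0), (0, 0), (-1, 1), (-1, 1), (-1, -1), (0, 0), (-2, 0), (0, 0), (-1, -1), (0, 0), (-1, 1), (0, 0), (-2, 0), (0, 0), (-1, -1), (-1, 1), (-1, 1), (1, 0), (0, 1), (0, 1), (1, 0)],
  [(0, 0), (0, 0), (0, 0), (0, 0), (0, 0), (0, 0), (0, 1), (0, 1), (0, 0), (0, 0), (-1, 0), (-1, 0), (0, 0), (-1, 1), (-1, 0), (-1, 0), (0, 0), (-1, 0), (-1, 1), (0, 1), (0, 0), (-1, 0), (0, 0), (0, 1), (0, 0), (-1, 1), (0, 0), (-1, 1)],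
  [(0, 0), (0, 0), (0, 0), (-1, 1), (0, 0), (0, 0), (0, 0), (0, 0), (0, 0), (-1, 0), (0, 1), (0, 0), (0, 0), (-1, 1), (0, 0), (-1, 1), (0, 0), (0, 1), (0, 1), (-1, 1), (0, 0), (0, 0), (0, 1), (-1, 0), (0, 0), (0, 1), (-1, 0), (-1, 1)],
  [(0, 0), (0, 0), (0, 0), (0, 0), (0, 0), (0, 0), (0, 0), (0, 0), (0, 0), (0, 0), (0, 1), (-1, 0), (0, 0), (0, 0), (0, 0), (-1, 1), (0, 0), (-1, 1), (-1, 0), (0, 1), (0, 0), (-1, 0), (-1, 0), (0, 0), (0, 0), (-1, 0), (0, 1), (-1, 1)],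
  [(0, 0), (0, 0), (0, 0), (-1, 1), (0, 0), (0, 0), (0, 0), (-1, 1), (0, 0), (0, 0), (0, 0), (0, 0), (0, 0), (0, 1), (0, 0), (-1, 0), (0, 0), (-1, 1), (-1, 0), (-1, 0), (0, 0), (0, 0), (-1, 0), (0, 1), (0, 0), (-1, 0), (0, 1), (0, 0)],
  [(0, 0), (0, 0), (0, 0), (-1, 1), (0, 0), (0, 0), (0, 0), (-1, 1), (0, 0), (0, 0), (0, 0), (-1, 1), (0, 0), (0, 0), (0, 1), (0, 1), (0, 0), (0, 0), (-1, 0), (0, 1), (0, 0), (0, 0), (-1, 1), (0, 0), (0, 0), (0, 1), (-1, 0), (0, 0)],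
  [(0, 0), (0, 0), (0, 0), (0, 0), (0, 0), (0, 0), (0, 0), (0, 0), (0, 0), (0, 0), (0, 0), (0, 0), (0, 0), (0, 0), (0, 0), (-1, 1), (0, 0), (-1, 0), (-1, 0), (-1, 1), (0, 0), (0, 0), (0, 0), (0, 0), (0, 0), (0, 0), (0, 1), (0, 1)],
  [(0, 0), (0, 0), (0, 0), (-1, 1), (0, 0), (0, 0), (0, 0), (0, 0), (0, 0), (0, 0), (0, 0), (0, 0), (0, 0), (0, 0), (0, 0), (-1, 1), (0, 0), (0, 0), (0, 1), (0, 1), (0, 0), (0, 1), (-1, 0), (-1, 1), (0, 0), (-1, 1), (-1, 0), (0, 1)],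
  [(0, 0), (0, 0), (0, 0), (0, 0), (0, 0), (0, 0), (0, 0), (-1, 1), (0, 0), (0, 0), (0, 0), (0, 0), (0, 0), (0, 0), (0, 0), (0, 0), (0, 0), (0, 0), (0, 0), (0, 0), (0, 0), (0, 1), (-1, 1), (0, 1), (0, 0), (0, 1), (0, 1), (0, 0)],
  [(0, 0), (0, 0), (0, 0), (0, 1), (0, 0), (0, 0), (0, 0), (0, 1), (0, 0), (0, 0), (0, 0), (0, 1), (0, 0), (0, 0), (0, 0), (0, 1), (0, 0), (0, 0), (0, 0), (0, 1), (0, 0), (0, 0), (0, 0), (0, 1), (0, 0), (0, 0), (0, 0), (0, 1)]]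

def vData : List Nat := [0, 0, 0, 0, 0, 0, 0, 0, 0, 1, 2, 2, 2, 2, 2, 2, 2, 2, 3]

def tblCoef : List (List (Int × Int)) :=
  [[(0, 0), (0, 0), (0, 0), (0, 0), (0, 0), (0, 0), (0, 0), (0, 0), (0, 0), (0, 0), (0, 0), (0, 0), (0, 0), (0, 0), (0, 0), (0, 0), (0, 0), (0, 0), (0, 0)],
  [(0, -1), (1, -1), (0, 0), (1, 0), (0, 0), (-1, -2), (0, -1), (1, -2), (1, -2), (-1, -1), (0, -1), (-1, -1), (0, 0), (0, 0), (0, 0), (-1, -1), (0, -1), (0, 0), (0, 0)],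
  [(0, -1), (1, -1), (0, -2), (1, 0), (-2, -2), (-1, 0), (-2, -1), (1, -2), (-1, -2), (-1, 1), (-1, -1), (0, -1), (0, 0), (-1, -1), (0, 0), (-1, 0), (-1, 0), (-1, -1), (0, 0)],
  [(0, -1), (1, 1), (0, -2), (-1, 0), (-2, -2), (1, -2), (-2, 1), (-1, 0), (-1, 0), (-1, -1), (-1, 0), (0, -1), (-1, -1), (0, 0), (0, 0), (-1, 0), (-1, -1), (0, -1), (0, 0)],
  [(0, -1), (1, 1), (0, 0), (-1, 0), (0, 0), (1, 0), (0, 1), (-1, 0), (1, 0), (-1, 1), (0, 0), (-1, -1), (-1, -1), (-1, -1), (0, 0), (-1, -1), (0, 0), (-1, 0), (0, 0)],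
  [(1, 0), (0, 0), (0, 0), (-2, 0), (-1, 0), (1, -1), (-1, -2), (1, -2), (0, 1), (-1, 1), (-1, -1), (0, 0), (0, -1), (0, 0), (-1, 0), (-1, 0), (-1, 0), (0, -1), (0, 0)],
  [(1, 0), (0, 0), (0, 0), (1, 0), (0, -1), (0, -2), (-2, 1), (-2, 0), (0, -1), (0, -1), (0, -1), (0, -1), (0, -1), (0, 0), (-1, -1), (0, 0), (0, 0), (0, -1), (0, 0)],
  [(1, 0), (0, 0), (0, 0), (1, 0), (-1, 0), (-1, -1), (-1, -2), (-1, 1), (-1, 0), (-1, -1), (0, -1), (-1, -1), (-1, 0), (-1, -1), (-1, 0), (-1, 0), (-1, 0), (0, -1), (0, 0)],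
  [(1, 0), (0, 0), (0, -2), (1, 0), (-2, -1), (0, -2), (-2, -1), (-1, 0), (-2, -2), (-2, 0), (-1, -1), (-1, 0), (0, -1), (-1, -1), (0, 0), (-1, 0), (0, 0), (-1, -1), (0, 0)],
  [(1, 0), (0, 0), (0, -2), (1, 0), (-1, -2), (1, 1), (-1, 0), (-1, 0), (0, 0), (0, 1), (-1, -1), (-1, -1), (0, 0), (-1, -1), (0, -1), (-1, 0), (-1, -1), (0, -1), (-1, 0)],
  [(1, 0), (0, 0), (0, -2), (-2, 0), (1, -2), (0, -2), (0, -1), (-1, -1), (-2, -2), (0, -1), (-1, -1), (0, 0), (0, 0), (-1, 0), (0, 0), (0, -1), (-1, -1), (-1, 0), (0, 0)],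
  [(1, 0), (0, 0), (0, -2), (1, -1), (-2, -1), (1, -1), (-1, 0), (0, -2), (0, -2), (0, 0), (-1, 0), (0, 0), (0, -1), (-1, -1), (-1, 0), (0, 0), (0, 0), (0, 0), (0, 0)],
  [(1, 0), (0, -2), (0, -2), (-1, -1), (-2, -1), (-1, -2), (-1, -1), (1, -1), (-1, -2), (-1, -1), (0, -1), (0, -1), (0, -1), (0, 0), (0, 0), (-1, 0), (-1, 0), (-1, -1), (0, 0)],
  [(1, 0), (0, -2), (0, -2), (-2, 0), (-1, -2), (1, -2), (1, 1), (-2, -2), (-2, 1), (-1, 0), (-1, -1), (0, 0), (-1, -1), (-1, 0), (0, -1), (-1, -1), (0, 0), (-1, -1), (-1, 0)],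
  [(1, 0), (0, -2), (0, -2), (-1, 0), (1, -2), (1, -2), (1, -1), (-1, -2), (0, 1), (1, 0), (0, -1), (-1, 0), (0, 0), (0, -1), (0, -1), (0, -1), (0, 0), (0, -1), (0, 0)],
  [(1, 0), (0, -2), (0, -2), (-1, 0), (-2, -1), (1, 0), (1, -1), (1, -2), (-1, -2), (-1, 1), (0, -1), (0, -1), (0, -1), (0, -1), (0, 0), (-1, 0), (0, -1), (-1, 0), (0, 0)],
  [(1, 0), (0, -2), (0, 0), (-1, 0), (-1, 0), (0, 1), (0, 0), (0, 0), (1, -1), (0, 0), (0, 0), (0, -1), (-1, 0), (0, -1), (0, -1), (-1, -1), (-1, -1), (-1, 0), (0, 0)],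
  [(1, 0), (0, -2), (0, 0), (-1, 0), (0, -1), (-2, 1), (-2, 0), (-1, 1), (1, 1), (0, -1), (0, 0), (-1, 0), (0, -1), (-1, 0), (0, -1), (-1, 0), (0, -1), (0, 0), (-1, 0)],
  [(1, 0), (0, -2), (0, 0), (-1, -1), (0, 1), (-1, 0), (1, -1), (-1, 0), (-2, -2), (0, -1), (-1, 0), (0, -1), (0, -1), (0, -1), (-1, -1), (0, -1), (0, -1), (0, -1), (0, 0)],
  [(1, 0), (0, -2), (0, 0), (0, 0), (-1, 0), (-1, -2), (-1, 1), (1, 0), (-2, -2), (0, 0), (0, 0), (-1, -1), (0, -1), (0, 0), (0, 0), (-1, 0), (-1, -1), (0, 0), (0, 0)]]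

def cRjData : List (List (Int × Int)) :=
  [[(0, 1), (0, 0), (-2, 0), (-1, 1), (0, -2), (1, 1), (-2, -2), (-2, 0), (0, 0), (-1, 1), (0, -1), (-1, -1), (-1, -1), (-1, -1), (-1, -1), (-1, 0), (0, -1), (-1, 0), (-1, 0)],
  [(-1, 0), (0, -1), (-1, 1), (0, -1), (0, 0), (-1, -2), (0, 1), (1, 1), (-2, -1), (-2, 0), (0, -1), (0, -1), (0, 0), (0, -1), (0, 0), (0, -1), (0, 0), (-1, -1), (0, 0)],
  [(0, 0), (0, 0), (0, -1), (-1, 1), (0, -2), (0, -1), (0, 0), (1, 0), (-1, 0), (-1, 1), (-1, 0), (0, -1), (0, -1), (0, -1), (0, -1), (0, 0), (-1, -1), (-1, 0), (0, 0)],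
  [(0, 0), (0, 0), (-2, 0), (1, 0), (0, -2), (-2, 0), (-2, 0), (-2, -2), (0, -2), (-1, 1), (0, 0), (0, 0), (0, 0), (-1, -1), (-1, -1), (-1, -1), (-1, -1), (-1, -1), (-1, 0)],
  [(0, 0), (0, 0), (1, -1), (1, 0), (-1, -2), (-1, 0), (-1, 1), (-1, -2), (-2, 1), (-1, 1), (0, 0), (0, -1), (0, -1), (0, -1), (0, 0), (0, 0), (-1, -1), (-1, 0), (0, 0)],
  [(0, 0), (0, 0), (0, -2), (0, 0), (-2, -2), (0, 1), (-2, -2), (-2, -2), (1, 1), (0, 0), (0, -1), (-1, -1), (-1, 0), (-1, 0), (0, 0), (0, 0), (-1, -1), (0, -1), (-1, 0)],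
  [(0, 0), (0, 0), (-2, 0), (0, 0), (-2, -2), (1, 1), (-1, -2), (-1, -1), (0, -2), (0, 0), (0, -1), (-1, 0), (-1, -1), (0, -1), (-1, 0), (0, 0), (-1, -1), (0, -1), (0, 0)],
  [(0, 0), (0, 0), (0, -2), (0, 0), (-2, -2), (-1, 1), (-1, 1), (-2, 1), (1, 1), (-2, 0), (-1, -1), (-1, 0), (-1, -1), (0, -1), (0, -1), (0, -1), (0, -1), (-1, -1), (0, 0)],
  [(0, 0), (0, 0), (-2, -2), (0, 0), (0, 0), (1, -1), (1, -1), (-2, -2), (-2, -1), (-2, 0), (0, -1), (0, -1), (0, -1), (0, 0), (-1, 0), (0, -1), (0, -1), (-1, 0), (-1, 0)],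
  [(0, 0), (0, 0), (0, -2), (0, 0), (-2, -2), (-2, -2), (-2, -2), (0, -2), (0, -2), (0, -1), (0, 0), (-1, 0), (-1, -1), (-1, 0), (-1, -1), (-1, -1), (0, -1), (-1, 0), (-1, 0)],
  [(0, 0), (0, 0), (0, 0), (0, 0), (0, 0), (0, 0), (-2, -2), (0, -2), (0, -2), (-2, 0), (-1, 0), (0, 0), (-1, -1), (0, 0), (-1, -1), (-1, -1), (0, 0), (-1, -1), (0, 0)],
  [(0, 0), (0, 0), (-2, -2), (0, 0), (0, 0), (-2, 0), (0, -2), (0, -2), (0, -2), (-1, -1), (0, 0), (-1, 0), (-1, -1), (-1, -1), (-1, -1), (0, 0), (0, 0), (-1, -1), (-1, 0)],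
  [(0, 0), (0, 0), (0, 0), (0, 0), (0, 0), (0, 0), (0, 0), (-2, -2), (-2, 0), (-2, 0), (0, 0), (-1, -1), (0, -1), (0, 0), (-1, -1), (-1, -1), (-1, -1), (0, 0), (0, 0)],
  [(0, 0), (0, 0), (-2, -2), (0, 0), (0, 0), (-2, -2), (0, -2), (0, 0), (0, 0), (0, 0), (-1, -1), (0, 0), (-1, -1), (-1, 0), (0, 0), (-1, -1), (-1, -1), (0, 0), (0, 0)],
  [(0, 0), (0, 0), (-2, -2), (0, 0), (0, 0), (-2, -2), (-2, -2), (0, 0), (-2, -2), (-1, -1), (-1, -1), (0, 0), (-1, -1), (-1, -1), (-1, 0), (-1, -1), (0, 0), (-1, -1), (-1, 0)],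
  [(0, 0), (0, 0), (0, 0), (0, 0), (0, 0), (0, 0), (0, 0), (0, -2), (-2, -2), (-1, -1), (-1, -1), (0, 0), (0, 0), (0, 0), (0, 0), (0, -1), (0, 0), (0, 0), (-1, 0)],
  [(0, 0), (0, 0), (-2, -2), (0, 0), (0, 0), (-2, -2), (-2, -2), (0, 0), (-2, 0), (-1, 1), (0, 0), (-1, -1), (-1, -1), (-1, -1), (0, 0), (-1, -1), (0, -1), (-1, -1), (-1, 0)],
  [(0, 0), (0, 0), (0, 0), (0, 0), (0, 0), (0, 0), (0, 0), (0, 0), (0, -2), (0, 0), (-1, -1), (-1, -1), (-1, -1), (0, 0), (-1, -1), (0, 0), (0, 0), (-1, 0), (0, 0)],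
  [(0, 0), (0, 0), (-2, -2), (0, 0), (0, 0), (-2, -2), (-2, -2), (0, 0), (-2, -2), (0, 0), (0, 0), (-1, -1), (0, 0), (-1, -1), (0, 0), (0, 0), (-1, -1), (-1, -1), (-1, 0)]]

def cRkData : List (List (Int × Int)) :=
  [[(0, 1), (0, 0), (0, 0), (1, 1), (0, 0), (1, -1), (-2, 0), (-1, -1), (0, 0), (-1, -1), (0, -1), (0, 0), (-1, 0), (-1, 0), (0, 0), (0, 0), (-1, 0), (-1, 0), (0, 0)],
  [(-1, 0), (-1, 0), (-1, 1), (-1, -1), (1, -1), (1, 0), (1, 0), (1, -1), (1, -2), (0, 0), (-1, -1), (0, -1), (-1, 0), (0, 0), (0, 0), (-1, 0), (0, 0), (0, -1), (0, 0)],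
  [(1, 0), (0, 0), (0, -1), (1, 1), (-2, 0), (1, -1), (-2, -1), (1, 0), (-2, 0), (-1, -1), (0, 0), (0, 0), (-1, 0), (0, 0), (0, 0), (-1, -1), (-1, 0), (-1, -1), (-1, 0)],
  [(0, 0), (-2, 0), (-2, 0), (0, 1), (-2, 0), (1, -1), (-2, -2), (1, -1), (1, -1), (0, 0), (0, 0), (0, 0), (0, 0), (-1, -1), (0, 0), (-1, -1), (-1, -1), (0, 0), (0, 0)],
  [(0, 0), (1, -1), (1, -1), (-1, 0), (-2, 1), (-2, -2), (0, 0), (-1, 1), (0, 0), (-2, 0), (-1, -1), (-1, 0), (-1, -1), (-1, 0), (0, 0), (0, 0), (-1, -1), (-1, 0), (-1, 0)],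
  [(0, 0), (0, -2), (0, -2), (1, -1), (0, -2), (-2, 1), (1, 1), (1, -1), (-1, -1), (-1, -1), (-1, -1), (-1, 0), (-1, 0), (0, 0), (0, -1), (0, 0), (0, -1), (0, 0), (-1, 0)],
  [(0, 0), (-2, 0), (-2, 0), (-1, -1), (0, -2), (1, 1), (0, -1), (0, 0), (-1, -1), (0, 0), (-1, -1), (-1, -1), (0, -1), (-1, 0), (-1, 0), (0, 0), (0, -1), (0, -1), (-1, 0)],
  [(0, 0), (0, -2), (0, -2), (0, -2), (-2, 0), (-2, -2), (0, 0), (1, -2), (-1, -1), (-2, 0), (0, -1), (0, 0), (0, 0), (-1, -1), (-1, 0), (-1, -1), (0, 0), (0, 0), (0, 0)],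
  [(0, 0), (-2, -2), (-2, -2), (0, 0), (-2, 0), (1, -1), (-1, 1), (-1, 1), (1, 0), (-1, 1), (-1, 0), (0, -1), (-1, 0), (-1, -1), (0, 0), (0, 0), (0, -1), (-1, -1), (-1, 0)],
  [(0, 0), (0, -2), (0, -2), (0, 0), (0, -2), (-2, -2), (0, -2), (-2, 0), (-2, -2), (0, -1), (0, -1), (0, 0), (0, -1), (0, -1), (0, -1), (-1, 0), (0, -1), (-1, -1), (-1, 0)],
  [(0, 0), (0, 0), (0, 0), (0, -2), (0, 0), (-2, -2), (-2, -2), (-2, -2), (0, -2), (-1, 1), (-1, 0), (0, 0), (0, 0), (-1, -1), (0, 0), (-1, -1), (0, 0), (0, 0), (-1, 0)],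
  [(0, 0), (-2, -2), (-2, -2), (-2, -2), (0, 0), (0, -2), (-2, 0), (0, -2), (0, 0), (-2, 0), (0, 0), (0, -1), (0, 0), (0, 0), (-1, -1), (0, 0), (0, 0), (-1, -1), (0, 0)],
  [(0, 0), (0, 0), (0, 0), (0, 0), (0, 0), (-2, 0), (-2, 0), (-2, 0), (-2, -2), (0, 0), (0, 0), (0, 0), (-1, 0), (-1, -1), (0, 0), (0, 0), (0, 0), (-1, -1), (0, 0)],
  [(0, 0), (-2, -2), (-2, -2), (-2, -2), (-2, -2), (0, 0), (0, 0), (-2, 0), (0, -2), (-1, 1), (0, 0), (0, 0), (0, 0), (0, -1), (0, 0), (0, 0), (-1, -1), (-1, -1), (-1, 0)],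
  [(0, 0), (-2, -2), (-2, -2), (-2, -2), (-2, -2), (0, 0), (-2, 0), (0, -2), (-2, -2), (-1, -1), (-1, -1), (-1, -1), (-1, -1), (-1, -1), (-1, 0), (-1, -1), (-1, -1), (0, 0), (-1, 0)],
  [(0, 0), (0, 0), (0, 0), (0, 0), (0, 0), (0, 0), (0, 0), (0, -2), (-2, -2), (0, 0), (0, 0), (-1, -1), (-1, -1), (-1, -1), (0, 0), (0, -1), (0, 0), (-1, -1), (0, 0)],
  [(0, 0), (-2, -2), (-2, -2), (-2, -2), (0, 0), (-2, -2), (0, 0), (-2, 0), (0, -2), (-1, 1), (-1, -1), (0, 0), (0, 0), (-1, -1), (0, 0), (-1, -1), (-1, 0), (-1, -1), (-1, 0)],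
  [(0, 0), (0, 0), (0, 0), (0, 0), (-2, -2), (-2, -2), (0, 0), (-2, -2), (-2, -2), (-1, 1), (0, 0), (-1, -1), (-1, -1), (0, 0), (-1, -1), (-1, -1), (0, 0), (-1, 0), (-1, 0)],
  [(0, 0), (-2, -2), (-2, -2), (-2, -2), (-2, -2), (0, 0), (0, 0), (-2, -2), (0, 0), (0, 0), (-1, -1), (0, 0), (-1, -1), (-1, -1), (-1, -1), (-1, -1), (-1, -1), (0, 0), (-1, 0)]]

def cSignData : List (List (Int × Int)) :=
  [[(-1, 0), (0, 0), (0, 0), (-2, 0), (0, 0), (0, -2), (-2, -2), (-2, 0), (0, 0), (-2, 0), (0, 0), (0, 0), (0, 0), (-1, -1), (-1, -1), (0, 0), (0, 0), (0, 0), (0, 0)],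
  [(0, 0), (-1, 0), (0, 0), (0, -2), (0, 0), (-2, -2), (-2, 0), (-2, -2), (-2, 0), (-2, 0), (-1, 0), (0, 0), (-1, -1), (0, 0), (-1, 0), (0, 0), (0, 0), (0, -1), (-1, 0)],
  [(0, 0), (0, 0), (-1, 0), (0, 0), (-2, -2), (-2, 0), (0, -2), (0, 0), (0, -2), (-1, -1), (-1, 0), (-1, 0), (-1, -1), (0, 0), (-1, 0), (0, -1), (-1, 0), (-1, -1), (0, 0)],
  [(0, 0), (0, 0), (0, 0), (1, 0), (0, 0), (0, 0), (-2, 0), (-2, -2), (-2, 0), (0, 0), (-1, -1), (0, 0), (0, 0), (-1, -1), (0, 0), (0, 0), (0, 0), (0, 0), (0, 0)],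
  [(0, 0), (0, 0), (0, 0), (0, 0), (1, 0), (0, 0), (0, -2), (-2, -2), (0, -2), (0, 0), (-1, -1), (0, 0), (0, 0), (0, 0), (0, -1), (0, 0), (0, -1), (0, 0), (-1, 0)],
  [(0, 0), (0, 0), (0, 0), (0, 0), (0, 0), (1, 0), (-2, 0), (-2, -2), (-2, 0), (-1, 1), (0, 0), (-1, -1), (-1, -1), (0, 0), (0, 0), (-1, -1), (0, 0), (-1, -1), (-1, 0)],
  [(0, 0), (0, 0), (0, 0), (0, 0), (0, 0), (0, 0), (-1, 0), (-2, -2), (0, 0), (-2, 0), (-1, -1), (-1, -1), (0, 0), (0, 0), (-1, -1), (-1, -1), (-1, -1), (0, 0), (0, 0)],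
  [(0, 0), (0, 0), (0, 0), (0, 0), (0, 0), (0, 0), (0, 0), (1, 0), (-2, -2), (-1, 1), (-1, -1), (-1, -1), (-1, -1), (0, 0), (-1, -1), (-1, -1), (0, 0), (-1, -1), (-1, 0)],
  [(0, 0), (0, 0), (0, 0), (0, 0), (0, 0), (0, 0), (0, 0), (0, 0), (-1, 0), (0, 0), (0, 0), (-1, -1), (0, 0), (0, 0), (0, 0), (-1, -1), (-1, -1), (-1, -1), (0, 0)],
  [(0, 0), (0, 0), (0, 0), (0, 0), (0, 0), (0, 0), (0, 0), (0, 0), (0, 0), (-1, 0), (0, 0), (0, 0), (0, 0), (0, 0), (0, 0), (0, 0), (0, 0), (0, 0), (0, 0)],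
  [(0, 0), (0, 0), (0, 0), (0, 0), (0, 0), (0, 0), (0, 0), (0, 0), (0, 0), (0, 0), (-1, 0), (0, 0), (0, 0), (0, 0), (0, 0), (0, 0), (0, 0), (0, 0), (0, 0)],
  [(0, 0), (0, 0), (0, 0), (0, 0), (0, 0), (0, 0), (0, 0), (0, 0), (0, 0), (0, 0), (0, 0), (-1, 0), (0, 0), (0, 0), (0, 0), (0, 0), (0, 0), (0, 0), (0, 0)],
  [(0, 0), (0, 0), (0, 0), (0, 0), (0, 0), (0, 0), (0, 0), (0, 0), (0, 0), (0, 0), (0, 0), (0, 0), (-1, 0), (0, 0), (0, 0), (0, 0), (0, 0), (0, 0), (0, 0)],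
  [(0, 0), (0, 0), (0, 0), (0, 0), (0, 0), (0, 0), (0, 0), (0, 0), (0, 0), (0, 0), (0, 0), (0, 0), (0, 0), (-1, 0), (0, 0), (0, 0), (0, 0), (0, 0), (0, 0)],
  [(0, 0), (0, 0), (0, 0), (0, 0), (0, 0), (0, 0), (0, 0), (0, 0), (0, 0), (0, 0), (0, 0), (0, 0), (0, 0), (0, 0), (-1, 0), (0, 0), (0, 0), (0, 0), (0, 0)],
  [(0, 0), (0, 0), (0, 0), (0, 0), (0, 0), (0, 0), (0, 0), (0, 0), (0, 0), (0, 0), (0, 0), (0, 0), (0, 0), (0, 0), (0, 0), (-1, 0), (0, 0), (0, 0), (0, 0)],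
  [(0, 0), (0, 0), (0, 0), (0, 0), (0, 0), (0, 0), (0, 0), (0, 0), (0, 0), (0, 0), (0, 0), (0, 0), (0, 0), (0, 0), (0, 0), (0, 0), (-1, 0), (0, 0), (0, 0)],
  [(0, 0), (0, 0), (0, 0), (0, 0), (0, 0), (0, 0), (0, 0), (0, 0), (0, 0), (0, 0), (0, 0), (0, 0), (0, 0), (0, 0), (0, 0), (0, 0), (0, 0), (-1, 0), (0, 0)],
  [(0, 0), (0, 0), (0, 0), (0, 0), (0, 0), (0, 0), (0, 0), (0, 0), (0, 0), (0, 0), (0, 0), (0, 0), (0, 0), (0, 0), (0, 0), (0, 0), (0, 0), (0, 0), (-1, 0)]]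

def cShiftData : List (List (Int × Int)) :=
  [[(-1, 0), (1, -1), (-2, 0), (0, 1), (-2, -2), (-2, -1), (-1, -2), (-2, -1), (-1, -2), (-1, 1), (-1, 0), (-1, -1), (-1, -1), (-1, -1), (0, -1), (0, 0), (0, 0), (0, -1), (0, 0)],
  [(0, -1), (1, 1), (0, 1), (0, 0), (1, 1), (1, -2), (0, -1), (-2, -1), (-1, -2), (-2, 0), (-1, 0), (0, -1), (-1, 0), (-1, 0), (0, -1), (0, -1), (-1, 0), (-1, 0), (-1, 0)],
  [(0, 0), (1, -1), (1, 0), (0, 1), (-2, -1), (0, -1), (1, -2), (-1, -2), (-1, -1), (0, 0), (0, -1), (0, -1), (0, -1), (0, 0), (-1, -1), (-1, -1), (0, 0), (-1, -1), (-1, 0)],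
  [(1, 0), (-1, 1), (-1, -1), (1, 1), (-2, -2), (-2, 1), (1, 0), (-1, 1), (1, -2), (-1, 1), (-1, 0), (-1, -1), (-1, -1), (-1, -1), (-1, 0), (-1, -1), (-1, 0), (-1, -1), (0, 0)],
  [(0, 0), (-1, 0), (1, -1), (-2, 0), (-2, -2), (1, -1), (-2, 1), (1, 0), (1, 1), (-1, 1), (-1, -1), (0, -1), (-1, 0), (-1, 0), (0, 0), (-1, 0), (-1, 0), (0, 0), (-1, 0)],
  [(0, 0), (0, 0), (-1, -1), (0, 1), (-1, -1), (-2, -2), (-1, 0), (-1, -2), (-1, 1), (-2, 0), (0, -1), (0, -1), (-1, -1), (0, 0), (-1, -1), (0, 0), (-1, 0), (0, 0), (0, 0)],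
  [(0, 0), (0, 0), (-1, 1), (0, 0), (-1, 1), (-1, -2), (1, 0), (1, 1), (0, -2), (0, 1), (-1, -1), (0, -1), (-1, -1), (0, -1), (0, -1), (-1, 0), (0, -1), (-1, 0), (0, 0)],
  [(0, 0), (0, 0), (-2, -2), (0, 0), (1, -1), (-1, 1), (1, 0), (-1, 1), (1, 0), (0, -1), (-1, 0), (-1, 0), (0, 0), (-1, 0), (-1, -1), (-1, -1), (0, -1), (0, 0), (0, 0)],
  [(0, 0), (0, 0), (-2, -2), (0, 0), (-1, -1), (1, 1), (-2, 0), (1, -2), (0, 1), (-1, 0), (-1, -1), (0, 0), (-1, 0), (-1, 0), (-1, -1), (-1, 0), (0, 0), (-1, -1), (-1, 0)],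
  [(0, 0), (0, 0), (-2, 0), (0, 0), (-2, 0), (-2, -2), (-2, 0), (0, -2), (-1, 1), (-1, 0), (0, 0), (-1, 0), (-1, -1), (0, 0), (0, 0), (0, -1), (-1, -1), (0, 0), (0, 0)],
  [(0, 0), (0, 0), (0, -2), (0, 0), (-2, -2), (0, -2), (-2, 0), (0, 0), (-2, 0), (-2, 0), (-1, -1), (0, -1), (0, 0), (-1, -1), (0, -1), (0, -1), (0, -1), (0, -1), (0, 0)],
  [(0, 0), (0, 0), (0, 0), (0, 0), (-2, 0), (-2, 0), (-2, -2), (-2, 0), (0, 0), (0, 0), (-1, -1), (-1, -1), (-1, 0), (-1, 0), (-1, -1), (-1, 0), (0, 0), (0, -1), (0, 0)],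
  [(0, 0), (0, 0), (0, 0), (0, 0), (0, 0), (0, 0), (0, 0), (0, 0), (0, 0), (0, 0), (-1, 0), (0, 0), (0, -1), (0, 0), (0, 0), (-1, -1), (-1, -1), (0, -1), (0, 0)],
  [(0, 0), (0, 0), (0, 0), (0, 0), (0, 0), (0, 0), (0, 0), (0, 0), (0, 0), (0, 0), (0, 0), (0, -1), (0, -1), (0, 0), (0, -1), (0, -1), (-1, 0), (0, -1), (0, 0)],
  [(0, 0), (0, 0), (0, 0), (0, 0), (0, 0), (0, 0), (0, 0), (0, 0), (0, 0), (0, 0), (0, 0), (0, 0), (-1, 0), (0, 0), (0, -1), (-1, -1), (-1, -1), (0, 0), (0, 0)],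
  [(0, 0), (0, 0), (0, 0), (0, 0), (0, 0), (0, 0), (0, 0), (0, 0), (0, 0), (0, 0), (0, 0), (0, 0), (0, 0), (0, -1), (0, -1), (-1, -1), (-1, -1), (-1, -1), (0, 0)],
  [(0, 0), (0, 0), (0, 0), (0, 0), (0, 0), (0, 0), (0, 0), (0, 0), (0, 0), (0, 0), (0, 0), (0, 0), (0, 0), (0, 0), (-1, 0), (0, -1), (-1, 0), (0, -1), (0, 0)],
  [(0, 0), (0, 0), (0, 0), (0, 0), (0, 0), (0, 0), (0, 0), (0, 0), (0, 0), (0, 0), (0, 0), (0, 0), (0, 0), (0, 0), (0, 0), (0, -1), (0, -1), (-1, -1), (0, 0)],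
  [(0, 0), (0, 0), (0, 0), (0, 0), (0, 0), (0, 0), (0, 0), (0, 0), (0, 0), (0, 0), (0, 0), (0, 0), (0, 0), (0, 0), (0, 0), (0, 0), (0, 0), (0, 0), (-1, 0)]]

def gs1Data : List Nat := [111, 159, 479, 303, 433, 369, 193, 1, 370, 50, 322, 2, 52, 388, 436, 4, 392, 248, 376, 8, 208, 224, 16, 32, 448, 64, 128, 256]

def k1Data : List Nat := [485347, 444462, 372068, 262144, 250520, 1200, 250880, 0, 35680, 104448, 69632, 0, 25152, 204800, 212992, 0, 33408, 229376, 196608, 0, 131840, 131072, 0, 0, 512, 0, 0, 0]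

def free1Data : List Nat := [7, 11, 15, 19, 22, 23, 25, 26, 27]

def gs2Data : List Nat := [641, 865, 481, 1, 866, 738, 386, 2, 740, 100, 644, 4, 104, 776, 872, 8, 784, 496, 752, 16, 416, 448, 32, 64, 896, 128, 256, 512]

def k2Data : List Nat := [223203, 182318, 109924, 0, 250520, 1200, 250880, 0, 35680, 104448, 69632, 0, 25152, 204800, 212992, 0, 33408, 229376, 196608, 0, 131840, 131072, 0, 0, 512, 0, 0, 0]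

def free2Data : List Nat := [3, 7, 11, 15, 19, 22, 23, 25, 26, 27]


/-- The Gaussian prime `1 + i`. -/
def gpi : GaussianInt := ⟨1, 1⟩

def uVec (j : Fin 19) : RuVec := fun p => entry uData j.val (idx p)
def vv (j : Fin 19) : Nat := vData.getD j.val 0
def bVec (j : Fin 19) : RuVec := fun p => gpi ^ vv j * uVec j p

end RuL
end Cfsg.Agent.Lib.H28
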