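import Cfsg.Agent.Lib.H28.RuData
import Cfsg.Agent.Lib.H28.RuAlgebra

set_option autoImplicit false

namespace Cfsg.Agent.Lib.H28
namespace RuL

open Cfsg.Spor

/-- Coefficient lookup. -/
def coef (l : List (List (Int × Int))) (j k : Nat) : GaussianInt := entry l j k

/-- Divisibility by 4 in coordinates (decidable form). -/
def Dvd4 (z : GaussianInt) : Prop := (4 : ℤ) ∣ z.re ∧ (4 : ℤ) ∣ z.im

instance (z : GaussianInt) : Decidable (Dvd4 z) := by unfold Dvd4; infer_instance

theorem dvd4_iff (z : GaussianInt) : Dvd4 z ↔ (4 : GaussianInt) ∣ z := (four_dvd_iff z).symm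

set_option maxRecDepth 100000 in
theorem fact_Rj : ∀ j : Fin 19, ∀ p : RuIdx,
    Dvd4 (ruRj (bVec j) p - ∑ k : Fin 19, coef cRjData j.val k.val * bVec k p) := by
  decide +kernel

set_option maxRecDepth 100000 in
theorem fact_Rk : ∀ j : Fin 19, ∀ p : RuIdx,
    Dvd4 (ruRk (bVec j) p - ∑ k : Fin 19, coef cRkData j.val k.val * bVec k p) := by
  decide +kernel

set_option maxRecDepth 100000 in
theorem fact_Sign : ∀ j : Fin 19, ∀ p : RuIdx,
    Dvd4 (ruSign (bVec j) p - ∑ k : Fin 19, coef cSignData j.val k.val * bVec k p) := by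
  decide +kernel

set_option maxRecDepth 100000 in
theorem fact_Shift : ∀ j : Fin 19, ∀ p : RuIdx,
    Dvd4 (ruShift (bVec j) p - ∑ k : Fin 19, coef cShiftData j.val k.val * bVec k p) := by
  decide +kernel

set_option maxRecDepth 100000 in
theorem fact_table : ∀ i : Fin 20, ∀ p : RuIdx,
    Dvd4 (ruTable.getD i.val 0 p - ∑ k : Fin 19, coef tblCoef i.val k.val * bVec k p) := by
  decide +kernel

set_option maxRecDepth 100000 in
theorem fact_gram : ∀ j k : Fin 19, Dvd4 (herm (bVec j) (bVec k)) := by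
  decide +kernel

set_option maxRecDepth 100000 in
theorem fact_norm : ∀ j : Fin 19, (8 : ℤ) ∣ ruNorm (bVec j) := by
  decide +kernel

end RuL
end Cfsg.Agent.Lib.H28
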