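import Cfsg.Agent.Lib.H28.RuMinNorm

set_option autoImplicit false

namespace Cfsg.Agent.Lib.H28
namespace RuL

open Cfsg.Spor

/-! ## Small facts -/

theorem wt_cw : ∀ n : Fin 7, wt (cw n) = 4 := by
  decide +kernel

theorem wt_cw2 : ∀ n m : Fin 7, n ≠ m → wt (fun p => cw n p + cw m p) = 8 := by
  decide +kernel

/-- The set of components negated by `ruSign`. -/
def Qs (c : Fin 7) : Prop := c = 0 ∨ c = 3 ∨ c = 5 ∨ c = 6

instance (c : Fin 7) : Decidable (Qs c) := by unfold Qs; infer_instance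

theorem qsel : ∀ n m : Fin 7, n ≠ m → ∃ s : Fin 7, Qs (n - s) ∧ ¬ Qs (m - s) := by
  decide +kernel

theorem shift_iter_aux (k : ℕ) : ∀ w : RuVec,
    ruShift^[k] w = fun p => w ((fun c : Fin 7 => c + 1)^[k] p.1, p.2) := by
  induction k with
  | zero =>
    intro w
    rfl
  | succ k ih =>
    intro w
    rw [Function.iterate_succ_apply, ih]
    funext p
    rw [Function.iterate_succ_apply']
    rfl

theorem iter_succ_fin : ∀ s c : Fin 7, (fun c : Fin 7 => c + 1)^[s.val] c = c + s := by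
  decide +kernel

theorem shift_iter (s : Fin 7) (v : RuVec) :
    ruShift^[s.val] v = fun p => v (p.1 + s, p.2) := by
  rw [shift_iter_aux]
  funext p
  rw [iter_succ_fin]

theorem shift_iter_mem (k : ℕ) {x : RuVec} (hx : x ∈ MA) : ruShift^[k] x ∈ MA := by
  induction k with
  | zero => simpa using hx
  | succ k ih =>
    rw [Function.iterate_succ_apply']
    exact ruShift_mem ih

/-! ## The two exceptional configurations -/

theorem vec_eq_of_vals (e : Fin 4 → Fin 4) : ![e 0, e 1, e 2, e 3] = e := by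
  funext t
  fin_cases t <;> rfl

theorem no_short_pi (y : RuVec) (n : Fin 7) (hb : ∀ p, beta y p = cw n p) (hn : ruNorm y = 4)
    (hy : gpi • y ∈ MA) : False := by
  have hwt : wt (beta y) = 4 := by
    rw [show beta y = cw n from funext hb]
    exact wt_cw n
  have hnv := norm_eq_val_of_eq y (by rw [hn, hwt]; rfl)
  have hunit : ∀ t : Fin 4, ∃ k : Fin 4, y (n, t) = gI ^ k.val := by
    intro t
    apply norm_eq_one_cases
    rw [hnv, hb]
    simp only [cw]
    rfl
  choose e he using hunit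
  have hy' : y = uvec n ![e 0, e 1, e 2, e 3] := by
    rw [vec_eq_of_vals]
    funext p
    obtain ⟨c, t⟩ := p
    simp only [uvec]
    by_cases hc : c = n
    · subst hc
      rw [if_pos rfl, he]
    · rw [if_neg hc]
      have h1 := hnv (c, t)
      rw [hb] at h1
      simp only [cw, if_neg hc, ZMod.val_zero, Nat.cast_zero] at h1
      exact (Zsqrtd.norm_eq_zero_iff (by norm_num) _).1 h1
  obtain ⟨j, hj⟩ := bf_pi n (e 0) (e 1) (e 2) (e 3)
  apply hj
  rw [dvd4_iff, ← hy']
  exact herm_bVec_dvd hy j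

theorem no_short_two (x : RuVec) (n m : Fin 7) (hnm : n ≠ m)
    (hb : ∀ p, beta x p = cw n p + cw m p) (hn : ruNorm x = 8) (hx : x ∈ MA) : False := by
  have hwt : wt (beta x) = 8 := by
    rw [show beta x = fun p => cw n p + cw m p from funext hb]
    exact wt_cw2 n m hnm
  have hnv := norm_eq_val_of_eq x (by rw [hn, hwt]; rfl)
  have hunit : ∀ t : Fin 4, ∃ k : Fin 4, x (n, t) = gI ^ k.val := by
    intro t
    apply norm_eq_one_cases
    rw [hnv, hb]
    simp only [cw, if_neg hnm, add_zero]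
    rfl
  have hzero : ∀ c t, c ≠ n → c ≠ m → x (c, t) = 0 := by
    intro c t hc1 hc2
    have h1 := hnv (c, t)
    rw [hb] at h1
    simp only [cw, if_neg hc1, if_neg hc2, add_zero, ZMod.val_zero, Nat.cast_zero] at h1
    exact (Zsqrtd.norm_eq_zero_iff (by norm_num) _).1 h1
  choose e he using hunit
  obtain ⟨s, hs1, hs2⟩ := qsel n m hnm
  have hx2 : ruShift^[s.val] x ∈ MA := shift_iter_mem _ hx
  have hx3 : ruShift^[s.val] x - ruSign (ruShift^[s.val] x) ∈ MA :=
    MA.sub_mem hx2 (ruSign_mem hx2)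
  have hx3' : ruShift^[s.val] x - ruSign (ruShift^[s.val] x) =
      (2 : GaussianInt) • uvec (n - s) ![e 0, e 1, e 2, e 3] := by
    rw [vec_eq_of_vals, shift_iter]
    funext p
    obtain ⟨c, t⟩ := p
    simp only [Pi.sub_apply, ruSign, Pi.smul_apply, smul_eq_mul, uvec]
    by_cases hc : c = n - s
    · subst hc
      have hq : (n - s = 0 ∨ n - s = 3 ∨ n - s = 5 ∨ n - s = 6) := hs1
      rw [if_pos hq, if_pos rfl, sub_add_cancel, he]
      ring
    · rw [if_neg hc, mul_zero]
      by_cases hq : (c = 0 ∨ c = 3 ∨ c = 5 ∨ c = 6)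
      · rw [if_pos hq]
        have h1 : c + s ≠ n := fun h => hc (by rw [← h, add_sub_cancel_right])
        have h2 : c + s ≠ m := by
          intro h
          apply hs2
          have : m - s = c := by rw [← h, add_sub_cancel_right]
          rw [this]
          exact hq
        rw [hzero _ _ h1 h2]
        ring
      · rw [if_neg hq]
        ring
  obtain ⟨j, hj⟩ := bf_two (n - s) (e 0) (e 1) (e 2) (e 3)
  apply hj
  rw [dvd4_iff, ← hx3']
  exact herm_bVec_dvd hx3 j

/-! ## The descent -/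

theorem beta_ne_zero_of {y : RuVec} (h : ¬ ∀ p, phi (y p) = 0) : ∃ p, beta y p ≠ 0 := by
  exact not_forall.1 h

theorem gpi_pow_succ_smul (k : ℕ) (t : RuVec) : (gpi ^ k) • (gpi • t) = (gpi ^ (k + 1)) • t := by
  rw [smul_smul, pow_succ]

theorem step4 (t : RuVec) (ht : t ≠ 0) : 16 ≤ ruNorm ((gpi ^ 4) • t) := by
  rw [ruNorm_gpi_pow_smul]
  have h := ruNorm_pos ht
  norm_num
  omega

theorem step3 (y : RuVec) (hy : (gpi ^ 3) • y ∈ MA) (hne : y ≠ 0) :
    16 ≤ ruNorm ((gpi ^ 3) • y) := by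
  by_cases hb : ∀ p, phi (y p) = 0
  · obtain ⟨t, rfl⟩ := exists_eq_gpi_smul y hb
    rw [gpi_pow_succ_smul]
    exact step4 t (by rintro rfl; exact hne (smul_zero _))
  · have hw : 2 ≤ wt (beta y) := by
      refine wt_ge_two _ (fun j hj => ?_) (beta_ne_zero_of hb)
      exact layer_check 3 le_rfl y hy j (by rw [(vv_fact j).2.2.1 hj])
    have h1 := wt_le_ruNorm y
    rw [ruNorm_gpi_pow_smul]
    norm_num
    omega

theorem step2 (y : RuVec) (hy : (gpi ^ 2) • y ∈ MA) (hne : y ≠ 0) :
    16 ≤ ruNorm ((gpi ^ 2) • y) := by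
  by_cases hb : ∀ p, phi (y p) = 0
  · obtain ⟨t, rfl⟩ := exists_eq_gpi_smul y hb
    rw [gpi_pow_succ_smul] at hy ⊢
    exact step3 t hy (by rintro rfl; exact hne (smul_zero _))
  · have hw : 3 ≤ wt (beta y) := by
      refine wt_ge_three _ (fun j hj => ?_) (beta_ne_zero_of hb)
      exact layer_check 2 (by norm_num) y hy j ((vv_fact j).2.1 hj)
    have h1 := wt_le_ruNorm y
    have h8 := eight_dvd_MA hy
    rw [ruNorm_gpi_pow_smul] at h8 ⊢
    norm_num at h8 ⊢
    omega

theorem step1 (y : RuVec) (hy : (gpi ^ 1) • y ∈ MA) (hne : y ≠ 0) :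
    16 ≤ ruNorm ((gpi ^ 1) • y) := by
  by_cases hb : ∀ p, phi (y p) = 0
  · obtain ⟨t, rfl⟩ := exists_eq_gpi_smul y hb
    rw [gpi_pow_succ_smul] at hy ⊢
    exact step2 t hy (by rintro rfl; exact hne (smul_zero _))
  · have hk : ∀ j : Fin 18, ∑ p, hbit (up18 j) p * beta y p = 0 := by
      intro j
      exact layer_check 1 (by norm_num) y hy (up18 j) ((vv_fact (up18 j)).1 j.isLt)
    have hker := ker_param Gs2 free2 K2 (fun j p => hbit (up18 j) p) ident2 (beta y) hk
    have hs : (fun f => beta y (free2 f)) = ![beta y (free2 0), beta y (free2 1),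
        beta y (free2 2), beta y (free2 3), beta y (free2 4), beta y (free2 5),
        beta y (free2 6), beta y (free2 7), beta y (free2 8), beta y (free2 9)] := by
      funext f
      fin_cases f <;> rfl
    have key : ∀ p, (∑ f : Fin 10, Gs2 p f * ![beta y (free2 0), beta y (free2 1),
        beta y (free2 2), beta y (free2 3), beta y (free2 4), beta y (free2 5),
        beta y (free2 6), beta y (free2 7), beta y (free2 8), beta y (free2 9)] f)
        = beta y p := by
      intro p
      rw [← hs]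
      exact (hker p).symm
    have h1 := wt_le_ruNorm y
    have h8 := eight_dvd_MA hy
    have hn := ruNorm_gpi_pow_smul 1 y
    rw [hn] at h8 ⊢
    have he := enum2 (beta y (free2 0)) (beta y (free2 1)) (beta y (free2 2))
      (beta y (free2 3)) (beta y (free2 4)) (beta y (free2 5)) (beta y (free2 6))
      (beta y (free2 7)) (beta y (free2 8)) (beta y (free2 9))
    simp only [key] at he
    rcases he with he | he | ⟨n, he⟩
    · exact absurd he hb
    · change 8 ≤ wt (beta y) at he
      norm_num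
      omega
    · have hwt : wt (beta y) = 4 := by
        rw [show beta y = cw n from funext he]
        exact wt_cw n
      by_contra hlt
      have h4 : ruNorm y = 4 := by
        norm_num at h8 hlt
        omega
      rw [pow_one] at hy
      exact no_short_pi y n he h4 hy

theorem step0 (x : RuVec) (hx : x ∈ MA) (hne : x ≠ 0) : 16 ≤ ruNorm x := by
  by_cases hb : ∀ p, phi (x p) = 0
  · obtain ⟨t, rfl⟩ := exists_eq_gpi_smul x hb
    have h := step1 t (by rwa [pow_one]) (by rintro rfl; exact hne (smul_zero _))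
    rwa [pow_one] at h
  · have hx0 : (gpi ^ 0) • x ∈ MA := by rwa [pow_zero, one_smul]
    have hk : ∀ j : Fin 19, ∑ p, hbit j p * beta x p = 0 := by
      intro j
      exact layer_check 0 (by norm_num) x hx0 j (vv_fact j).2.2.2
    have hker := ker_param Gs1 free1 K1 hbit ident1 (beta x) hk
    have hs : (fun f => beta x (free1 f)) = ![beta x (free1 0), beta x (free1 1),
        beta x (free1 2), beta x (free1 3), beta x (free1 4), beta x (free1 5),
        beta x (free1 6), beta x (free1 7), beta x (free1 8)] := by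
      funext f
      fin_cases f <;> rfl
    have key : ∀ p, (∑ f : Fin 9, Gs1 p f * ![beta x (free1 0), beta x (free1 1),
        beta x (free1 2), beta x (free1 3), beta x (free1 4), beta x (free1 5),
        beta x (free1 6), beta x (free1 7), beta x (free1 8)] f) = beta x p := by
      intro p
      rw [← hs]
      exact (hker p).symm
    have h1 := wt_le_ruNorm x
    have h8 := eight_dvd_MA hx
    have he := enum1 (beta x (free1 0)) (beta x (free1 1)) (beta x (free1 2))
      (beta x (free1 3)) (beta x (free1 4)) (beta x (free1 5)) (beta x (free1 6))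
      (beta x (free1 7)) (beta x (free1 8))
    simp only [key] at he
    rcases he with he | he | ⟨n, m, hnm, he⟩
    · exact absurd he hb
    · change 12 ≤ wt (beta x) at he
      omega
    · have hwt : wt (beta x) = 8 := by
        rw [show beta x = fun p => cw n p + cw m p from funext he]
        exact wt_cw2 n m hnm
      by_contra hlt
      have h4 : ruNorm x = 8 := by
        omega
      exact no_short_two x n m hnm he h4 hx

/-! ## The statement -/

theorem table_head_mem : ruOfArray ![![⟨4, 0⟩, ⟨0, 0⟩, ⟨0, 0⟩, ⟨0, 0⟩],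
      ![⟨0, 0⟩, ⟨0, 0⟩, ⟨0, 0⟩, ⟨0, 0⟩],
      ![⟨0, 0⟩, ⟨0, 0⟩, ⟨0, 0⟩, ⟨0, 0⟩],
      ![⟨0, 0⟩, ⟨0, 0⟩, ⟨0, 0⟩, ⟨0, 0⟩],
      ![⟨0, 0⟩, ⟨0, 0⟩, ⟨0, 0⟩, ⟨0, 0⟩],
      ![⟨0, 0⟩, ⟨0, 0⟩, ⟨0, 0⟩, ⟨0, 0⟩],
      ![⟨0, 0⟩, ⟨0, 0⟩, ⟨0, 0⟩, ⟨0, 0⟩]] ∈ ruLattice := by
  rw [ruLattice, AddSubgroup.mem_sInf]
  intro L hL
  exact hL.1 _ (List.mem_cons_self ..)

theorem ru_lattice_norms : (∀ x ∈ ruLattice, (8 : ℤ) ∣ ruNorm x) ∧
    (∀ x ∈ ruLattice, ruNorm x ≠ 8) ∧ (∀ x ∈ ruLattice, x ≠ 0 → 16 ≤ ruNorm x) ∧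
    ∃ x ∈ ruLattice, ruNorm x = 16 := by
  refine ⟨fun x hx => eight_dvd_MA (mem_MA_of_mem hx), fun x hx h => ?_,
    fun x hx hne => step0 x (mem_MA_of_mem hx) hne, ⟨_, table_head_mem, ?_⟩⟩
  · have hne : x ≠ 0 := by
      rintro rfl
      rw [ruNorm_zero] at h
      norm_num at h
    have := step0 x (mem_MA_of_mem hx) hne
    omega
  · decide +kernel

end RuL
end Cfsg.Agent.Lib.H28
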