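import Cfsg.Agent.Lib.H28.RuCodes

set_option autoImplicit false

namespace Cfsg.Agent.Lib.H28
namespace RuL

open Cfsg.Spor

/-! ## The model lattice -/

/-- The model lattice: the span of the 19 rows together with `4 ℤ[i]^28`. -/
def MA : Submodule GaussianInt RuVec := Submodule.span GaussianInt (Set.range bVec) ⊔ M4

theorem bVec_mem (j : Fin 19) : bVec j ∈ MA :=
  Submodule.mem_sup_left (Submodule.subset_span ⟨j, rfl⟩)

theorem M4_le : M4 ≤ MA := le_sup_right

theorem mem_MA_of (x : RuVec) (c : Fin 19 → GaussianInt)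
    (h : ∀ p, Dvd4 (x p - ∑ k, c k * bVec k p)) : x ∈ MA := by
  have h1 : (∑ k, c k • bVec k) ∈ Submodule.span GaussianInt (Set.range bVec) :=
    Submodule.sum_mem _ fun k _ => Submodule.smul_mem _ _ (Submodule.subset_span ⟨k, rfl⟩)
  have h2 : x - ∑ k, c k • bVec k ∈ M4 := by
    intro p
    rw [← dvd4_iff]
    simpa [Finset.sum_apply] using h p
  have h3 : x = (∑ k, c k • bVec k) + (x - ∑ k, c k • bVec k) := by abel
  rw [h3]
  exact Submodule.add_mem_sup h1 h2

theorem map_mem_MA (f : RuVec →ₗ[GaussianInt] RuVec) (h4 : ∀ x ∈ M4, f x ∈ M4)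
    (hb : ∀ j, f (bVec j) ∈ MA) : ∀ x ∈ MA, f x ∈ MA := by
  intro x hx
  have h : MA ≤ Submodule.comap f MA := by
    refine sup_le (Submodule.span_le.2 ?_) ?_
    · rintro _ ⟨j, rfl⟩
      exact hb j
    · intro y hy
      exact M4_le (h4 y hy)
  exact h hx

/-! ## The four monomial maps as linear maps -/

def ruRjL : RuVec →ₗ[GaussianInt] RuVec where
  toFun := ruRj
  map_add' := by
    intro x y
    funext ⟨n, t⟩
    fin_cases t <;> simp [ruRj, mul_add] <;> ring
  map_smul' := by
    intro c x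
    funext ⟨n, t⟩
    fin_cases t <;> simp [ruRj] <;> ring

def ruRkL : RuVec →ₗ[GaussianInt] RuVec where
  toFun := ruRk
  map_add' := by
    intro x y
    funext ⟨n, t⟩
    fin_cases t <;> simp [ruRk, mul_add] <;> ring
  map_smul' := by
    intro c x
    funext ⟨n, t⟩
    fin_cases t <;> simp [ruRk] <;> ring

def ruSignL : RuVec →ₗ[GaussianInt] RuVec where
  toFun := ruSign
  map_add' := by
    intro x y
    funext p
    simp only [ruSign, Pi.add_apply]
    split_ifs <;> ring
  map_smul' := by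
    intro c x
    funext p
    simp only [ruSign, Pi.smul_apply, smul_eq_mul, RingHom.id_apply]
    split_ifs <;> ring

def ruShiftL : RuVec →ₗ[GaussianInt] RuVec where
  toFun := ruShift
  map_add' := by
    intro x y
    funext p
    simp only [ruShift, Pi.add_apply]
  map_smul' := by
    intro c x
    funext p
    simp only [ruShift, Pi.smul_apply, smul_eq_mul, RingHom.id_apply]

theorem ruRj_M4 : ∀ x ∈ M4, ruRjL x ∈ M4 := by
  intro x hx ⟨n, t⟩
  change (4 : GaussianInt) ∣ ruRj x (n, t)
  fin_cases t <;> simp only [ruRj]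
  · exact Dvd.dvd.mul_left (hx _) _
  · exact Dvd.dvd.mul_left (hx _) _
  · exact hx _
  · exact (dvd_neg).2 (hx _)

theorem ruRk_M4 : ∀ x ∈ M4, ruRkL x ∈ M4 := by
  intro x hx ⟨n, t⟩
  change (4 : GaussianInt) ∣ ruRk x (n, t)
  fin_cases t <;> simp only [ruRk]
  · exact Dvd.dvd.mul_left (hx _) _
  · exact (dvd_neg).2 (hx _)
  · exact Dvd.dvd.mul_left (hx _) _
  · exact hx _

theorem ruSign_M4 : ∀ x ∈ M4, ruSignL x ∈ M4 := by
  intro x hx p
  change (4 : GaussianInt) ∣ ruSign x p
  simp only [ruSign]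
  split_ifs
  · exact (dvd_neg).2 (hx _)
  · exact hx _

theorem ruShift_M4 : ∀ x ∈ M4, ruShiftL x ∈ M4 := by
  intro x hx p
  exact hx _

theorem ruRj_mem {x : RuVec} (hx : x ∈ MA) : ruRj x ∈ MA :=
  map_mem_MA ruRjL ruRj_M4 (fun j => mem_MA_of _ _ (fact_Rj j)) x hx

theorem ruRk_mem {x : RuVec} (hx : x ∈ MA) : ruRk x ∈ MA :=
  map_mem_MA ruRkL ruRk_M4 (fun j => mem_MA_of _ _ (fact_Rk j)) x hx

theorem ruSign_mem {x : RuVec} (hx : x ∈ MA) : ruSign x ∈ MA :=
  map_mem_MA ruSignL ruSign_M4 (fun j => mem_MA_of _ _ (fact_Sign j)) x hx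

theorem ruShift_mem {x : RuVec} (hx : x ∈ MA) : ruShift x ∈ MA :=
  map_mem_MA ruShiftL ruShift_M4 (fun j => mem_MA_of _ _ (fact_Shift j)) x hx

theorem table_mem : ∀ v ∈ ruTable, v ∈ MA := by
  intro v hv
  obtain ⟨i, hi, rfl⟩ := List.mem_iff_getElem.1 hv
  have hlen : ruTable.length = 20 := by decide
  have h := fact_table ⟨i, hlen ▸ hi⟩
  have h2 : ruTable.getD i 0 = ruTable[i] := by
    rw [List.getD_eq_getElem?_getD, List.getElem?_eq_getElem hi]
    rfl
  simp only [h2] at h
  exact mem_MA_of _ _ h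

theorem ruLattice_le : ruLattice ≤ MA.toAddSubgroup := by
  apply sInf_le
  refine ⟨table_mem, fun v hv => ⟨?_, ruRj_mem hv, ruRk_mem hv, ruSign_mem hv, ruShift_mem hv⟩⟩
  exact MA.smul_mem gI hv

theorem mem_MA_of_mem {x : RuVec} (hx : x ∈ ruLattice) : x ∈ MA := ruLattice_le hx

/-! ## Integrality -/

theorem herm_bVec_dvd {x : RuVec} (hx : x ∈ MA) (j : Fin 19) :
    (4 : GaussianInt) ∣ herm x (bVec j) := by
  have h : MA ≤ ({ carrier := {x | ∀ j, (4 : GaussianInt) ∣ herm x (bVec j)}
                   zero_mem' := fun j => by rw [herm_zero_left]; exact dvd_zero _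
                   add_mem' := fun hx hy j => by rw [herm_add_left]; exact dvd_add (hx j) (hy j)
                   smul_mem' := fun c _ hx j => by
                    rw [herm_smul_left]; exact Dvd.dvd.mul_left (hx j) c } :
                  Submodule GaussianInt RuVec) := by
    refine sup_le (Submodule.span_le.2 ?_) ?_
    · rintro _ ⟨k, rfl⟩ j
      rw [← dvd4_iff]
      exact fact_gram k j
    · intro y hy j
      exact herm_M4_left hy
  exact h hx j

theorem herm_dvd {x y : RuVec} (hx : x ∈ MA) (hy : y ∈ MA) : (4 : GaussianInt) ∣ herm x y := by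
  have h : MA ≤ ({ carrier := {y | ∀ x ∈ MA, (4 : GaussianInt) ∣ herm x y}
                   zero_mem' := fun x _ => by rw [herm_zero_right]; exact dvd_zero _
                   add_mem' := fun hy hy' x hx => by
                    rw [herm_add_right]; exact dvd_add (hy x hx) (hy' x hx)
                   smul_mem' := fun c _ hy x hx => by
                    rw [herm_smul_right]; exact Dvd.dvd.mul_left (hy x hx) _ } :
                  Submodule GaussianInt RuVec) := by
    refine sup_le (Submodule.span_le.2 ?_) ?_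
    · rintro _ ⟨k, rfl⟩ x hx
      exact herm_bVec_dvd hx k
    · intro y hy x _
      exact herm_M4_right hy
  exact h hy x hx

theorem eight_dvd_span : ∀ x ∈ Submodule.span GaussianInt (Set.range bVec), (8 : ℤ) ∣ ruNorm x := by
  intro x hx
  induction hx using Submodule.span_induction with
  | mem x h =>
    obtain ⟨j, rfl⟩ := h
    exact fact_norm j
  | zero =>
    rw [ruNorm_zero]
    exact dvd_zero _
  | add x y hx hy ihx ihy =>
    rw [ruNorm_add]
    have h4 : (4 : GaussianInt) ∣ herm x y :=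
      herm_dvd (Submodule.mem_sup_left hx) (Submodule.mem_sup_left hy)
    have h5 := ((four_dvd_iff _).1 h4).1
    omega
  | smul c x hx ih =>
    rw [ruNorm_smul]
    exact Dvd.dvd.mul_left ih _

theorem eight_dvd_MA {x : RuVec} (hx : x ∈ MA) : (8 : ℤ) ∣ ruNorm x := by
  obtain ⟨y, hy, z, hz, rfl⟩ := Submodule.mem_sup.1 hx
  rw [ruNorm_add]
  have h1 := eight_dvd_span y hy
  have h2 := ruNorm_M4 hz
  have h3 := ((four_dvd_iff _).1 (herm_M4_right (x := y) hz)).1
  omega

end RuL
end Cfsg.Agent.Lib.H28
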