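import Cfsg.Agent.Lib.H28.RuLattice

set_option autoImplicit false

namespace Cfsg.Agent.Lib.H28
namespace RuL

open Cfsg.Spor

/-! ## Reduction modulo `1 + i` -/

/-- Reduction modulo `1 + i`, as a ring homomorphism to `ZMod 2`. -/
def phi : GaussianInt →+* ZMod 2 := Zsqrtd.lift ⟨1, by decide⟩

theorem phi_apply (z : GaussianInt) : phi z = ((z.re + z.im : ℤ) : ZMod 2) := by
  simp [phi, Zsqrtd.lift]

theorem zmod2_mul_self (a : ZMod 2) : a * a = a := by
  revert a; decide

theorem zmod2_neg (a : ZMod 2) : -a = a := by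
  revert a; decide

theorem phi_star (z : GaussianInt) : phi (star z) = phi z := by
  rw [phi_apply, phi_apply]
  simp only [Zsqrtd.re_star, Zsqrtd.im_star]
  push_cast
  rw [zmod2_neg]

theorem phi_eq_norm (z : GaussianInt) : phi z = ((z.norm : ℤ) : ZMod 2) := by
  rw [phi_apply, Zsqrtd.norm_def]
  push_cast
  rw [zmod2_mul_self]
  have : ((-1 : ℤ) : ZMod 2) = 1 := by decide
  simp only [neg_mul, one_mul, sub_neg_eq_add, zmod2_mul_self]

theorem phi_eq_zero_iff (z : GaussianInt) : phi z = 0 ↔ (2 : ℤ) ∣ z.norm := by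
  rw [phi_eq_norm]
  exact ZMod.intCast_zmod_eq_zero_iff_dvd z.norm 2

theorem phi_eq_zero_iff' (z : GaussianInt) : phi z = 0 ↔ (2 : ℤ) ∣ z.re + z.im := by
  rw [phi_apply]
  exact ZMod.intCast_zmod_eq_zero_iff_dvd _ 2

theorem phi_eq_ite (z : GaussianInt) : phi z = if (z.re + z.im) % 2 = 0 then 0 else 1 := by
  split_ifs with h
  · rw [phi_eq_zero_iff']
    exact Int.dvd_of_emod_eq_zero h
  · have h1 : phi z ≠ 0 := by
      rw [Ne, phi_eq_zero_iff']
      intro h2
      exact h (Int.emod_eq_zero_of_dvd h2)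
    revert h1
    generalize phi z = a
    revert a
    decide

theorem phi_uVec (j : Fin 19) (p : RuIdx) : phi (uVec j p) = hbit j p := phi_eq_ite _

theorem phi_zero_of_dvd (c z : GaussianInt) (hc : c.norm = 8) (h : (4 : GaussianInt) ∣ c * z) :
    phi z = 0 := by
  obtain ⟨w, hw⟩ := h
  have h1 := congrArg Zsqrtd.norm hw
  rw [Zsqrtd.norm_mul, Zsqrtd.norm_mul, hc] at h1
  have h2 : (4 : GaussianInt).norm = 16 := by decide
  rw [h2] at h1
  rw [phi_eq_zero_iff]
  exact ⟨w.norm, by omega⟩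

/-- The layer lemma. -/
theorem layer (m n : GaussianInt) (hmn : (m * star n).norm = 8) (y u : RuVec)
    (hy : m • y ∈ MA) (hu : n • u ∈ MA) : ∑ p, phi (u p) * phi (y p) = 0 := by
  have h := herm_dvd hy hu
  rw [herm_smul_left, herm_smul_right, ← mul_assoc] at h
  have h1 := phi_zero_of_dvd _ _ hmn h
  rw [herm, map_sum] at h1
  rw [← h1]
  refine Finset.sum_congr rfl fun p _ => ?_
  rw [map_mul, phi_star, mul_comm]

/-- The binary reduction of a vector. -/
def beta (x : RuVec) : RuIdx → ZMod 2 := fun p => phi (x p)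

theorem gpi_pow_smul_uVec (j : Fin 19) (k : ℕ) (h : vv j ≤ k) :
    (gpi ^ k) • uVec j ∈ MA := by
  have h1 : (gpi ^ k) • uVec j = (gpi ^ (k - vv j)) • bVec j := by
    funext p
    simp only [Pi.smul_apply, smul_eq_mul, bVec, ← mul_assoc, ← pow_add]
    rw [Nat.sub_add_cancel h]
  rw [h1]
  exact MA.smul_mem _ (bVec_mem j)

/-- Layer checks: if `gpi ^ k • y` lies in the model lattice and `k + vv j ≤ 3`, the reduction of
`y` is orthogonal to the reduction of `uVec j`. -/
theorem layer_check (k : ℕ) (hk : k ≤ 3) (y : RuVec) (hy : (gpi ^ k) • y ∈ MA) (j : Fin 19)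
    (hj : vv j ≤ 3 - k) : ∑ p, hbit j p * beta y p = 0 := by
  have h1 : ((gpi ^ k) * star (gpi ^ (3 - k))).norm = 8 := by
    interval_cases k <;> decide
  have h2 := layer (gpi ^ k) (gpi ^ (3 - k)) h1 y (uVec j) hy (gpi_pow_smul_uVec j _ hj)
  simpa only [phi_uVec, beta] using h2

/-! ## Kernels of the check matrices -/

theorem ker_param {ι κ : Type} [Fintype ι] [Fintype κ]
    (G : RuIdx → ι → ZMod 2) (F : ι → RuIdx) (K : RuIdx → κ → ZMod 2) (H : κ → RuIdx → ZMod 2)
    (hid : ∀ p p', (∑ f, G p f * (if p' = F f then 1 else 0)) + (∑ j, K p j * H j p')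
      = if p = p' then 1 else 0)
    (a : RuIdx → ZMod 2) (ha : ∀ j, ∑ p, H j p * a p = 0) (p : RuIdx) :
    a p = ∑ f, G p f * a (F f) := by
  have h1 : a p = ∑ p', (if p = p' then 1 else 0) * a p' := by
    rw [Finset.sum_eq_single p]
    · rw [if_pos rfl, one_mul]
    · intro b _ hb
      rw [if_neg (Ne.symm hb), zero_mul]
    · intro h
      exact absurd (Finset.mem_univ p) h
  rw [h1]
  rw [show (∑ p', (if p = p' then 1 else 0) * a p') = ∑ p', ((∑ f, G p f *
      (if p' = F f then 1 else 0)) + (∑ j, K p j * H j p')) * a p' from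
    Finset.sum_congr rfl fun p' _ => by rw [hid]]
  simp only [add_mul, Finset.sum_add_distrib, Finset.sum_mul]
  have e2 : ∑ x, ∑ i, K p i * H i x * a x = 0 := by
    rw [Finset.sum_comm]
    refine Finset.sum_eq_zero fun j _ => ?_
    simp only [mul_assoc, ← Finset.mul_sum, ha j, mul_zero]
  have e3 : ∀ f, ∑ x, (if x = F f then (1 : ZMod 2) else 0) * a x = a (F f) := by
    intro f
    rw [Finset.sum_eq_single (F f)]
    · rw [if_pos rfl, one_mul]
    · intro b _ hb
      rw [if_neg hb, zero_mul]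
    · intro h
      exact absurd (Finset.mem_univ _) h
  have e1 : ∑ x, ∑ f, (G p f * if x = F f then 1 else 0) * a x = ∑ f, G p f * a (F f) := by
    rw [Finset.sum_comm]
    refine Finset.sum_congr rfl fun f _ => ?_
    simp only [mul_assoc, ← Finset.mul_sum, e3]
  rw [e1, e2, add_zero]

/-! ## Weights -/

theorem zmod2_cases (a : ZMod 2) : a = 0 ∨ a = 1 := by
  revert a; decide

theorem wt_eq_card (a : RuIdx → ZMod 2) :
    wt a = (Finset.univ.filter fun p => a p ≠ 0).card := by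
  rw [Finset.card_filter]
  refine Finset.sum_congr rfl fun p _ => ?_
  rcases zmod2_cases (a p) with h | h <;> rw [h] <;> decide

theorem sum_support (a h : RuIdx → ZMod 2) :
    ∑ p, h p * a p = ∑ p ∈ Finset.univ.filter (fun p => a p ≠ 0), h p := by
  rw [Finset.sum_filter]
  refine Finset.sum_congr rfl fun p _ => ?_
  rcases zmod2_cases (a p) with h1 | h1 <;> rw [h1] <;> simp

theorem wt_ge_two (a : RuIdx → ZMod 2)
    (ha : ∀ j : Fin 19, j.val < 9 → ∑ p, hbit j p * a p = 0) (hne : ∃ p, a p ≠ 0) :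
    2 ≤ wt a := by
  by_contra hlt
  rw [wt_eq_card] at hlt
  have hpos : 0 < (Finset.univ.filter fun p => a p ≠ 0).card := by
    obtain ⟨p, hp⟩ := hne
    exact Finset.card_pos.2 ⟨p, Finset.mem_filter.2 ⟨Finset.mem_univ _, hp⟩⟩
  have hcard : (Finset.univ.filter fun p => a p ≠ 0).card = 1 := by omega
  obtain ⟨p, hp⟩ := Finset.card_eq_one.1 hcard
  obtain ⟨j, hj, hjp⟩ := col4 p
  have h := ha j hj
  rw [sum_support, hp, Finset.sum_singleton, hjp] at h
  exact one_ne_zero h

theorem wt_ge_three (a : RuIdx → ZMod 2)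
    (ha : ∀ j : Fin 19, j.val < 10 → ∑ p, hbit j p * a p = 0) (hne : ∃ p, a p ≠ 0) :
    3 ≤ wt a := by
  by_contra hlt
  rw [wt_eq_card] at hlt
  have hpos : 0 < (Finset.univ.filter fun p => a p ≠ 0).card := by
    obtain ⟨p, hp⟩ := hne
    exact Finset.card_pos.2 ⟨p, Finset.mem_filter.2 ⟨Finset.mem_univ _, hp⟩⟩
  have hcard : (Finset.univ.filter fun p => a p ≠ 0).card = 1 ∨
      (Finset.univ.filter fun p => a p ≠ 0).card = 2 := by omega
  rcases hcard with hcard | hcard
  · obtain ⟨p, hp⟩ := Finset.card_eq_one.1 hcard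
    obtain ⟨j, hj, hjp⟩ := col4 p
    have h := ha j (by omega)
    rw [sum_support, hp, Finset.sum_singleton, hjp] at h
    exact one_ne_zero h
  · obtain ⟨p, q, hpq, hp⟩ := Finset.card_eq_two.1 hcard
    obtain ⟨j, hj, hjp⟩ := col3 p q hpq
    have h := ha j hj
    rw [sum_support, hp, Finset.sum_pair hpq] at h
    apply hjp
    have h2 : hbit j p = -hbit j q := eq_neg_of_add_eq_zero_left h
    rw [h2, zmod2_neg]

/-! ## Norms and reductions -/

theorem val_phi_le (z : GaussianInt) : ((phi z).val : ℤ) ≤ z.norm := by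
  rw [phi_eq_norm, ZMod.val_intCast]
  have h := Zsqrtd.norm_nonneg (by norm_num : (-1 : ℤ) ≤ 0) z
  push_cast
  omega

theorem wt_le_ruNorm (x : RuVec) : (wt (beta x) : ℤ) ≤ ruNorm x := by
  unfold wt ruNorm beta
  push_cast
  exact Finset.sum_le_sum fun p _ => val_phi_le (x p)

theorem norm_eq_val_of_eq (v : RuVec) (h : ruNorm v = (wt (beta v) : ℤ)) (p : RuIdx) :
    (v p).norm = ((beta v p).val : ℤ) := by
  have h1 : ∑ p, ((v p).norm - ((beta v p).val : ℤ)) = 0 := by
    rw [Finset.sum_sub_distrib]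
    unfold ruNorm wt at h
    push_cast at h
    linarith
  have h2 := (Finset.sum_eq_zero_iff_of_nonneg
    (fun p _ => sub_nonneg.2 (val_phi_le (v p)))).1 h1 p (Finset.mem_univ p)
  change (v p).norm = ((phi (v p)).val : ℤ)
  linarith

theorem exists_eq_gpi_smul (x : RuVec) (h : ∀ p, phi (x p) = 0) : ∃ y : RuVec, x = gpi • y := by
  refine ⟨fun p => ⟨((x p).re + (x p).im) / 2, ((x p).im - (x p).re) / 2⟩, ?_⟩
  funext p
  obtain ⟨k, hk⟩ := (phi_eq_zero_iff' _).1 (h p)
  simp only [Pi.smul_apply, smul_eq_mul, gpi]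
  ext
  · simp only [Zsqrtd.re_mul]
    omega
  · simp only [Zsqrtd.im_mul]
    omega

theorem ruNorm_gpi_pow_smul (k : ℕ) (y : RuVec) : ruNorm ((gpi ^ k) • y) = 2 ^ k * ruNorm y := by
  rw [ruNorm_smul]
  congr 1
  have h : gpi.norm = 2 := by decide
  have h2 : ∀ k : ℕ, (gpi ^ k).norm = 2 ^ k := by
    intro k
    induction k with
    | zero => simp
    | succ k ih => rw [pow_succ, Zsqrtd.norm_mul, ih, h, pow_succ]
  exact h2 k

theorem ruNorm_eq_zero {x : RuVec} (h : ruNorm x = 0) : x = 0 := by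
  funext p
  have h1 := (Finset.sum_eq_zero_iff_of_nonneg
    (fun p _ => Zsqrtd.norm_nonneg (by norm_num : (-1 : ℤ) ≤ 0) (x p))).1 h p (Finset.mem_univ p)
  exact (Zsqrtd.norm_eq_zero_iff (by norm_num) _).1 h1

theorem ruNorm_pos {x : RuVec} (h : x ≠ 0) : 1 ≤ ruNorm x := by
  have h1 := ruNorm_nonneg x
  have h2 : ruNorm x ≠ 0 := fun h3 => h (ruNorm_eq_zero h3)
  omega

theorem norm_eq_one_cases (z : GaussianInt) (h : z.norm = 1) : ∃ k : Fin 4, z = gI ^ k.val := by
  rw [Zsqrtd.norm_def] at h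
  obtain ⟨a, b⟩ := z
  simp only at h
  have h1 : a * a + b * b = 1 := by linarith
  have ha : -1 ≤ a ∧ a ≤ 1 := by constructor <;> nlinarith
  have hb : -1 ≤ b ∧ b ≤ 1 := by constructor <;> nlinarith
  obtain ⟨ha1, ha2⟩ := ha
  obtain ⟨hb1, hb2⟩ := hb
  interval_cases a <;> interval_cases b <;> simp at h1
  · exact ⟨2, by decide⟩
  · exact ⟨3, by decide⟩
  · exact ⟨1, by decide⟩
  · exact ⟨0, by decide⟩

end RuL
end Cfsg.Agent.Lib.H28
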