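import Mathlib
import Cfsg.Agent.Lib.H9.S3571Defs

/-!
helper28: S3571, GROUP block, piece (C2): a prime `p' ∈ (m/2, m]` not dividing `|H|` suffices.
-/

set_option autoImplicit false

namespace Cfsg.Agent.Lib.H28.S3571

open Equiv Nat Cfsg.Agent.Lib.H9.S3571

/-- a prime `r` with `r ≤ m < 2r`, `3 ≤ r` divides `m!` exactly once -/
theorem not_sq_dvd_factorial {m r : ℕ} (hr : r.Prime) (h3 : 3 ≤ r) (hm : m < 2 * r) :
    ¬ r ^ 2 ∣ m ! := by
  rcases Nat.eq_zero_or_pos m with rfl | hmpos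
  · intro h
    have := Nat.le_of_dvd (by norm_num) h
    have : 9 ≤ r ^ 2 := by nlinarith
    simp at *
    omega
  have hlt : m < r ^ 2 := by nlinarith
  have hlog : Nat.log r m < 2 := Nat.log_lt_of_lt_pow hmpos.ne' hlt
  rw [hr.pow_dvd_factorial_iff hlog]
  have : ∑ i ∈ Finset.Ico 1 2, m / r ^ i = m / r := by simp
  rw [this]
  have : m / r < 2 := Nat.div_lt_of_lt_mul (by omega)
  omega

theorem c2 : C2Stmt := by
  intro m Γ H n r hP p' hp' hm2 hpm hpH
  classical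
  have hm := hP.hm
  have : Nontrivial (Fin m) := Fin.nontrivial_iff_two_le.mpr (by omega)
  have hcardS : Nat.card (Perm (Fin m)) = m ! := by rw [Nat.card_perm, Nat.card_fin]
  have hcardA : 2 * Nat.card ↥(alternatingGroup (Fin m)) = m ! := by
    rw [two_mul_nat_card_alternatingGroup, hcardS]
  have hAΓ : Nat.card ↥(alternatingGroup (Fin m)) ∣ Nat.card ↥Γ := Subgroup.card_dvd_of_le hP.hA
  have hΓS : Nat.card ↥Γ ∣ m ! := by
    rw [← hcardS]; exact Subgroup.card_subgroup_dvd_card Γ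
  have odd_dvd : ∀ q : ℕ, q.Prime → 3 ≤ q → q ≤ m →
      q ∣ Nat.card ↥(alternatingGroup (Fin m)) := by
    intro q hq hq3 hqm
    have h1 : q ∣ 2 * Nat.card ↥(alternatingGroup (Fin m)) := by
      rw [hcardA]; exact (Nat.Prime.dvd_factorial hq).mpr hqm
    rcases (Nat.Prime.dvd_mul hq).mp h1 with h2 | h2
    · have := Nat.le_of_dvd (by norm_num) h2
      omega
    · exact h2
  have hp3 : 3 ≤ p' := by omega
  have hp'n : p' ∣ n := by
    have h1 : p' ∣ n * Nat.card ↥H := by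
      rw [← hP.hn]; exact (odd_dvd p' hp' hp3 hpm).trans hAΓ
    rcases (Nat.Prime.dvd_mul hp').mp h1 with h2 | h2
    · exact h2
    · exact absurd h2 hpH
  have hp'r : p' ≤ r := hP.hrmax p' hp' hp'n
  have hr3 : 3 ≤ r := by omega
  have hrΓ : r ∣ Nat.card ↥Γ := by rw [hP.hn]; exact Dvd.dvd.mul_right hP.hrd _
  have hrm : r ≤ m := (Nat.Prime.dvd_factorial hP.hr).mp (hrΓ.trans hΓS)
  have hrH : ¬ r ∣ Nat.card ↥H := by
    intro h
    have h1 : r ^ 2 ∣ Nat.card ↥Γ := by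
      rw [hP.hn, pow_two]; exact Nat.mul_dvd_mul hP.hrd h
    exact not_sq_dvd_factorial hP.hr hr3 (by omega) (h1.trans hΓS)
  -- Cauchy in `A_m`
  have := Fact.mk hP.hr
  obtain ⟨t', ht'⟩ := exists_prime_orderOf_dvd_card' (G := ↥(alternatingGroup (Fin m))) r
    (odd_dvd r hP.hr hr3 hrm)
  refine ⟨(t' : Perm (Fin m)), t'.2, by rw [Subgroup.orderOf_coe, ht'], ?_⟩
  intro g _ hmem
  apply hrH
  have h1 : orderOf (g⁻¹ * (t' : Perm (Fin m)) * g) = r := by
    have h2 := MulEquiv.orderOf_eq (MulAut.conj g⁻¹) (t' : Perm (Fin m))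
    rw [MulAut.conj_apply, inv_inv, Subgroup.orderOf_coe, ht'] at h2
    exact h2
  have h3 : orderOf (⟨g⁻¹ * (t' : Perm (Fin m)) * g, hmem⟩ : ↥H) = r := by
    rw [← Subgroup.orderOf_coe]; exact h1
  rw [← h3]
  exact orderOf_dvd_natCard _

end Cfsg.Agent.Lib.H28.S3571
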