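import Mathlib
import Cfsg.Agent.Lib.H9.S3571Defs

/-!
helper28: S3571, GROUP block, piece (C3): a transitive imprimitive subgroup of `Sym(m)` has no element
of prime order `p' > m/2`.
-/

set_option autoImplicit false

namespace Cfsg.Agent.Lib.H28.S3571

open Equiv Cfsg.Agent.Lib.H9.S3571

/-- an element of prime order `p` fixes every point of an invariant set with fewer than `p` points -/
theorem smul_eq_of_small {G X : Type*} [Group G] [MulAction G X] (σ : G) (p : ℕ) (hp : p.Prime)
    (hσ : orderOf σ = p) (S : Set X) (hfin : S.Finite) (hS : ∀ y ∈ S, σ • y ∈ S)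
    (hcard : S.ncard < p) (x : X) (hx : x ∈ S) : σ • x = x := by
  classical
  have hpow : ∀ i : ℕ, σ ^ i • x ∈ S := by
    intro i
    induction i with
    | zero => simpa using hx
    | succ i ih => rw [pow_succ', mul_smul]; exact hS _ ih
  have hc : hfin.toFinset.card < (Finset.range p).card := by
    rw [Finset.card_range, ← Set.ncard_eq_toFinset_card S hfin]; exact hcard
  obtain ⟨i, hi, j, hj, hij, heq⟩ := Finset.exists_ne_map_eq_of_card_lt_of_maps_to hc
    (f := fun i => σ ^ i • x) (fun i _ => by
      simp only [Finset.mem_coe, Set.Finite.mem_toFinset]; exact hpow i)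
  have key : ∀ i j : ℕ, i < j → j < p → σ ^ i • x = σ ^ j • x → σ • x = x := by
    intro i j hij hj heq
    have h1 : σ ^ (j - i) • x = x := by
      have e : σ ^ j = σ ^ i * σ ^ (j - i) := by rw [← pow_add]; congr 1; omega
      rw [e, mul_smul] at heq
      exact (MulAction.injective (σ ^ i) heq).symm
    have hcop : Nat.Coprime (j - i) p := by
      rw [Nat.coprime_comm, Nat.Prime.coprime_iff_not_dvd hp]
      intro hd
      have := Nat.le_of_dvd (by omega) hd
      omega
    obtain ⟨a, -, ha⟩ := Nat.exists_mul_mod_eq_one_of_coprime hcop hp.one_lt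
    have hmem : σ ^ (j - i) ∈ MulAction.stabilizer G x := h1
    have h2 : (σ ^ (j - i)) ^ a • x = x := (MulAction.stabilizer G x).pow_mem hmem a
    rw [← pow_mul, ← pow_mod_orderOf, hσ, ha, pow_one] at h2
    exact h2
  rcases Nat.lt_or_gt_of_ne hij with h | h
  · exact key i j h (Finset.mem_range.mp hj) heq
  · exact key j i h (Finset.mem_range.mp hi) heq.symm

open Pointwise in
theorem c3 : C3Stmt := by
  intro m H htr hnp p' hp' hm2 hdvd
  classical
  have hex : ∃ B : Set (Fin m), MulAction.IsBlock ↥H B ∧ ¬ MulAction.IsTrivialBlock B := by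
    by_contra hcon
    push Not at hcon
    exact hnp { toIsPretransitive := htr, isTrivialBlock_of_isBlock := fun {B} hB => hcon B hB }
  obtain ⟨B, hB, hBnt⟩ := hex
  have hB2 : ¬ B.Subsingleton := fun h => hBnt (Or.inl h)
  have hBu : B ≠ Set.univ := fun h => hBnt (Or.inr h)
  have hBne : B.Nonempty := by
    by_contra h
    exact hB2 (by rw [Set.not_nonempty_iff_eq_empty.mp h]; exact Set.subsingleton_empty)
  have hcardX : Nat.card (Fin m) = m := Nat.card_fin m
  have hd : 2 * B.ncard ≤ m := by
    by_contra h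
    exact hBu (hB.eq_univ_of_card_lt (by rw [hcardX]; omega))
  have hk : 2 * (MulAction.orbit ↥H B).ncard ≤ m := by
    by_contra h
    exact hB2 (hB.subsingleton_of_card_lt (by rw [hcardX]; omega))
  have := Fact.mk hp'
  obtain ⟨σ, hσ⟩ := exists_prime_orderOf_dvd_card' (G := ↥H) p' hdvd
  -- `σ` fixes every translate of `B`
  have h1 : ∀ C ∈ MulAction.orbit ↥H B, σ • C = C := by
    intro C hC
    refine smul_eq_of_small σ p' hp' hσ (MulAction.orbit ↥H B) (Set.toFinite _) ?_ (by omega) C hC
    rintro D ⟨g, rfl⟩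
    exact ⟨σ * g, mul_smul σ g B⟩
  -- `σ` fixes every point
  have h2 : ∀ y : Fin m, σ • y = y := by
    intro y
    obtain ⟨b, hb⟩ := hBne
    obtain ⟨g, hg⟩ := MulAction.exists_smul_eq ↥H b y
    have hC : σ • (g • B) = g • B := h1 (g • B) ⟨g, rfl⟩
    refine smul_eq_of_small σ p' hp' hσ (g • B) (Set.toFinite _) ?_ ?_ y ⟨b, hb, hg⟩
    · intro z hz
      rw [← hC]
      exact Set.smul_mem_smul_set hz
    · have e : (g • B).ncard = B.ncard := Set.ncard_image_of_injective B (MulAction.injective g)
      rw [e]; omega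
  have h3 : σ = 1 := by
    apply Subtype.ext
    apply Equiv.ext
    intro y
    exact h2 y
  rw [h3, orderOf_one] at hσ
  exact hp'.one_lt.ne' hσ.symm

end Cfsg.Agent.Lib.H28.S3571
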