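import Mathlib
import Cfsg.Agent.Lib.H1.PGroupBasic

/-!
# S3776 pre-built brick ENDGAME (helper28)

From the "special type" data of a finite 2-group `G` (the centre is exactly the set of solutions
of `x ^ 2 = 1`, all squares lie there, and every such element is a product of commutators) to the
literal conclusion of S3776: `commutator G = frattini G = center G = {x | x ^ 2 = 1}`.
Two forms: `endgame` (elementwise) and `endgame_sub` (with a subgroup `V`).
-/

namespace Cfsg.Agent.Lib.H28.S3776End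

universe u

open scoped commutatorElement

/-- if all squares are central then all commutators are central -/
theorem commutator_le_center_of_sq {G : Type u} [Group G]
    (hsq : ∀ g : G, g ^ 2 ∈ Subgroup.center G) : commutator G ≤ Subgroup.center G := by
  rw [commutator_def, Subgroup.commutator_le]
  intro g _ h _
  have h1 : ⁅g, h⁆ = (g * h) ^ 2 * (g ^ 2)⁻¹ * (h ^ 2)⁻¹ := by
    have hc : ∀ y : G, (g ^ 2)⁻¹ * y = y * (g ^ 2)⁻¹ := fun y =>
      ((Subgroup.mem_center_iff.mp ((Subgroup.center G).inv_mem (hsq g))) y).symm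
    rw [commutatorElement_def]
    have e1 : (g * h) ^ 2 * (g ^ 2)⁻¹ * (h ^ 2)⁻¹ = g * h * g * (h * (g ^ 2)⁻¹) * (h ^ 2)⁻¹ := by
      simp only [pow_two, mul_assoc]
    rw [e1, ← hc h]
    simp only [pow_two, mul_inv_rev, mul_assoc]
    simp
  rw [h1]
  exact (Subgroup.center G).mul_mem ((Subgroup.center G).mul_mem (hsq _)
    ((Subgroup.center G).inv_mem (hsq _))) ((Subgroup.center G).inv_mem (hsq _))

/-- ENDGAME, elementwise form. -/
theorem endgame {G : Type u} [Group G] [Finite G] (hG : IsPGroup 2 G)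
    (hZ : ∀ x : G, x ∈ Subgroup.center G ↔ x ^ 2 = 1)
    (hsq : ∀ g : G, (g ^ 2) ^ 2 = 1)
    (hV : ∀ v : G, v ^ 2 = 1 → v ∈ commutator G) :
    commutator G = frattini G ∧ frattini G = Subgroup.center G ∧
      ∀ x : G, x ∈ Subgroup.center G ↔ x ^ 2 = 1 := by
  have : Fact (Nat.Prime 2) := ⟨Nat.prime_two⟩
  have hsqc : ∀ g : G, g ^ 2 ∈ Subgroup.center G := fun g => (hZ _).mpr (hsq g)
  have h1 : commutator G ≤ Subgroup.center G := commutator_le_center_of_sq hsqc
  have h2 : Subgroup.center G ≤ commutator G := fun v hv => hV v ((hZ v).mp hv)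
  have h3 : commutator G ≤ frattini G := Cfsg.Agent.Lib.H1.isPGroup_commutator_le_frattini hG
  have h4 : frattini G ≤ Subgroup.center G :=
    Cfsg.Agent.Lib.H1.frattini_le_of_commutator_le_of_pow_mem (p := 2) (Subgroup.center G) h1 hsqc
  have h5 : commutator G = Subgroup.center G := le_antisymm h1 h2
  have h6 : frattini G = Subgroup.center G := le_antisymm h4 (h5 ▸ h3)
  exact ⟨h5.trans h6.symm, h6, hZ⟩

/-- ENDGAME, subgroup form: `V = {x | x ^ 2 = 1}` is the centre, `G / V` has exponent 2 and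
`V ≤ G'`. -/
theorem endgame_sub {G : Type u} [Group G] [Finite G] (hG : IsPGroup 2 G) (V : Subgroup G)
    (hVmem : ∀ x : G, x ∈ V ↔ x ^ 2 = 1) (hVZ : Subgroup.center G = V)
    (hsq : ∀ g : G, g ^ 2 ∈ V) (hVc : V ≤ commutator G) :
    commutator G = frattini G ∧ frattini G = Subgroup.center G ∧
      ∀ x : G, x ∈ Subgroup.center G ↔ x ^ 2 = 1 :=
  endgame hG (fun x => by rw [hVZ]; exact hVmem x) (fun g => (hVmem _).mp (hsq g))
    (fun v hv => hVc ((hVmem v).mpr hv))

example : ∀ {G : Type} [Group G] [Finite G] (_ : IsPGroup 2 G)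
    (_ : ∀ x : G, x ∈ Subgroup.center G ↔ x ^ 2 = 1) (_ : ∀ g : G, (g ^ 2) ^ 2 = 1)
    (_ : ∀ v : G, v ^ 2 = 1 → v ∈ commutator G),
    commutator G = frattini G ∧ frattini G = Subgroup.center G ∧
      ∀ x : G, x ∈ Subgroup.center G ↔ x ^ 2 = 1 := fun h1 h2 h3 h4 => endgame.{0} h1 h2 h3 h4

end Cfsg.Agent.Lib.H28.S3776End
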