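import Mathlib
import Cfsg.Agent.Lib.H9.S3776Defs

/-!
# S3776 piece (8) S1C (helper28, twin): step (1c)

Route: `LemEMulStmt` with `V`-type `=` `T`-type `=` the subgroup `V`; `p g = g ^ n` with `2 n` the
exponent of `G`; `ker p` is central by a counting argument; `b u v = [h v, h u]` for a section `h`
of `p`.
-/

set_option autoImplicit false

namespace Cfsg.Agent.Lib.H28.S3776S1C

open Cfsg.Agent.Lib.H9.S3776

universe u

section Class2

variable {G : Type u} [Group G]

/-- the commutator in the convention of the cut -/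
def cm (x y : G) : G := x * y * x⁻¹ * y⁻¹

theorem cm_self (x : G) : cm x x = 1 := by unfold cm; group

theorem cm_eq_one_iff (x y : G) : cm x y = 1 ↔ x * y = y * x := by
  unfold cm
  constructor
  · intro h
    have : x * y * x⁻¹ * y⁻¹ * (y * x) = y * x := by rw [h, one_mul]
    rw [← this]; group
  · intro h
    rw [h]; group

variable (V : Subgroup G) (hc : ∀ v ∈ V, ∀ g : G, g * v = v * g) (h3 : ∀ x y : G, cm x y ∈ V)

include hc h3 in
theorem cm_mul_left (x y g : G) : cm (x * y) g = cm x g * cm y g := by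
  have hcen : ∀ w : G, w * cm y g = cm y g * w := fun w => hc _ (h3 y g) w
  calc cm (x * y) g = x * cm y g * g * x⁻¹ * g⁻¹ := by unfold cm; group
    _ = cm y g * (x * g * x⁻¹ * g⁻¹) := by rw [hcen x]; simp only [mul_assoc]
    _ = cm x g * cm y g := by rw [← hcen]; rfl

include hc h3 in
theorem cm_mul_right (x g h : G) : cm x (g * h) = cm x g * cm x h := by
  have hcen : ∀ w : G, w * cm x h = cm x h * w := fun w => hc _ (h3 x h) w
  calc cm x (g * h) = x * g * x⁻¹ * (cm x h * g⁻¹) := by unfold cm; group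
    _ = x * g * x⁻¹ * (g⁻¹ * cm x h) := by rw [hcen g⁻¹]
    _ = cm x g * cm x h := by unfold cm; simp only [mul_assoc]

theorem cm_central_left {z : G} (hz : ∀ g : G, g * z = z * g) (x : G) : cm z x = 1 := by
  rw [cm_eq_one_iff]; exact (hz x).symm

theorem cm_central_right {z : G} (hz : ∀ g : G, g * z = z * g) (x : G) : cm x z = 1 := by
  rw [cm_eq_one_iff]; exact hz x

variable (h2V : ∀ v ∈ V, v * v = 1)

include hc h3 h2V in
/-- squares are central -/
theorem sq_central (x g : G) : g * (x * x) = (x * x) * g := by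
  have h := cm_mul_left V hc h3 x x g
  rw [h2V _ (h3 x g), cm_eq_one_iff] at h
  exact h.symm

include hc h3 h2V in
theorem sq_central' (x g : G) : g * x ^ 2 = x ^ 2 * g := by
  rw [pow_two]; exact sq_central V hc h3 h2V x g

include hc h3 h2V in
/-- fourth powers are multiplicative -/
theorem pow_four_mul (x y : G) : (x * y) ^ 4 = x ^ 4 * y ^ 4 := by
  have hcy : ∀ w : G, w * cm y x = cm y x * w := fun w => hc _ (h3 y x) w
  have e1 : (x * y) ^ 2 = cm y x * (x ^ 2 * y ^ 2) := by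
    have : (x * y) ^ 2 = x * (cm y x * x * y) * y := by rw [pow_two]; unfold cm; group
    rw [this]; simp only [pow_two, mul_assoc]
    rw [← mul_assoc x (cm y x), hcy x, mul_assoc]
  have hx2 : ∀ w : G, w * x ^ 2 = x ^ 2 * w := sq_central' V hc h3 h2V x
  calc (x * y) ^ 4 = ((x * y) ^ 2) ^ 2 := by rw [← pow_mul]
    _ = (cm y x * (x ^ 2 * y ^ 2)) * (cm y x * (x ^ 2 * y ^ 2)) := by rw [e1, pow_two]
    _ = (cm y x * cm y x) * ((x ^ 2 * y ^ 2) * (x ^ 2 * y ^ 2)) := by
        rw [mul_assoc (cm y x), ← mul_assoc (x ^ 2 * y ^ 2) (cm y x), hcy]; simp only [mul_assoc]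
    _ = (x ^ 2 * y ^ 2) * (x ^ 2 * y ^ 2) := by rw [h2V _ (h3 y x), one_mul]
    _ = x ^ 2 * (x ^ 2 * y ^ 2) * y ^ 2 := by
        rw [mul_assoc (x ^ 2) (y ^ 2), ← mul_assoc (y ^ 2) (x ^ 2), hx2 (y ^ 2)]; simp only [mul_assoc]
    _ = x ^ 4 * y ^ 4 := by
        have a : x ^ 4 = x ^ 2 * x ^ 2 := by rw [← pow_add]
        have b : y ^ 4 = y ^ 2 * y ^ 2 := by rw [← pow_add]
        rw [a, b]; simp only [mul_assoc]

include hc h3 h2V in
/-- `g ↦ g ^ (4 m)` is multiplicative -/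
theorem pow_four_mul_mul (m : ℕ) (x y : G) : (x * y) ^ (4 * m) = x ^ (4 * m) * y ^ (4 * m) := by
  rw [pow_mul, pow_mul, pow_mul, pow_four_mul V hc h3 h2V]
  apply Commute.mul_pow
  have : x ^ 4 = (x ^ 2) ^ 2 := by rw [← pow_mul]
  show x ^ 4 * y ^ 4 = y ^ 4 * x ^ 4
  rw [this, pow_two]
  have hx2 : ∀ w : G, w * x ^ 2 = x ^ 2 * w := sq_central' V hc h3 h2V x
  rw [mul_assoc, ← hx2 (y ^ 4), ← mul_assoc, ← hx2 (y ^ 4), mul_assoc]

end Class2

section Count

variable {G : Type u} [Group G] [Finite G]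

/-- the counting step: the kernel of the power map is central -/
theorem ker_le_center (V : Subgroup G)
    (hVmem : ∀ x : G, x ∈ V ↔ x ^ 2 = 1) (hc : ∀ v ∈ V, ∀ g : G, g * v = v * g)
    (h1 : ∀ v ∈ V, ∃ z ∈ Subgroup.center G, z ^ 2 = v)
    (h2 : ∀ x : G, x ^ 2 ∈ V → x ∈ Subgroup.center G)
    (h3 : ∀ x y : G, cm x y ∈ V)
    (n : ℕ) (hn4 : ∃ m, n = 4 * m)
    (hpV : ∀ g : G, g ^ n ∈ V)
    (hsurj : ∀ v ∈ V, ∃ g : G, g ^ n = v) :
    ∀ g : G, g ^ n = 1 → g ∈ Subgroup.center G := by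
  classical
  have h2V : ∀ v ∈ V, v * v = 1 := fun v hv => by rw [← pow_two]; exact (hVmem v).mp hv
  obtain ⟨m, rfl⟩ := hn4
  have pmul : ∀ x y : G, (x * y) ^ (4 * m) = x ^ (4 * m) * y ^ (4 * m) :=
    pow_four_mul_mul V hc h3 h2V m
  have hVn : V.Normal :=
    ⟨fun v hv g => by rw [hc v hv g, mul_assoc, mul_inv_cancel, mul_one]; exact hv⟩
  let p : G →* G := { toFun := fun g => g ^ (4 * m), map_one' := one_pow _, map_mul' := pmul }
  have hprange : p.range = V := by
    apply le_antisymm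
    · rintro _ ⟨g, rfl⟩; exact hpV g
    · intro v hv; obtain ⟨g, hg⟩ := hsurj v hv; exact ⟨g, hg⟩
  have hQc : ∀ a b : G ⧸ V, a * b = b * a := by
    intro a b
    induction a using QuotientGroup.induction_on with
    | H x =>
      induction b using QuotientGroup.induction_on with
      | H y =>
        rw [← QuotientGroup.mk_mul, ← QuotientGroup.mk_mul, QuotientGroup.eq]
        have e : (x * y)⁻¹ * (y * x) = cm y⁻¹ x⁻¹ := by unfold cm; group
        rw [e]; exact h3 _ _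
  let σ : G →* G ⧸ V :=
    { toFun := fun g => (QuotientGroup.mk g : G ⧸ V) ^ 2
      map_one' := by simp
      map_mul' := fun x y => by
        rw [QuotientGroup.mk_mul]; exact Commute.mul_pow (hQc _ _) 2 }
  have hker : ∀ g : G, g ∈ σ.ker ↔ g ^ 2 ∈ V := by
    intro g
    rw [MonoidHom.mem_ker]
    show (QuotientGroup.mk g : G ⧸ V) ^ 2 = 1 ↔ _
    rw [← QuotientGroup.mk_pow, QuotientGroup.eq_one_iff]
  have hXc : ∀ x ∈ σ.ker, ∀ g : G, g * x = x * g := fun x hx g =>
    Subgroup.mem_center_iff.mp (h2 x ((hker x).mp hx)) g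
  let sqX : σ.ker →* V :=
    { toFun := fun x => ⟨(x : G) ^ 2, (hker x).mp x.2⟩
      map_one' := by ext; simp
      map_mul' := fun x y => by
        ext
        show ((x : G) * (y : G)) ^ 2 = (x : G) ^ 2 * (y : G) ^ 2
        exact Commute.mul_pow (hXc y y.2 x) 2 }
  have hsq_surj : Function.Surjective sqX := by
    rintro ⟨v, hv⟩
    obtain ⟨z, hz, hzv⟩ := h1 v hv
    have hzk : z ∈ σ.ker := (hker z).mpr (hzv ▸ hv)
    exact ⟨⟨z, hzk⟩, Subtype.ext hzv⟩
  have hsq_ker : sqX.ker = V.subgroupOf σ.ker := by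
    ext x
    rw [MonoidHom.mem_ker, Subgroup.mem_subgroupOf, hVmem]
    constructor
    · intro h; exact congrArg Subtype.val h
    · intro h; exact Subtype.ext h
  have hVX : V ≤ σ.ker := fun v hv =>
    (hker v).mpr (by rw [(hVmem v).mp hv]; exact V.one_mem)
  have cX : Nat.card σ.ker = Nat.card V * Nat.card V := by
    have a1 := Subgroup.card_mul_index sqX.ker
    rw [Subgroup.index_ker, MonoidHom.range_eq_top.mpr hsq_surj, Subgroup.card_top, hsq_ker] at a1
    rw [← a1, Nat.card_congr (Subgroup.subgroupOfEquivOfLe hVX).toEquiv]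
  have c1 : Nat.card σ.ker * Nat.card σ.range = Nat.card G := by
    have := Subgroup.card_mul_index σ.ker
    rwa [Subgroup.index_ker] at this
  let S : Subgroup G := σ.range.comap (QuotientGroup.mk' V)
  have c2 : Nat.card S * σ.range.index = Nat.card G := by
    have := Subgroup.card_mul_index S
    rwa [Subgroup.index_comap_of_surjective _ (QuotientGroup.mk'_surjective V)] at this
  have c3 : Nat.card σ.range * σ.range.index = Nat.card (G ⧸ V) :=
    Subgroup.card_mul_index σ.range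
  have c4 : Nat.card G = Nat.card (G ⧸ V) * Nat.card V :=
    Subgroup.card_eq_card_quotient_mul_card_subgroup V
  have c5 : Nat.card p.ker * Nat.card V = Nat.card G := by
    have := Subgroup.card_mul_index p.ker
    rwa [Subgroup.index_ker, hprange] at this
  have hidx : 0 < σ.range.index := Nat.pos_of_ne_zero Subgroup.index_ne_zero_of_finite
  have hV0 : 0 < Nat.card V := Nat.card_pos
  have e1 : Nat.card S = Nat.card σ.range * Nat.card V := by
    apply Nat.eq_of_mul_eq_mul_right hidx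
    rw [c2, c4, ← c3]; ring
  have e2 : Nat.card p.ker = Nat.card σ.range * Nat.card V := by
    apply Nat.eq_of_mul_eq_mul_right hV0
    rw [c5, ← c1, cX]; ring
  have hSel : ∀ g ∈ S, ∃ h v : G, v ∈ V ∧ g = h ^ 2 * v := by
    intro g hg
    obtain ⟨h, hh⟩ := hg
    have hh' : (QuotientGroup.mk (h ^ 2) : G ⧸ V) = QuotientGroup.mk g := by
      rw [QuotientGroup.mk_pow]; exact hh
    rw [QuotientGroup.eq] at hh'
    exact ⟨h, (h ^ 2)⁻¹ * g, hh', by group⟩
  have hSle : S ≤ p.ker := by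
    intro g hg
    obtain ⟨h, v, hv, rfl⟩ := hSel g hg
    rw [MonoidHom.mem_ker]
    show (h ^ 2 * v) ^ (4 * m) = 1
    have hv4 : v ^ (4 * m) = 1 := by
      rw [show 4 * m = 2 * (2 * m) by ring, pow_mul, (hVmem v).mp hv, one_pow]
    rw [pmul, hv4, mul_one, ← pow_mul, mul_comm 2 (4 * m), pow_mul]
    exact (hVmem _).mp (hpV h)
  have hSeq : S = p.ker := Subgroup.eq_of_le_of_card_ge hSle (by rw [e1, e2])
  intro g hg
  have hgS : g ∈ S := by rw [hSeq, MonoidHom.mem_ker]; exact hg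
  obtain ⟨h, v, hv, rfl⟩ := hSel g hgS
  rw [Subgroup.mem_center_iff]
  intro w
  rw [← mul_assoc, sq_central' V hc h3 h2V h w, mul_assoc, hc v hv w, mul_assoc]

end Count

/-- **(S1C)** step (1c). -/
theorem s1c : S1CStmt.{u} := by
  intro G E _ _ _ _ φ V hE hyp fr h1 h2 h3
  classical
  by_contra hcomm
  push Not at hcomm
  obtain ⟨a0, b0, hab⟩ := hcomm
  have hc := fr.cen
  have hVmem := fr.mem
  have h3' : ∀ x y : G, cm x y ∈ V := h3
  have h2V : ∀ v ∈ V, v * v = 1 := fun v hv => by rw [← pow_two]; exact (hVmem v).mp hv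
  have : Fact (Nat.Prime 2) := ⟨Nat.prime_two⟩
  have hex : ∃ k, ∀ g : G, g ^ (2 ^ k) = 1 := by
    obtain ⟨k, hk⟩ := (IsPGroup.iff_card.mp hyp.pG)
    exact ⟨k, fun g => by rw [← hk]; exact pow_card_eq_one'⟩
  have hk0 : ∀ g : G, g ^ (2 ^ (Nat.find hex)) = 1 := Nat.find_spec hex
  have hk3 : 3 ≤ Nat.find hex := by
    by_contra hlt
    have hlt' : Nat.find hex ≤ 2 := by omega
    have h4 : ∀ g : G, g ^ 4 = 1 := fun g => by
      have hd : 2 ^ (Nat.find hex) ∣ 4 := by
        have : (4 : ℕ) = 2 ^ 2 := by norm_num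
        rw [this]; exact pow_dvd_pow 2 hlt'
      obtain ⟨c, hc4⟩ := hd
      rw [hc4, pow_mul, hk0 g, one_pow]
    apply hab
    have ha : a0 ∈ Subgroup.center G :=
      h2 a0 ((hVmem _).mpr (by rw [← pow_mul]; exact h4 a0))
    exact (Subgroup.mem_center_iff.mp ha b0).symm
  obtain ⟨g0, hg0⟩ : ∃ g0 : G, g0 ^ (2 ^ (Nat.find hex - 1)) ≠ 1 := by
    by_contra h
    push Not at h
    exact Nat.find_min hex (m := Nat.find hex - 1) (by omega) h
  obtain ⟨n, hn⟩ : ∃ n : ℕ, n = 2 ^ (Nat.find hex - 1) := ⟨_, rfl⟩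
  rw [← hn] at hg0
  have hn4 : ∃ m, n = 4 * m :=
    ⟨2 ^ (Nat.find hex - 3), by
      rw [hn, show (4 : ℕ) = 2 ^ 2 by norm_num, ← pow_add]; congr 1; omega⟩
  have hpV : ∀ g : G, g ^ n ∈ V := fun g => by
    rw [hVmem, ← pow_mul, hn, ← pow_succ]
    have : Nat.find hex - 1 + 1 = Nat.find hex := by omega
    rw [this]; exact hk0 g
  obtain ⟨m, hm⟩ := hn4
  have pmul : ∀ x y : G, (x * y) ^ n = x ^ n * y ^ n := by
    rw [hm]; exact pow_four_mul_mul V hc h3' h2V m
  let W : Subgroup G :=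
    { carrier := {v | ∃ g : G, g ^ n = v}
      mul_mem' := by
        rintro _ _ ⟨g, rfl⟩ ⟨g', rfl⟩
        exact ⟨g * g', pmul g g'⟩
      one_mem' := ⟨1, one_pow _⟩
      inv_mem' := by
        rintro _ ⟨g, rfl⟩
        exact ⟨g⁻¹, inv_pow g n⟩ }
  have hWV : W ≤ V := by rintro _ ⟨g, rfl⟩; exact hpV g
  have hWinv : Inv φ W := by
    rintro e _ ⟨g, rfl⟩
    exact ⟨φ e g, by rw [map_pow]⟩
  have hWne : W ≠ ⊥ := fun h => hg0 (by
    have : g0 ^ n ∈ W := ⟨g0, rfl⟩
    rw [h, Subgroup.mem_bot] at this; exact this)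
  have hWV' : W = V := (fr.irr W hWV hWinv).resolve_left hWne
  have hsurj : ∀ v ∈ V, ∃ g : G, g ^ n = v := fun v hv => by
    rw [← hWV'] at hv; exact hv
  have hkerc : ∀ g : G, g ^ n = 1 → g ∈ Subgroup.center G :=
    ker_le_center V hVmem hc h1 h2 h3' n ⟨m, hm⟩ hpV hsurj
  have hWD : ∀ g g' : G, g ^ n = g' ^ n →
      ∃ z : G, (∀ w : G, w * z = z * w) ∧ g' = g * z := by
    intro g g' h
    refine ⟨g⁻¹ * g', ?_, by group⟩
    have : (g⁻¹ * g') ^ n = 1 := by rw [pmul, inv_pow, h, inv_mul_cancel]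
    exact fun w => Subgroup.mem_center_iff.mp (hkerc _ this) w
  have hcmL : ∀ g g' x : G, g ^ n = g' ^ n → cm g x = cm g' x := by
    intro g g' x h
    obtain ⟨z, hz, rfl⟩ := hWD g g' h
    rw [cm_mul_left V hc h3', cm_central_left hz, mul_one]
  have hcmR : ∀ g g' x : G, g ^ n = g' ^ n → cm x g = cm x g' := by
    intro g g' x h
    obtain ⟨z, hz, rfl⟩ := hWD g g' h
    rw [cm_mul_right V hc h3', cm_central_right hz, mul_one]
  choose! hs hhs using hsurj
  let aV : E → V → V := fun e v => ⟨φ e v, fr.inv e v v.2⟩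
  let b : V → V → V := fun t v => ⟨cm (hs v) (hs t), h3' _ _⟩
  have haV1 : ∀ e (v w : V), aV e (v * w) = aV e v * aV e w := fun e v w =>
    Subtype.ext (map_mul (φ e) (v : G) (w : G))
  have haV2 : ∀ e f (v : V), aV (e * f) v = aV e (aV f v) := fun e f v =>
    Subtype.ext (by show φ (e * f) v = φ e (φ f v); rw [map_mul]; rfl)
  have haV3 : ∀ v : V, aV 1 v = v := fun v =>
    Subtype.ext (by show φ 1 v = (v : G); rw [map_one]; rfl)
  have key := hE E V V aV aV b hyp.solv (fun v => Subtype.ext (h2V v v.2))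
    (fun v => Subtype.ext (h2V v v.2)) haV1 haV2 haV3 haV1 haV2 haV3
    (by
      obtain ⟨x, y, hx, hy, hxy, hx1, hy1⟩ := fr.two
      exact ⟨⟨x, hx⟩, ⟨y, hy⟩, fun h => hx1 (congrArg Subtype.val h),
        fun h => hy1 (congrArg Subtype.val h), fun h => hxy (congrArg Subtype.val h)⟩)
    (by
      intro v w hv hw
      obtain ⟨e, he⟩ := fr.trans v w v.2 w.2 (fun h => hv (Subtype.ext h))
        (fun h => hw (Subtype.ext h))
      exact ⟨e, Subtype.ext he⟩)
    (by
      intro S hS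
      have := fr.irr (S.map V.subtype) (by rintro _ ⟨s, _, rfl⟩; exact s.2)
        (by rintro e _ ⟨s, hs', rfl⟩; exact ⟨aV e s, hS e s hs', rfl⟩)
      rcases this with h | h
      · left; exact (Subgroup.map_eq_bot_iff_of_injective S V.subtype_injective).mp h
      · right
        rw [eq_top_iff]
        intro x _
        have hx : (x : G) ∈ S.map V.subtype := by rw [h]; exact x.2
        obtain ⟨s, hs', hsx⟩ := hx
        have : s = x := Subtype.ext hsx
        exact this ▸ hs')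
    (by
      intro t s v
      apply Subtype.ext
      show cm (hs v) (hs ((t : G) * (s : G))) = cm (hs v) (hs t) * cm (hs v) (hs s)
      have e1 : (hs ((t : G) * (s : G))) ^ n = (hs t * hs s) ^ n := by
        rw [hhs _ (V.mul_mem t.2 s.2), pmul, hhs _ t.2, hhs _ s.2]
      rw [hcmR _ _ _ e1, cm_mul_right V hc h3'])
    (by
      intro t v w
      apply Subtype.ext
      show cm (hs ((v : G) * (w : G))) (hs t) = cm (hs v) (hs t) * cm (hs w) (hs t)
      have e1 : (hs ((v : G) * (w : G))) ^ n = (hs v * hs w) ^ n := by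
        rw [hhs _ (V.mul_mem v.2 w.2), pmul, hhs _ v.2, hhs _ w.2]
      rw [hcmL _ _ _ e1, cm_mul_left V hc h3'])
    (by
      intro e t v
      apply Subtype.ext
      show cm (hs (φ e v)) (hs (φ e t)) = φ e (cm (hs v) (hs t))
      have e0 : φ e (cm (hs v) (hs t)) = cm (φ e (hs v)) (φ e (hs t)) := by
        unfold cm; simp only [map_mul, map_inv]
      have e1 : (hs (φ e v)) ^ n = (φ e (hs v)) ^ n := by
        rw [hhs _ (fr.inv e v v.2), ← map_pow, hhs _ v.2]
      have e2 : (hs (φ e t)) ^ n = (φ e (hs t)) ^ n := by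
        rw [hhs _ (fr.inv e t t.2), ← map_pow, hhs _ t.2]
      rw [e0, hcmL _ _ _ e1, hcmR _ _ _ e2])
    (by
      refine ⟨⟨a0 ^ n, hpV a0⟩, ⟨b0 ^ n, hpV b0⟩, ?_⟩
      intro h
      have h' : cm (hs (b0 ^ n)) (hs (a0 ^ n)) = 1 := congrArg Subtype.val h
      rw [hcmL _ b0 _ (hhs _ (hpV b0)), hcmR _ a0 _ (hhs _ (hpV a0)), cm_eq_one_iff] at h'
      exact hab h'.symm)
  obtain ⟨x, y, hx, hy, hxy, hx1, hy1⟩ := fr.two
  have hx1' : (⟨x, hx⟩ : V) ≠ 1 := fun h => hx1 (congrArg Subtype.val h)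
  apply key ⟨x, hx⟩ ⟨x, hx⟩ hx1' hx1'
  apply Subtype.ext
  show cm (hs x) (hs x) = 1
  exact cm_self _

example : S1CStmt.{0} := s1c

end Cfsg.Agent.Lib.H28.S3776S1C
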