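import Cfsg.Agent.Lib.H5.S3777Defs

/-!
# S3777 — PAIR-TRANSFER lemmas (helper28)

Transfer of a pair `(G, M)` to a subgroup `K` (on the type `↥K`), and translation of the
derived subgroups of `↥K` and of `A.subgroupOf K` to subgroups of `G`.
-/

set_option autoImplicit false

namespace Cfsg.Agent.Lib.H28.S3777PT

open Subgroup
open Cfsg.Agent.Lib.H5.S3777

universe u

variable {G : Type u} [Group G]

/-- the centraliser of `k : ↥K` inside `↥K` is the trace of the centraliser in `G` -/
theorem centralizer_subgroup_eq (K : Subgroup G) (k : K) :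
    centralizer ({k} : Set K) = (centralizer ({(k : G)} : Set G)).subgroupOf K := by
  ext x
  rw [mem_subgroupOf, mem_centralizer_iff, mem_centralizer_iff]
  constructor
  · intro h y hy
    rw [Set.mem_singleton_iff] at hy
    subst hy
    have := h k rfl
    exact congrArg Subtype.val this
  · intro h y hy
    rw [Set.mem_singleton_iff] at hy
    subst hy
    exact Subtype.ext (h (y : G) rfl)

/-- centraliser index in `↥K` as a relative index -/
theorem centralizer_subgroup_index (K : Subgroup G) (k : K) :
    (centralizer ({k} : Set K)).index = (centralizer ({(k : G)} : Set G)).relIndex K := by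
  rw [centralizer_subgroup_eq]; rfl

/-- a relative index is at most the index (finite group) -/
theorem relIndex_le_index_of_finite [Finite G] (H K : Subgroup G) : H.relIndex K ≤ H.index := by
  have h := Subgroup.relIndex_le_of_le_right (H := H) (K := K) (L := ⊤) le_top
    (by rw [Subgroup.relIndex_top_right]; exact Subgroup.index_ne_zero_of_finite)
  rwa [Subgroup.relIndex_top_right] at h

/-- (T2) centraliser index in `↥K` is at most the one in `G` -/
theorem centralizer_subgroup_index_le [Finite G] (K : Subgroup G) (k : K) :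
    (centralizer ({k} : Set K)).index ≤ (centralizer ({(k : G)} : Set G)).index := by
  rw [centralizer_subgroup_index]
  exact relIndex_le_index_of_finite _ _

/-- (PT2) = (T1): the derived subgroup of `↥K` has the order of `⁅K, K⁆` -/
theorem card_commutator_subgroup (K : Subgroup G) :
    Nat.card ↥(commutator ↥K) = Nat.card ↥⁅K, K⁆ := by
  rw [← K.map_subtype_commutator]
  exact (Subgroup.card_subtype K (commutator K)).symm

/-- (T5) derived subgroup of `A.subgroupOf K` for `A ≤ K`, pushed to `G` -/
theorem map_subtype_commutator_subgroupOf {A K : Subgroup G} (hAK : A ≤ K) :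
    (⁅A.subgroupOf K, A.subgroupOf K⁆).map K.subtype = ⁅A, A⁆ := by
  rw [Subgroup.map_commutator, Subgroup.map_subgroupOf_eq_of_le hAK]

/-- (PT3) residual / non-residual transfer -/
theorem commutator_subgroupOf_eq_iff {A K : Subgroup G} (hAK : A ≤ K) :
    ⁅A.subgroupOf K, A.subgroupOf K⁆ = commutator ↥K ↔ ⁅A, A⁆ = ⁅K, K⁆ := by
  rw [← map_subtype_commutator_subgroupOf hAK, ← K.map_subtype_commutator]
  exact (Subgroup.map_injective K.subtype_injective).eq_iff.symm

/-- (T5) index of `A.subgroupOf K` -/
theorem index_subgroupOf (A K : Subgroup G) : (A.subgroupOf K).index = A.relIndex K := rfl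

/-- (PT4a) subgroups of a `p`-group are `p`-groups -/
theorem isPGroup_subgroup {p : ℕ} (hG : IsPGroup p G) (K : Subgroup G) : IsPGroup p ↥K :=
  hG.to_subgroup K

/-- (PT4b) a subgroup of index `p ≥ 2` is strictly smaller -/
theorem card_lt_of_index_eq [Finite G] {p : ℕ} (hp : 2 ≤ p) {K : Subgroup G} (hK : K.index = p) :
    Nat.card ↥K < Nat.card G := by
  have h := K.card_mul_index
  rw [hK] at h
  have hpos : 0 < Nat.card ↥K := Nat.card_pos
  nlinarith

/-- (PT4c) a proper subgroup is strictly smaller -/
theorem card_lt_of_ne_top [Finite G] {K : Subgroup G} (hK : K ≠ ⊤) :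
    Nat.card ↥K < Nat.card G := by
  have h := K.card_mul_index
  have hpos : 0 < Nat.card ↥K := Nat.card_pos
  have h1 : K.index ≠ 1 := fun h1 => hK (Subgroup.index_eq_one.mp h1)
  have h0 : K.index ≠ 0 := Subgroup.index_ne_zero_of_finite
  have h2 : 2 ≤ K.index := by omega
  nlinarith

/-- a subgroup of index `p` of a finite `p`-group is normal -/
theorem normal_of_index_eq_p [Finite G] {p : ℕ} [Fact p.Prime] (hG : IsPGroup p G)
    {M : Subgroup G} (hM : M.index = p) : M.Normal := by
  apply Subgroup.normal_of_index_eq_minFac_card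
  rw [hM]
  obtain ⟨n, hn⟩ := IsPGroup.iff_card.mp hG
  have hn0 : n ≠ 0 := by
    rintro rfl
    rw [pow_zero] at hn
    have h := M.card_mul_index
    rw [hn, hM] at h
    have hp := (Fact.out : p.Prime).two_le
    have : Nat.card ↥M * p = 1 := h
    have := Nat.eq_one_of_mul_eq_one_left this
    omega
  rw [hn, Nat.Prime.pow_minFac Fact.out hn0]

/-- two distinct subgroups of prime index `p`, one of them normal, generate `G` -/
theorem sup_eq_top_of_index_eq {p : ℕ} [Fact p.Prime] {M K : Subgroup G}
    (hM : M.index = p) (hK : K.index = p) (hne : K ≠ M) : K ⊔ M = ⊤ := by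
  have hp : p.Prime := Fact.out
  have hML : ¬ M ≤ K := by
    intro hle
    have h := Subgroup.relIndex_mul_index hle
    rw [hK, hM] at h
    have h1 : M.relIndex K = 1 := by
      have hp0 : 0 < p := hp.pos
      exact Nat.eq_of_mul_eq_mul_right hp0 (by rw [h, one_mul])
    exact hne (le_antisymm (Subgroup.relIndex_eq_one.mp h1) hle)
  have hd : (K ⊔ M).index ∣ p := hK ▸ Subgroup.index_dvd_of_le le_sup_left
  rcases (Nat.dvd_prime hp).mp hd with h1 | h1
  · exact Subgroup.index_eq_one.mp h1
  · exfalso
    have h := Subgroup.relIndex_mul_index (le_sup_left : K ≤ K ⊔ M)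
    rw [hK, h1] at h
    have h2 : K.relIndex (K ⊔ M) = 1 := by
      have hp0 : 0 < p := hp.pos
      exact Nat.eq_of_mul_eq_mul_right hp0 (by rw [h, one_mul])
    exact hML (le_sup_right.trans (Subgroup.relIndex_eq_one.mp h2))

/-- relative index of `M` in a second subgroup `K` of index `p` (`M` normal) -/
theorem relIndex_of_index_eq {p : ℕ} [Fact p.Prime] {M K : Subgroup G} [M.Normal]
    (hM : M.index = p) (hK : K.index = p) (hne : K ≠ M) : M.relIndex K = p := by
  have h := Subgroup.relIndex_sup_right K M
  rw [sup_eq_top_of_index_eq hM hK hne, Subgroup.relIndex_top_right, hM] at h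
  exact h.symm

/-- (PT1) the pair `(G, M)` restricts to the pair `(↥K, (M ⊓ K).subgroupOf K)` with the same `f`,
for every other subgroup `K` of index `p` -/
theorem isPair_subgroupOf [Finite G] {p : ℕ} [Fact p.Prime] {M : Subgroup G} [M.Normal] {f : ℕ}
    (hP : IsPair p M f) {K : Subgroup G} (hK : K.index = p) (hne : K ≠ M) :
    IsPair p ((M ⊓ K).subgroupOf K) f := by
  refine ⟨?_, ?_⟩
  · rw [index_subgroupOf, Subgroup.inf_relIndex_right]
    exact relIndex_of_index_eq hP.idx hK hne
  · intro y hy
    have hyM : (y : G) ∉ M := by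
      intro h
      exact hy (Subgroup.mem_subgroupOf.mpr ⟨h, y.2⟩)
    exact (centralizer_subgroup_index_le K y).trans (hP.out _ hyM)

/-- (PT1') the same with `M.subgroupOf K` -/
theorem isPair_subgroupOf' [Finite G] {p : ℕ} [Fact p.Prime] {M : Subgroup G} [M.Normal] {f : ℕ}
    (hP : IsPair p M f) {K : Subgroup G} (hK : K.index = p) (hne : K ≠ M) :
    IsPair p (M.subgroupOf K) f := by
  have h := isPair_subgroupOf hP hK hne
  rwa [Subgroup.inf_subgroupOf_right] at h

/-- (PT1'') version for a `p`-group, without the normality instance -/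
theorem isPair_subgroupOf_of_isPGroup [Finite G] {p : ℕ} [Fact p.Prime] (hG : IsPGroup p G)
    {M : Subgroup G} {f : ℕ}
    (hP : IsPair p M f) {K : Subgroup G} (hK : K.index = p) (hne : K ≠ M) :
    IsPair p ((M ⊓ K).subgroupOf K) f := by
  have := normal_of_index_eq_p hG hP.idx
  exact isPair_subgroupOf hP hK hne

/-- general sub-pair: `A ≤ K` of relative index `p`, every element of `K` outside `A` has
`K`-centraliser index `≤ p ^ d` (stated with `relIndex`) -/
theorem isPair_subgroupOf_of_relIndex {p : ℕ} {A K : Subgroup G} {d : ℕ}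
    (hA : A.relIndex K = p)
    (hout : ∀ k ∈ K, k ∉ A → (centralizer ({k} : Set G)).relIndex K ≤ p ^ d) :
    IsPair p (A.subgroupOf K) d := by
  refine ⟨hA, ?_⟩
  intro y hy
  rw [centralizer_subgroup_index]
  exact hout y y.2 (fun h => hy (Subgroup.mem_subgroupOf.mpr h))

end Cfsg.Agent.Lib.H28.S3777PT
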