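import Cfsg.Agent.Lib.H5.S3777P1Defs
import Cfsg.Agent.Lib.H28.S3777PT

/-!
# S3777, P1-step piece `S4` (helper28): the sub-pair `(K₀, A)`, `K₀ = A ⊔ zpowers y₀`
-/

set_option autoImplicit false

namespace Cfsg.Agent.Lib.H28.S3777S4

open Subgroup
open Cfsg.Agent.Lib.H5.S3777
open Cfsg.Agent.Lib.H28.S3777PT

universe u

variable {G : Type u} [Group G]

/-- if `M` is normal of prime index `p` and `y ∉ M` then `y ^ i ∈ M` forces `p ∣ i` -/
theorem dvd_of_zpow_mem {p : ℕ} [Fact p.Prime] {M : Subgroup G} [M.Normal] (hM : M.index = p)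
    {y : G} (hy : y ∉ M) {i : ℤ} (hi : y ^ i ∈ M) : (p : ℤ) ∣ i := by
  have hp : p.Prime := Fact.out
  have hq1 : (y : G ⧸ M) ≠ 1 := fun h => hy ((QuotientGroup.eq_one_iff y).mp h)
  have hcard : Nat.card (G ⧸ M) = p := by rw [← Subgroup.index_eq_card, hM]
  have hdvd : orderOf (y : G ⧸ M) ∣ p := hcard ▸ orderOf_dvd_natCard (y : G ⧸ M)
  have hord : orderOf (y : G ⧸ M) = p := by
    rcases (Nat.dvd_prime hp).mp hdvd with h | h
    · exact absurd (orderOf_eq_one_iff.mp h) hq1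
    · exact h
  have h1 : (y : G ⧸ M) ^ i = 1 := by
    rw [← QuotientGroup.mk_zpow]
    exact (QuotientGroup.eq_one_iff _).mpr hi
  rw [← hord]
  exact orderOf_dvd_iff_zpow_eq_one.mpr h1

/-- `K₀ ⊓ M = A` for `K₀ = A ⊔ zpowers y₀`, `A ≤ M` normal, `y₀ ∉ M`, `y₀ ^ p ∈ A` -/
theorem sup_zpowers_inf_eq {p : ℕ} [Fact p.Prime] {M A : Subgroup G} [M.Normal] [A.Normal]
    (hM : M.index = p) (hAM : A ≤ M) {y0 : G} (hy0 : y0 ∉ M) (hpow : y0 ^ p ∈ A) :
    (A ⊔ zpowers y0) ⊓ M = A := by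
  apply le_antisymm
  · rintro x ⟨hxK, hxM⟩
    obtain ⟨a, ha, z, hz, rfl⟩ := (mem_sup_of_normal_left (s := A)).mp hxK
    obtain ⟨i, rfl⟩ := mem_zpowers_iff.mp hz
    have hzM : y0 ^ i ∈ M := by
      have h := M.mul_mem (M.inv_mem (hAM ha)) hxM
      simpa using h
    obtain ⟨j, rfl⟩ := dvd_of_zpow_mem hM hy0 hzM
    have h2 : y0 ^ ((p : ℤ) * j) ∈ A := by
      rw [zpow_mul, zpow_natCast]
      exact A.zpow_mem hpow j
    exact A.mul_mem ha h2
  · exact le_inf le_sup_left hAM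

/-- a subgroup of prime index together with an element outside generates -/
theorem sup_eq_top_of_not_mem {p : ℕ} [Fact p.Prime] {M K : Subgroup G} (hM : M.index = p)
    {y : G} (hyK : y ∈ K) (hyM : y ∉ M) : K ⊔ M = ⊤ := by
  have hp : p.Prime := Fact.out
  have hd : (K ⊔ M).index ∣ p := hM ▸ Subgroup.index_dvd_of_le le_sup_right
  rcases (Nat.dvd_prime hp).mp hd with h1 | h1
  · exact Subgroup.index_eq_one.mp h1
  · exfalso
    have h := Subgroup.relIndex_mul_index (le_sup_right : M ≤ K ⊔ M)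
    rw [hM, h1] at h
    have h2 : M.relIndex (K ⊔ M) = 1 :=
      Nat.eq_of_mul_eq_mul_right hp.pos (by rw [h, one_mul])
    exact hyM (Subgroup.relIndex_eq_one.mp h2 (le_sup_left (b := M) hyK))

theorem s4 : S4Stmt.{u} := by
  intro p _ G _ _ hG hIH M A lam Delta hMidx hAn hAM hlam hrel hpow hcent hidx hDelta y0 hy0
  have hp : p.Prime := Fact.out
  have hMn : M.Normal := normal_of_index_eq_p hG hMidx
  have hAK0 : A ≤ A ⊔ zpowers y0 := le_sup_left
  have hy0K0 : y0 ∈ A ⊔ zpowers y0 := (le_sup_right : zpowers y0 ≤ A ⊔ zpowers y0) (mem_zpowers y0)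
  have hinf : (A ⊔ zpowers y0) ⊓ M = A := sup_zpowers_inf_eq hMidx hAM hy0 (hpow y0 hy0)
  have hsup : (A ⊔ zpowers y0) ⊔ M = ⊤ := sup_eq_top_of_not_mem hMidx hy0K0 hy0
  -- `|K₀ : A| = p`
  have hAK0idx : A.relIndex (A ⊔ zpowers y0) = p := by
    have h := Subgroup.relIndex_sup_right (A ⊔ zpowers y0) M
    rw [hsup, Subgroup.relIndex_top_right, hMidx] at h
    have h2 : (M ⊓ (A ⊔ zpowers y0)).relIndex (A ⊔ zpowers y0) = M.relIndex (A ⊔ zpowers y0) :=
      Subgroup.inf_relIndex_right _ _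
    rw [inf_comm, hinf] at h2
    rw [h2]
    exact h.symm
  -- `|G : K₀| = p ^ lam`
  have hAidx : A.index = p ^ lam * p := by
    rw [← Subgroup.relIndex_mul_index hAM, hrel, hMidx]
  have hK0idx : (A ⊔ zpowers y0).index = p ^ lam := by
    have h := Subgroup.relIndex_mul_index hAK0
    rw [hAK0idx, hAidx, mul_comm] at h
    exact Nat.eq_of_mul_eq_mul_right hp.pos h
  have hK0ne : A ⊔ zpowers y0 ≠ ⊤ := by
    intro h
    have h1 : (A ⊔ zpowers y0).index = 1 := Subgroup.index_eq_one.mpr h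
    rw [hK0idx] at h1
    have : 1 < p ^ lam := Nat.one_lt_pow (by omega) hp.one_lt
    omega
  -- the pair
  have hpair : IsPair p (A.subgroupOf (A ⊔ zpowers y0)) Delta := by
    apply isPair_subgroupOf_of_relIndex hAK0idx
    intro k hk hkA
    have hkM : k ∉ M := fun h => hkA (hinf ▸ (Subgroup.mem_inf.mpr ⟨hk, h⟩))
    have hC : centralizer ({k} : Set G) ≤ A ⊔ zpowers y0 :=
      (hcent k hkM).trans (sup_le hAK0 ((zpowers_le).mpr hk))
    have h := Subgroup.relIndex_mul_index hC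
    rw [hK0idx, hidx k hkM, mul_comm] at h
    have h2 : (centralizer ({k} : Set G)).relIndex (A ⊔ zpowers y0)
        = (centralizer ({k} : Set G)).relIndex A :=
      Nat.eq_of_mul_eq_mul_left (pow_pos hp.pos lam) h
    rw [h2]
    exact hDelta k hkM
  -- induction hypothesis on `↥K₀`
  obtain ⟨hP1, hP2, -⟩ := hIH ↥(A ⊔ zpowers y0) (hG.to_subgroup _) (card_lt_of_ne_top hK0ne)
  have hcard := card_commutator_subgroup (A ⊔ zpowers y0)
  have hiff := commutator_subgroupOf_eq_iff hAK0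
  refine ⟨?_, ?_⟩
  · by_cases hres : ⁅A, A⁆ = ⁅A ⊔ zpowers y0, A ⊔ zpowers y0⁆
    · have h := hP2 _ _ hpair (hiff.mpr hres)
      rwa [hcard] at h
    · have h := hP1 _ _ hpair (fun h => hres (hiff.mp h))
      rw [hcard] at h
      exact h.trans (Nat.pow_le_pow_right hp.pos (Nat.le_add_right _ _))
  · intro hne
    have h := hP1 _ _ hpair (fun h => hne (hiff.mp h).symm)
    rwa [hcard] at h

end Cfsg.Agent.Lib.H28.S3777S4
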