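import Cfsg.Agent.Lib.H5.S3777P1Defs

/-!
# S3777, P1-step piece `S6` (helper28): the elements outside `M` generate `G`
-/

set_option autoImplicit false

namespace Cfsg.Agent.Lib.H28.S3777S6

open Subgroup
open scoped commutatorElement
open Cfsg.Agent.Lib.H5.S3777

universe u

theorem s6 : S6Stmt.{u} := by
  intro p _ G instG _ M A hM hAn hy
  have hp : p.Prime := Fact.out
  have hN : (⁅A, A⁆ : Subgroup G).Normal := inferInstance
  have hMne : M ≠ ⊤ := by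
    intro h
    rw [h, Subgroup.index_top] at hM
    exact hp.one_lt.ne hM
  obtain ⟨y0, hy0⟩ : ∃ y0, y0 ∉ M := by
    by_contra hcon
    push Not at hcon
    exact hMne (eq_top_iff.mpr fun x _ => hcon x)
  have hout : ∀ y, y ∉ M → ∀ a ∈ A, ⁅a, y⁆ ∈ ⁅A, A⁆ := fun y hyM a ha =>
    hy y hyM (Subgroup.commutator_mem_commutator ha (mem_zpowers y))
  have hmul : ∀ g h : G, (∀ a ∈ A, ⁅a, g⁆ ∈ ⁅A, A⁆) → (∀ a ∈ A, ⁅a, h⁆ ∈ ⁅A, A⁆) →
      ∀ a ∈ A, ⁅a, g * h⁆ ∈ ⁅A, A⁆ := by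
    intro g h hg hh a ha
    have e : ⁅a, g * h⁆ = ⁅a, g⁆ * (g * ⁅a, h⁆ * g⁻¹) := by
      simp only [commutatorElement_def]; group
    rw [e]
    exact mul_mem (hg a ha) (hN.conj_mem _ (hh a ha) g)
  have hinv : ∀ g : G, (∀ a ∈ A, ⁅a, g⁆ ∈ ⁅A, A⁆) → ∀ a ∈ A, ⁅a, g⁻¹⁆ ∈ ⁅A, A⁆ := by
    intro g hg a ha
    have e : ⁅a, g⁻¹⁆ = g⁻¹ * ⁅a, g⁆⁻¹ * g⁻¹⁻¹ := by
      simp only [commutatorElement_def]; group
    rw [e]
    exact hN.conj_mem _ (inv_mem (hg a ha)) g⁻¹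
  have key : ∀ g : G, ∀ a ∈ A, ⁅a, g⁆ ∈ ⁅A, A⁆ := by
    intro g
    by_cases hg : g ∈ M
    · have h1 : g * y0 ∉ M := fun h => hy0 (by simpa using M.mul_mem (M.inv_mem hg) h)
      have e : g = (g * y0) * y0⁻¹ := by group
      rw [e]
      exact hmul _ _ (hout _ h1) (hinv _ (hout _ hy0))
    · exact hout g hg
  rw [Subgroup.commutator_le]
  intro a ha g _
  exact key g a ha

end Cfsg.Agent.Lib.H28.S3777S6
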