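import Cfsg.Agent.Lib.H27.S3814C1Defs

/-!
# S3814, Case 1, piece (21) LCyc (helper28)

`lcyc : LCycStmt`.  Abstract claim `main` for a finite `t`-group `P` (a type) and `φ : P →* P` with
`φ^[n] = id` (`n` prime, `n ∣ t - 1`), `φ ≠ id`: some `g` has `φ g ∈ ⟨g⟩`, `φ g ≠ g`.  Strong induction
on `|P|` with minimality (every proper `φ`-invariant subgroup is fixed pointwise):
* `P` non-abelian: `Z(P)` is fixed, `φ̄ ≠ id` on `P/Z(P)` (z-trick), the preimage of the cyclic
  `⟨ḡ⟩` is invariant and moved, so it is `P`, so `P/Z(P)` is cyclic and `P` abelian;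
* `P` abelian: kernel and image of `x ↦ x ^ t` are invariant; if both proper, z-trick: `φ = id`;
* exponent `t`: finite Fourier transform over `ZMod t` (`exists_eigen`).
-/

set_option autoImplicit false

namespace Cfsg.Agent.Lib.H28.S3814C1LCyc

universe u

section fourier

variable {A : Type*} [AddCommGroup A] {t : ℕ} [Fact t.Prime] [Module (ZMod t) A]

/-- Finite Fourier transform: an additive map `F` with `F^[n] = id`, `ρ` of order `n` in `(ZMod t)ˣ`,
`n` invertible mod `t`; if `F` moves `v` there is an eigenvector with eigenvalue `≠ 1`. -/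
theorem exists_eigen (F : A → A) (hadd : ∀ x y, F (x + y) = F x + F y) (n : ℕ) (ρ : (ZMod t)ˣ)
    (hρ : orderOf ρ = n) (hF : ∀ v, F^[n] v = v) (hnt : (n : ZMod t) ≠ 0) (v : A)
    (hv : F v ≠ v) : ∃ w : A, w ≠ 0 ∧ ∃ μ : ZMod t, μ ≠ 1 ∧ F w = μ • w := by
  classical
  let F' : A →+ A := AddMonoidHom.mk' F hadd
  have hF' : ∀ x, F' x = F x := fun _ => rfl
  have hn0 : 0 < n := by
    rcases Nat.eq_zero_or_pos n with h | h
    · exfalso; apply hnt; rw [h]; exact Nat.cast_zero
    · exact h
  set r : ZMod t := (ρ : ZMod t) with hr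
  set r' : ZMod t := ((ρ⁻¹ : (ZMod t)ˣ) : ZMod t) with hr'
  have hrr' : r * r' = 1 := by rw [hr, hr', ← Units.val_mul, mul_inv_cancel, Units.val_one]
  have hpow_ne : ∀ (u : (ZMod t)ˣ), orderOf u = n → ∀ i, 0 < i → i < n →
      ((u : ZMod t)) ^ i ≠ 1 := by
    intro u hu i hi0 hin h1
    have h2 : u ^ i = 1 := by
      apply Units.ext
      rw [Units.val_pow_eq_pow_val, h1, Units.val_one]
    have h3 : orderOf u ∣ i := orderOf_dvd_of_pow_eq_one h2
    rw [hu] at h3
    exact absurd (Nat.le_of_dvd hi0 h3) (not_le.2 hin)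
  have hr'n : r' ^ n = 1 := by
    rw [hr', ← Units.val_pow_eq_pow_val, inv_pow, ← hρ, pow_orderOf_eq_one, inv_one, Units.val_one]
  let E : ℕ → A := fun j => ∑ i ∈ Finset.range n, (r' ^ (i * j)) • F^[i] v
  have hF1 : ∀ j, F (E j) = r ^ j • E j := by
    intro j
    let a : ℕ → A := fun i => (r ^ j * r' ^ (i * j)) • F^[i] v
    have h1 : F (E j) = ∑ i ∈ Finset.range n, a (i + 1) := by
      show F (∑ i ∈ Finset.range n, (r' ^ (i * j)) • F^[i] v) = _
      rw [← hF', map_sum]
      apply Finset.sum_congr rfl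
      intro i _
      show F' ((r' ^ (i * j)) • F^[i] v) = (r ^ j * r' ^ ((i + 1) * j)) • F^[i + 1] v
      rw [ZMod.map_smul, hF', Function.iterate_succ_apply']
      congr 1
      rw [add_mul, one_mul, pow_add, mul_comm (r' ^ (i * j)), ← mul_assoc, ← mul_pow, hrr',
        one_pow, one_mul]
    have h2 : r ^ j • E j = ∑ i ∈ Finset.range n, a i := by
      show r ^ j • (∑ i ∈ Finset.range n, (r' ^ (i * j)) • F^[i] v) = _
      rw [Finset.smul_sum]
      apply Finset.sum_congr rfl
      intro i _
      show r ^ j • ((r' ^ (i * j)) • F^[i] v) = (r ^ j * r' ^ (i * j)) • F^[i] v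
      rw [smul_smul]
    have h3 : a n = a 0 := by
      show (r ^ j * r' ^ (n * j)) • F^[n] v = (r ^ j * r' ^ (0 * j)) • F^[0] v
      rw [hF, pow_mul, hr'n, one_pow, zero_mul, pow_zero, Function.iterate_zero, id_eq]
    have h4 := Finset.sum_range_succ' a n
    have h5 := Finset.sum_range_succ a n
    rw [h1, h2]
    rw [h5, h3] at h4
    exact (add_right_cancel h4).symm
  have hgeom : ∀ i, 0 < i → i < n → ∑ j ∈ Finset.range n, r' ^ (i * j) = 0 := by
    intro i hi0 hin
    have hx1 : r' ^ i ≠ 1 := hpow_ne ρ⁻¹ (by rw [orderOf_inv]; exact hρ) i hi0 hin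
    have h1 := geom_sum_mul (r' ^ i) n
    have h2 : (r' ^ i) ^ n = 1 := by rw [← pow_mul, mul_comm, pow_mul, hr'n, one_pow]
    rw [h2, sub_self] at h1
    rcases mul_eq_zero.1 h1 with h | h
    · rw [← h]
      apply Finset.sum_congr rfl
      intro j _
      rw [pow_mul]
    · exact absurd (sub_eq_zero.1 h) hx1
  have hF2 : ∑ j ∈ Finset.range n, E j = (n : ZMod t) • v := by
    show ∑ j ∈ Finset.range n, ∑ i ∈ Finset.range n, (r' ^ (i * j)) • F^[i] v = _
    rw [Finset.sum_comm]
    have h1 : ∀ i ∈ Finset.range n, ∑ j ∈ Finset.range n, (r' ^ (i * j)) • F^[i] v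
        = (∑ j ∈ Finset.range n, r' ^ (i * j)) • F^[i] v := by
      intro i _
      rw [Finset.sum_smul]
    rw [Finset.sum_congr rfl h1]
    rw [Finset.sum_eq_single 0]
    · simp
    · intro i hi hi0
      rw [hgeom i (Nat.pos_of_ne_zero hi0) (Finset.mem_range.1 hi), zero_smul]
    · intro h0
      exact absurd (Finset.mem_range.2 hn0) h0
  by_contra hcon
  push Not at hcon
  have hEz : ∀ j ∈ Finset.range n, j ≠ 0 → E j = 0 := by
    intro j hj hj0
    by_contra hne
    refine hcon (E j) hne (r ^ j) ?_ (hF1 j)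
    exact hpow_ne ρ hρ j (Nat.pos_of_ne_zero hj0) (Finset.mem_range.1 hj)
  have h1 : E 0 = (n : ZMod t) • v := by
    rw [← hF2, Finset.sum_eq_single 0]
    · intro j hj hj0; exact hEz j hj hj0
    · intro h0; exact absurd (Finset.mem_range.2 hn0) h0
  have h2 : F (E 0) = E 0 := by rw [hF1 0, pow_zero, one_smul]
  rw [h1, ← hF', ZMod.map_smul, hF'] at h2
  have h3 : (n : ZMod t) • (F v - v) = 0 := by rw [smul_sub, h2, sub_self]
  rcases smul_eq_zero.1 h3 with h | h
  · exact hnt h
  · exact hv (sub_eq_zero.1 h)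

/-- corollary: an eigenvector which is moved. -/
theorem exists_eigen' (F : A → A) (hadd : ∀ x y, F (x + y) = F x + F y) (n : ℕ) (ρ : (ZMod t)ˣ)
    (hρ : orderOf ρ = n) (hF : ∀ v, F^[n] v = v) (hnt : (n : ZMod t) ≠ 0) (v : A)
    (hv : F v ≠ v) : ∃ w : A, ∃ μ : ZMod t, F w = μ • w ∧ F w ≠ w := by
  obtain ⟨w, hw0, μ, hμ1, hFw⟩ := exists_eigen F hadd n ρ hρ hF hnt v hv
  refine ⟨w, μ, hFw, ?_⟩
  intro h1
  rw [hFw] at h1
  have h2 : (μ - 1) • w = 0 := by rw [sub_smul, one_smul, h1, sub_self]
  rcases smul_eq_zero.1 h2 with h3 | h3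
  · exact hμ1 (sub_eq_zero.1 h3)
  · exact hw0 h3

end fourier

/-- the z-trick: `φ x = x z` with `φ z = z`, `φ^[n] x = x`, `z` a `t`-element, `t ≠ n`: `φ x = x`. -/
theorem fixed_of_ztrick {P : Type*} [Group P] {t n : ℕ} (ht : t.Prime) (hn : n.Prime)
    (htn : t ≠ n) (hP : IsPGroup t P) (φ : P →* P) (x : P)
    (hz : φ (x⁻¹ * φ x) = x⁻¹ * φ x) (hx : φ^[n] x = x) : φ x = x := by
  set z := x⁻¹ * φ x with hzdef
  have hφx : φ x = x * z := by rw [hzdef]; group
  have hiter : ∀ k : ℕ, φ^[k] x = x * z ^ k := by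
    intro k
    induction k with
    | zero => simp
    | succ k ih =>
      rw [Function.iterate_succ_apply', ih, map_mul, map_pow, hz, hφx, pow_succ', mul_assoc]
  have hzn : z ^ n = 1 := by
    have h1 := hiter n
    rw [hx] at h1
    have h2 : x * z ^ n = x * 1 := by rw [mul_one]; exact h1.symm
    exact mul_left_cancel h2
  obtain ⟨m, hm⟩ := hP z
  have h1 : orderOf z ∣ n := orderOf_dvd_of_pow_eq_one hzn
  have h2 : orderOf z ∣ t ^ m := orderOf_dvd_of_pow_eq_one hm
  have hcop : Nat.Coprime n (t ^ m) :=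
    Nat.Coprime.pow_right m ((Nat.coprime_primes hn ht).2 (Ne.symm htn))
  have h3 : orderOf z ∣ 1 := by
    have := Nat.dvd_gcd h1 h2
    rwa [hcop] at this
  have hz1 : z = 1 := orderOf_eq_one_iff.1 (Nat.dvd_one.1 h3)
  rw [hφx, hz1, mul_one]

/-- the eigenvector lemma, multiplicative form, for a commutative group of exponent `t`. -/
theorem exists_eigen_mul {P : Type*} [Group P] (hab : ∀ a b : P, a * b = b * a) {t n : ℕ}
    (ht : t.Prime) (hn : n.Prime) (hdvd : n ∣ t - 1) (hexp : ∀ x : P, x ^ t = 1) (φ : P →* P)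
    (hφ : ∀ x, φ^[n] x = x) (x₀ : P) (hx₀ : φ x₀ ≠ x₀) :
    ∃ g : P, φ g ∈ Subgroup.zpowers g ∧ φ g ≠ g := by
  classical
  have : Fact t.Prime := ⟨ht⟩
  have : Fact n.Prime := ⟨hn⟩
  letI iC : CommGroup P := { (inferInstance : Group P) with mul_comm := hab }
  letI iM : Module (ZMod t) (Additive P) := AddCommGroup.zmodModule (n := t) (fun a => by
    apply Additive.toMul.injective
    rw [toMul_nsmul, toMul_zero]
    exact hexp _)
  have hcard : n ∣ Fintype.card (ZMod t)ˣ := by rw [ZMod.card_units]; exact hdvd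
  obtain ⟨ρ, hρ⟩ := exists_prime_orderOf_dvd_card n hcard
  let F : Additive P → Additive P := fun v => Additive.ofMul (φ (Additive.toMul v))
  have hadd : ∀ x y, F (x + y) = F x + F y := by
    intro x y
    show Additive.ofMul (φ (Additive.toMul (x + y))) =
      Additive.ofMul (φ (Additive.toMul x)) + Additive.ofMul (φ (Additive.toMul y))
    rw [toMul_add, map_mul, ofMul_mul]
  have hFi : ∀ (i : ℕ) (v : Additive P), F^[i] v = Additive.ofMul (φ^[i] (Additive.toMul v)) := by
    intro i
    induction i with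
    | zero => intro v; rfl
    | succ i ih =>
      intro v
      rw [Function.iterate_succ_apply', Function.iterate_succ_apply', ih]
      rfl
  have htn : n < t := by
    have h1 : n ≤ t - 1 := Nat.le_of_dvd (Nat.sub_pos_of_lt ht.one_lt) hdvd
    have := ht.one_lt
    omega
  have hnt : (n : ZMod t) ≠ 0 := by
    intro h
    rw [ZMod.natCast_eq_zero_iff] at h
    exact absurd (Nat.le_of_dvd hn.pos h) (not_le.2 htn)
  obtain ⟨w, μ, hFw, hFne⟩ := exists_eigen' F hadd n ρ hρ
    (fun v => by rw [hFi, hφ]; rfl) hnt (Additive.ofMul x₀) (by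
      intro h
      apply hx₀
      exact congrArg Additive.toMul h)
  refine ⟨Additive.toMul w, ?_, ?_⟩
  · have h1 : F w = (μ.val : ZMod t) • w := by rw [ZMod.natCast_zmod_val]; exact hFw
    rw [Nat.cast_smul_eq_nsmul] at h1
    have h2 : φ (Additive.toMul w) = (Additive.toMul w) ^ μ.val := by
      have := congrArg Additive.toMul h1
      rw [toMul_nsmul] at this
      exact this
    rw [h2]
    exact Subgroup.pow_mem _ (Subgroup.mem_zpowers _) _
  · intro h
    exact hFne (congrArg Additive.ofMul h)

/-- the abstract claim, by strong induction on the order. -/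
theorem main (t n : ℕ) (ht : t.Prime) (hn : n.Prime) (hdvd : n ∣ t - 1) :
    ∀ (N : ℕ) (P : Type u) [Group P] [Finite P], Nat.card P ≤ N → IsPGroup t P →
      ∀ φ : P →* P, (∀ x, φ^[n] x = x) → (∃ x, φ x ≠ x) →
        ∃ g : P, φ g ∈ Subgroup.zpowers g ∧ φ g ≠ g := by
  have hFt : Fact t.Prime := ⟨ht⟩
  have htn : t ≠ n := by
    have h1 : n ≤ t - 1 := Nat.le_of_dvd (Nat.sub_pos_of_lt ht.one_lt) hdvd
    have := ht.one_lt
    omega
  intro N
  induction N with
  | zero =>
    intro P _ _ hc
    have := Nat.card_pos (α := P)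
    omega
  | succ N ih =>
    intro P _ _ hc hP φ hφ hmove
    by_cases hdesc : ∃ L : Subgroup P, L ≠ ⊤ ∧ (∀ x ∈ L, φ x ∈ L) ∧ ∃ x ∈ L, φ x ≠ x
    · -- descend to a proper invariant subgroup
      obtain ⟨L, hLtop, hLinv, x, hxL, hxm⟩ := hdesc
      let φL : L →* L := (φ.comp L.subtype).codRestrict L (fun y => hLinv y y.2)
      have hφL : ∀ y : L, ((φL y : L) : P) = φ (y : P) := fun y => rfl
      have hiter : ∀ (k : ℕ) (y : L), (((φL^[k]) y : L) : P) = φ^[k] (y : P) := by
        intro k
        induction k with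
        | zero => intro y; rfl
        | succ k ih2 =>
          intro y
          rw [Function.iterate_succ_apply', Function.iterate_succ_apply', hφL, ih2]
      have hcardL : Nat.card L ≤ N := by
        have h1 : Nat.card L ≤ Nat.card P := Subgroup.card_le_card_group L
        have h2 : Nat.card L ≠ Nat.card P := fun h => hLtop (Subgroup.eq_top_of_card_eq L h)
        omega
      obtain ⟨g, hg1, hg2⟩ := ih L hcardL (hP.to_subgroup L) φL
        (fun y => Subtype.ext (by rw [hiter]; exact hφ _))
        ⟨⟨x, hxL⟩, fun h => hxm (congrArg Subtype.val h)⟩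
      refine ⟨(g : P), ?_, fun h => hg2 (Subtype.ext h)⟩
      obtain ⟨k, hk⟩ := Subgroup.mem_zpowers_iff.1 hg1
      refine Subgroup.mem_zpowers_iff.2 ⟨k, ?_⟩
      have := congrArg Subtype.val hk
      rw [Subgroup.coe_zpow] at this
      exact this
    · -- minimality
      have hmin : ∀ L : Subgroup P, L ≠ ⊤ → (∀ x ∈ L, φ x ∈ L) → ∀ x ∈ L, φ x = x := by
        intro L h1 h2 x hx
        by_contra h3
        exact hdesc ⟨L, h1, h2, x, hx, h3⟩
      have hPnt : Nontrivial P := by
        obtain ⟨x, hx⟩ := hmove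
        exact ⟨⟨φ x, x, hx⟩⟩
      by_cases hab : ∀ a b : P, a * b = b * a
      · -- abelian
        let Ω : Subgroup P :=
          { carrier := {x | x ^ t = 1}
            one_mem' := one_pow t
            mul_mem' := by
              intro a b ha hb
              show (a * b) ^ t = 1
              rw [(show Commute a b from hab a b).mul_pow, (ha : a ^ t = 1), (hb : b ^ t = 1),
                one_mul]
            inv_mem' := by
              intro a ha
              show (a⁻¹) ^ t = 1
              rw [inv_pow, (ha : a ^ t = 1), inv_one] }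
        let Pw : Subgroup P :=
          { carrier := {y | ∃ x, x ^ t = y}
            one_mem' := ⟨1, one_pow t⟩
            mul_mem' := by
              rintro _ _ ⟨a, rfl⟩ ⟨b, rfl⟩
              exact ⟨a * b, (show Commute a b from hab a b).mul_pow t⟩
            inv_mem' := by
              rintro _ ⟨a, rfl⟩
              exact ⟨a⁻¹, inv_pow a t⟩ }
        have hΩinv : ∀ x ∈ Ω, φ x ∈ Ω := by
          intro x hx
          show (φ x) ^ t = 1
          rw [← map_pow, (hx : x ^ t = 1), map_one]
        have hPwinv : ∀ y ∈ Pw, φ y ∈ Pw := by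
          rintro _ ⟨a, rfl⟩
          exact ⟨φ a, (map_pow φ a t).symm⟩
        by_cases hΩ : Ω = ⊤
        · have hexp : ∀ x : P, x ^ t = 1 := fun x => by
            have : x ∈ Ω := by rw [hΩ]; exact Subgroup.mem_top x
            exact this
          obtain ⟨x₀, hx₀⟩ := hmove
          exact exists_eigen_mul hab ht hn hdvd hexp φ hφ x₀ hx₀
        · exfalso
          have hPw : Pw ≠ ⊤ := by
            intro hPwtop
            have hsurj : Function.Surjective (fun x : P => x ^ t) := by
              intro y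
              have : y ∈ Pw := by rw [hPwtop]; exact Subgroup.mem_top y
              exact this
            have hinj := (Finite.injective_iff_surjective).2 hsurj
            have hdvd' : t ∣ Nat.card P := by
              obtain ⟨k, hk⟩ := IsPGroup.iff_card.1 hP
              have hk0 : k ≠ 0 := by
                intro h0
                rw [h0, pow_zero] at hk
                have := Finite.one_lt_card (α := P)
                omega
              rw [hk]; exact dvd_pow_self t hk0
            obtain ⟨y, hy⟩ := exists_prime_orderOf_dvd_card' t hdvd'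
            have h1 : (fun x : P => x ^ t) y = (fun x : P => x ^ t) 1 := by
              show y ^ t = 1 ^ t
              rw [one_pow, ← hy, pow_orderOf_eq_one]
            have h2 : y = 1 := hinj h1
            rw [h2, orderOf_one] at hy
            exact ht.one_lt.ne hy
          have hΩfix := hmin Ω hΩ hΩinv
          have hPwfix := hmin Pw hPw hPwinv
          obtain ⟨x, hx⟩ := hmove
          apply hx
          apply fixed_of_ztrick ht hn htn hP φ x _ (hφ x)
          apply hΩfix
          show (x⁻¹ * φ x) ^ t = 1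
          rw [(show Commute x⁻¹ (φ x) from hab _ _).mul_pow, inv_pow, ← map_pow,
            hPwfix (x ^ t) ⟨x, rfl⟩, inv_mul_cancel]
      · -- non-abelian
        exfalso
        set Z : Subgroup P := Subgroup.center P with hZ
        have hZtop : Z ≠ ⊤ := by
          intro h
          apply hab
          intro a b
          have : a ∈ Z := by rw [h]; exact Subgroup.mem_top a
          exact ((Subgroup.mem_center_iff.1 this) b).symm
        have hsurj : Function.Surjective φ := by
          intro y
          refine ⟨φ^[n - 1] y, ?_⟩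
          rw [← Function.iterate_succ_apply' φ (n - 1) y]
          have : (n - 1).succ = n := Nat.succ_pred_eq_of_pos hn.pos
          rw [this]
          exact hφ y
        have hZinv : ∀ x ∈ Z, φ x ∈ Z := by
          intro x hx
          rw [hZ, Subgroup.mem_center_iff] at hx ⊢
          intro y
          obtain ⟨y', rfl⟩ := hsurj y
          rw [← map_mul, ← map_mul, hx y']
        have hZfix := hmin Z hZtop hZinv
        have hZle : Z ≤ Z.comap φ := fun x hx => hZinv x hx
        let φq : P ⧸ Z →* P ⧸ Z := QuotientGroup.map Z Z φ hZle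
        have hφq : ∀ x : P, φq (x : P ⧸ Z) = ((φ x : P) : P ⧸ Z) := fun x => rfl
        have hqiter : ∀ (k : ℕ) (x : P), φq^[k] (x : P ⧸ Z) = ((φ^[k] x : P) : P ⧸ Z) := by
          intro k
          induction k with
          | zero => intro x; rfl
          | succ k ih2 =>
            intro x
            rw [Function.iterate_succ_apply', Function.iterate_succ_apply', ih2, hφq]
        have hq1 : ∀ q, φq^[n] q = q := by
          intro q
          obtain ⟨x, rfl⟩ := QuotientGroup.mk_surjective q
          rw [hqiter, hφ]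
        have hq2 : ∃ q, φq q ≠ q := by
          by_contra hall
          push Not at hall
          obtain ⟨x, hx⟩ := hmove
          apply hx
          apply fixed_of_ztrick ht hn htn hP φ x _ (hφ x)
          apply hZfix
          have := hall (x : P ⧸ Z)
          rw [hφq] at this
          exact QuotientGroup.eq.1 this.symm
        have hZnt : Nontrivial Z := hP.center_nontrivial
        have hcardq : Nat.card (P ⧸ Z) ≤ N := by
          have h1 := Subgroup.card_eq_card_quotient_mul_card_subgroup Z
          have h2 : 1 < Nat.card Z := Finite.one_lt_card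
          have h3 : 0 < Nat.card (P ⧸ Z) := Nat.card_pos
          nlinarith
        obtain ⟨gq, hgq1, hgq2⟩ := ih (P ⧸ Z) hcardq (hP.to_quotient Z) φq hq1 hq2
        obtain ⟨g, rfl⟩ := QuotientGroup.mk_surjective gq
        let L1 : Subgroup P := (Subgroup.zpowers (g : P ⧸ Z)).comap (QuotientGroup.mk' Z)
        have hL1inv : ∀ x ∈ L1, φ x ∈ L1 := by
          intro x hx
          obtain ⟨i, hi⟩ := Subgroup.mem_zpowers_iff.1 (Subgroup.mem_comap.1 hx)
          show QuotientGroup.mk' Z (φ x) ∈ Subgroup.zpowers (g : P ⧸ Z)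
          have h1 : QuotientGroup.mk' Z (φ x) = (φq (g : P ⧸ Z)) ^ i := by
            rw [← map_zpow, hi]; rfl
          rw [h1]
          exact Subgroup.zpow_mem _ hgq1 i
        have hgL1 : g ∈ L1 := Subgroup.mem_zpowers (g : P ⧸ Z)
        have hgm : φ g ≠ g := fun h => hgq2 (by rw [hφq, h])
        have hL1top : L1 = ⊤ := by
          by_contra h
          exact hgm (hmin L1 h hL1inv g hgL1)
        have hcyc : IsCyclic (P ⧸ Z) := ⟨⟨(g : P ⧸ Z), fun q => by
          obtain ⟨x, rfl⟩ := QuotientGroup.mk_surjective q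
          have : x ∈ L1 := by rw [hL1top]; exact Subgroup.mem_top x
          exact this⟩⟩
        apply hab
        intro a b
        exact ((QuotientGroup.mk' Z).isMulCommutative_of_isCyclic_of_ker_le_center
          (by rw [QuotientGroup.ker_mk'])).is_comm.comm a b

/-- PIECE (21) LCyc. -/
theorem lcyc : Cfsg.Agent.H27.S3814C1.LCycStmt.{u} := by
  intro G _ _ P t t' ht ht' hdvd hP α hα hnorm hmove
  let φ : P →* P := MonoidHom.mk' (fun x => ⟨α * (x : G) * α⁻¹, hnorm _ x.2⟩) (by
    intro a b
    apply Subtype.ext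
    show α * ((a * b : P) : G) * α⁻¹ = (α * (a : G) * α⁻¹) * (α * (b : G) * α⁻¹)
    rw [Subgroup.coe_mul]; group)
  have hφ1 : ∀ x : P, ((φ x : P) : G) = α * (x : G) * α⁻¹ := fun x => rfl
  have hiter : ∀ (k : ℕ) (x : P), ((φ^[k] x : P) : G) = α ^ k * (x : G) * (α ^ k)⁻¹ := by
    intro k
    induction k with
    | zero => intro x; simp
    | succ k ih =>
      intro x
      rw [Function.iterate_succ_apply', hφ1, ih, pow_succ']
      group
  have hαt : α ^ t' = 1 := by rw [← hα]; exact pow_orderOf_eq_one α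
  obtain ⟨a, haP, ha⟩ := hmove
  obtain ⟨g, hg1, hg2⟩ := main t t' ht ht' hdvd (Nat.card P) P le_rfl hP φ
    (fun x => Subtype.ext (by rw [hiter, hαt]; simp))
    ⟨⟨a, haP⟩, fun h => ha (by
      have h1 := congrArg Subtype.val h
      rw [hφ1] at h1
      exact mul_inv_eq_iff_eq_mul.1 h1)⟩
  refine ⟨(g : G), g.2, ?_, ?_⟩
  · obtain ⟨k, hk⟩ := Subgroup.mem_zpowers_iff.1 hg1
    refine Subgroup.mem_zpowers_iff.2 ⟨k, ?_⟩
    have := congrArg Subtype.val hk
    rw [Subgroup.coe_zpow, hφ1] at this
    exact this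
  · intro h
    apply hg2
    apply Subtype.ext
    rw [hφ1]
    exact mul_inv_eq_iff_eq_mul.2 h

example : Cfsg.Agent.H27.S3814C1.LCycStmt.{0} := lcyc

end Cfsg.Agent.Lib.H28.S3814C1LCyc
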