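import Cfsg.Agent.Lib.H1.S77.Hyp
import Cfsg.Agent.Lib.H28.S77T4

/-!
S0429 piece (MATE): no edges inside a class (PSD certificate, groups {v0,b}, blk b, {z,w},
weights (3,2,-2), value -20).
-/

set_option autoImplicit false
set_option linter.unusedSectionVars false
open Cfsg

namespace Cfsg.Agent.Lib.H28.S77

open Cfsg.Agent.Lib.H1.S77 Finset

section
variable {V : Type*} [Fintype V] [DecidableEq V] {G : SimpleGraph V} [DecidableRel G.Adj]
variable {v0 : V}

theorem disjoint_three {A B C : Finset V} (hAB : Disjoint A B) (hAC : Disjoint A C)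
    (hBC : Disjoint B C) :
    ∀ i j : Fin 3, i ≠ j → Disjoint ((![A, B, C]) i) ((![A, B, C]) j) := by
  intro i j hij
  fin_cases i <;> fin_cases j
  · exact absurd rfl hij
  · exact hAB
  · exact hAC
  · exact hAB.symm
  · exact absurd rfl hij
  · exact hBC
  · exact hAC.symm
  · exact hBC.symm
  · exact absurd rfl hij

/-- (MATE) groups {v0,b}, blk b, {z,w}; weights (3,2,-2); value -20 -/
theorem hnadj (hG : G.IsSRGWith 77 16 0 4) (hp : HPsdFam G) : HNadj G v0 := by
  intro b hb z hz w hw hadj
  rw [mem_cls] at hz hw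
  obtain ⟨hzB, hz⟩ := hz
  obtain ⟨hwB, hw⟩ := hw
  have hzw : z ≠ w := fun h => G.irrefl (h ▸ hadj)
  -- the trivial cases
  rcases hz with rfl | ⟨nbz, dbz⟩
  · rcases hw with rfl | ⟨nbw, -⟩
    · exact G.irrefl hadj
    · exact nbw hadj
  rcases hw with rfl | ⟨nbw, dbw⟩
  · exact nbz hadj.symm
  -- the main case
  have hb' := mem_nB.mp hb
  have hz' := mem_nB.mp hzB
  have hw' := mem_nB.mp hwB
  have hbz : b ≠ z := fun h => by
    subst h
    have h4 := card_blk hG hb
    rw [Finset.disjoint_self_iff_empty] at dbz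
    rw [dbz] at h4; simp at h4
  have hbw : b ≠ w := fun h => by
    subst h
    have h4 := card_blk hG hb
    rw [Finset.disjoint_self_iff_empty] at dbw
    rw [dbw] at h4; simp at h4
  have mem0 : ∀ u, u ∈ ({v0, b} : Finset V) ↔ u = v0 ∨ u = b := by intro u; simp
  have mem2 : ∀ u, u ∈ ({z, w} : Finset V) ↔ u = z ∨ u = w := by intro u; simp
  have c0 : ({v0, b} : Finset V).card = 2 := Finset.card_pair (Ne.symm hb'.1)
  have c1 : (blk G v0 b).card = 4 := card_blk hG hb
  have c2 : ({z, w} : Finset V).card = 2 := Finset.card_pair hzw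
  have e00 : ee G ({v0, b} : Finset V) {v0, b} = 0 := by
    apply ee_none
    intro u hu t ht
    rw [mem0] at hu ht
    rcases hu with rfl | rfl <;> rcases ht with rfl | rfl
    · exact G.irrefl
    · exact hb'.2
    · exact fun h => hb'.2 h.symm
    · exact G.irrefl
  have e01 : ee G ({v0, b} : Finset V) (blk G v0 b) = 8 := by
    rw [ee_all, c0, c1]; · norm_num
    intro u hu a ha
    rw [mem0] at hu; rw [mem_blk] at ha
    rcases hu with rfl | rfl
    · exact ha.2
    · exact ha.1
  have e10 : ee G (blk G v0 b) ({v0, b} : Finset V) = 8 := by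
    rw [ee_all, c0, c1]; · norm_num
    intro a ha u hu
    rw [mem0] at hu; rw [mem_blk] at ha
    rcases hu with rfl | rfl
    · exact ha.2.symm
    · exact ha.1.symm
  have e02 : ee G ({v0, b} : Finset V) {z, w} = 0 := by
    apply ee_none
    intro u hu t ht
    rw [mem0] at hu; rw [mem2] at ht
    rcases hu with rfl | rfl <;> rcases ht with rfl | rfl
    · exact hz'.2
    · exact hw'.2
    · exact nbz
    · exact nbw
  have e20 : ee G ({z, w} : Finset V) {v0, b} = 0 := by
    apply ee_none
    intro t ht u hu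
    rw [mem0] at hu; rw [mem2] at ht
    rcases hu with rfl | rfl <;> rcases ht with rfl | rfl
    · exact fun h => hz'.2 h.symm
    · exact fun h => hw'.2 h.symm
    · exact fun h => nbz h.symm
    · exact fun h => nbw h.symm
  have e11 : ee G (blk G v0 b) (blk G v0 b) = 0 := by
    apply ee_none
    intro a ha a' ha'
    exact indep hG (blk_subset b ha) (blk_subset b ha')
  have hza : ∀ a ∈ blk G v0 b, ∀ t ∈ ({z, w} : Finset V), ¬ G.Adj t a := by
    intro a ha t ht h
    rw [mem2] at ht
    have hav0 : G.Adj v0 a := (mem_blk.mp ha).2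
    rcases ht with rfl | rfl
    · exact Finset.disjoint_left.mp dbz ha (mem_blk.mpr ⟨h, hav0⟩)
    · exact Finset.disjoint_left.mp dbw ha (mem_blk.mpr ⟨h, hav0⟩)
  have e12 : ee G (blk G v0 b) ({z, w} : Finset V) = 0 := by
    apply ee_none
    intro a ha t ht h
    exact hza a ha t ht h.symm
  have e21 : ee G ({z, w} : Finset V) (blk G v0 b) = 0 := by
    apply ee_none
    intro t ht a ha h
    exact hza a ha t ht h
  have e22 : ee G ({z, w} : Finset V) {z, w} = 2 := by
    unfold ee
    rw [Finset.sum_pair hzw]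
    have h1 : G.neighborFinset z ∩ {z, w} = {w} := by
      ext u
      simp only [Finset.mem_inter, SimpleGraph.mem_neighborFinset, Finset.mem_insert,
        Finset.mem_singleton]
      constructor
      · rintro ⟨h, rfl | rfl⟩
        · exact absurd h G.irrefl
        · rfl
      · rintro rfl; exact ⟨hadj, Or.inr rfl⟩
    have h2 : G.neighborFinset w ∩ {z, w} = {z} := by
      ext u
      simp only [Finset.mem_inter, SimpleGraph.mem_neighborFinset, Finset.mem_insert,
        Finset.mem_singleton]
      constructor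
      · rintro ⟨h, rfl | rfl⟩
        · rfl
        · exact absurd h G.irrefl
      · rintro rfl; exact ⟨hadj.symm, Or.inl rfl⟩
    rw [h1, h2]; simp
  have d01 : Disjoint ({v0, b} : Finset V) (blk G v0 b) := by
    rw [Finset.disjoint_left]
    intro u hu ha
    rw [mem0] at hu; rw [mem_blk] at ha
    rcases hu with rfl | rfl
    · exact G.irrefl ha.2
    · exact G.irrefl ha.1
  have d02 : Disjoint ({v0, b} : Finset V) ({z, w} : Finset V) := by
    rw [Finset.disjoint_left]
    intro u hu ht
    rw [mem0] at hu; rw [mem2] at ht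
    rcases hu with rfl | rfl <;> rcases ht with h | h
    · exact hz'.1 h.symm
    · exact hw'.1 h.symm
    · exact hbz h
    · exact hbw h
  have d12 : Disjoint (blk G v0 b) ({z, w} : Finset V) := by
    rw [Finset.disjoint_left]
    intro u ha ht
    rw [mem2] at ht
    have := mem_nA.mp (blk_subset b ha)
    rcases ht with rfl | rfl
    · exact hz'.2 this
    · exact hw'.2 this
  have key := hp 3 (![({v0, b} : Finset V), blk G v0 b, {z, w}]) (disjoint_three d01 d02 d12)
    (![3, 2, -2])
  simp only [Fin.sum_univ_three, Matrix.cons_val_zero, Matrix.cons_val_one, Matrix.cons_val_two,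
    Matrix.head_cons, Matrix.tail_cons,
    e00, e01, e10, e02, e20, e11, e12, e21, e22, c0, c1, c2] at key
  norm_num at key

end

end Cfsg.Agent.Lib.H28.S77
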