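import Cfsg.Agent.Lib.H1.S77.Hyp

/-!
S0429 piece (NHC): there are exactly 22 cocliques of size 21 (double counting).
-/

set_option autoImplicit false
set_option linter.unusedSectionVars false
open Cfsg

namespace Cfsg.Agent.Lib.H28.S77

open Cfsg.Agent.Lib.H1.S77 Finset

section
variable {V : Type*} [Fintype V] [DecidableEq V] {G : SimpleGraph V} [DecidableRel G.Adj]

/-- (NHC) double counting -/
theorem card_HC (hG : G.IsSRGWith 77 16 0 4) (h1 : HF1 G) : (HC G).card = 22 := by
  have h : ∑ C ∈ HC G, C.card = ∑ v : V, ((HC G).filter (fun C => v ∈ C)).card := by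
    have h0 : ∀ C ∈ HC G,
        C.card = ((univ : Finset V).bipartiteAbove (fun C v => v ∈ C) C).card := by
      intro C _
      rw [Finset.bipartiteAbove, Finset.filter_mem_eq_inter, Finset.univ_inter]
    rw [Finset.sum_congr rfl h0, Finset.sum_card_bipartiteAbove_eq_sum_card_bipartiteBelow]
    rfl
  have h2 : ∑ C ∈ HC G, C.card = 21 * (HC G).card := by
    rw [Finset.sum_congr rfl (fun C hC => (mem_HC.mp hC).1), Finset.sum_const, smul_eq_mul,
      mul_comm]
  have h3 : ∑ v : V, ((HC G).filter (fun C => v ∈ C)).card = 462 := by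
    rw [Finset.sum_congr rfl (fun v _ => h1 v), Finset.sum_const, Finset.card_univ, hG.card]
    rfl
  omega

end

end Cfsg.Agent.Lib.H28.S77
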