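import Mathlib
import Cfsg.Prelude.Def_CaseTheorems
import Cfsg.Prelude.Def_Local
import Cfsg.Agent.Lib.H14.CharP2
import Cfsg.Agent.Lib.H22.PPrimeCore
import Cfsg.Agent.S1268

/-!
# S2924 piece CHAR2 (helper28), steps (1)-(2) of helper24's proof

* `oddCore_eq_bot_of_fstar_eq_pCore` : `F*(K) = O_2(K)` forces `O(K) = 1`.
* `centSwapEquiv` : `C_{C_X(z)}(u) ≃* C_{C_X(u)}(z)` for commuting `u`, `z`.
* `fstar_centralizer_centralizer` : `F*(C_X(z)) = O_2(C_X(z))`, `u` a 2-element commuting with `z`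
  give `F*(C_{C_X(u)}(z)) = O_2(C_{C_X(u)}(z))` (landed S1268 + transport).
* `oddCore_centralizer_centralizer_eq_bot` : hence `O(C_{C_X(u)}(z)) = 1`.
* `eq_one_of_mem_oddCore_of_commute` : hence `C_{O(C_X(u))}(z) = 1`.
-/

set_option autoImplicit false

namespace Cfsg.Agent.Lib.H28.SF

open Cfsg

/-- (1) `F*(K) = O_2(K)` forces `O(K) = 1`. -/
theorem oddCore_eq_bot_of_fstar_eq_pCore {K : Type*} [Group K] [Finite K]
    (h : Cfsg.generalizedFittingSubgroup K = Cfsg.pCore 2 K) : Cfsg.oddCore K = ⊥ := by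
  have hOn : (Cfsg.pPrimeCore 2 K).Normal := Cfsg.Agent.Lib.H22.pPrimeCore_normal 2
  have hOc : (Nat.card (Cfsg.pPrimeCore 2 K)).Coprime 2 :=
    Cfsg.Agent.Lib.H22.card_pPrimeCore_coprime 2
  have hQn : (Cfsg.pCore 2 K).Normal := Cfsg.Agent.Lib.H1.pCore_normal 2 K
  have hQ : IsPGroup 2 (Cfsg.pCore 2 K) := Cfsg.Agent.Lib.H1.pCore_isPGroup 2 K
  have hdisj : Cfsg.pPrimeCore 2 K ⊓ Cfsg.pCore 2 K = ⊥ := by
    apply disjoint_iff.1
    apply Subgroup.disjoint_of_coprime_natCard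
    obtain ⟨n, hn⟩ := IsPGroup.iff_card.1 hQ
    rw [hn]
    exact Nat.Coprime.pow_right n hOc
  have hcent : Cfsg.pPrimeCore 2 K ≤ Subgroup.centralizer (Cfsg.pCore 2 K : Set K) := by
    intro a ha
    rw [Subgroup.mem_centralizer_iff]
    intro q hq
    exact (Subgroup.commute_of_normal_of_disjoint _ _ hOn hQn (disjoint_iff.2 hdisj) a q ha hq).eq.symm
  have hle : Cfsg.pPrimeCore 2 K ≤ Cfsg.pCore 2 K :=
    hcent.trans (Cfsg.Agent.Lib.H7.centralizer_pCore_le_of_generalizedFittingSubgroup_eq 2 h)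
  show Cfsg.pPrimeCore 2 K = ⊥
  rw [eq_bot_iff, ← hdisj]
  exact le_inf le_rfl hle

variable {X : Type*} [Group X]

/-- `C_{C_X(z)}(u) ≃* C_{C_X(u)}(z)` for commuting `u`, `z` (both are `C_X(u) ∩ C_X(z)`). -/
def centSwapEquiv (u z : X) (hu : u ∈ Subgroup.centralizer ({z} : Set X))
    (hz : z ∈ Subgroup.centralizer ({u} : Set X)) :
    ↥(Subgroup.centralizer ({(⟨u, hu⟩ : ↥(Subgroup.centralizer ({z} : Set X)))} :
        Set ↥(Subgroup.centralizer ({z} : Set X)))) ≃*
    ↥(Subgroup.centralizer ({(⟨z, hz⟩ : ↥(Subgroup.centralizer ({u} : Set X)))} :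
        Set ↥(Subgroup.centralizer ({u} : Set X)))) where
  toFun c := ⟨⟨((c : ↥(Subgroup.centralizer ({z} : Set X))) : X), by
      rw [Subgroup.mem_centralizer_singleton_iff]
      have := Subgroup.mem_centralizer_singleton_iff.1 c.2
      exact congrArg Subtype.val this⟩, by
      rw [Subgroup.mem_centralizer_singleton_iff]
      apply Subtype.ext
      exact Subgroup.mem_centralizer_singleton_iff.1 (c : ↥(Subgroup.centralizer ({z} : Set X))).2⟩
  invFun c := ⟨⟨((c : ↥(Subgroup.centralizer ({u} : Set X))) : X), by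
      rw [Subgroup.mem_centralizer_singleton_iff]
      have := Subgroup.mem_centralizer_singleton_iff.1 c.2
      exact congrArg Subtype.val this⟩, by
      rw [Subgroup.mem_centralizer_singleton_iff]
      apply Subtype.ext
      exact Subgroup.mem_centralizer_singleton_iff.1 (c : ↥(Subgroup.centralizer ({u} : Set X))).2⟩
  left_inv c := rfl
  right_inv c := rfl
  map_mul' a b := rfl

@[simp] theorem centSwapEquiv_coe (u z : X) (hu : u ∈ Subgroup.centralizer ({z} : Set X))
    (hz : z ∈ Subgroup.centralizer ({u} : Set X))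
    (c : ↥(Subgroup.centralizer ({(⟨u, hu⟩ : ↥(Subgroup.centralizer ({z} : Set X)))} :
        Set ↥(Subgroup.centralizer ({z} : Set X))))) :
    (((centSwapEquiv u z hu hz c : ↥(Subgroup.centralizer ({(⟨z, hz⟩ :
      ↥(Subgroup.centralizer ({u} : Set X)))} : Set ↥(Subgroup.centralizer ({u} : Set X))))) :
      ↥(Subgroup.centralizer ({u} : Set X))) : X) =
      ((c : ↥(Subgroup.centralizer ({z} : Set X))) : X) := rfl

/-- (2a) `F*(C_X(z)) = O_2(C_X(z))` and `u` a 2-element of `C_X(z)` give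
`F*(C_{C_X(u)}(z)) = O_2(C_{C_X(u)}(z))`. -/
theorem fstar_centralizer_centralizer [Finite X] (u z : X) (hu2 : u ^ 2 = 1)
    (hu : u ∈ Subgroup.centralizer ({z} : Set X))
    (hz : z ∈ Subgroup.centralizer ({u} : Set X))
    (h : Cfsg.generalizedFittingSubgroup ↥(Subgroup.centralizer ({z} : Set X)) =
      Cfsg.pCore 2 ↥(Subgroup.centralizer ({z} : Set X))) :
    Cfsg.generalizedFittingSubgroup
        ↥(Subgroup.centralizer ({(⟨z, hz⟩ : ↥(Subgroup.centralizer ({u} : Set X)))} :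
          Set ↥(Subgroup.centralizer ({u} : Set X)))) =
      Cfsg.pCore 2
        ↥(Subgroup.centralizer ({(⟨z, hz⟩ : ↥(Subgroup.centralizer ({u} : Set X)))} :
          Set ↥(Subgroup.centralizer ({u} : Set X)))) := by
  have : Fact (Nat.Prime 2) := ⟨Nat.prime_two⟩
  set u' : ↥(Subgroup.centralizer ({z} : Set X)) := ⟨u, hu⟩ with hu'
  have hP : IsPGroup 2 ↥(Subgroup.zpowers u') := by
    rw [IsPGroup.iff_card]
    have hu'2 : u' ^ 2 = 1 := by
      apply Subtype.ext
      simpa using hu2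
    have hd : orderOf u' ∣ 2 := orderOf_dvd_of_pow_eq_one hu'2
    rw [Nat.card_zpowers]
    rcases (Nat.dvd_prime Nat.prime_two).1 hd with h1 | h1
    · exact ⟨0, by rw [h1]; rfl⟩
    · exact ⟨1, by rw [h1]; rfl⟩
  have h1 := Cfsg.Agent.S1268.result 2 h (Subgroup.zpowers u') hP
  have h2 := Cfsg.Agent.Lib.H14.fstar_centralizer_of_normalizer 2 u' hP h1
  exact Cfsg.Agent.Lib.H14.fstar_eq_pCore_of_equiv 2 (centSwapEquiv u z hu hz) h2

/-- (2b) hence `O(C_{C_X(u)}(z)) = 1`. -/
theorem oddCore_centralizer_centralizer_eq_bot [Finite X] (u z : X) (hu2 : u ^ 2 = 1)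
    (hu : u ∈ Subgroup.centralizer ({z} : Set X))
    (hz : z ∈ Subgroup.centralizer ({u} : Set X))
    (h : Cfsg.generalizedFittingSubgroup ↥(Subgroup.centralizer ({z} : Set X)) =
      Cfsg.pCore 2 ↥(Subgroup.centralizer ({z} : Set X))) :
    Cfsg.oddCore
        ↥(Subgroup.centralizer ({(⟨z, hz⟩ : ↥(Subgroup.centralizer ({u} : Set X)))} :
          Set ↥(Subgroup.centralizer ({u} : Set X)))) = ⊥ :=
  oddCore_eq_bot_of_fstar_eq_pCore (fstar_centralizer_centralizer u z hu2 hu hz h)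

/-- Generic: if `O(C_H(t)) = 1` then no nontrivial element of `O(H)` commutes with `t`. -/
theorem eq_one_of_mem_oddCore_of_oddCore_centralizer_eq_bot {H : Type*} [Group H] [Finite H]
    (t : H) (h : Cfsg.oddCore ↥(Subgroup.centralizer ({t} : Set H)) = ⊥)
    (a : H) (ha : a ∈ Cfsg.oddCore H) (hat : a * t = t * a) : a = 1 := by
  have hOn : (Cfsg.pPrimeCore 2 H).Normal := Cfsg.Agent.Lib.H22.pPrimeCore_normal 2
  have hOc : (Nat.card (Cfsg.pPrimeCore 2 H)).Coprime 2 :=
    Cfsg.Agent.Lib.H22.card_pPrimeCore_coprime 2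
  set C : Subgroup H := Subgroup.centralizer ({t} : Set H) with hC
  set D : Subgroup ↥C := (Cfsg.pPrimeCore 2 H).subgroupOf C with hD
  have hDn : D.Normal := hOn.subgroupOf C
  have hDc : (Nat.card D).Coprime 2 := by
    have hdvd : Nat.card D ∣ Nat.card (Cfsg.pPrimeCore 2 H) := by
      let f : ↥D →* ↥(Cfsg.pPrimeCore 2 H) :=
        { toFun := fun d => ⟨((d : ↥C) : H), Subgroup.mem_subgroupOf.1 d.2⟩
          map_one' := rfl
          map_mul' := fun _ _ => rfl }
      have hf : Function.Injective f := by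
        intro d1 d2 h12
        apply Subtype.ext
        apply Subtype.ext
        exact congrArg (fun x : ↥(Cfsg.pPrimeCore 2 H) => (x : H)) h12
      exact Subgroup.card_dvd_of_injective f hf
    exact Nat.Coprime.coprime_dvd_left hdvd hOc
  have hDle : D ≤ Cfsg.pPrimeCore 2 ↥C := Cfsg.Agent.Lib.H22.le_pPrimeCore 2 D hDn hDc
  have haC : a ∈ C := by
    rw [hC, Subgroup.mem_centralizer_singleton_iff]; exact hat
  have haD : (⟨a, haC⟩ : ↥C) ∈ D := by
    rw [hD, Subgroup.mem_subgroupOf]; exact ha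
  have h3 : (⟨a, haC⟩ : ↥C) ∈ (⊥ : Subgroup ↥C) := by
    have h4 : Cfsg.pPrimeCore 2 ↥C = ⊥ := h
    rw [← h4]; exact hDle haD
  have h5 := Subgroup.mem_bot.1 h3
  exact congrArg Subtype.val h5

/-- (2c) `C_{O(C_X(u))}(z) = 1`: an element of `O(C_X(u))` commuting with `z` is trivial. -/
theorem eq_one_of_mem_oddCore_of_commute [Finite X] (u z : X) (hu2 : u ^ 2 = 1)
    (hu : u ∈ Subgroup.centralizer ({z} : Set X))
    (hz : z ∈ Subgroup.centralizer ({u} : Set X))
    (h : Cfsg.generalizedFittingSubgroup ↥(Subgroup.centralizer ({z} : Set X)) =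
      Cfsg.pCore 2 ↥(Subgroup.centralizer ({z} : Set X)))
    (a : ↥(Subgroup.centralizer ({u} : Set X)))
    (ha : a ∈ Cfsg.oddCore ↥(Subgroup.centralizer ({u} : Set X)))
    (haz : (a : X) * z = z * (a : X)) : a = 1 := by
  apply eq_one_of_mem_oddCore_of_oddCore_centralizer_eq_bot
    (⟨z, hz⟩ : ↥(Subgroup.centralizer ({u} : Set X)))
    (oddCore_centralizer_centralizer_eq_bot u z hu2 hu hz h) a ha
  apply Subtype.ext
  exact haz

/-- X-level form of (2c): `O(C_X(u))` (mapped to `X`) meets `C_X(z)` trivially. -/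
theorem map_oddCore_inf_centralizer_eq_bot [Finite X] (u z : X) (hu2 : u ^ 2 = 1)
    (huz : u * z = z * u)
    (h : Cfsg.generalizedFittingSubgroup ↥(Subgroup.centralizer ({z} : Set X)) =
      Cfsg.pCore 2 ↥(Subgroup.centralizer ({z} : Set X))) :
    (Cfsg.oddCore ↥(Subgroup.centralizer ({u} : Set X))).map
        (Subgroup.centralizer ({u} : Set X)).subtype ⊓ Subgroup.centralizer ({z} : Set X) = ⊥ := by
  have hu : u ∈ Subgroup.centralizer ({z} : Set X) :=
    Subgroup.mem_centralizer_singleton_iff.2 huz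
  have hz : z ∈ Subgroup.centralizer ({u} : Set X) :=
    Subgroup.mem_centralizer_singleton_iff.2 huz.symm
  rw [eq_bot_iff]
  rintro x ⟨hx1, hx2⟩
  obtain ⟨a, ha, rfl⟩ := hx1
  have hx2' : ((Subgroup.centralizer ({u} : Set X)).subtype a) * z =
      z * ((Subgroup.centralizer ({u} : Set X)).subtype a) :=
    Subgroup.mem_centralizer_singleton_iff.1 hx2
  have := eq_one_of_mem_oddCore_of_commute u z hu2 hu hz h a ha hx2'
  rw [this]
  exact Subgroup.mem_bot.2 (map_one _)

/-- (1) at the X-level: `O(C_X(z))` (mapped to `X`) is trivial. -/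
theorem map_oddCore_centralizer_eq_bot [Finite X] (z : X)
    (h : Cfsg.generalizedFittingSubgroup ↥(Subgroup.centralizer ({z} : Set X)) =
      Cfsg.pCore 2 ↥(Subgroup.centralizer ({z} : Set X))) :
    (Cfsg.oddCore ↥(Subgroup.centralizer ({z} : Set X))).map
        (Subgroup.centralizer ({z} : Set X)).subtype = ⊥ := by
  rw [oddCore_eq_bot_of_fstar_eq_pCore h, Subgroup.map_bot]

end Cfsg.Agent.Lib.H28.SF
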