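import Mathlib
import Cfsg.Prelude.Def_Local
import Cfsg.Agent.Lib.H28.SFCHAR2
import Cfsg.Agent.Lib.H7.PConstrained2

/-!
# S2924 piece CHAR2 (helper28): EXACT signature of `tools/blueprints/S2924_sigs.lean`

`F*(C_X(z)) = O_2(C_X(z))`, `u` an involution commuting with `z`, `H := C_X(u)`, `z' = z` in `H`:
`O(C_H(z')) = 1` and `E(C_H(z')) = 1` (landed S1268 in `C_X(z)` + transport, core in `SFCHAR2`).
-/

set_option autoImplicit false

namespace Cfsg.Agent.Lib.H28.SG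

open Cfsg

theorem char2 {X : Type*} [Group X] [Finite X] (u z : X) (hu : orderOf u = 2) (huz : u * z = z * u)
    (hF : Cfsg.generalizedFittingSubgroup ↥(Subgroup.centralizer ({z} : Set X)) =
      Cfsg.pCore 2 ↥(Subgroup.centralizer ({z} : Set X)))
    (z' : ↥(Subgroup.centralizer ({u} : Set X))) (hz' : (z' : X) = z) :
    Cfsg.pPrimeCore 2 ↥(Subgroup.centralizer ({z'} : Set ↥(Subgroup.centralizer ({u} : Set X)))) = ⊥ ∧
    Cfsg.layer ↥(Subgroup.centralizer ({z'} : Set ↥(Subgroup.centralizer ({u} : Set X)))) = ⊥ := by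
  have : Fact (Nat.Prime 2) := ⟨Nat.prime_two⟩
  obtain ⟨z0, hz0⟩ := z'
  have hz0z : z0 = z := hz'
  subst hz0z
  have hu2 : u ^ 2 = 1 := by rw [← hu]; exact pow_orderOf_eq_one u
  have humem : u ∈ Subgroup.centralizer ({z0} : Set X) :=
    Subgroup.mem_centralizer_singleton_iff.2 huz
  have h1 := Cfsg.Agent.Lib.H28.SF.fstar_centralizer_centralizer u z0 hu2 humem hz0 hF
  exact ⟨Cfsg.Agent.Lib.H28.SF.oddCore_eq_bot_of_fstar_eq_pCore h1,
    Cfsg.Agent.Lib.H7.layer_eq_bot_of_gfs_eq_pCore 2 h1⟩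

end Cfsg.Agent.Lib.H28.SG
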