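import Mathlib
import Cfsg.Prelude.Def_Characters
import Cfsg.Agent.Lib.L0.FiniteOrderEnd
import Cfsg.Agent.Lib.H17.SHINV2

/-!
# The rank bound for products of two elements of prime order (S3016, piece INVp)

For endomorphisms `A`, `B` of a finite-dimensional complex space with `A * B` of finite order:
`2 dim Fix A + 2 dim Fix B - 3 dim V ≤ Re tr (A * B)` (the product is trivial on `Fix A ∩ Fix B`, the other
eigenvalues have real part `≥ -1`).  For a character `χ` of a finite group, a prime `p` and `x`, `y` with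
`x ^ p = y ^ p = 1` on whose nontrivial powers `χ` takes the constant real value `d`: the multiplicity of the
eigenvalue `1` is `(χ 1 + (p - 1) d) / p`, hence `4 (χ 1 + (p - 1) d) - 3 p χ 1 ≤ p Re χ (x * y)`.
-/

set_option autoImplicit false

open Module

namespace Cfsg.Agent.Lib.H28.SHP

open Cfsg.Agent.Lib.L0

section LinAlg

variable {V : Type*} [AddCommGroup V] [Module ℂ V] [FiniteDimensional ℂ V]

/-- (a) the rank bound: no hypothesis on `A`, `B` themselves. -/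
theorem re_trace_mul_ge_fix (A B : End ℂ V) (m : ℕ) (hm : 0 < m) (hAB : (A * B) ^ m = 1) :
    2 * (finrank ℂ (A.eigenspace 1) : ℝ) + 2 * (finrank ℂ (B.eigenspace 1) : ℝ) -
        3 * (finrank ℂ V : ℝ) ≤ (LinearMap.trace ℂ V (A * B)).re := by
  have hle : A.eigenspace 1 ⊓ B.eigenspace 1 ≤ (A * B).eigenspace 1 := by
    intro v hv
    rw [Submodule.mem_inf, Module.End.mem_eigenspace_iff, Module.End.mem_eigenspace_iff] at hv
    rw [Module.End.mem_eigenspace_iff, Module.End.mul_apply, hv.2, one_smul, hv.1, one_smul]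
  have hdim := Submodule.finrank_sup_add_finrank_inf_eq (A.eigenspace 1) (B.eigenspace 1)
  have hsup : finrank ℂ ↥(A.eigenspace 1 ⊔ B.eigenspace 1) ≤ finrank ℂ V := Submodule.finrank_le _
  have hinf : finrank ℂ ↥(A.eigenspace 1 ⊓ B.eigenspace 1) ≤
      finrank ℂ ↥((A * B).eigenspace 1) := Submodule.finrank_mono hle
  have h1 := Cfsg.Agent.Lib.H17.SH.re_trace_ge_of_pow_eq_one (A * B) m hm hAB
  have h2 : (finrank ℂ (A.eigenspace 1) : ℝ) + finrank ℂ (B.eigenspace 1) ≤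
      (finrank ℂ V : ℝ) + finrank ℂ ↥((A * B).eigenspace 1) := by
    have : finrank ℂ (A.eigenspace 1) + finrank ℂ (B.eigenspace 1) ≤
        finrank ℂ V + finrank ℂ ↥((A * B).eigenspace 1) := by omega
    exact_mod_cast this
  linarith

/-- the geometric sum of an `n`-th root of unity. -/
theorem sum_pow_of_pow_eq_one {μ : ℂ} {n : ℕ} (h : μ ^ n = 1) :
    ∑ k ∈ Finset.range n, μ ^ k = if μ = 1 then (n : ℂ) else 0 := by
  by_cases hμ : μ = 1
  · rw [if_pos hμ, hμ]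
    simp
  · rw [if_neg hμ]
    have h1 : (μ - 1) * ∑ k ∈ Finset.range n, μ ^ k = 0 := by
      rw [mul_comm, geom_sum_mul, h, sub_self]
    rcases mul_eq_zero.1 h1 with h2 | h2
    · exact absurd (sub_eq_zero.1 h2) hμ
    · exact h2

/-- (b) the multiplicity of the eigenvalue `1` of an endomorphism of finite order is the average of the
traces of its powers. -/
theorem finrank_fix_mul_eq (f : End ℂ V) (n : ℕ) (hn : 0 < n) (h : f ^ n = 1) :
    (n : ℂ) * (finrank ℂ (f.eigenspace 1) : ℂ) =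
      ∑ k ∈ Finset.range n, LinearMap.trace ℂ V (f ^ k) := by
  classical
  have hf := isSemisimple_of_pow_eq_one hn h
  have h1 : ∀ k, LinearMap.trace ℂ V (f ^ k) =
      ∑ μ : f.Eigenvalues, (finrank ℂ (f.eigenspace (μ : ℂ)) : ℂ) * (μ : ℂ) ^ k :=
    fun k => trace_pow_eq_sum hf k
  rw [Finset.sum_congr rfl (fun k _ => h1 k), Finset.sum_comm]
  have h2 : ∀ μ : f.Eigenvalues,
      ∑ k ∈ Finset.range n, (finrank ℂ (f.eigenspace (μ : ℂ)) : ℂ) * (μ : ℂ) ^ k =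
      (n : ℂ) * ((if (μ : ℂ) = 1 then finrank ℂ (f.eigenspace (μ : ℂ)) else 0 : ℕ) : ℂ) := by
    intro μ
    rw [← Finset.mul_sum, sum_pow_of_pow_eq_one (eigenvalue_pow_eq_one h μ)]
    by_cases hμ : (μ : ℂ) = 1
    · rw [if_pos hμ, if_pos hμ]
      ring
    · rw [if_neg hμ, if_neg hμ]
      simp
  rw [Finset.sum_congr rfl (fun μ _ => h2 μ), ← Finset.mul_sum, ← Nat.cast_sum,
    Cfsg.Agent.Lib.H17.SH.sum_ite_finrank_eigenspace_one f]

end LinAlg

section Character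

variable {G : Type*} [Group G] [Finite G]

omit [Finite G] in
/-- the multiplicity of the eigenvalue `1` of `ρ x`, `x ^ n = 1`, through the character. -/
theorem finrank_fix_char {n : ℕ} (ρ : Representation ℂ G (Fin n → ℂ)) (x : G) (k : ℕ) (hk : 0 < k)
    (hx : x ^ k = 1) :
    (k : ℂ) * (finrank ℂ (Module.End.eigenspace (ρ x) 1) : ℂ) =
      ∑ j ∈ Finset.range k, ρ.character (x ^ j) := by
  have h : (ρ x) ^ k = 1 := by rw [← map_pow, hx, map_one]
  rw [finrank_fix_mul_eq (ρ x) k hk h]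
  refine Finset.sum_congr rfl fun j _ => ?_
  show LinearMap.trace ℂ (Fin n → ℂ) ((ρ x) ^ j) = LinearMap.trace ℂ (Fin n → ℂ) (ρ (x ^ j))
  rw [map_pow ρ x j]

omit [Finite G] in
/-- for `x ^ p = 1` and `χ` constant `= d` on the nontrivial powers of `x`:
`p * dim Fix = χ 1 + (p - 1) d`. -/
theorem finrank_fix_of_const {n : ℕ} (ρ : Representation ℂ G (Fin n → ℂ)) (p : ℕ) (hp : 0 < p)
    (x : G) (hx : x ^ p = 1) (d : ℝ)
    (hd : ∀ k, 0 < k → k < p → ρ.character (x ^ k) = (d : ℂ)) :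
    (p : ℝ) * (finrank ℂ (Module.End.eigenspace (ρ x) 1) : ℝ) =
      (n : ℝ) + ((p : ℝ) - 1) * d := by
  have h := finrank_fix_char ρ x p hp hx
  obtain ⟨q, rfl⟩ : ∃ q, p = q + 1 := ⟨p - 1, by omega⟩
  rw [Finset.sum_range_succ'] at h
  have h2 : ∑ j ∈ Finset.range q, ρ.character (x ^ (j + 1)) = (q : ℂ) * (d : ℂ) := by
    rw [Finset.sum_congr rfl (fun j hj => hd (j + 1) (Nat.succ_pos j)
      (Nat.succ_lt_succ (Finset.mem_range.1 hj))), Finset.sum_const, Finset.card_range,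
      nsmul_eq_mul]
  have h3 : ρ.character (x ^ 0) = (n : ℂ) := by
    rw [pow_zero, Representation.char_one]
    simp
  rw [h2, h3] at h
  have h4 := congrArg Complex.re h
  simp only [Complex.mul_re, Complex.add_re, Complex.natCast_re, Complex.natCast_im,
    Complex.ofReal_re, Complex.ofReal_im, mul_zero, sub_zero] at h4
  push_cast at h4 ⊢
  linarith

/-- (c) **INVp**: the rank bound for a character at the product of two elements of prime order on whose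
nontrivial powers the character is constant `= d` (real): `4 (f + (p-1) d) - 3 p f ≤ p Re χ (x * y)`,
`f = χ 1`. -/
theorem char_mul_prime_order_ge (χ : G → ℂ) (hχ : Cfsg.IsCharacter G χ) (p : ℕ) (hp : 0 < p)
    (x y : G) (hx : x ^ p = 1) (hy : y ^ p = 1) (d : ℝ)
    (hdx : ∀ k, 0 < k → k < p → χ (x ^ k) = (d : ℂ))
    (hdy : ∀ k, 0 < k → k < p → χ (y ^ k) = (d : ℂ)) :
    4 * ((χ 1).re + ((p : ℝ) - 1) * d) - 3 * (p : ℝ) * (χ 1).re ≤ (p : ℝ) * (χ (x * y)).re := by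
  obtain ⟨n, ρ, rfl⟩ := hχ
  have hm : 0 < orderOf (x * y) := orderOf_pos (x * y)
  have hAB : (ρ x * ρ y) ^ orderOf (x * y) = 1 := by
    rw [← map_mul, ← map_pow, pow_orderOf_eq_one, map_one]
  have h := re_trace_mul_ge_fix (ρ x) (ρ y) _ hm hAB
  have hfx := finrank_fix_of_const ρ p hp x hx d hdx
  have hfy := finrank_fix_of_const ρ p hp y hy d hdy
  have h1 : (ρ.character 1).re = (n : ℝ) := by
    rw [Representation.char_one]
    simp
  have hn : (finrank ℂ (Fin n → ℂ) : ℝ) = (n : ℝ) := by simp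
  have hxy : (ρ.character (x * y)).re = (LinearMap.trace ℂ (Fin n → ℂ) (ρ x * ρ y)).re := by
    rw [Representation.character, map_mul]
  rw [h1, hxy]
  rw [hn] at h
  have hp0 : (0 : ℝ) < (p : ℝ) := by exact_mod_cast hp
  nlinarith [mul_le_mul_of_nonneg_left h hp0.le]

/-- INVp with `[Fact p.Prime]`, an integer value `d` and a natural degree `f` (the shape of the CASE B data). -/
theorem char_mul_prime_order_ge_int (χ : G → ℂ) (hχ : Cfsg.IsCharacter G χ) (p : ℕ) [hp : Fact p.Prime]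
    (x y : G) (hx : x ^ p = 1) (hy : y ^ p = 1) (d : ℤ) (f : ℕ) (hf : χ 1 = (f : ℂ))
    (hdx : ∀ k, 0 < k → k < p → χ (x ^ k) = (d : ℂ))
    (hdy : ∀ k, 0 < k → k < p → χ (y ^ k) = (d : ℂ)) :
    4 * ((f : ℝ) + ((p : ℝ) - 1) * (d : ℝ)) - 3 * (p : ℝ) * (f : ℝ) ≤ (p : ℝ) * (χ (x * y)).re := by
  have h := char_mul_prime_order_ge χ hχ p hp.out.pos x y hx hy (d : ℝ)
    (fun k hk hkp => by rw [hdx k hk hkp]; push_cast; rfl)
    (fun k hk hkp => by rw [hdy k hk hkp]; push_cast; rfl)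
  rw [hf, Complex.natCast_re] at h
  exact h

/-- INVp for a conjugate pair: `y = g * x * g⁻¹`. -/
theorem char_mul_conj_prime_order_ge (χ : G → ℂ) (hχ : Cfsg.IsCharacter G χ) (p : ℕ) [hp : Fact p.Prime]
    (x g : G) (hx : x ^ p = 1) (d : ℤ) (f : ℕ) (hf : χ 1 = (f : ℂ))
    (hdx : ∀ k, 0 < k → k < p → χ (x ^ k) = (d : ℂ)) :
    4 * ((f : ℝ) + ((p : ℝ) - 1) * (d : ℝ)) - 3 * (p : ℝ) * (f : ℝ) ≤
      (p : ℝ) * (χ (x * (g * x * g⁻¹))).re := by
  have hy : (g * x * g⁻¹) ^ p = 1 := by rw [conj_pow, hx, mul_one, mul_inv_cancel]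
  refine char_mul_prime_order_ge_int χ hχ p x (g * x * g⁻¹) hx hy d f hf hdx ?_
  intro k hk hkp
  rw [conj_pow, ← hdx k hk hkp]
  obtain ⟨n, ρ, rfl⟩ := hχ
  show LinearMap.trace ℂ _ (ρ (g * x ^ k * g⁻¹)) = LinearMap.trace ℂ _ (ρ (x ^ k))
  have h1 : ρ (g * x ^ k * g⁻¹) = ρ g * (ρ (x ^ k) * ρ g⁻¹) := by
    rw [map_mul ρ, map_mul ρ, mul_assoc]
  have h2 : ρ (x ^ k) * ρ g⁻¹ * ρ g = ρ (x ^ k) := by
    rw [mul_assoc, ← map_mul ρ, inv_mul_cancel, map_one, mul_one]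
  rw [h1, LinearMap.trace_mul_comm, h2]

/-- INVp for `y = g * x⁻¹ * g⁻¹` (the class sum at `(a, a⁻¹)`). -/
theorem char_mul_conj_inv_prime_order_ge (χ : G → ℂ) (hχ : Cfsg.IsCharacter G χ) (p : ℕ)
    [hp : Fact p.Prime] (x g : G) (hx : x ^ p = 1) (d : ℤ) (f : ℕ) (hf : χ 1 = (f : ℂ))
    (hdx : ∀ k, 0 < k → k < p → χ (x ^ k) = (d : ℂ)) :
    4 * ((f : ℝ) + ((p : ℝ) - 1) * (d : ℝ)) - 3 * (p : ℝ) * (f : ℝ) ≤
      (p : ℝ) * (χ (x * (g * x⁻¹ * g⁻¹))).re := by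
  have hxi : (x⁻¹) ^ p = 1 := by rw [inv_pow, hx, inv_one]
  have hy : (g * x⁻¹ * g⁻¹) ^ p = 1 := by rw [conj_pow, hxi, mul_one, mul_inv_cancel]
  have hpp : 0 < p := hp.out.pos
  -- `x⁻¹ ^ k = x ^ (p - k)`
  have hinv : ∀ k, 0 < k → k < p → χ ((x⁻¹) ^ k) = (d : ℂ) := by
    intro k hk hkp
    have h1 : (x⁻¹) ^ k = x ^ (p - k) := by
      rw [inv_pow, inv_eq_iff_mul_eq_one, ← pow_add, Nat.add_sub_cancel' hkp.le, hx]
    rw [h1]
    exact hdx (p - k) (Nat.sub_pos_of_lt hkp) (Nat.sub_lt hpp hk)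
  refine char_mul_prime_order_ge_int χ hχ p x (g * x⁻¹ * g⁻¹) hx hy d f hf hdx ?_
  intro k hk hkp
  rw [conj_pow, ← hinv k hk hkp]
  obtain ⟨n, ρ, rfl⟩ := hχ
  show LinearMap.trace ℂ _ (ρ (g * x⁻¹ ^ k * g⁻¹)) = LinearMap.trace ℂ _ (ρ (x⁻¹ ^ k))
  have h1 : ρ (g * x⁻¹ ^ k * g⁻¹) = ρ g * (ρ (x⁻¹ ^ k) * ρ g⁻¹) := by
    rw [map_mul ρ, map_mul ρ, mul_assoc]
  have h2 : ρ (x⁻¹ ^ k) * ρ g⁻¹ * ρ g = ρ (x⁻¹ ^ k) := by
    rw [mul_assoc, ← map_mul ρ, inv_mul_cancel, map_one, mul_one]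
  rw [h1, LinearMap.trace_mul_comm, h2]

end Character

end Cfsg.Agent.Lib.H28.SHP
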