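import Cfsg.Agent.Lib.H10.SoD
import Cfsg.Agent.Lib.H11.SuPar1

/-!
# S5659 farm-out, piece C (helper28): points ⟹ subfield subgroup

An element of `GL_n(F)` mapping every rational singular point to a rational point lies in the
subfield subgroup.
-/

set_option autoImplicit false
set_option linter.unusedSectionVars false
set_option linter.unusedVariables false
set_option linter.unusedSimpArgs false

namespace Cfsg.Agent.Lib.H28.SoSub

open Matrix
open Cfsg.Agent.S0837 (Bs Bs_apply Bs_symm Bs_nondeg)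
open Cfsg.Agent.S0781 (Em Em_mulVec)
open Cfsg.Agent.Lib.H11.UGen (Um Um_mulVec)
open Cfsg.Agent.Lib.H10.Sf (IsRat)
open Cfsg.Agent.Lib.H10.Su
open Cfsg.Agent.Lib.H10.So

variable {F : Type*} [Field F] [Fintype F] {n q : ℕ}
variable {φ : F →+* F} {F₀ : Subfield F} {P : GL (Fin n) F} {H : Subgroup (GL (Fin n) F)}

/-- injectivity of the action of an invertible matrix -/
theorem c_inj (g : GL (Fin n) F) {x : Fin n → F}
    (h : (g : Matrix (Fin n) (Fin n) F) *ᵥ x = 0) : x = 0 := by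
  apply mulVec_injective g
  rw [h, Matrix.mulVec_zero]

/-- the sum of two orthogonal rational singular vectors is singular -/
theorem c_sing_add (R : RS φ n q F₀ P) {y y' : Fin n → F} (hy : RatV F₀ P y)
    (hy' : RatV F₀ P y') (hyy : Bs φ n y y = 0) (hy'y' : Bs φ n y' y' = 0)
    (hyy' : Bs φ n y y' = 0) : Bs φ n (y + y') (y + y') = 0 := by
  have h1 : Bs φ n y' y = 0 := by rw [R.B_symm hy' hy]; exact hyy'
  simp only [map_add, LinearMap.add_apply, hyy, hy'y', hyy', h1, add_zero]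

/-- **Lemma A**: the scalars of two independent orthogonal rational singular points agree up
to `F₀`. -/
theorem c_ratio (R : RS φ n q F₀ P) (g : GL (Fin n) F) {y y' : Fin n → F}
    (hli : ∀ s t : F, s • y + t • y' = 0 → s = 0 ∧ t = 0)
    {l l' l'' : F} {r r' r'' : Fin n → F} (hr : RatV F₀ P r) (hr' : RatV F₀ P r')
    (hr'' : RatV F₀ P r'')
    (h1 : (g : Matrix (Fin n) (Fin n) F) *ᵥ y = l • r)
    (h2 : (g : Matrix (Fin n) (Fin n) F) *ᵥ y' = l' • r')
    (h3 : (g : Matrix (Fin n) (Fin n) F) *ᵥ (y + y') = l'' • r'') :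
    l ≠ 0 ∧ l' ≠ 0 ∧ l / l' ∈ F₀ := by
  obtain ⟨θ, hθ0, hθ, -⟩ := R.exists_theta
  have hl : l ≠ 0 := by
    rintro rfl
    rw [zero_smul] at h1
    have := c_inj g h1
    have h := hli 1 0 (by rw [this]; simp)
    exact one_ne_zero h.1
  have hl' : l' ≠ 0 := by
    rintro rfl
    rw [zero_smul] at h2
    have := c_inj g h2
    have h := hli 0 1 (by rw [this]; simp)
    exact one_ne_zero h.2
  have hl'' : l'' ≠ 0 := by
    rintro rfl
    rw [zero_smul] at h3
    have := c_inj g h3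
    have h := hli 1 1 (by rw [one_smul, one_smul]; exact this)
    exact one_ne_zero h.1
  have hsum : l • r + l' • r' = l'' • r'' := by
    rw [← h1, ← h2, ← h3, Matrix.mulVec_add]
  obtain ⟨a, b, ha, hb, hab⟩ := R.scalar_decomp hθ0 hθ (l / l'')
  obtain ⟨a', b', ha', hb', hab'⟩ := R.scalar_decomp hθ0 hθ (l' / l'')
  have hsum2 : (l / l'') • r + (l' / l'') • r' = r'' := by
    have := congrArg (fun z => l''⁻¹ • z) hsum
    simp only [smul_add, smul_smul] at this
    rw [inv_mul_cancel₀ hl'', one_smul] at this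
    rw [← this]
    congr 2 <;> rw [div_eq_inv_mul]
  have h0 : (a • r + a' • r' - r'') + θ • (b • r + b' • r') = 0 := by
    rw [← hsum2, hab, hab']
    simp only [add_smul, smul_add, smul_smul]
    abel
  have hbr := (R.decomp_unique hθ0 hθ (((hr.smul ha).add (hr'.smul ha')).sub hr'')
    ((hr.smul hb).add (hr'.smul hb')) h0).2
  have hb0 : b = 0 ∧ b' = 0 := by
    have h4 : (g : Matrix (Fin n) (Fin n) F) *ᵥ ((b * l⁻¹) • y + (b' * l'⁻¹) • y') = 0 := by
      rw [Matrix.mulVec_add, Matrix.mulVec_smul, Matrix.mulVec_smul, h1, h2, smul_smul, smul_smul,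
        mul_assoc, mul_assoc, inv_mul_cancel₀ hl, inv_mul_cancel₀ hl', mul_one, mul_one]
      exact hbr
    have h5 := hli _ _ (c_inj g h4)
    constructor
    · have := h5.1
      rcases mul_eq_zero.1 this with h | h
      · exact h
      · exact absurd (inv_eq_zero.1 h) hl
    · have := h5.2
      rcases mul_eq_zero.1 this with h | h
      · exact h
      · exact absurd (inv_eq_zero.1 h) hl'
  rw [hb0.1, mul_zero, add_zero] at hab
  rw [hb0.2, mul_zero, add_zero] at hab'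
  refine ⟨hl, hl', ?_⟩
  have h6 : l / l' = a / a' := by
    rw [← hab, ← hab']
    field_simp
  rw [h6]
  exact F₀.div_mem ha ha'

/-- a common rational singular neighbour of two rational vectors -/
theorem c_neighbour (R : RS φ n q F₀ P) {y y' : Fin n → F} (hy : RatV F₀ P y)
    (hy' : RatV F₀ P y') (hy0 : y ≠ 0) (hy'0 : y' ≠ 0) :
    ∃ e, RatV F₀ P e ∧ Bs φ n e e = 0 ∧ Bs φ n y e = 0 ∧ Bs φ n y' e = 0 ∧
      (∀ s t : F, s • y + t • e = 0 → s = 0 ∧ t = 0) ∧
      (∀ s t : F, s • y' + t • e = 0 → s = 0 ∧ t = 0) := by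
  have hrat : ∀ i, RatV F₀ P (![y, y'] i) := by
    intro i; fin_cases i
    · exact hy
    · exact hy'
  have hn := R.hn
  obtain ⟨e, f, he, hf, hee, hff, hef, hve, hvf⟩ := R.exists_hyp_perp ![y, y'] hrat (by omega)
  have hye : Bs φ n y e = 0 := by simpa using hve 0
  have hy'e : Bs φ n y' e = 0 := by simpa using hve 1
  have hyf : Bs φ n y f = 0 := by simpa using hvf 0
  have hy'f : Bs φ n y' f = 0 := by simpa using hvf 1
  have hfy : Bs φ n f y = 0 := by rw [R.B_symm hf hy]; exact hyf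
  have hfy' : Bs φ n f y' = 0 := by rw [R.B_symm hf hy']; exact hy'f
  have hfe : Bs φ n f e = 1 := by rw [R.B_symm hf he]; exact hef
  have key : ∀ w : Fin n → F, w ≠ 0 → Bs φ n f w = 0 →
      ∀ s t : F, s • w + t • e = 0 → s = 0 ∧ t = 0 := by
    intro w hw0 hfw s t hst
    have h1 := congrArg (fun z => Bs φ n f z) hst
    simp only [map_add, map_smul, smul_eq_mul, hfw, hfe, mul_zero, mul_one, zero_add,
      map_zero] at h1
    rw [h1, zero_smul, add_zero] at hst
    rcases smul_eq_zero.1 hst with h | h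
    · exact ⟨h, h1⟩
    · exact absurd h hw0
  exact ⟨e, he, hee, hye, hy'e, key y hy0 hfy, key y' hy'0 hfy'⟩

/-- **C (points ⟹ subfield subgroup)** -/
theorem mem_sub_of_sing_pts (R : RS φ n q F₀ P) (g : GL (Fin n) F)
    (hg : ∀ y, RatV F₀ P y → Bs φ n y y = 0 → ∃ (l : F) (r : Fin n → F), RatV F₀ P r ∧
      (g : Matrix (Fin n) (Fin n) F) *ᵥ y = l • r) :
    g ∈ Cfsg.Geo.subfieldSubgroup F₀ P := by
  have hn := R.hn
  -- a base point
  obtain ⟨y₀, f₀, hy₀, hf₀, hy₀y₀, -, hy₀f₀, -, -⟩ :=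
    R.exists_hyp_perp (k := 0) (fun i => i.elim0) (fun i => i.elim0) (by omega)
  have hy₀0 : y₀ ≠ 0 := by
    rintro rfl
    rw [map_zero, LinearMap.zero_apply] at hy₀f₀
    exact zero_ne_one hy₀f₀
  obtain ⟨l₀, r₀, hr₀, hgy₀⟩ := hg y₀ hy₀ hy₀y₀
  -- every rational singular vector is mapped to `l₀ •` a rational vector
  have step2 : ∀ y, RatV F₀ P y → Bs φ n y y = 0 →
      RatV F₀ P (l₀⁻¹ • ((g : Matrix (Fin n) (Fin n) F) *ᵥ y)) := by
    intro y hy hyy
    by_cases hy0 : y = 0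
    · rw [hy0, Matrix.mulVec_zero, smul_zero]; exact RatV.zero
    obtain ⟨l, r, hr, hgy⟩ := hg y hy hyy
    obtain ⟨e, he, hee, hy₀e, hye, hli₀, hli⟩ := c_neighbour R hy₀ hy hy₀0 hy0
    obtain ⟨lₑ, rₑ, hrₑ, hge⟩ := hg e he hee
    obtain ⟨l₁, r₁, hr₁, hg₁⟩ := hg (y₀ + e) (hy₀.add he) (c_sing_add R hy₀ he hy₀y₀ hee hy₀e)
    obtain ⟨l₂, r₂, hr₂, hg₂⟩ := hg (y + e) (hy.add he) (c_sing_add R hy he hyy hee hye)
    obtain ⟨hl₀, hlₑ, hm₀⟩ := c_ratio R g hli₀ hr₀ hrₑ hr₁ hgy₀ hge hg₁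
    obtain ⟨hl, -, hm⟩ := c_ratio R g hli hr hrₑ hr₂ hgy hge hg₂
    rw [hgy, smul_smul]
    refine hr.smul ?_
    have : l₀⁻¹ * l = (l / lₑ) / (l₀ / lₑ) := by
      field_simp
    rw [this]
    exact F₀.div_mem hm hm₀
  have hl₀ : l₀ ≠ 0 := by
    rintro rfl
    rw [zero_smul] at hgy₀
    exact hy₀0 (c_inj g hgy₀)
  -- every rational vector is a sum of three rational singular vectors
  refine mem_sub_of_ratV (c := l₀⁻¹) (inv_ne_zero hl₀) ?_
  intro x hx
  have hrat : ∀ i, RatV F₀ P (![x] i) := by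
    intro i; fin_cases i; exact hx
  obtain ⟨e, f, he, hf, hee, hff, hef, hve, hvf⟩ := R.exists_hyp_perp ![x] hrat (by omega)
  have hxe : Bs φ n x e = 0 := by simpa using hve 0
  have hxf : Bs φ n x f = 0 := by simpa using hvf 0
  have hex : Bs φ n e x = 0 := by rw [R.B_symm he hx]; exact hxe
  have hfx : Bs φ n f x = 0 := by rw [R.B_symm hf hx]; exact hxf
  have hfe : Bs φ n f e = 1 := by rw [R.B_symm hf he]; exact hef
  have hβ : Bs φ n x x ∈ F₀ := R.hB x x hx hx
  obtain ⟨β, hβdef⟩ : ∃ β : F, β = Bs φ n x x / 2 := ⟨_, rfl⟩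
  have hβ2 : β ∈ F₀ := by rw [hβdef]; exact F₀.div_mem hβ R.two_mem
  have hs₁ : RatV F₀ P (x + e - β • f) := (hx.add he).sub (hf.smul hβ2)
  have hs₁s₁ : Bs φ n (x + e - β • f) (x + e - β • f) = 0 := by
    simp only [map_add, map_sub, map_smulₛₗ, map_smul, LinearMap.add_apply, LinearMap.sub_apply,
      LinearMap.smul_apply, smul_eq_mul, R.fix hβ2, hxe, hxf, hex, hfx, hee, hff, hef, hfe,
      RingHom.id_apply]
    have h2 := R.h2
    rw [hβdef]
    field_simp
    ring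
  have e1 : x = (x + e - β • f) - e + β • f := by abel
  have h1 := step2 _ hs₁ hs₁s₁
  have h2 := step2 _ he hee
  have h3 := step2 _ hf hff
  have : l₀⁻¹ • ((g : Matrix (Fin n) (Fin n) F) *ᵥ x) =
      l₀⁻¹ • ((g : Matrix (Fin n) (Fin n) F) *ᵥ (x + e - β • f)) -
        l₀⁻¹ • ((g : Matrix (Fin n) (Fin n) F) *ᵥ e) +
        β • (l₀⁻¹ • ((g : Matrix (Fin n) (Fin n) F) *ᵥ f)) := by
    conv_lhs => rw [e1]
    rw [Matrix.mulVec_add, Matrix.mulVec_sub, Matrix.mulVec_smul, smul_add, smul_sub,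
      smul_comm l₀⁻¹ β]
  rw [this]
  exact (h1.sub h2).add (h3.smul hβ2)

end Cfsg.Agent.Lib.H28.SoSub
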