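import Mathlib

/-!
# An `8`-dimensional model over `𝔽₃` of the spin cover of `W(E₇)` (helper28)

Seven matrices `S i` with `S i ^ 2 = -1`, the braid relations along the edges of the `E₇`
diagram, and anticommuting otherwise.
-/

set_option autoImplicit false

namespace Cfsg.Agent.Lib.H28.Sp6

/-- The seven matrices. -/
def Smat : Fin 7 → Matrix (Fin 8) (Fin 8) (ZMod 3) := ![
  !![0, 0, 0, 0, 0, 2, 0, 0; 0, 0, 0, 0, 2, 0, 0, 0; 0, 0, 0, 0, 0, 0, 0, 1; 0, 0, 0, 0, 0, 0, 1, 0; 0, 1, 0, 0, 0, 0, 0, 0; 1, 0, 0, 0, 0, 0, 0, 0; 0, 0, 0, 2, 0, 0, 0, 0; 0, 0, 2, 0, 0, 0, 0, 0],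
  !![0, 0, 0, 0, 0, 0, 0, 2; 0, 0, 0, 0, 0, 0, 2, 0; 0, 0, 0, 0, 0, 2, 0, 0; 0, 0, 0, 0, 2, 0, 0, 0; 0, 0, 0, 1, 0, 0, 0, 0; 0, 0, 1, 0, 0, 0, 0, 0; 0, 1, 0, 0, 0, 0, 0, 0; 1, 0, 0, 0, 0, 0, 0, 0],
  !![0, 0, 2, 0, 2, 2, 2, 0; 0, 0, 0, 1, 2, 1, 0, 1; 1, 0, 0, 0, 1, 0, 2, 1; 0, 2, 0, 0, 0, 2, 1, 1; 1, 1, 2, 0, 0, 0, 1, 0; 1, 2, 0, 1, 0, 0, 0, 2; 1, 0, 1, 2, 2, 0, 0, 0; 0, 2, 2, 2, 0, 1, 0, 0],
  !![0, 0, 2, 0, 1, 0, 2, 2; 0, 0, 0, 1, 0, 2, 2, 1; 1, 0, 0, 0, 1, 2, 1, 0; 0, 2, 0, 0, 2, 2, 0, 2; 2, 0, 2, 1, 0, 0, 1, 0; 0, 1, 1, 1, 0, 0, 0, 2; 1, 1, 2, 0, 2, 0, 0, 0; 1, 2, 0, 1, 0, 1, 0, 0],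
  !![0, 0, 2, 2, 2, 0, 2, 0; 0, 0, 2, 1, 0, 1, 0, 1; 1, 1, 0, 0, 1, 0, 2, 0; 1, 2, 0, 0, 0, 2, 0, 1; 1, 0, 2, 0, 0, 0, 1, 2; 0, 2, 0, 1, 0, 0, 2, 2; 1, 0, 1, 0, 2, 1, 0, 0; 0, 2, 0, 2, 1, 1, 0, 0],
  !![0, 2, 1, 2, 0, 0, 2, 0; 1, 0, 2, 2, 0, 0, 0, 1; 2, 1, 0, 2, 1, 0, 0, 0; 1, 1, 1, 0, 0, 2, 0, 0; 0, 0, 2, 0, 0, 2, 2, 2; 0, 0, 0, 1, 1, 0, 2, 1; 1, 0, 0, 0, 1, 1, 0, 2; 0, 2, 0, 0, 1, 2, 1, 0],
  !![0, 2, 0, 0, 0, 0, 0, 0; 1, 0, 0, 0, 0, 0, 0, 0; 0, 0, 0, 2, 0, 0, 0, 0; 0, 0, 1, 0, 0, 0, 0, 0; 0, 0, 0, 0, 0, 2, 0, 0; 0, 0, 0, 0, 1, 0, 0, 0; 0, 0, 0, 0, 0, 0, 0, 2; 0, 0, 0, 0, 0, 0, 1, 0]]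

set_option maxRecDepth 100000 in
theorem Smat_sq : ∀ i : Fin 7, Smat i * Smat i = -1 := by decide +kernel

set_option maxRecDepth 100000 in
theorem Smat_braid (i j : Fin 7) (h : CoxeterMatrix.E₇ i j = 3) :
    Smat i * Smat j * Smat i = Smat j * Smat i * Smat j := by
  fin_cases i <;> fin_cases j <;> first | exact absurd h (by decide) | decide +kernel

set_option maxRecDepth 100000 in
theorem Smat_anti (i j : Fin 7) (h : CoxeterMatrix.E₇ i j = 2) :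
    Smat i * Smat j = -(Smat j * Smat i) := by
  fin_cases i <;> fin_cases j <;> first | exact absurd h (by decide) | decide +kernel

theorem neg_one_ne_one : (-1 : Matrix (Fin 8) (Fin 8) (ZMod 3)) ≠ 1 := by
  intro h
  have h1 := congrFun (congrFun h 0) 0
  revert h1
  decide

/-- The matrices as units. -/
def Sunit (i : Fin 7) : (Matrix (Fin 8) (Fin 8) (ZMod 3))ˣ :=
  ⟨Smat i, -Smat i, by rw [mul_neg, Smat_sq, neg_neg], by rw [neg_mul, Smat_sq, neg_neg]⟩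

theorem Sunit_sq (i : Fin 7) : Sunit i * Sunit i = -1 := by
  apply Units.ext
  rw [Units.val_mul, Units.val_neg, Units.val_one]
  exact Smat_sq i

theorem Sunit_braid (i j : Fin 7) (h : CoxeterMatrix.E₇ i j = 3) :
    Sunit i * Sunit j * Sunit i = Sunit j * Sunit i * Sunit j := by
  apply Units.ext
  simp only [Units.val_mul]
  exact Smat_braid i j h

theorem Sunit_anti (i j : Fin 7) (h : CoxeterMatrix.E₇ i j = 2) :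
    Sunit i * Sunit j = -1 * (Sunit j * Sunit i) := by
  apply Units.ext
  rw [neg_one_mul, Units.val_neg]
  simp only [Units.val_mul]
  exact Smat_anti i j h

theorem unit_neg_one_ne_one : (-1 : (Matrix (Fin 8) (Fin 8) (ZMod 3))ˣ) ≠ 1 := by
  intro h
  have h1 := congrArg Units.val h
  rw [Units.val_neg, Units.val_one] at h1
  exact neg_one_ne_one h1

end Cfsg.Agent.Lib.H28.Sp6
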