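import Cfsg.Agent.Lib.H28.Sp6Upper
import Cfsg.Agent.Lib.H28.Sp6Model
import Cfsg.Agent.Lib.H28.CoxSpinE

/-!
# The double cover of `Sp₆(2)` and its Schur multiplier (helper28)
-/

set_option autoImplicit false

namespace Cfsg.Agent.Lib.H28.Sp6

open Cfsg Cfsg.Agent.Lib.H28.CoxSpin
open scoped commutatorElement

/-- The spin cover of `W(E₇)`. -/
abbrev W7 : Type := Wh CoxeterMatrix.E₇ (0 : Fin 7)

/-- Its generators. -/
abbrev s7 (i : Fin 7) : W7 := sh CoxeterMatrix.E₇ 0 i

/-- Its central involution. -/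
abbrev a7 : W7 := al CoxeterMatrix.E₇ 0

/-- The map to the symplectic group. -/
def etaH : W7 →* Sp6 :=
  liftH t t_braid (fun i j h => by rw [t_sq, one_mul]; exact t_comm i j h)
    (fun i => by rw [t_sq, t_sq]) (by rw [t_sq, one_mul])

theorem etaH_s (i : Fin 7) : etaH (s7 i) = t i := liftH_sh _ _ _ _ _ i

theorem etaH_a : etaH a7 = 1 := by
  unfold etaH
  rw [liftH_al, t_sq]

/-- The sign. -/
def sgnH : W7 →* Multiplicative (ZMod 2) :=
  liftH (fun _ => Multiplicative.ofAdd (1 : ZMod 2)) (fun _ _ _ => rfl) (fun _ _ _ => by decide)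
    (fun _ => rfl) (by decide)

theorem sgnH_s (i : Fin 7) : sgnH (s7 i) = Multiplicative.ofAdd (1 : ZMod 2) := liftH_sh _ _ _ _ _ i

theorem sgnH_ss (i j : Fin 7) : s7 i * s7 j ∈ sgnH.ker := by
  rw [MonoidHom.mem_ker, map_mul, sgnH_s, sgnH_s]
  decide

/-- The spin representation. -/
def rhoH : W7 →* (Matrix (Fin 8) (Fin 8) (ZMod 3))ˣ :=
  liftH Sunit Sunit_braid (fun i j h => by rw [Sunit_sq]; exact Sunit_anti i j h)
    (fun i => by rw [Sunit_sq, Sunit_sq]) (by rw [Sunit_sq, neg_mul_neg, one_mul])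

theorem a7_ne_one : a7 ≠ 1 := by
  intro h
  have h1 := congrArg rhoH h
  unfold rhoH at h1
  rw [liftH_al, Sunit_sq, map_one] at h1
  exact unit_neg_one_ne_one h1

theorem card_W7 : Finite W7 ∧ Nat.card W7 ≤ 2 * 2903040 := by
  have hub := Cfsg.Agent.Lib.H6.CoxTC.ub_E7
  have : Finite CoxeterMatrix.E₇.Group := hub.1
  obtain ⟨h1, h2⟩ := card_Wh_le (M := CoxeterMatrix.E₇) (i0 := 0) E7_cases
  exact ⟨h1, le_trans h2 (Nat.mul_le_mul_left 2 hub.2)⟩

instance finite_W7 : Finite W7 := card_W7.1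

theorem etaH_surj : Function.Surjective etaH := by
  rw [← MonoidHom.range_eq_top, eq_top_iff, ← closure_t, Subgroup.closure_le]
  rintro _ ⟨i, rfl⟩
  exact ⟨s7 i, etaH_s i⟩

/-- The covering map. -/
def cov : sgnH.ker →* Sp6 := etaH.comp sgnH.ker.subtype

theorem cov_apply (x : sgnH.ker) : cov x = etaH x.1 := rfl

theorem cov_surj : Function.Surjective cov := by
  intro y
  have h1 : commutator W7 ≤ sgnH.ker := Abelianization.commutator_subset_ker _
  have h2 : (commutator W7).map etaH = commutator Sp6 := by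
    rw [commutator_def, Subgroup.map_commutator, Subgroup.map_top_of_surjective _ etaH_surj,
      ← commutator_def]
  have hy : y ∈ (commutator W7).map etaH := by
    rw [h2, commutator_Sp6]; exact Subgroup.mem_top _
  obtain ⟨x, hx, rfl⟩ := hy
  exact ⟨⟨x, h1 hx⟩, rfl⟩

theorem card_ker_sgnH : Nat.card sgnH.ker * 2 = Nat.card W7 := by
  have hs : Function.Surjective sgnH := by
    intro y
    have hy : y = 1 ∨ y = Multiplicative.ofAdd (1 : ZMod 2) := by
      revert y; decide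
    rcases hy with rfl | rfl
    · exact ⟨1, map_one _⟩
    · exact ⟨s7 0, sgnH_s 0⟩
  have h1 := Subgroup.card_mul_index sgnH.ker
  rw [Subgroup.index_ker, MonoidHom.range_eq_top.2 hs, Subgroup.card_top] at h1
  have h2 : Nat.card (Multiplicative (ZMod 2)) = 2 := by
    rw [Nat.card_eq_fintype_card]; rfl
  rw [h2] at h1
  exact h1

theorem card_ker_cov_le : Nat.card cov.ker ≤ 2 := by
  have h1 := Cfsg.Agent.Lib.H28.StemTools.card_eq_card_ker_mul cov cov_surj
  rw [card_Sp6] at h1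
  have h2 := card_ker_sgnH
  have h3 := card_W7.2
  omega

/-- The central involution, in the cover. -/
def alpha0 : sgnH.ker := ⟨a7, by
  have h : a7 = s7 0 * s7 0 := rfl
  rw [h]
  exact sgnH_ss 0 0⟩

theorem alpha0_mem : alpha0 ∈ cov.ker := by
  rw [MonoidHom.mem_ker, cov_apply]
  exact etaH_a

theorem alpha0_ne : alpha0 ≠ 1 := by
  intro h
  exact a7_ne_one (congrArg Subtype.val h)

theorem alpha0_sq : alpha0 ^ 2 = 1 := by
  apply Subtype.ext
  rw [pow_two]
  exact al_sq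

theorem alpha0_central (g : sgnH.ker) : g * alpha0 = alpha0 * g := by
  apply Subtype.ext
  exact (al_comm g.1).symm

/-- A commutator computation in a group with a central involution. -/
theorem comm_calc {G : Type*} [Group G] (a s0 s1 s4 : G) (hc : ∀ x, x * a = a * x)
    (ha : a * a = 1) (h40 : s4 * s0 = a * (s0 * s4)) (h41 : s4 * s1 = a * (s1 * s4))
    (h10 : s1 * s0 = a * (s0 * s1)) :
    s0 * s4 * (s0 * s1) = a * (s0 * s1 * (s0 * s4)) := by
  have r40 : ∀ z, s4 * (s0 * z) = a * (s0 * (s4 * z)) := fun z => by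
    rw [← mul_assoc, h40, mul_assoc, mul_assoc]
  have r41 : ∀ z, s4 * (s1 * z) = a * (s1 * (s4 * z)) := fun z => by
    rw [← mul_assoc, h41, mul_assoc, mul_assoc]
  have r10 : ∀ z, s1 * (s0 * z) = a * (s0 * (s1 * z)) := fun z => by
    rw [← mul_assoc, h10, mul_assoc, mul_assoc]
  have c0 : ∀ z, s0 * (a * z) = a * (s0 * z) := fun z => by
    rw [← mul_assoc, hc, mul_assoc]
  have c1 : ∀ z, s1 * (a * z) = a * (s1 * z) := fun z => by
    rw [← mul_assoc, hc, mul_assoc]
  have c4 : ∀ z, s4 * (a * z) = a * (s4 * z) := fun z => by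
    rw [← mul_assoc, hc, mul_assoc]
  have aa : ∀ z, a * (a * z) = z := fun z => by
    rw [← mul_assoc, ha, one_mul]
  simp only [mul_assoc, r40, r10, h41, c0, aa]

theorem alpha0_comm : alpha0 ∈ commutator sgnH.ker := by
  let g0 : sgnH.ker := ⟨s7 0 * s7 4, sgnH_ss 0 4⟩
  let x0 : sgnH.ker := ⟨s7 0 * s7 1, sgnH_ss 0 1⟩
  have key : s7 0 * s7 4 * (s7 0 * s7 1) = a7 * (s7 0 * s7 1 * (s7 0 * s7 4)) :=
    comm_calc a7 (s7 0) (s7 1) (s7 4) (fun x => (al_comm x).symm) al_sq
      (sh_tw (by decide)) (sh_tw (by decide)) (sh_tw (by decide))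
  have h : alpha0 = ⁅g0, x0⁆ := by
    apply Subtype.ext
    rw [commutatorElement_def]
    simp only [Subgroup.coe_mul, Subgroup.coe_inv]
    change a7 = s7 0 * s7 4 * (s7 0 * s7 1) * (s7 0 * s7 4)⁻¹ * (s7 0 * s7 1)⁻¹
    rw [key]
    group
  rw [h, commutator_def]
  exact Subgroup.commutator_mem_commutator (Subgroup.mem_top _) (Subgroup.mem_top _)

theorem ker_cov_eq : cov.ker = Subgroup.zpowers alpha0 := by
  have : Fact (Nat.Prime 2) := ⟨Nat.prime_two⟩
  have h1 : Subgroup.zpowers alpha0 ≤ cov.ker := Subgroup.zpowers_le.2 alpha0_mem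
  have h2 : Nat.card (Subgroup.zpowers alpha0) = 2 := by
    rw [Nat.card_zpowers]
    exact orderOf_eq_prime alpha0_sq alpha0_ne
  symm
  apply Subgroup.eq_of_le_of_card_ge h1
  rw [h2]
  exact card_ker_cov_le

theorem card_ker_cov : Nat.card cov.ker = 2 := by
  have : Fact (Nat.Prime 2) := ⟨Nat.prime_two⟩
  rw [ker_cov_eq, Nat.card_zpowers]
  exact orderOf_eq_prime alpha0_sq alpha0_ne

theorem isStem_cov : IsStemExtension cov := by
  refine ⟨cov_surj, ?_, ?_⟩
  · rw [ker_cov_eq, Subgroup.zpowers_le, Subgroup.mem_center_iff]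
    exact alpha0_central
  · rw [ker_cov_eq, Subgroup.zpowers_le]
    exact alpha0_comm

/-- **The Schur multiplier of `Sp₆(2)` is cyclic of order two.** -/
theorem hasMult_Sp6 : Cfsg.HasCyclicSchurMultiplier Sp6 2 := by
  have : Fact (Nat.Prime 2) := ⟨Nat.prime_two⟩
  have h2 : Nat.card (Multiplicative (ZMod 2)) = 2 := by
    rw [Nat.card_eq_fintype_card]
    rfl
  refine ⟨⟨↥sgnH.ker, inferInstance, inferInstance, cov, isStem_cov,
    ⟨mulEquivOfPrimeCardEq card_ker_cov h2⟩⟩, ?_⟩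
  intro Γ _ _ σ hσ
  have hle := card_ker_le_two σ hσ
  have hpos : 0 < Nat.card σ.ker := Nat.card_pos
  rcases (by omega : Nat.card σ.ker = 1 ∨ Nat.card σ.ker = 2) with h1 | h1
  · refine ⟨1, ?_⟩
    have hs : Subsingleton σ.ker := (Nat.card_eq_one_iff_unique.1 h1).1
    intro x
    exact ⟨1, Subsingleton.elim _ _⟩
  · exact ⟨(mulEquivOfPrimeCardEq h2 h1).toMonoidHom, (mulEquivOfPrimeCardEq h2 h1).surjective⟩

end Cfsg.Agent.Lib.H28.Sp6
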