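import Mathlib
import Cfsg.Prelude.Def_ClassicalGeometry
import Cfsg.Agent.S0765
import Cfsg.Agent.S0245
import Cfsg.Agent.S0269

/-!
# Seven transvections generating `Sp₆(2)` with the Coxeter relations of type `E₇` (helper28)
-/

set_option autoImplicit false
namespace Cfsg.Agent.Lib.H28.Sp6

open Cfsg

/-- The index type of the natural module. -/
abbrev I6 : Type := Fin 3 ⊕ Fin 3

/-- The group. -/
abbrev Sp6 : Type := Matrix.symplecticGroup (Fin 3) (ZMod 2)

/-- Encoding of the index type. -/
def enc6 : I6 → ℕ
  | Sum.inl i => i.val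
  | Sum.inr i => i.val + 3

/-- The vector with a given bit pattern. -/
def vecOf (n : ℕ) : I6 → ZMod 2 := fun k => if n.testBit (enc6 k) then 1 else 0

theorem forall_six {P : I6 → Prop} (h0 : P (Sum.inl 0)) (h1 : P (Sum.inl 1))
    (h2 : P (Sum.inl 2)) (h3 : P (Sum.inr 0)) (h4 : P (Sum.inr 1)) (h5 : P (Sum.inr 2)) :
    ∀ j, P j := by
  intro j
  rcases j with j | j <;> fin_cases j
  · exact h0
  · exact h1
  · exact h2
  · exact h3
  · exact h4
  · exact h5

theorem exists_vecOf (w : I6 → ZMod 2) : ∃ n < 64, w = vecOf n := by
  have key : ∀ a0 a1 a2 a3 a4 a5 : ZMod 2,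
      a0.val + 2 * a1.val + 4 * a2.val + 8 * a3.val + 16 * a4.val + 32 * a5.val < 64 ∧
      a0 = (if (a0.val + 2 * a1.val + 4 * a2.val + 8 * a3.val + 16 * a4.val + 32 * a5.val).testBit 0
        then 1 else 0) ∧
      a1 = (if (a0.val + 2 * a1.val + 4 * a2.val + 8 * a3.val + 16 * a4.val + 32 * a5.val).testBit 1
        then 1 else 0) ∧
      a2 = (if (a0.val + 2 * a1.val + 4 * a2.val + 8 * a3.val + 16 * a4.val + 32 * a5.val).testBit 2
        then 1 else 0) ∧
      a3 = (if (a0.val + 2 * a1.val + 4 * a2.val + 8 * a3.val + 16 * a4.val + 32 * a5.val).testBit 3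
        then 1 else 0) ∧
      a4 = (if (a0.val + 2 * a1.val + 4 * a2.val + 8 * a3.val + 16 * a4.val + 32 * a5.val).testBit 4
        then 1 else 0) ∧
      a5 = (if (a0.val + 2 * a1.val + 4 * a2.val + 8 * a3.val + 16 * a4.val + 32 * a5.val).testBit 5
        then 1 else 0) := by
    decide
  obtain ⟨hn, h0, h1, h2, h3, h4, h5⟩ := key (w (Sum.inl 0)) (w (Sum.inl 1)) (w (Sum.inl 2))
    (w (Sum.inr 0)) (w (Sum.inr 1)) (w (Sum.inr 2))
  refine ⟨_, hn, ?_⟩
  revert w
  intro w hn h0 h1 h2 h3 h4 h5
  funext k
  revert k
  apply forall_six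
  · exact h0
  · exact h1
  · exact h2
  · exact h3
  · exact h4
  · exact h5

/-- Bit patterns of the seven root vectors. -/
def rootN : Fin 7 → ℕ := ![1, 2, 8, 17, 6, 32, 4]

/-- The seven transvections, as matrices. -/
def tmat (i : Fin 7) : Matrix I6 I6 (ZMod 2) := sympTransvection 3 (vecOf (rootN i)) 1

set_option maxRecDepth 100000 in
theorem tmat_symp : ∀ i : Fin 7, tmat i * Matrix.J (Fin 3) (ZMod 2) * (tmat i).transpose =
    Matrix.J (Fin 3) (ZMod 2) := by
  decide +kernel

theorem tmat_mem (i : Fin 7) : tmat i ∈ Matrix.symplecticGroup (Fin 3) (ZMod 2) := by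
  rw [SymplecticGroup.mem_iff]
  exact tmat_symp i

/-- The seven transvections. -/
def t (i : Fin 7) : Sp6 := ⟨tmat i, tmat_mem i⟩

set_option maxRecDepth 100000 in
theorem tmat_sq : ∀ i : Fin 7, tmat i * tmat i = 1 := by decide +kernel

theorem t_sq (i : Fin 7) : t i * t i = 1 := Subtype.ext (tmat_sq i)

set_option maxRecDepth 100000 in
theorem tmat_braid (i j : Fin 7) (h : CoxeterMatrix.E₇ i j = 3) :
    tmat i * tmat j * tmat i = tmat j * tmat i * tmat j := by
  fin_cases i <;> fin_cases j <;> first | exact absurd h (by decide) | decide +kernel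

theorem t_braid (i j : Fin 7) (h : CoxeterMatrix.E₇ i j = 3) :
    t i * t j * t i = t j * t i * t j := Subtype.ext (tmat_braid i j h)

set_option maxRecDepth 100000 in
theorem tmat_comm (i j : Fin 7) (h : CoxeterMatrix.E₇ i j = 2) :
    tmat i * tmat j = tmat j * tmat i := by
  fin_cases i <;> fin_cases j <;> first | exact absurd h (by decide) | decide +kernel

theorem t_comm (i j : Fin 7) (h : CoxeterMatrix.E₇ i j = 2) :
    t i * t j = t j * t i := Subtype.ext (tmat_comm i j h)

/-! ### generation -/

theorem conj_transvection {A : Matrix I6 I6 (ZMod 2)}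
    (hA : A ∈ Matrix.symplecticGroup (Fin 3) (ZMod 2)) (w : I6 → ZMod 2) :
    A * sympTransvection 3 w 1 = sympTransvection 3 (A.mulVec w) 1 * A := by
  unfold sympTransvection
  rw [one_smul, one_smul, Matrix.mul_add, Matrix.add_mul, Matrix.mul_one, Matrix.one_mul,
    Matrix.mul_vecMulVec, Matrix.vecMulVec_mul]
  have key : Matrix.vecMul (Matrix.mulVec (Matrix.J (Fin 3) (ZMod 2)) (A.mulVec w)) A =
      Matrix.mulVec (Matrix.J (Fin 3) (ZMod 2)) w := by
    rw [SymplecticGroup.mem_iff'] at hA
    rw [← Matrix.mulVec_transpose, Matrix.mulVec_mulVec, Matrix.mulVec_mulVec, hA]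
  rw [key]

/-- The subgroup generated by the seven transvections. -/
def H : Subgroup Sp6 := Subgroup.closure (Set.range t)

/-- The transvection in `vecOf n` lies in `H`. -/
def Good (n : ℕ) : Prop := ∃ X ∈ H, (X : Matrix I6 I6 (ZMod 2)) = sympTransvection 3 (vecOf n) 1

theorem good_step {m n : ℕ} (hm : Good m) {i : Fin 7} (h : (tmat i).mulVec (vecOf m) = vecOf n) :
    Good n := by
  obtain ⟨X, hX, hXm⟩ := hm
  have hti : t i ∈ H := Subgroup.subset_closure ⟨i, rfl⟩
  refine ⟨t i * X * (t i)⁻¹, H.mul_mem (H.mul_mem hti hX) (H.inv_mem hti), ?_⟩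
  have h1 : ((t i * X * (t i)⁻¹ : Sp6) : Matrix I6 I6 (ZMod 2)) = tmat i * X.1 * ((t i)⁻¹ : Sp6).1 := rfl
  have h4 : tmat i * ((t i)⁻¹ : Sp6).1 = 1 := by
    have : ((t i * (t i)⁻¹ : Sp6) : Matrix I6 I6 (ZMod 2)) = tmat i * ((t i)⁻¹ : Sp6).1 := rfl
    rw [← this, mul_inv_cancel]
    rfl
  rw [h1, hXm, conj_transvection (tmat_mem i), h, Matrix.mul_assoc, h4, Matrix.mul_one]

theorem transvection_zero : sympTransvection 3 (0 : I6 → ZMod 2) 1 = 1 := by
  unfold sympTransvection
  rw [Matrix.mulVec_zero, Matrix.vecMulVec_zero, smul_zero, add_zero]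

theorem vecOf_zero : vecOf 0 = 0 := by
  funext k
  simp [vecOf]

theorem good1 : Good 1 := ⟨t 0, Subgroup.subset_closure ⟨0, rfl⟩, rfl⟩

set_option maxRecDepth 100000 in
theorem good9 : Good 9 :=
  good_step good1 (i := 2) (show (tmat 2).mulVec (vecOf 1) = vecOf 9 by decide +kernel)

set_option maxRecDepth 100000 in
theorem good8 : Good 8 :=
  good_step good9 (i := 0) (show (tmat 0).mulVec (vecOf 9) = vecOf 8 by decide +kernel)

set_option maxRecDepth 100000 in
theorem good24 : Good 24 :=
  good_step good9 (i := 3) (show (tmat 3).mulVec (vecOf 9) = vecOf 24 by decide +kernel)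

set_option maxRecDepth 100000 in
theorem good25 : Good 25 :=
  good_step good8 (i := 3) (show (tmat 3).mulVec (vecOf 8) = vecOf 25 by decide +kernel)

set_option maxRecDepth 100000 in
theorem good26 : Good 26 :=
  good_step good24 (i := 1) (show (tmat 1).mulVec (vecOf 24) = vecOf 26 by decide +kernel)

set_option maxRecDepth 100000 in
theorem good30 : Good 30 :=
  good_step good24 (i := 4) (show (tmat 4).mulVec (vecOf 24) = vecOf 30 by decide +kernel)

set_option maxRecDepth 100000 in
theorem good27 : Good 27 :=
  good_step good25 (i := 1) (show (tmat 1).mulVec (vecOf 25) = vecOf 27 by decide +kernel)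

set_option maxRecDepth 100000 in
theorem good17 : Good 17 :=
  good_step good25 (i := 2) (show (tmat 2).mulVec (vecOf 25) = vecOf 17 by decide +kernel)

set_option maxRecDepth 100000 in
theorem good31 : Good 31 :=
  good_step good25 (i := 4) (show (tmat 4).mulVec (vecOf 25) = vecOf 31 by decide +kernel)

set_option maxRecDepth 100000 in
theorem good28 : Good 28 :=
  good_step good26 (i := 4) (show (tmat 4).mulVec (vecOf 26) = vecOf 28 by decide +kernel)

set_option maxRecDepth 100000 in
theorem good62 : Good 62 :=
  good_step good30 (i := 5) (show (tmat 5).mulVec (vecOf 30) = vecOf 62 by decide +kernel)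

set_option maxRecDepth 100000 in
theorem good19 : Good 19 :=
  good_step good27 (i := 2) (show (tmat 2).mulVec (vecOf 27) = vecOf 19 by decide +kernel)

set_option maxRecDepth 100000 in
theorem good29 : Good 29 :=
  good_step good27 (i := 4) (show (tmat 4).mulVec (vecOf 27) = vecOf 29 by decide +kernel)

set_option maxRecDepth 100000 in
theorem good23 : Good 23 :=
  good_step good17 (i := 4) (show (tmat 4).mulVec (vecOf 17) = vecOf 23 by decide +kernel)

set_option maxRecDepth 100000 in
theorem good63 : Good 63 :=
  good_step good31 (i := 5) (show (tmat 5).mulVec (vecOf 31) = vecOf 63 by decide +kernel)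

set_option maxRecDepth 100000 in
theorem good13 : Good 13 :=
  good_step good28 (i := 3) (show (tmat 3).mulVec (vecOf 28) = vecOf 13 by decide +kernel)

set_option maxRecDepth 100000 in
theorem good60 : Good 60 :=
  good_step good28 (i := 5) (show (tmat 5).mulVec (vecOf 28) = vecOf 60 by decide +kernel)

set_option maxRecDepth 100000 in
theorem good58 : Good 58 :=
  good_step good62 (i := 6) (show (tmat 6).mulVec (vecOf 62) = vecOf 58 by decide +kernel)

set_option maxRecDepth 100000 in
theorem good2 : Good 2 :=
  good_step good19 (i := 3) (show (tmat 3).mulVec (vecOf 19) = vecOf 2 by decide +kernel)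

set_option maxRecDepth 100000 in
theorem good21 : Good 21 :=
  good_step good19 (i := 4) (show (tmat 4).mulVec (vecOf 19) = vecOf 21 by decide +kernel)

set_option maxRecDepth 100000 in
theorem good12 : Good 12 :=
  good_step good29 (i := 3) (show (tmat 3).mulVec (vecOf 29) = vecOf 12 by decide +kernel)

set_option maxRecDepth 100000 in
theorem good61 : Good 61 :=
  good_step good29 (i := 5) (show (tmat 5).mulVec (vecOf 29) = vecOf 61 by decide +kernel)

set_option maxRecDepth 100000 in
theorem good6 : Good 6 :=
  good_step good23 (i := 3) (show (tmat 3).mulVec (vecOf 23) = vecOf 6 by decide +kernel)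

set_option maxRecDepth 100000 in
theorem good55 : Good 55 :=
  good_step good23 (i := 5) (show (tmat 5).mulVec (vecOf 23) = vecOf 55 by decide +kernel)

set_option maxRecDepth 100000 in
theorem good59 : Good 59 :=
  good_step good63 (i := 6) (show (tmat 6).mulVec (vecOf 63) = vecOf 59 by decide +kernel)

set_option maxRecDepth 100000 in
theorem good5 : Good 5 :=
  good_step good13 (i := 2) (show (tmat 2).mulVec (vecOf 13) = vecOf 5 by decide +kernel)

set_option maxRecDepth 100000 in
theorem good45 : Good 45 :=
  good_step good13 (i := 5) (show (tmat 5).mulVec (vecOf 13) = vecOf 45 by decide +kernel)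

set_option maxRecDepth 100000 in
theorem good56 : Good 56 :=
  good_step good60 (i := 6) (show (tmat 6).mulVec (vecOf 60) = vecOf 56 by decide +kernel)

set_option maxRecDepth 100000 in
theorem good53 : Good 53 :=
  good_step good21 (i := 5) (show (tmat 5).mulVec (vecOf 21) = vecOf 53 by decide +kernel)

set_option maxRecDepth 100000 in
theorem good44 : Good 44 :=
  good_step good12 (i := 5) (show (tmat 5).mulVec (vecOf 12) = vecOf 44 by decide +kernel)

set_option maxRecDepth 100000 in
theorem good57 : Good 57 :=
  good_step good61 (i := 6) (show (tmat 6).mulVec (vecOf 61) = vecOf 57 by decide +kernel)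

set_option maxRecDepth 100000 in
theorem good38 : Good 38 :=
  good_step good6 (i := 5) (show (tmat 5).mulVec (vecOf 6) = vecOf 38 by decide +kernel)

set_option maxRecDepth 100000 in
theorem good51 : Good 51 :=
  good_step good55 (i := 6) (show (tmat 6).mulVec (vecOf 55) = vecOf 51 by decide +kernel)

set_option maxRecDepth 100000 in
theorem good37 : Good 37 :=
  good_step good5 (i := 5) (show (tmat 5).mulVec (vecOf 5) = vecOf 37 by decide +kernel)

set_option maxRecDepth 100000 in
theorem good43 : Good 43 :=
  good_step good45 (i := 4) (show (tmat 4).mulVec (vecOf 45) = vecOf 43 by decide +kernel)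

set_option maxRecDepth 100000 in
theorem good41 : Good 41 :=
  good_step good45 (i := 6) (show (tmat 6).mulVec (vecOf 45) = vecOf 41 by decide +kernel)

set_option maxRecDepth 100000 in
theorem good49 : Good 49 :=
  good_step good53 (i := 6) (show (tmat 6).mulVec (vecOf 53) = vecOf 49 by decide +kernel)

set_option maxRecDepth 100000 in
theorem good42 : Good 42 :=
  good_step good44 (i := 4) (show (tmat 4).mulVec (vecOf 44) = vecOf 42 by decide +kernel)

set_option maxRecDepth 100000 in
theorem good40 : Good 40 :=
  good_step good44 (i := 6) (show (tmat 6).mulVec (vecOf 44) = vecOf 40 by decide +kernel)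

set_option maxRecDepth 100000 in
theorem good32 : Good 32 :=
  good_step good38 (i := 4) (show (tmat 4).mulVec (vecOf 38) = vecOf 32 by decide +kernel)

set_option maxRecDepth 100000 in
theorem good34 : Good 34 :=
  good_step good38 (i := 6) (show (tmat 6).mulVec (vecOf 38) = vecOf 34 by decide +kernel)

set_option maxRecDepth 100000 in
theorem good35 : Good 35 :=
  good_step good37 (i := 4) (show (tmat 4).mulVec (vecOf 37) = vecOf 35 by decide +kernel)

set_option maxRecDepth 100000 in
theorem good33 : Good 33 :=
  good_step good37 (i := 6) (show (tmat 6).mulVec (vecOf 37) = vecOf 33 by decide +kernel)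

set_option maxRecDepth 100000 in
theorem good47 : Good 47 :=
  good_step good43 (i := 6) (show (tmat 6).mulVec (vecOf 43) = vecOf 47 by decide +kernel)

set_option maxRecDepth 100000 in
theorem good46 : Good 46 :=
  good_step good42 (i := 6) (show (tmat 6).mulVec (vecOf 42) = vecOf 46 by decide +kernel)

set_option maxRecDepth 100000 in
theorem good36 : Good 36 :=
  good_step good32 (i := 6) (show (tmat 6).mulVec (vecOf 32) = vecOf 36 by decide +kernel)

set_option maxRecDepth 100000 in
theorem good50 : Good 50 :=
  good_step good35 (i := 3) (show (tmat 3).mulVec (vecOf 35) = vecOf 50 by decide +kernel)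

set_option maxRecDepth 100000 in
theorem good39 : Good 39 :=
  good_step good35 (i := 6) (show (tmat 6).mulVec (vecOf 35) = vecOf 39 by decide +kernel)

set_option maxRecDepth 100000 in
theorem good15 : Good 15 :=
  good_step good47 (i := 5) (show (tmat 5).mulVec (vecOf 47) = vecOf 15 by decide +kernel)

set_option maxRecDepth 100000 in
theorem good14 : Good 14 :=
  good_step good46 (i := 5) (show (tmat 5).mulVec (vecOf 46) = vecOf 14 by decide +kernel)

set_option maxRecDepth 100000 in
theorem good4 : Good 4 :=
  good_step good36 (i := 5) (show (tmat 5).mulVec (vecOf 36) = vecOf 4 by decide +kernel)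

set_option maxRecDepth 100000 in
theorem good48 : Good 48 :=
  good_step good50 (i := 1) (show (tmat 1).mulVec (vecOf 50) = vecOf 48 by decide +kernel)

set_option maxRecDepth 100000 in
theorem good54 : Good 54 :=
  good_step good50 (i := 6) (show (tmat 6).mulVec (vecOf 50) = vecOf 54 by decide +kernel)

set_option maxRecDepth 100000 in
theorem good7 : Good 7 :=
  good_step good39 (i := 5) (show (tmat 5).mulVec (vecOf 39) = vecOf 7 by decide +kernel)

set_option maxRecDepth 100000 in
theorem good52 : Good 52 :=
  good_step good48 (i := 6) (show (tmat 6).mulVec (vecOf 48) = vecOf 52 by decide +kernel)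

set_option maxRecDepth 100000 in
theorem good22 : Good 22 :=
  good_step good54 (i := 5) (show (tmat 5).mulVec (vecOf 54) = vecOf 22 by decide +kernel)

set_option maxRecDepth 100000 in
theorem good20 : Good 20 :=
  good_step good52 (i := 5) (show (tmat 5).mulVec (vecOf 52) = vecOf 20 by decide +kernel)

set_option maxRecDepth 100000 in
theorem good16 : Good 16 :=
  good_step good22 (i := 4) (show (tmat 4).mulVec (vecOf 22) = vecOf 16 by decide +kernel)

set_option maxRecDepth 100000 in
theorem good18 : Good 18 :=
  good_step good20 (i := 4) (show (tmat 4).mulVec (vecOf 20) = vecOf 18 by decide +kernel)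

set_option maxRecDepth 100000 in
theorem good3 : Good 3 :=
  good_step good18 (i := 3) (show (tmat 3).mulVec (vecOf 18) = vecOf 3 by decide +kernel)

set_option maxRecDepth 100000 in
theorem good11 : Good 11 :=
  good_step good3 (i := 2) (show (tmat 2).mulVec (vecOf 3) = vecOf 11 by decide +kernel)

set_option maxRecDepth 100000 in
theorem good10 : Good 10 :=
  good_step good11 (i := 0) (show (tmat 0).mulVec (vecOf 11) = vecOf 10 by decide +kernel)

theorem good_all : ∀ n, n < 64 → n ≠ 0 → Good n := by
  intro n hn h0
  interval_cases n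
  · exact absurd rfl h0
  · exact good1
  · exact good2
  · exact good3
  · exact good4
  · exact good5
  · exact good6
  · exact good7
  · exact good8
  · exact good9
  · exact good10
  · exact good11
  · exact good12
  · exact good13
  · exact good14
  · exact good15
  · exact good16
  · exact good17
  · exact good18
  · exact good19
  · exact good20
  · exact good21
  · exact good22
  · exact good23
  · exact good24
  · exact good25
  · exact good26
  · exact good27
  · exact good28
  · exact good29
  · exact good30
  · exact good31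
  · exact good32
  · exact good33
  · exact good34
  · exact good35
  · exact good36
  · exact good37
  · exact good38
  · exact good39
  · exact good40
  · exact good41
  · exact good42
  · exact good43
  · exact good44
  · exact good45
  · exact good46
  · exact good47
  · exact good48
  · exact good49
  · exact good50
  · exact good51
  · exact good52
  · exact good53
  · exact good54
  · exact good55
  · exact good56
  · exact good57
  · exact good58
  · exact good59
  · exact good60
  · exact good61
  · exact good62
  · exact good63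

theorem zmod2_cases (c : ZMod 2) : c = 0 ∨ c = 1 := by
  revert c; decide

theorem closure_t : Subgroup.closure (Set.range t) = ⊤ := by
  rw [eq_top_iff, ← Cfsg.Agent.S0765.result 3, Subgroup.closure_le]
  rintro A ⟨w, c, hA⟩
  change A ∈ H
  rcases zmod2_cases c with rfl | rfl
  · have : A = 1 := by
      apply Subtype.ext
      rw [hA]
      unfold sympTransvection
      rw [zero_smul, add_zero]
      rfl
    rw [this]
    exact Subgroup.one_mem _
  · obtain ⟨n, hn, rfl⟩ := exists_vecOf w
    by_cases hn0 : n = 0
    · have : A = 1 := by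
        apply Subtype.ext
        rw [hA, hn0, vecOf_zero, transvection_zero]
        rfl
      rw [this]
      exact Subgroup.one_mem _
    · obtain ⟨X, hX, hXm⟩ := good_all n hn hn0
      have : A = X := Subtype.ext (by rw [hA, hXm])
      rw [this]
      exact hX

/-! ### order and perfectness -/

theorem card_Sp6 : Nat.card Sp6 = 1451520 := by
  have h := Cfsg.Agent.S0245.result (F := ZMod 2) (q := 2) (by rw [ZMod.card]) 3
  rw [h]
  decide

theorem commutator_Sp6 : commutator Sp6 = ⊤ :=
  Cfsg.Agent.S0269.result (F := ZMod 2) 3 (Or.inl le_rfl)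

end Cfsg.Agent.Lib.H28.Sp6
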