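import Cfsg.Agent.Lib.H28.Sp6Cover
import Cfsg.Agent.Lib.H18.SchurTransport
import Cfsg.Agent.S0246
import Cfsg.Prelude.Def_Classical

/-!
# Transport of the multiplier of `Sp₆(2)` to `PSp₆(F)` for `|F| = 2` (helper28)
-/

set_option autoImplicit false

namespace Cfsg.Agent.Lib.H28.Sp6

open Cfsg Matrix

/-- Ring isomorphisms induce isomorphisms of symplectic groups. -/
noncomputable def spEquiv3 {R S : Type*} [CommRing R] [CommRing S] (e : R ≃+* S) :
    symplecticGroup (Fin 3) R ≃* symplecticGroup (Fin 3) S where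
  toFun g := ⟨(g : Matrix (Fin 3 ⊕ Fin 3) (Fin 3 ⊕ Fin 3) R).map e, SymplecticGroup.map_mem g.2 e⟩
  invFun g := ⟨(g : Matrix (Fin 3 ⊕ Fin 3) (Fin 3 ⊕ Fin 3) S).map e.symm,
    SymplecticGroup.map_mem g.2 e.symm⟩
  left_inv g := by
    apply Subtype.ext
    ext i j
    simp
  right_inv g := by
    apply Subtype.ext
    ext i j
    simp
  map_mul' x y := by
    apply Subtype.ext
    simp only [Submonoid.coe_mul]
    exact Matrix.map_mul

theorem hasMult_PSp {F : Type*} [Field F] [Fintype F] (hF : Fintype.card F = 2) :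
    Cfsg.HasCyclicSchurMultiplier (Cfsg.PSp 3 F) 2 := by
  have e1 : Sp6 ≃* symplecticGroup (Fin 3) F :=
    spEquiv3 (ZMod.ringEquivOfPrime F Nat.prime_two hF)
  have hc : Subgroup.center (symplecticGroup (Fin 3) F) = ⊥ := by
    rw [← Subgroup.card_eq_one, Cfsg.Agent.S0246.result hF 3 (by norm_num)]
    decide
  have e2 : symplecticGroup (Fin 3) F ≃* Cfsg.PSp 3 F :=
    (QuotientGroup.quotientBot).symm.trans (QuotientGroup.quotientMulEquivOfEq hc.symm)
  exact Cfsg.Agent.Lib.H18.SchurTransport.hasSchurMultiplier_of_group_mulEquiv (e1.trans e2)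
    hasMult_Sp6

end Cfsg.Agent.Lib.H28.Sp6
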