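import Cfsg.Agent.Lib.H28.Sp6Gens
import Cfsg.Agent.Lib.H28.CoxSpinD
import Cfsg.Agent.Lib.H28.StemTools
import Cfsg.Agent.Lib.H6.CoxUB

/-!
# Kernels of finite stem extensions of `Sp₆(2)` have order at most two (helper28)
-/

set_option autoImplicit false

namespace Cfsg.Agent.Lib.H28.Sp6

open Cfsg Cfsg.Agent.Lib.H28.CoxSpin

theorem card_ker_le_two {Γ : Type*} [Group Γ] (σ : Γ →* Sp6) (hσ : IsStemExtension σ) :
    Nat.card σ.ker ≤ 2 := by
  have hub := Cfsg.Agent.Lib.H6.CoxTC.ub_E7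
  have : Finite CoxeterMatrix.E₇.Group := hub.1
  obtain ⟨hfin, hle⟩ := card_le_E7 σ hσ commutator_Sp6 t closure_t t_sq t_braid t_comm
  have h1 := Cfsg.Agent.Lib.H28.StemTools.card_eq_card_ker_mul σ hσ.1
  rw [card_Sp6] at h1
  have h2 := hub.2
  omega

end Cfsg.Agent.Lib.H28.Sp6
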