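import Cfsg.Agent.Lib.H28.StemAmalgamA

/-!
# Stem extensions of multiply transitive groups, II (helper28)

The sections over two point stabilizers differ on the two-point stabilizer by a homomorphism to
the kernel; when the two-point stabilizer has abelianization of order at most two, all these
discrepancies lie in `{1, z0}` for one central involution-or-identity `z0`.
-/

set_option autoImplicit false

namespace Cfsg.Agent.Lib.H28.StemAmalgam

universe u v w

open scoped commutatorElement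

variable {G : Type u} [Group G] {α : Type w} [MulAction G α] {Γ : Type v} [Group Γ]

namespace Setup

variable (S : Setup G α Γ)

/-- The discrepancy of the two sections at `h`. -/
noncomputable def dl (a b : α) (h : G) : Γ := S.sec a h * (S.sec b h)⁻¹

theorem sec_eq_dl_mul (a b : α) (h : G) : S.sec a h = S.dl a b h * S.sec b h := by
  unfold dl; group

theorem dl_mem_ker {a b : α} (ha : a ∈ S.D) (hb : b ∈ S.D) {h : G} (h1 : h • a = a) (h2 : h • b = b) :
    S.dl a b h ∈ S.σ.ker := by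
  rw [MonoidHom.mem_ker]
  unfold dl
  rw [map_mul, map_inv, S.sec_map ha h1, S.sec_map hb h2, mul_inv_cancel]

theorem dl_self (a : α) (h : G) : S.dl a a h = 1 := by
  unfold dl; group

theorem dl_mul [Finite Γ] {a b : α} (ha : a ∈ S.D) (hb : b ∈ S.D) {h h' : G} (h1 : h • a = a) (h2 : h • b = b)
    (h1' : h' • a = a) (h2' : h' • b = b) : S.dl a b (h * h') = S.dl a b h * S.dl a b h' := by
  have c := S.central (S.dl_mem_ker ha hb h1' h2')
  have e1 : S.sec a (h * h') = S.sec a h * S.sec a h' := S.sec_mul ha h1 h1'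
  have e2 : S.sec b (h * h') = S.sec b h * S.sec b h' := S.sec_mul hb h2 h2'
  calc S.dl a b (h * h') = S.sec a h * (S.sec a h' * (S.sec b h')⁻¹) * (S.sec b h)⁻¹ := by
        unfold dl; rw [e1, e2]; group
    _ = S.sec a h * (S.dl a b h' * (S.sec b h)⁻¹) := by unfold dl; group
    _ = S.sec a h * ((S.sec b h)⁻¹ * S.dl a b h') := by rw [c]
    _ = S.dl a b h * S.dl a b h' := by unfold dl; group

theorem dl_conj [Finite Γ] (γ : Γ) {a b : α} (ha : a ∈ S.D) (hb : b ∈ S.D) {h : G} (h1 : h • a = a) (h2 : h • b = b) :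
    S.dl (S.σ γ • a) (S.σ γ • b) (S.σ γ * h * (S.σ γ)⁻¹) = S.dl a b h := by
  have c := S.central (S.dl_mem_ker ha hb h1 h2)
  unfold dl
  rw [← S.conj_sec γ ha h1, ← S.conj_sec γ hb h2]
  calc γ * S.sec a h * γ⁻¹ * (γ * S.sec b h * γ⁻¹)⁻¹ = γ * (S.sec a h * (S.sec b h)⁻¹) * γ⁻¹ := by group
    _ = γ * S.dl a b h * γ⁻¹ := rfl
    _ = S.dl a b h * γ * γ⁻¹ := by rw [← c]
    _ = S.sec a h * (S.sec b h)⁻¹ := by unfold dl; group

theorem dl_one [Finite Γ] {a b : α} (ha : a ∈ S.D) (hb : b ∈ S.D) : S.dl a b 1 = 1 := by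
  unfold dl
  rw [S.sec_one ha, S.sec_one hb]; group

theorem dl_inv [Finite Γ] {a b : α} (ha : a ∈ S.D) (hb : b ∈ S.D) {h : G} (h1 : h • a = a) (h2 : h • b = b) :
    S.dl a b h⁻¹ = (S.dl a b h)⁻¹ := by
  have := S.dl_mul ha hb h1 h2 (inv_fix h1) (inv_fix h2)
  rw [mul_inv_cancel, S.dl_one ha hb] at this
  exact (inv_eq_of_mul_eq_one_right this.symm).symm

/-- The subgroup of the two-point stabilizer where the two sections agree. -/
noncomputable def agree [Finite Γ] {a b : α} (ha : a ∈ S.D) (hb : b ∈ S.D) :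
    Subgroup ↥(MulAction.stabilizer G a ⊓ MulAction.stabilizer G b) where
  carrier := {x | S.dl a b x.1 = 1}
  one_mem' := S.dl_one ha hb
  mul_mem' {x y} hx hy := by
    show S.dl a b (x.1 * y.1) = 1
    rw [S.dl_mul ha hb
      (MulAction.mem_stabilizer_iff.1 (Subgroup.mem_inf.1 x.2).1)
      (MulAction.mem_stabilizer_iff.1 (Subgroup.mem_inf.1 x.2).2)
      (MulAction.mem_stabilizer_iff.1 (Subgroup.mem_inf.1 y.2).1)
      (MulAction.mem_stabilizer_iff.1 (Subgroup.mem_inf.1 y.2).2)]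
    have h1 : S.dl a b x.1 = 1 := hx
    have h2 : S.dl a b y.1 = 1 := hy
    rw [h1, h2, one_mul]
  inv_mem' {x} hx := by
    show S.dl a b (x.1)⁻¹ = 1
    rw [S.dl_inv ha hb
      (MulAction.mem_stabilizer_iff.1 (Subgroup.mem_inf.1 x.2).1)
      (MulAction.mem_stabilizer_iff.1 (Subgroup.mem_inf.1 x.2).2)]
    have h1 : S.dl a b x.1 = 1 := hx
    rw [h1, inv_one]

theorem mem_agree [Finite Γ] {a b : α} (ha : a ∈ S.D) (hb : b ∈ S.D)
    (x : ↥(MulAction.stabilizer G a ⊓ MulAction.stabilizer G b)) :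
    x ∈ S.agree ha hb ↔ S.dl a b x.1 = 1 := Iff.rfl

theorem commutator_le_agree [Finite Γ] {a b : α} (ha : a ∈ S.D) (hb : b ∈ S.D) :
    commutator ↥(MulAction.stabilizer G a ⊓ MulAction.stabilizer G b) ≤ S.agree ha hb := by
  rw [commutator_def, Subgroup.commutator_le]
  intro x _ y _
  have x1 := MulAction.mem_stabilizer_iff.1 (Subgroup.mem_inf.1 x.2).1
  have x2 := MulAction.mem_stabilizer_iff.1 (Subgroup.mem_inf.1 x.2).2
  have y1 := MulAction.mem_stabilizer_iff.1 (Subgroup.mem_inf.1 y.2).1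
  have y2 := MulAction.mem_stabilizer_iff.1 (Subgroup.mem_inf.1 y.2).2
  rw [mem_agree, commutatorElement_def]
  show S.dl a b (x.1 * y.1 * x.1⁻¹ * y.1⁻¹) = 1
  rw [S.dl_mul ha hb (mul_fix (mul_fix x1 y1) (inv_fix x1)) (mul_fix (mul_fix x2 y2) (inv_fix x2))
      (inv_fix y1) (inv_fix y2),
    S.dl_mul ha hb (mul_fix x1 y1) (mul_fix x2 y2) (inv_fix x1) (inv_fix x2),
    S.dl_mul ha hb x1 x2 y1 y2, S.dl_inv ha hb x1 x2, S.dl_inv ha hb y1 y2]
  have c := S.central (S.dl_mem_ker ha hb y1 y2) (S.dl a b x.1)⁻¹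
  calc S.dl a b x.1 * S.dl a b y.1 * (S.dl a b x.1)⁻¹ * (S.dl a b y.1)⁻¹
      = S.dl a b x.1 * (S.dl a b y.1 * (S.dl a b x.1)⁻¹) * (S.dl a b y.1)⁻¹ := by group
    _ = S.dl a b x.1 * ((S.dl a b x.1)⁻¹ * S.dl a b y.1) * (S.dl a b y.1)⁻¹ := by rw [c]
    _ = 1 := by group

include S in
theorem finite_G [Finite Γ] : Finite G := Finite.of_surjective S.σ S.hsurj

/-- On the base pair the discrepancy takes at most one nontrivial value, of order two. -/
theorem dl_base [Finite Γ] {a b : α} (ha : a ∈ S.D) (hb : b ∈ S.D)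
    (hidx : (commutator ↥(MulAction.stabilizer G a ⊓ MulAction.stabilizer G b)).index ≤ 2)
    {x y : G} (x1 : x • a = a) (x2 : x • b = b) (y1 : y • a = a) (y2 : y • b = b)
    (hx : S.dl a b x ≠ 1) (hy : S.dl a b y ≠ 1) :
    S.dl a b x = S.dl a b y ∧ S.dl a b x * S.dl a b x = 1 := by
  have := S.finite_G
  have hdvd := Subgroup.index_dvd_of_le (S.commutator_le_agree ha hb)
  have hpos : (commutator ↥(MulAction.stabilizer G a ⊓ MulAction.stabilizer G b)).index ≠ 0 :=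
    Subgroup.index_ne_zero_of_finite
  have hle2 : (S.agree ha hb).index ≤ 2 :=
    le_trans (Nat.le_of_dvd (Nat.pos_of_ne_zero hpos) hdvd) hidx
  have hne0 : (S.agree ha hb).index ≠ 0 := Subgroup.index_ne_zero_of_finite
  let X : ↥(MulAction.stabilizer G a ⊓ MulAction.stabilizer G b) := ⟨x, Subgroup.mem_inf.2 ⟨MulAction.mem_stabilizer_iff.2 x1, MulAction.mem_stabilizer_iff.2 x2⟩⟩
  let Y : ↥(MulAction.stabilizer G a ⊓ MulAction.stabilizer G b) := ⟨y, Subgroup.mem_inf.2 ⟨MulAction.mem_stabilizer_iff.2 y1, MulAction.mem_stabilizer_iff.2 y2⟩⟩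
  have hX : X ∉ S.agree ha hb := fun h => hx h
  have hY : Y ∉ S.agree ha hb := fun h => hy h
  have h2 : (S.agree ha hb).index = 2 := by
    rcases Nat.lt_or_ge (S.agree ha hb).index 2 with h | h
    · exfalso
      have h1 : (S.agree ha hb).index = 1 := by omega
      rw [Subgroup.index_eq_one] at h1
      apply hX
      rw [h1]
      trivial
    · omega
  have hXX : X * X ∈ S.agree ha hb := (Subgroup.mul_mem_iff_of_index_two h2).2 Iff.rfl
  have hXY : X⁻¹ * Y ∈ S.agree ha hb := by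
    rw [Subgroup.mul_mem_iff_of_index_two h2, inv_mem_iff]
    exact ⟨fun h => absurd h hX, fun h => absurd h hY⟩
  constructor
  · have h3 : S.dl a b (x⁻¹ * y) = 1 := hXY
    rw [S.dl_mul ha hb (inv_fix x1) (inv_fix x2) y1 y2, S.dl_inv ha hb x1 x2, inv_mul_eq_one] at h3
    exact h3
  · have h3 : S.dl a b (x * x) = 1 := hXX
    rw [S.dl_mul ha hb x1 x2 x1 x2] at h3
    exact h3

theorem trans2 {a b c d : α} (ha : a ∈ S.D) (hb : b ∈ S.D) (hc : c ∈ S.D) (hd : d ∈ S.D)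
    (hab : a ≠ b) (hcd : c ≠ d) : ∃ g : G, g • a = c ∧ g • b = d := by
  have hx : Function.Injective ![a, b] := by
    intro i j h
    fin_cases i <;> fin_cases j <;> simp_all
  have hy : Function.Injective ![c, d] := by
    intro i j h
    fin_cases i <;> fin_cases j <;> simp_all
  obtain ⟨g, hg⟩ := S.htrans 2 (by norm_num) ![a, b] ![c, d] hx hy
    (by intro i; fin_cases i <;> simp [ha, hb]) (by intro i; fin_cases i <;> simp [hc, hd])
  exact ⟨g, hg 0, hg 1⟩

/-- The universal discrepancy value. -/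
theorem exists_z0 [Finite Γ] {a0 b0 : α} (ha0 : a0 ∈ S.D) (hb0 : b0 ∈ S.D) (hne : a0 ≠ b0)
    (hidx : (commutator ↥(MulAction.stabilizer G a0 ⊓ MulAction.stabilizer G b0)).index ≤ 2) :
    ∃ z0 ∈ S.σ.ker, z0 * z0 = 1 ∧ ∀ a ∈ S.D, ∀ b ∈ S.D, ∀ h : G, h • a = a → h • b = b →
      S.dl a b h = 1 ∨ S.dl a b h = z0 := by
  -- reduce to the base pair
  have red : ∀ z0 : Γ, (∀ h : G, h • a0 = a0 → h • b0 = b0 → S.dl a0 b0 h = 1 ∨ S.dl a0 b0 h = z0) →
      ∀ a ∈ S.D, ∀ b ∈ S.D, ∀ h : G, h • a = a → h • b = b → S.dl a b h = 1 ∨ S.dl a b h = z0 := by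
    intro z0 hz a ha b hb h h1 h2
    by_cases hab : a = b
    · subst hab
      exact Or.inl (S.dl_self a h)
    · obtain ⟨g, hga, hgb⟩ := S.trans2 ha0 hb0 ha hb hne hab
      obtain ⟨γ, hγ⟩ := S.hsurj g
      have k1 : (g⁻¹ * h * g) • a0 = a0 := by
        rw [mul_smul, mul_smul, hga, h1, ← hga, inv_smul_smul]
      have k2 : (g⁻¹ * h * g) • b0 = b0 := by
        rw [mul_smul, mul_smul, hgb, h2, ← hgb, inv_smul_smul]
      have := S.dl_conj γ ha0 hb0 k1 k2
      rw [hγ, hga, hgb] at this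
      have e : g * (g⁻¹ * h * g) * g⁻¹ = h := by group
      rw [e] at this
      rw [this]
      exact hz _ k1 k2
  by_cases hex : ∃ h0 : G, h0 • a0 = a0 ∧ h0 • b0 = b0 ∧ S.dl a0 b0 h0 ≠ 1
  · obtain ⟨h0, k1, k2, k3⟩ := hex
    refine ⟨S.dl a0 b0 h0, S.dl_mem_ker ha0 hb0 k1 k2, (S.dl_base ha0 hb0 hidx k1 k2 k1 k2 k3 k3).2, ?_⟩
    apply red
    intro h h1 h2
    by_cases hh : S.dl a0 b0 h = 1
    · exact Or.inl hh
    · exact Or.inr (S.dl_base ha0 hb0 hidx h1 h2 k1 k2 hh k3).1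
  · refine ⟨1, Subgroup.one_mem _, one_mul 1, ?_⟩
    apply red
    intro h h1 h2
    left
    by_contra hh
    exact hex ⟨h, h1, h2, hh⟩

end Setup

end Cfsg.Agent.Lib.H28.StemAmalgam
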