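import Cfsg.Agent.Lib.H28.StemAmalgamB

/-!
# Stem extensions of multiply transitive groups, III (helper28)

Coset covering: `Γ` is covered by `|D|` cosets of `A o · {1, z0}`.
-/

set_option autoImplicit false

namespace Cfsg.Agent.Lib.H28.StemAmalgam

universe u v w

open scoped commutatorElement

variable {G : Type u} [Group G] {α : Type w} [MulAction G α] {Γ : Type v} [Group Γ]

namespace Setup

variable (S : Setup G α Γ)

theorem trans1 {a b : α} (ha : a ∈ S.D) (hb : b ∈ S.D) : ∃ g : G, g • a = b := by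
  have hx : Function.Injective ![a] := by
    intro i j _
    exact Subsingleton.elim i j
  have hy : Function.Injective ![b] := by
    intro i j _
    exact Subsingleton.elim i j
  obtain ⟨g, hg⟩ := S.htrans 1 (by norm_num) ![a] ![b] hx hy
    (by intro i; fin_cases i; simpa using ha) (by intro i; fin_cases i; simpa using hb)
  exact ⟨g, hg 0⟩

theorem trans2fix {j a b : α} (hj : j ∈ S.D) (ha : a ∈ S.D) (hb : b ∈ S.D) (haj : a ≠ j) (hbj : b ≠ j) :
    ∃ g : G, g • j = j ∧ g • a = b :=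
  S.trans2 hj ha hj hb (Ne.symm haj) (Ne.symm hbj)

theorem trans3fix {j j' a b : α} (hj : j ∈ S.D) (hj' : j' ∈ S.D) (ha : a ∈ S.D) (hb : b ∈ S.D)
    (hjj : j ≠ j') (haj : a ≠ j) (haj' : a ≠ j') (hbj : b ≠ j) (hbj' : b ≠ j') :
    ∃ g : G, g • j = j ∧ g • j' = j' ∧ g • a = b := by
  have hx : Function.Injective ![j, j', a] := by
    intro i k h
    fin_cases i <;> fin_cases k <;> simp_all
  have hy : Function.Injective ![j, j', b] := by
    intro i k h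
    fin_cases i <;> fin_cases k <;> simp_all
  obtain ⟨g, hg⟩ := S.htrans 3 (le_refl 3) ![j, j', a] ![j, j', b] hx hy
    (by intro i; fin_cases i <;> simp [hj, hj', ha]) (by intro i; fin_cases i <;> simp [hj, hj', hb])
  exact ⟨g, hg 0, hg 1, hg 2⟩

open Classical in
theorem exists_ne2 (a b : α) : ∃ j ∈ S.D, j ≠ a ∧ j ≠ b := by
  have h1 : ({a, b} : Finset α).card < S.D.card :=
    lt_of_le_of_lt Finset.card_le_two (lt_of_lt_of_le (by norm_num) S.hcard)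
  obtain ⟨j, hj, hn⟩ := Finset.exists_mem_notMem_of_card_lt_card h1
  rw [Finset.mem_insert, Finset.mem_singleton, not_or] at hn
  exact ⟨j, hj, hn.1, hn.2⟩

open Classical in
theorem exists_ne3 (a b c : α) : ∃ j ∈ S.D, j ≠ a ∧ j ≠ b ∧ j ≠ c := by
  have h1 : ({a, b, c} : Finset α).card < S.D.card :=
    lt_of_le_of_lt Finset.card_le_three (lt_of_lt_of_le (by norm_num) S.hcard)
  obtain ⟨j, hj, hn⟩ := Finset.exists_mem_notMem_of_card_lt_card h1
  rw [Finset.mem_insert, Finset.mem_insert, Finset.mem_singleton, not_or, not_or] at hn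
  exact ⟨j, hj, hn.1, hn.2.1, hn.2.2⟩

/-- The extra data: base point and the universal discrepancy. -/
structure Cov (S : Setup G α Γ) where
  o : α
  ho : o ∈ S.D
  z0 : Γ
  hz0 : z0 ∈ S.σ.ker
  hsq : z0 * z0 = 1
  hz : ∀ a ∈ S.D, ∀ b ∈ S.D, ∀ h : G, h • a = a → h • b = b → S.dl a b h = 1 ∨ S.dl a b h = z0

variable {S} (C : S.Cov)

namespace Cov

theorem z0_comm (x : Γ) : C.z0 * x = x * C.z0 := S.central C.hz0 x

theorem z0_inv : C.z0⁻¹ = C.z0 := inv_eq_of_mul_eq_one_right C.hsq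

/-- `A o · {1, z0}`. -/
def M : Subgroup Γ where
  carrier := {x | ∃ y ∈ S.A C.o, x = y ∨ x = y * C.z0}
  one_mem' := ⟨1, Subgroup.one_mem _, Or.inl rfl⟩
  mul_mem' := by
    rintro x1 x2 ⟨y1, h1, e1⟩ ⟨y2, h2, e2⟩
    refine ⟨y1 * y2, Subgroup.mul_mem _ h1 h2, ?_⟩
    rcases e1 with e1 | e1 <;> rcases e2 with e2 | e2 <;> rw [e1, e2]
    · exact Or.inl rfl
    · right; group
    · right
      rw [mul_assoc, C.z0_comm y2, ← mul_assoc]
    · left
      rw [mul_assoc, ← mul_assoc C.z0, C.z0_comm y2, mul_assoc y2, C.hsq, mul_one]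
  inv_mem' := by
    rintro x ⟨y, h, e⟩
    refine ⟨y⁻¹, Subgroup.inv_mem _ h, ?_⟩
    rcases e with e | e <;> rw [e]
    · exact Or.inl rfl
    · right
      rw [mul_inv_rev, C.z0_inv, C.z0_comm]

theorem mem_M {x : Γ} : x ∈ C.M ↔ ∃ y ∈ S.A C.o, x = y ∨ x = y * C.z0 := Iff.rfl

theorem A_le_M {y : Γ} (hy : y ∈ S.A C.o) : y ∈ C.M := ⟨y, hy, Or.inl rfl⟩

theorem z0_mem_M : C.z0 ∈ C.M := ⟨1, Subgroup.one_mem _, Or.inr (one_mul _).symm⟩

theorem eps_mem_M {e : Γ} (h : e = 1 ∨ e = C.z0) : e ∈ C.M := by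
  rcases h with rfl | rfl
  · exact Subgroup.one_mem _
  · exact C.z0_mem_M

/-- (CROSS) -/
theorem sec_cross {j j' : α} (hj : j ∈ S.D) (hj' : j' ∈ S.D) {h : G} (h1 : h • j = j) (h2 : h • j' = j') :
    ∃ e : Γ, (e = 1 ∨ e = C.z0) ∧ S.sec j h = S.sec j' h * e := by
  refine ⟨S.dl j j' h, C.hz j hj j' hj' h h1 h2, ?_⟩
  have c := S.central (S.dl_mem_ker hj hj' h1 h2) (S.sec j' h)
  rw [← c]
  exact S.sec_eq_dl_mul j j' h

/-- (SUB) -/
theorem sec_mem_M {j : α} (hj : j ∈ S.D) {x : G} (h1 : x • j = j) (h2 : x • C.o = C.o) :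
    S.sec j x ∈ C.M := by
  obtain ⟨e, he, hs⟩ := C.sec_cross hj C.ho h1 h2
  rw [hs]
  exact C.M.mul_mem (C.A_le_M (S.sec_mem C.ho h2)) (C.eps_mem_M he)

theorem exists_rep (k : α) (hk : k ∈ S.D) :
    ∃ r : Γ, ∃ j ∈ S.D, ∃ g : G, j ≠ C.o ∧ j ≠ k ∧ g • j = j ∧ g • C.o = k ∧ r = S.sec j g := by
  obtain ⟨j, hj, hjo, hjk⟩ := S.exists_ne2 C.o k
  obtain ⟨g, hg1, hg2⟩ := S.trans2fix hj C.ho hk (Ne.symm hjo) (Ne.symm hjk)
  exact ⟨S.sec j g, j, hj, g, hjo, hjk, hg1, hg2, rfl⟩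

open Classical in
/-- Coset representatives. -/
noncomputable def R (k : α) : Γ := if hk : k ∈ S.D then Classical.choose (C.exists_rep k hk) else 1

theorem R_spec {k : α} (hk : k ∈ S.D) :
    ∃ j ∈ S.D, ∃ g : G, j ≠ C.o ∧ j ≠ k ∧ g • j = j ∧ g • C.o = k ∧ C.R k = S.sec j g := by
  unfold R
  rw [dif_pos hk]
  exact Classical.choose_spec (C.exists_rep k hk)

/-- (WD) -/
theorem wd [Finite Γ] {j : α} (hj : j ∈ S.D) (hjo : j ≠ C.o) {g : G} (hg : g • j = j) :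
    (C.R (g • C.o))⁻¹ * S.sec j g ∈ C.M := by
  have hk : g • C.o ∈ S.D := S.hinv g _ C.ho
  have hkj : g • C.o ≠ j := by
    intro h
    apply hjo
    have : g • C.o = g • j := by rw [h, hg]
    exact (smul_left_cancel g this).symm
  obtain ⟨j', hj', g', hj'o, hj'k, hg'1, hg'2, hR⟩ := C.R_spec hk
  rw [hR]
  by_cases hjj : j' = j
  · subst hjj
    have e : (S.sec j' g')⁻¹ * S.sec j' g = S.sec j' (g'⁻¹ * g) := by
      rw [S.sec_mul hj (inv_fix hg'1) hg, S.sec_inv hj hg'1]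
    rw [e]
    apply C.sec_mem_M hj (mul_fix (inv_fix hg'1) hg)
    rw [mul_smul, inv_smul_eq_iff, hg'2]
  · obtain ⟨h, hh1, hh2, hh3⟩ := S.trans3fix hj hj' C.ho hk (Ne.symm hjj) (Ne.symm hjo) (Ne.symm hj'o)
      hkj (Ne.symm hj'k)
    obtain ⟨e, he, hs⟩ := C.sec_cross hj hj' hh1 hh2
    have e1 : (S.sec j' g')⁻¹ * S.sec j' h = S.sec j' (g'⁻¹ * h) := by
      rw [S.sec_mul hj' (inv_fix hg'1) hh2, S.sec_inv hj' hg'1]
    have e2 : (S.sec j h)⁻¹ * S.sec j g = S.sec j (h⁻¹ * g) := by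
      rw [S.sec_mul hj (inv_fix hh1) hg, S.sec_inv hj hh1]
    have m1 : S.sec j' (g'⁻¹ * h) ∈ C.M := by
      apply C.sec_mem_M hj' (mul_fix (inv_fix hg'1) hh2)
      rw [mul_smul, inv_smul_eq_iff, hg'2, hh3]
    have m2 : S.sec j (h⁻¹ * g) ∈ C.M := by
      apply C.sec_mem_M hj (mul_fix (inv_fix hh1) hg)
      rw [mul_smul, inv_smul_eq_iff, hh3]
    have e3 : (S.sec j' g')⁻¹ * S.sec j g =
        S.sec j' (g'⁻¹ * h) * e * S.sec j (h⁻¹ * g) := by
      rw [← e1, ← e2, hs]; group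
    rw [e3]
    exact C.M.mul_mem (C.M.mul_mem m1 (C.eps_mem_M he)) m2

end Cov

end Setup

end Cfsg.Agent.Lib.H28.StemAmalgam
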