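import Cfsg.Agent.Lib.H28.StemAmalgamA

/-!
# Stem extensions of multiply transitive groups with split point stabilizers, I (helper28)

Variant of `StemAmalgam`: `G` acts 3-transitively on a finite invariant set `D` of at least four
points; every point stabilizer is perfect, and the derived subgroup of its preimage in `Γ` meets the
kernel trivially (this replaces the hypothesis that point stabilizers have trivial multiplier).
-/

set_option autoImplicit false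

namespace Cfsg.Agent.Lib.H28.StemSplit

universe u v w

open scoped commutatorElement

/-- The data. -/
structure Setup (G : Type u) [Group G] (α : Type w) [MulAction G α] (Γ : Type v) [Group Γ] where
  σ : Γ →* G
  D : Finset α
  hsurj : Function.Surjective σ
  hcen : σ.ker ≤ Subgroup.center Γ
  hder : σ.ker ≤ commutator Γ
  hinv : ∀ (g : G), ∀ a ∈ D, g • a ∈ D
  htrans : ∀ n ≤ 3, ∀ x y : Fin n → α, Function.Injective x → Function.Injective y →
      (∀ i, x i ∈ D) → (∀ i, y i ∈ D) → ∃ g : G, ∀ i, g • x i = y i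
  hcard : 4 ≤ D.card
  hperf : ∀ a ∈ D, ⁅MulAction.stabilizer G a, MulAction.stabilizer G a⁆ = MulAction.stabilizer G a
  a0 : α
  ha0 : a0 ∈ D
  hsplit0 : ∀ y ∈ ⁅(MulAction.stabilizer G a0).comap σ, (MulAction.stabilizer G a0).comap σ⁆,
      σ y = 1 → y = 1

variable {G : Type u} [Group G] {α : Type w} [MulAction G α] {Γ : Type v} [Group Γ]

namespace Setup

variable (S : Setup G α Γ)

/-- Preimage of a point stabilizer. -/
def Pre (a : α) : Subgroup Γ := (MulAction.stabilizer G a).comap S.σ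

/-- Its derived subgroup. -/
def A (a : α) : Subgroup Γ := ⁅S.Pre a, S.Pre a⁆

theorem mem_Pre {a : α} {x : Γ} : x ∈ S.Pre a ↔ S.σ x • a = a := by
  unfold Pre
  rw [Subgroup.mem_comap, MulAction.mem_stabilizer_iff]

theorem comm_le_self (H : Subgroup Γ) : ⁅H, H⁆ ≤ H := by
  rw [Subgroup.commutator_le]
  intro g1 h1 g2 h2
  rw [commutatorElement_def]
  exact H.mul_mem (H.mul_mem (H.mul_mem h1 h2) (H.inv_mem h1)) (H.inv_mem h2)

theorem A_le_Pre (a : α) : S.A a ≤ S.Pre a := comm_le_self _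

theorem ker_le_Pre (a : α) : S.σ.ker ≤ S.Pre a := by
  intro x hx
  rw [S.mem_Pre, MonoidHom.mem_ker.1 hx, one_smul]

theorem map_Pre (a : α) : (S.Pre a).map S.σ = MulAction.stabilizer G a :=
  Subgroup.map_comap_eq_self_of_surjective S.hsurj _

theorem map_A {a : α} (ha : a ∈ S.D) : (S.A a).map S.σ = MulAction.stabilizer G a := by
  unfold A
  rw [Subgroup.map_commutator, S.map_Pre, S.hperf a ha]

/-- Conjugation carries `A a` to `A (σ γ • a)`. -/
theorem conj_mem_A (γ : Γ) {a : α} {y : Γ} (hy : y ∈ S.A a) : γ * y * γ⁻¹ ∈ S.A (S.σ γ • a) := by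
  have h1 : (S.Pre a).map (MulAut.conj γ).toMonoidHom ≤ S.Pre (S.σ γ • a) := by
    rintro _ ⟨x, hx, rfl⟩
    rw [S.mem_Pre]
    show S.σ (MulAut.conj γ x) • S.σ γ • a = S.σ γ • a
    rw [MulAut.conj_apply, map_mul, map_mul, map_inv, mul_smul, mul_smul, inv_smul_smul,
      S.mem_Pre.1 hx]
  have h2 : (S.A a).map (MulAut.conj γ).toMonoidHom ≤ S.A (S.σ γ • a) := by
    unfold A
    rw [Subgroup.map_commutator]
    exact Subgroup.commutator_mono h1 h1
  apply h2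
  exact ⟨y, hy, MulAut.conj_apply γ y⟩

/-- The splitting hypothesis at the base point holds at every point. -/
theorem hsplit {a : α} (ha : a ∈ S.D) {y : Γ} (hy : y ∈ S.A a) (h1 : S.σ y = 1) : y = 1 := by
  have hx : Function.Injective ![a] := fun i j _ => Subsingleton.elim i j
  have hy' : Function.Injective ![S.a0] := fun i j _ => Subsingleton.elim i j
  obtain ⟨g, hg⟩ := S.htrans 1 (by norm_num) ![a] ![S.a0] hx hy'
    (by intro i; fin_cases i; simpa using ha) (by intro i; fin_cases i; simpa using S.ha0)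
  obtain ⟨γ, hγ⟩ := S.hsurj g
  have h2 := S.conj_mem_A γ hy
  rw [hγ] at h2
  have h3 : g • a = S.a0 := hg 0
  rw [h3] at h2
  have h4 := S.hsplit0 _ h2 (by rw [map_mul, map_mul, h1, mul_one, map_inv, mul_inv_cancel])
  have e : y = γ⁻¹ * (γ * y * γ⁻¹) * γ := by group
  rw [e, h4]
  group

theorem central {z : Γ} (hz : z ∈ S.σ.ker) (x : Γ) : z * x = x * z :=
  (Subgroup.mem_center_iff.1 (S.hcen hz) x).symm

/-- Every element of the preimage is an element of `A a` times a central element. -/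
theorem exists_A_mul {a : α} (ha : a ∈ S.D) {x : Γ} (hx : x ∈ S.Pre a) :
    ∃ y ∈ S.A a, ∃ z ∈ S.σ.ker, x = y * z := by
  have h1 : S.σ x ∈ (S.A a).map S.σ := by
    rw [S.map_A ha, MulAction.mem_stabilizer_iff]
    exact S.mem_Pre.1 hx
  obtain ⟨y, hy, hyx⟩ := Subgroup.mem_map.1 h1
  refine ⟨y, hy, y⁻¹ * x, ?_, by group⟩
  rw [MonoidHom.mem_ker, map_mul, map_inv, hyx, inv_mul_cancel]

theorem comm_central_mul {y1 y2 z1 z2 : Γ} (h1 : z1 ∈ S.σ.ker) (h2 : z2 ∈ S.σ.ker) :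
    ⁅y1 * z1, y2 * z2⁆ = ⁅y1, y2⁆ := by
  have c1 := S.central h1
  have c2 := S.central h2
  rw [commutatorElement_def, commutatorElement_def, mul_inv_rev, mul_inv_rev]
  have e1 : z1⁻¹ * y1⁻¹ = y1⁻¹ * z1⁻¹ := by
    rw [← mul_inv_rev, ← mul_inv_rev, c1]
  have e2 : z2⁻¹ * y2⁻¹ = y2⁻¹ * z2⁻¹ := by
    rw [← mul_inv_rev, ← mul_inv_rev, c2]
  calc y1 * z1 * (y2 * z2) * (z1⁻¹ * y1⁻¹) * (z2⁻¹ * y2⁻¹)
      = y1 * (z1 * y2) * z2 * (z1⁻¹ * y1⁻¹) * (z2⁻¹ * y2⁻¹) := by group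
    _ = y1 * (y2 * z1) * z2 * (y1⁻¹ * z1⁻¹) * (y2⁻¹ * z2⁻¹) := by rw [c1, e1, e2]
    _ = y1 * y2 * (z1 * (z2 * y1⁻¹)) * z1⁻¹ * (y2⁻¹ * z2⁻¹) := by group
    _ = y1 * y2 * (z1 * (y1⁻¹ * z2)) * z1⁻¹ * (y2⁻¹ * z2⁻¹) := by rw [c2]
    _ = y1 * y2 * (z1 * y1⁻¹) * (z2 * z1⁻¹) * (y2⁻¹ * z2⁻¹) := by group
    _ = y1 * y2 * (y1⁻¹ * z1) * (z2 * z1⁻¹) * (y2⁻¹ * z2⁻¹) := by rw [c1]
    _ = y1 * y2 * y1⁻¹ * (z1 * (z2 * z1⁻¹)) * (y2⁻¹ * z2⁻¹) := by group
    _ = y1 * y2 * y1⁻¹ * (z1 * (z1⁻¹ * z2)) * (y2⁻¹ * z2⁻¹) := by rw [S.central h2 z1⁻¹]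
    _ = y1 * y2 * y1⁻¹ * (z2 * y2⁻¹) * z2⁻¹ := by group
    _ = y1 * y2 * y1⁻¹ * (y2⁻¹ * z2) * z2⁻¹ := by rw [c2]
    _ = y1 * y2 * y1⁻¹ * y2⁻¹ := by group

theorem A_perfect {a : α} (ha : a ∈ S.D) : ⁅S.A a, S.A a⁆ = S.A a := by
  apply le_antisymm (comm_le_self _)
  show ⁅S.Pre a, S.Pre a⁆ ≤ _
  rw [Subgroup.commutator_le]
  intro x1 h1 x2 h2
  obtain ⟨y1, hy1, z1, hz1, rfl⟩ := S.exists_A_mul ha h1
  obtain ⟨y2, hy2, z2, hz2, rfl⟩ := S.exists_A_mul ha h2
  rw [S.comm_central_mul hz1 hz2]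
  exact Subgroup.commutator_mem_commutator hy1 hy2

/-- Restriction of `σ` to `A a`. -/
def tau (a : α) : ↥(S.A a) →* ↥(MulAction.stabilizer G a) :=
  (S.σ.comp (S.A a).subtype).codRestrict (MulAction.stabilizer G a) (fun x => by
    have := S.A_le_Pre a x.2
    exact MulAction.mem_stabilizer_iff.2 (S.mem_Pre.1 this))

theorem tau_apply (a : α) (x : ↥(S.A a)) : ((S.tau a x : ↥(MulAction.stabilizer G a)) : G) = S.σ x.1 := rfl

theorem commutator_A_eq_top {a : α} (ha : a ∈ S.D) : commutator ↥(S.A a) = ⊤ := by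
  apply Subgroup.map_injective (Subgroup.subtype_injective (S.A a))
  rw [Subgroup.map_subtype_commutator, S.A_perfect ha, ← MonoidHom.range_eq_map, Subgroup.range_subtype]

theorem tau_stem {a : α} (ha : a ∈ S.D) : Cfsg.IsStemExtension (S.tau a) := by
  refine ⟨?_, ?_, ?_⟩
  · rintro ⟨g, hg⟩
    have h1 : g ∈ (S.A a).map S.σ := by rw [S.map_A ha]; exact hg
    obtain ⟨y, hy, hyg⟩ := Subgroup.mem_map.1 h1
    exact ⟨⟨y, hy⟩, Subtype.ext hyg⟩
  · intro x hx
    have h1 : S.σ x.1 = 1 := by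
      have := MonoidHom.mem_ker.1 hx
      have h2 := congrArg Subtype.val this
      rw [S.tau_apply] at h2
      exact h2
    rw [Subgroup.mem_center_iff]
    intro y
    apply Subtype.ext
    show y.1 * x.1 = x.1 * y.1
    exact (S.central (MonoidHom.mem_ker.2 h1) y.1).symm
  · rw [S.commutator_A_eq_top ha]
    exact le_top

theorem tau_ker [Finite Γ] {a : α} (ha : a ∈ S.D) : (S.tau a).ker = ⊥ := by
  rw [Subgroup.eq_bot_iff_forall]
  intro x hx
  have h1 : S.σ x.1 = 1 := by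
    have := MonoidHom.mem_ker.1 hx
    have h2 := congrArg Subtype.val this
    rw [S.tau_apply] at h2
    exact h2
  exact Subtype.ext (S.hsplit ha x.2 h1)

theorem A_inf_ker [Finite Γ] {a : α} (ha : a ∈ S.D) {y : Γ} (hy : y ∈ S.A a) (h1 : S.σ y = 1) : y = 1 := by
  have h2 : (⟨y, hy⟩ : ↥(S.A a)) ∈ (S.tau a).ker := by
    rw [MonoidHom.mem_ker]
    apply Subtype.ext
    rw [S.tau_apply]
    exact h1
  rw [S.tau_ker ha, Subgroup.mem_bot] at h2
  exact congrArg Subtype.val h2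

theorem exists_sec {a : α} (ha : a ∈ S.D) {g : G} (hg : g • a = a) : ∃ y, y ∈ S.A a ∧ S.σ y = g := by
  have h1 : g ∈ (S.A a).map S.σ := by rw [S.map_A ha]; exact MulAction.mem_stabilizer_iff.2 hg
  obtain ⟨y, hy, hyg⟩ := Subgroup.mem_map.1 h1
  exact ⟨y, hy, hyg⟩

open Classical in
/-- The section over the stabilizer of `a` (junk value `1` outside). -/
noncomputable def sec (a : α) (g : G) : Γ :=
  if h : a ∈ S.D ∧ g • a = a then Classical.choose (S.exists_sec h.1 h.2) else 1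

theorem sec_spec {a : α} (ha : a ∈ S.D) {g : G} (hg : g • a = a) :
    S.sec a g ∈ S.A a ∧ S.σ (S.sec a g) = g := by
  unfold sec
  rw [dif_pos ⟨ha, hg⟩]
  exact Classical.choose_spec (S.exists_sec ha hg)

theorem sec_mem {a : α} (ha : a ∈ S.D) {g : G} (hg : g • a = a) : S.sec a g ∈ S.A a :=
  (S.sec_spec ha hg).1

theorem sec_map {a : α} (ha : a ∈ S.D) {g : G} (hg : g • a = a) : S.σ (S.sec a g) = g :=
  (S.sec_spec ha hg).2

theorem fix_of_mem_A {a : α} {y : Γ} (hy : y ∈ S.A a) : S.σ y • a = a :=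
  S.mem_Pre.1 (S.A_le_Pre a hy)

theorem sec_unique [Finite Γ] {a : α} (ha : a ∈ S.D) {y : Γ} (hy : y ∈ S.A a) : y = S.sec a (S.σ y) := by
  have hg := S.fix_of_mem_A hy
  have h1 := S.sec_spec ha hg
  have h2 : (S.sec a (S.σ y))⁻¹ * y = 1 := by
    apply S.A_inf_ker ha ((S.A a).mul_mem ((S.A a).inv_mem h1.1) hy)
    rw [map_mul, map_inv, h1.2, inv_mul_cancel]
  exact (inv_mul_eq_one.1 h2).symm

theorem sec_unique' [Finite Γ] {a : α} (ha : a ∈ S.D) {y : Γ} (hy : y ∈ S.A a) {g : G} (hg : S.σ y = g) :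
    y = S.sec a g := by
  subst hg
  exact S.sec_unique ha hy

theorem sec_mul [Finite Γ] {a : α} (ha : a ∈ S.D) {g h : G} (hg : g • a = a) (hh : h • a = a) :
    S.sec a (g * h) = S.sec a g * S.sec a h := by
  symm
  apply S.sec_unique' ha ((S.A a).mul_mem (S.sec_mem ha hg) (S.sec_mem ha hh))
  rw [map_mul, S.sec_map ha hg, S.sec_map ha hh]

theorem sec_one [Finite Γ] {a : α} (ha : a ∈ S.D) : S.sec a 1 = 1 := by
  symm
  exact S.sec_unique' ha (S.A a).one_mem (map_one _)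

theorem sec_inv [Finite Γ] {a : α} (ha : a ∈ S.D) {g : G} (hg : g • a = a) :
    S.sec a g⁻¹ = (S.sec a g)⁻¹ := by
  symm
  apply S.sec_unique' ha ((S.A a).inv_mem (S.sec_mem ha hg))
  rw [map_inv, S.sec_map ha hg]

theorem inv_fix {a : α} {g : G} (hg : g • a = a) : g⁻¹ • a = a := by
  rw [inv_smul_eq_iff, hg]

theorem mul_fix {a : α} {g h : G} (hg : g • a = a) (hh : h • a = a) : (g * h) • a = a := by
  rw [mul_smul, hh, hg]

theorem conj_sec [Finite Γ] (γ : Γ) {a : α} (ha : a ∈ S.D) {h : G} (hh : h • a = a) :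
    γ * S.sec a h * γ⁻¹ = S.sec (S.σ γ • a) (S.σ γ * h * (S.σ γ)⁻¹) := by
  apply S.sec_unique' (S.hinv _ a ha) (S.conj_mem_A γ (S.sec_mem ha hh))
  rw [map_mul, map_mul, map_inv, S.sec_map ha hh]

/-- The set-up with Schur-trivial point stabilizers is a special case. -/
def ofOld [Finite Γ] (T : Cfsg.Agent.Lib.H28.StemAmalgam.Setup G α Γ) (a0 : α) (ha0 : a0 ∈ T.D) :
    Setup G α Γ where
  σ := T.σ
  D := T.D
  hsurj := T.hsurj
  hcen := T.hcen
  hder := T.hder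
  hinv := T.hinv
  htrans := T.htrans
  hcard := T.hcard
  hperf := T.hperf
  a0 := a0
  ha0 := ha0
  hsplit0 := fun _ hy h1 => T.A_inf_ker ha0 hy h1

end Setup

end Cfsg.Agent.Lib.H28.StemSplit
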