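import Cfsg.Agent.Lib.H28.StemSplitC

/-!
# Stem extensions of multiply transitive groups, IV (helper28)

The action of the generators on the cosets, the covering and the final bound.
-/

set_option autoImplicit false

namespace Cfsg.Agent.Lib.H28.StemSplit

universe u v w

open scoped commutatorElement

variable {G : Type u} [Group G] {α : Type w} [MulAction G α] {Γ : Type v} [Group Γ]

namespace Setup

variable {S : Setup G α Γ} (C : S.Cov)

namespace Cov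

/-- (ACT-A) -/
theorem actA [Finite Γ] {m k : α} (hm : m ∈ S.D) (hmo : m ≠ C.o) (hk : k ∈ S.D) (hkm : k ≠ m)
    {y : G} (hy : y • m = m) : (C.R (y • k))⁻¹ * S.sec m y * C.R k ∈ C.M := by
  obtain ⟨g, hg1, hg2⟩ := S.trans2fix hm C.ho hk (Ne.symm hmo) hkm
  have w1 := C.wd hm hmo hg1
  rw [hg2] at w1
  have w2 := C.wd hm hmo (mul_fix hy hg1)
  rw [mul_smul, hg2, S.sec_mul hm hy hg1] at w2
  have e : (C.R (y • k))⁻¹ * S.sec m y * C.R k =
      ((C.R (y • k))⁻¹ * (S.sec m y * S.sec m g)) * ((C.R k)⁻¹ * S.sec m g)⁻¹ := by group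
  rw [e]
  exact C.M.mul_mem w2 (C.M.inv_mem w1)

/-- The generating set of the stabilizer of `k`. -/
def Gen (k : α) : Set G := {y | y • k = k ∧ ∃ j ∈ S.D, j ≠ C.o ∧ j ≠ k ∧ y • j = j}

theorem gen_fix {k : α} {y : G} (hy : y ∈ Subgroup.closure (C.Gen k)) : y • k = k := by
  have : Subgroup.closure (C.Gen k) ≤ MulAction.stabilizer G k := by
    rw [Subgroup.closure_le]
    intro x hx
    exact MulAction.mem_stabilizer_iff.2 hx.1
  exact MulAction.mem_stabilizer_iff.1 (this hy)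

/-- (GEN) -/
theorem mem_closure_gen {k : α} (hk : k ∈ S.D) {y : G} (hy : y • k = k) :
    y ∈ Subgroup.closure (C.Gen k) := by
  obtain ⟨j1, hj1, hj1o, hj1k⟩ := S.exists_ne2 C.o k
  obtain ⟨j2, hj2, hj2o, hj2k, hj21⟩ := S.exists_ne3 C.o k j1
  have hp : y • j1 ∈ S.D := S.hinv y _ hj1
  have hpk : y • j1 ≠ k := by
    intro h
    apply hj1k
    have : y • j1 = y • k := by rw [h, hy]
    exact smul_left_cancel y this
  by_cases hp1 : y • j1 = j1
  · exact Subgroup.subset_closure ⟨hy, j1, hj1, hj1o, hj1k, hp1⟩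
  · -- find h in the closure with h k = k, h j1 = y j1
    have key : ∃ h ∈ Subgroup.closure (C.Gen k), h • j1 = y • j1 := by
      by_cases hp2 : y • j1 = j2
      · obtain ⟨q, hq, hqk, hq1, hq2⟩ := S.exists_ne3 k j1 j2
        obtain ⟨h1, a1, a2, a3⟩ := S.trans3fix hk hj2 hj1 hq (Ne.symm hj2k) hj1k (Ne.symm hj21) hqk hq2
        obtain ⟨h2, b1, b2, b3⟩ := S.trans3fix hk hj1 hq hj2 (Ne.symm hj1k) hqk hq1 hj2k hj21
        refine ⟨h2 * h1, Subgroup.mul_mem _ (Subgroup.subset_closure ⟨b1, j1, hj1, hj1o, hj1k, b2⟩)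
          (Subgroup.subset_closure ⟨a1, j2, hj2, hj2o, hj2k, a2⟩), ?_⟩
        rw [mul_smul, a3, b3, hp2]
      · obtain ⟨h, a1, a2, a3⟩ := S.trans3fix hk hj2 hj1 hp (Ne.symm hj2k) hj1k (Ne.symm hj21) hpk hp2
        exact ⟨h, Subgroup.subset_closure ⟨a1, j2, hj2, hj2o, hj2k, a2⟩, a3⟩
    obtain ⟨h, hh, hh1⟩ := key
    have hhk := C.gen_fix hh
    have e : y = h * (h⁻¹ * y) := by group
    rw [e]
    apply Subgroup.mul_mem _ hh
    apply Subgroup.subset_closure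
    refine ⟨mul_fix (inv_fix hhk) hy, j1, hj1, hj1o, hj1k, ?_⟩
    rw [mul_smul, inv_smul_eq_iff, hh1]

/-- (ACT-C) -/
theorem actC [Finite Γ] {k : α} (hk : k ∈ S.D) (hko : k ≠ C.o) {y : G} (hy : y • k = k) :
    (C.R k)⁻¹ * S.sec k y * C.R k ∈ C.M := by
  have key : ∀ y ∈ Subgroup.closure (C.Gen k), y • k = k ∧ (C.R k)⁻¹ * S.sec k y * C.R k ∈ C.M := by
    intro y hy
    induction hy using Subgroup.closure_induction with
    | mem x hx =>
      obtain ⟨hx1, j, hj, hjo, hjk, hxj⟩ := hx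
      refine ⟨hx1, ?_⟩
      obtain ⟨e, he, hs⟩ := C.sec_cross hk hj hx1 hxj
      have a := C.actA hj hjo hk (Ne.symm hjk) hxj
      rw [hx1] at a
      have e2 : (C.R k)⁻¹ * S.sec k x * C.R k = (C.R k)⁻¹ * S.sec j x * C.R k * e := by
        rw [hs]
        rcases he with rfl | rfl
        · group
        · calc (C.R k)⁻¹ * (S.sec j x * C.z0) * C.R k
              = (C.R k)⁻¹ * S.sec j x * (C.z0 * C.R k) := by group
            _ = (C.R k)⁻¹ * S.sec j x * (C.R k * C.z0) := by rw [C.z0_comm]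
            _ = (C.R k)⁻¹ * S.sec j x * C.R k * C.z0 := by group
      rw [e2]
      exact C.M.mul_mem a (C.eps_mem_M he)
    | one =>
      refine ⟨one_smul _ _, ?_⟩
      rw [S.sec_one hk, mul_one, inv_mul_cancel]
      exact C.M.one_mem
    | mul x y _ _ hx hy =>
      refine ⟨mul_fix hx.1 hy.1, ?_⟩
      rw [S.sec_mul hk hx.1 hy.1]
      have e : (C.R k)⁻¹ * (S.sec k x * S.sec k y) * C.R k =
          ((C.R k)⁻¹ * S.sec k x * C.R k) * ((C.R k)⁻¹ * S.sec k y * C.R k) := by group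
      rw [e]
      exact C.M.mul_mem hx.2 hy.2
    | inv x _ hx =>
      refine ⟨inv_fix hx.1, ?_⟩
      rw [S.sec_inv hk hx.1]
      have e : (C.R k)⁻¹ * (S.sec k x)⁻¹ * C.R k = ((C.R k)⁻¹ * S.sec k x * C.R k)⁻¹ := by group
      rw [e]
      exact C.M.inv_mem hx.2
  exact (key y (C.mem_closure_gen hk hy)).2

/-- (ACT) -/
theorem act [Finite Γ] {m k : α} (hm : m ∈ S.D) (hmo : m ≠ C.o) (hk : k ∈ S.D)
    {y : G} (hy : y • m = m) : (C.R (y • k))⁻¹ * S.sec m y * C.R k ∈ C.M := by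
  by_cases hkm : k = m
  · subst hkm
    rw [hy]
    exact C.actC hk hmo hy
  · exact C.actA hm hmo hk hkm hy

/-- The generators of `Γ`. -/
def GenΓ : Set Γ := {x | ∃ m ∈ S.D, m ≠ C.o ∧ ∃ y : G, y • m = m ∧ x = S.sec m y}

theorem exists_mul_ker (γ : Γ) : ∃ κ ∈ Subgroup.closure C.GenΓ, ∃ z ∈ S.σ.ker, γ = κ * z := by
  obtain ⟨i, hi, hio, -⟩ := S.exists_ne2 C.o C.o
  have hk : S.σ γ • i ∈ S.D := S.hinv _ _ hi
  obtain ⟨l, hl, hlo, hli, hlk⟩ := S.exists_ne3 C.o i (S.σ γ • i)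
  obtain ⟨h, hh1, hh2⟩ := S.trans2fix hl hi hk (Ne.symm hli) (Ne.symm hlk)
  have hfix : (h⁻¹ * S.σ γ) • i = i := by
    rw [mul_smul, inv_smul_eq_iff, hh2]
  refine ⟨S.sec l h * S.sec i (h⁻¹ * S.σ γ), ?_, (S.sec l h * S.sec i (h⁻¹ * S.σ γ))⁻¹ * γ, ?_, by group⟩
  · exact Subgroup.mul_mem _ (Subgroup.subset_closure ⟨l, hl, hlo, h, hh1, rfl⟩)
      (Subgroup.subset_closure ⟨i, hi, hio, _, hfix, rfl⟩)
  · rw [MonoidHom.mem_ker, map_mul, map_inv, map_mul, S.sec_map hl hh1, S.sec_map hi hfix]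
    group

theorem closure_genΓ : Subgroup.closure C.GenΓ = ⊤ := by
  have h1 : commutator Γ ≤ Subgroup.closure C.GenΓ := by
    rw [commutator_def, Subgroup.commutator_le]
    intro x1 _ x2 _
    obtain ⟨k1, hk1, z1, hz1, rfl⟩ := C.exists_mul_ker x1
    obtain ⟨k2, hk2, z2, hz2, rfl⟩ := C.exists_mul_ker x2
    rw [S.comm_central_mul hz1 hz2, commutatorElement_def]
    exact Subgroup.mul_mem _ (Subgroup.mul_mem _ (Subgroup.mul_mem _ hk1 hk2) (Subgroup.inv_mem _ hk1))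
      (Subgroup.inv_mem _ hk2)
  rw [eq_top_iff]
  intro γ _
  obtain ⟨κ, hκ, z, hz, rfl⟩ := C.exists_mul_ker γ
  exact Subgroup.mul_mem _ hκ (h1 (S.hder hz))

/-- (COVER) -/
theorem cover [Finite Γ] (γ : Γ) : ∃ k ∈ S.D, (C.R k)⁻¹ * γ ∈ C.M := by
  have hγ : γ ∈ Subgroup.closure C.GenΓ := by rw [C.closure_genΓ]; trivial
  have step : ∀ x ∈ C.GenΓ, ∀ y : Γ, (∃ k ∈ S.D, (C.R k)⁻¹ * y ∈ C.M) →
      ∃ k ∈ S.D, (C.R k)⁻¹ * (x * y) ∈ C.M := by
    rintro x ⟨m, hm, hmo, g, hg, rfl⟩ y ⟨k, hk, hky⟩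
    refine ⟨g • k, S.hinv g k hk, ?_⟩
    have e : (C.R (g • k))⁻¹ * (S.sec m g * y) =
        ((C.R (g • k))⁻¹ * S.sec m g * C.R k) * ((C.R k)⁻¹ * y) := by group
    rw [e]
    exact C.M.mul_mem (C.act hm hmo hk hg) hky
  induction hγ using Subgroup.closure_induction_left with
  | one =>
    obtain ⟨j, hj, g, hjo, _, hg1, hg2, hR⟩ := C.R_spec C.ho
    refine ⟨C.o, C.ho, ?_⟩
    rw [mul_one, hR]
    exact C.M.inv_mem (C.sec_mem_M hj hg1 hg2)
  | mul_left x hx y _ ih => exact step x hx y ih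
  | inv_mul_cancel x hx y _ ih =>
    apply step _ _ y ih
    obtain ⟨m, hm, hmo, g, hg, rfl⟩ := hx
    exact ⟨m, hm, hmo, g⁻¹, inv_fix hg, (S.sec_inv hm hg).symm⟩

end Cov

end Setup

end Cfsg.Agent.Lib.H28.StemSplit
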