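import Cfsg.Agent.Lib.H28.TernaryAutFacts

set_option autoImplicit false

namespace Cfsg.Agent.Lib.H28
namespace TGA

open Cfsg Cfsg.Agent.Lib.H8.TG
open scoped Pointwise

/-- Monomial automorphisms of the length-12 ternary code. -/
def IsAuto (σ : Equiv.Perm ArrayPt) (c : ArrayPt → (ZMod 3)ˣ) : Prop :=
  ∀ x ∈ ternaryGolayCode, monomialMap σ c x ∈ ternaryGolayCode

/-- The hexads: supports of the words of weight 6. -/
def Hx : Set (Finset ArrayPt) :=
  {h | ∃ x ∈ ternaryGolayCode, ternarySupport x = h ∧ h.card = 6}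

theorem monomialMap_apply (σ : Equiv.Perm ArrayPt) (c : ArrayPt → (ZMod 3)ˣ)
    (x : ArrayPt → ZMod 3) (i : ArrayPt) :
    monomialMap σ c x i = (c i : ZMod 3) * x (σ.symm i) := rfl

theorem monomialMap_add (σ : Equiv.Perm ArrayPt) (c : ArrayPt → (ZMod 3)ˣ)
    (x y : ArrayPt → ZMod 3) :
    monomialMap σ c (x + y) = monomialMap σ c x + monomialMap σ c y := by
  funext i
  simp only [monomialMap_apply, Pi.add_apply, mul_add]

theorem monomialMap_smul (σ : Equiv.Perm ArrayPt) (c : ArrayPt → (ZMod 3)ˣ) (a : ZMod 3)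
    (x : ArrayPt → ZMod 3) : monomialMap σ c (a • x) = a • monomialMap σ c x := by
  funext i
  simp only [monomialMap_apply, Pi.smul_apply, smul_eq_mul]
  ring

theorem gen_eq_sum (t : T) : gen t = t.1 • gen (basisT 0) + t.2.1 • gen (basisT 1) +
    t.2.2.1 • gen (basisT 2) + t.2.2.2.1 • gen (basisT 3) + t.2.2.2.2.1 • gen (basisT 4) +
    t.2.2.2.2.2 • gen (basisT 5) := by
  funext p
  simp only [Pi.add_apply, Pi.smul_apply, smul_eq_mul]
  exact gen_lin t p

theorem isAuto_of_basis {σ : Equiv.Perm ArrayPt} {c : ArrayPt → (ZMod 3)ˣ}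
    (h : ∀ i : Fin 6, monomialMap σ c (gen (basisT i)) ∈ ternaryGolayCode) : IsAuto σ c := by
  intro x hx
  rw [← gen_info_of_mem hx, gen_eq_sum]
  simp only [monomialMap_add, monomialMap_smul]
  exact add_mem (add_mem (add_mem (add_mem (add_mem (Submodule.smul_mem _ _ (h 0))
    (Submodule.smul_mem _ _ (h 1))) (Submodule.smul_mem _ _ (h 2)))
    (Submodule.smul_mem _ _ (h 3))) (Submodule.smul_mem _ _ (h 4))) (Submodule.smul_mem _ _ (h 5))

theorem chain_isAuto (k : Fin 5) (b : Fin 12) : IsAuto (cperm k b) (cs k b) :=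
  isAuto_of_basis fun i => (mem_iff _).2 (funext fun p => chain_auto k b i p)

theorem isAuto_mul {σ σ' : Equiv.Perm ArrayPt} {c c' : ArrayPt → (ZMod 3)ˣ}
    (h : IsAuto σ c) (h' : IsAuto σ' c') :
    IsAuto (σ * σ') (fun i => c i * c' (σ.symm i)) := by
  intro x hx
  have e : monomialMap (σ * σ') (fun i => c i * c' (σ.symm i)) x =
      monomialMap σ c (monomialMap σ' c' x) := by
    funext i
    simp only [monomialMap_apply, Units.val_mul, mul_assoc]
    rfl
  rw [e]
  exact h _ (h' _ hx)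

theorem isAuto_one : IsAuto 1 (fun _ => 1) := by
  intro x hx
  have e : monomialMap 1 (fun _ => (1 : (ZMod 3)ˣ)) x = x := by
    funext i
    rw [monomialMap_apply, Units.val_one, one_mul]
    rfl
  rw [e]
  exact hx

theorem supp_monomialMap (σ : Equiv.Perm ArrayPt) (c : ArrayPt → (ZMod 3)ˣ)
    (x : ArrayPt → ZMod 3) : ternarySupport (monomialMap σ c x) = σ • ternarySupport x := by
  ext p
  rw [Finset.mem_smul_finset]
  constructor
  · intro h
    rw [Cfsg.Agent.S1592.mem_supp, monomialMap_apply] at h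
    refine ⟨σ.symm p, Cfsg.Agent.S1592.mem_supp.2 ?_, by simp⟩
    intro h0
    apply h
    rw [h0, mul_zero]
  · rintro ⟨y, hy, rfl⟩
    rw [Cfsg.Agent.S1592.mem_supp] at hy ⊢
    rw [monomialMap_apply, Equiv.Perm.smul_def, Equiv.symm_apply_apply]
    exact mul_ne_zero (Units.ne_zero _) hy

theorem smul_mem_Hx {σ : Equiv.Perm ArrayPt} {c : ArrayPt → (ZMod 3)ˣ} (h : IsAuto σ c)
    {s : Finset ArrayPt} (hs : s ∈ Hx) : σ • s ∈ Hx := by
  obtain ⟨x, hx, rfl, h6⟩ := hs
  exact ⟨monomialMap σ c x, h x hx, supp_monomialMap σ c x, by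
    rw [Finset.card_smul_finset]; exact h6⟩

theorem mem_stab_of_forall (B : Set (Finset ArrayPt)) (σ : Equiv.Perm ArrayPt)
    (h : ∀ s ∈ B, σ • s ∈ B) : σ ∈ MulAction.stabilizer (Equiv.Perm ArrayPt) B := by
  rw [MulAction.mem_stabilizer_iff]
  have hfin : B.Finite := Set.toFinite B
  apply Set.eq_of_subset_of_ncard_le
  · rintro _ ⟨s, hs, rfl⟩
    exact h s hs
  · rw [← Set.image_smul, Set.ncard_image_of_injective _ (MulAction.injective σ)]
  · exact hfin

/-- The automorphism group of the Steiner system of hexads. -/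
abbrev AutH : Subgroup (Equiv.Perm ArrayPt) := setSystemAut Hx

theorem mem_AutH_of_isAuto {σ : Equiv.Perm ArrayPt} {c : ArrayPt → (ZMod 3)ˣ} (h : IsAuto σ c) :
    σ ∈ AutH :=
  mem_stab_of_forall Hx σ fun _ hs => smul_mem_Hx h hs

theorem smul_mem_of_AutH {τ : Equiv.Perm ArrayPt} (hτ : τ ∈ AutH) {s : Finset ArrayPt}
    (hs : s ∈ Hx) : τ • s ∈ Hx := by
  have h := MulAction.mem_stabilizer_iff.1 hτ
  rw [← h]
  exact Set.smul_mem_smul_set hs

theorem hx_unique {h h' s : Finset ArrayPt} (hh : h ∈ Hx) (hh' : h' ∈ Hx) (hs : s.card = 5)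
    (h1 : s ⊆ h) (h2 : s ⊆ h') : h = h' :=
  ((Cfsg.Agent.S1592.result).1.2 s hs).unique ⟨hh, h1⟩ ⟨hh', h2⟩

theorem sup_mem_Hx {t : T} (h6 : (sup t).card = 6) : sup t ∈ Hx :=
  ⟨gen t, gen_mem t, rfl, h6⟩

theorem smul_eq_of_five {τ : Equiv.Perm ArrayPt} (hτ : τ ∈ AutH) {H H' F : Finset ArrayPt}
    (hH : H ∈ Hx) (hH' : H' ∈ Hx) (hF : F ⊆ H) (h5 : F.card = 5) (hF' : τ • F ⊆ H') :
    τ • H = H' :=
  hx_unique (smul_mem_of_AutH hτ hH) hH' (by rw [Finset.card_smul_finset]; exact h5)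
    (Finset.smul_finset_subset_smul_finset hF) hF'

/-! ## The pointwise stabilizer of five points is trivial -/

theorem smul_eq_self_of_fix {τ : Equiv.Perm ArrayPt} {s : Finset ArrayPt}
    (h : ∀ a ∈ s, τ a = a) : τ • s = s := by
  ext p
  rw [Finset.mem_smul_finset]
  constructor
  · rintro ⟨a, ha, rfl⟩
    rw [Equiv.Perm.smul_def, h a ha]
    exact ha
  · intro hp
    exact ⟨p, hp, by rw [Equiv.Perm.smul_def, h p hp]⟩

theorem smul_union_singleton (τ : Equiv.Perm ArrayPt) (s : Finset ArrayPt) (a : ArrayPt) :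
    τ • (s ∪ {a}) = τ • s ∪ {τ a} := by
  rw [Finset.smul_finset_union, Finset.smul_finset_singleton, Equiv.Perm.smul_def]

theorem pt_mem_H0F : ∀ q : Fin 12, q.val < 6 → pt q.val ∈ H0F := by
  decide +kernel

theorem pt_not_mem_H0F : ∀ q : Fin 12, 6 ≤ q.val → pt q.val ∉ H0F := by
  decide +kernel

theorem pt_inj : ∀ q q' : Fin 12, pt q.val = pt q'.val → q = q' := by
  decide +kernel

theorem trivial_of_fix {τ : Equiv.Perm ArrayPt} (hτ : τ ∈ AutH)
    (hfix : ∀ j : Fin 5, τ (pt j.val) = pt j.val) : τ = 1 := by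
  have h0mem : H0F ∈ Hx := by
    rw [← h0_fact]
    exact sup_mem_Hx (by rw [h0_fact]; decide)
  have hF5 : ({pt 0, pt 1, pt 2, pt 3, pt 4} : Finset ArrayPt) ⊆ H0F := by decide
  have hfix5 : ∀ a ∈ ({pt 0, pt 1, pt 2, pt 3, pt 4} : Finset ArrayPt), τ a = a := by
    intro a ha
    simp only [Finset.mem_insert, Finset.mem_singleton] at ha
    rcases ha with rfl | rfl | rfl | rfl | rfl
    · exact hfix 0
    · exact hfix 1
    · exact hfix 2
    · exact hfix 3
    · exact hfix 4
  have hH0 : τ • H0F = H0F := by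
    refine smul_eq_of_five hτ h0mem h0mem hF5 (by decide) ?_
    rw [smul_eq_self_of_fix hfix5]
    exact hF5
  have hne5 : ∀ j : Fin 5, pt 5 ≠ pt j.val := by decide
  have h5 : τ (pt 5) = pt 5 := by
    have hm : τ • (pt 5) ∈ τ • H0F := Finset.smul_mem_smul_finset (by decide : pt 5 ∈ H0F)
    rw [hH0, Equiv.Perm.smul_def] at hm
    have key : ∀ j : Fin 5, τ (pt 5) ≠ pt j.val := fun j h =>
      hne5 j (τ.injective (h.trans (hfix j).symm))
    simp only [H0F, Finset.mem_insert, Finset.mem_singleton] at hm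
    rcases hm with h | h | h | h | h | h
    · exact absurd h (key 0)
    · exact absurd h (key 1)
    · exact absurd h (key 2)
    · exact absurd h (key 3)
    · exact absurd h (key 4)
    · exact h
  have hfixH : ∀ a ∈ H0F, τ a = a := by
    intro a ha
    simp only [H0F, Finset.mem_insert, Finset.mem_singleton] at ha
    rcases ha with rfl | rfl | rfl | rfl | rfl | rfl
    · exact hfix 0
    · exact hfix 1
    · exact hfix 2
    · exact hfix 3
    · exact hfix 4
    · exact h5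
  have hout : ∀ p, p ∉ H0F → τ p ∉ H0F := by
    intro p hp h
    have h1 := hfixH _ h
    exact hp (by rw [← τ.injective h1]; exact h)
  have hall : ∀ q : Fin 12, τ (pt q.val) = pt q.val := by
    intro q
    by_cases hq : q.val < 6
    · exact hfixH _ (pt_mem_H0F q hq)
    · have hq6 : 6 ≤ q.val := by omega
      by_contra hcon
      obtain ⟨q', hq'⟩ : ∃ q' : Fin 12, τ (pt q.val) = pt q'.val :=
        ⟨⟨ix (τ (pt q.val)), ix_lt _⟩, (pt_ix _).symm⟩
      have hne : q ≠ q' := by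
        rintro rfl
        exact hcon hq'
      have hq'6 : 6 ≤ q'.val := by
        by_contra hlt
        have h1 := pt_mem_H0F q' (by omega)
        rw [← hq'] at h1
        exact hout _ (pt_not_mem_H0F q hq6) h1
      obtain ⟨hA, hB, hC, hz1, hz2, hz3⟩ := wit_fact q q' hq6 hq'6 hne
      have half : ∀ a c : T, WitHalf q q' a c → τ (pt (wz q q')) ∈ sup c := by
        rintro a c ⟨h1, h2, h3, h4, h5a, h5c⟩
        have hS : τ • (sup a ∩ H0F) = sup a ∩ H0F :=
          smul_eq_self_of_fix fun x hx => hfixH x (Finset.mem_inter.1 hx).2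
        have hsm : τ • sup a = sup c := by
          refine smul_eq_of_five hτ (sup_mem_Hx h5a) (sup_mem_Hx h5c) h2 h1 ?_
          rw [smul_union_singleton, hS, hq']
          exact h3
        rw [← hsm, ← Equiv.Perm.smul_def]
        exact Finset.smul_mem_smul_finset h4
      have m3 := half _ _ hA
      have m4 := half _ _ hB
      have hzq : pt (wz q q') ∉ H0F := pt_not_mem_H0F ⟨wz q q', hz3⟩ hz2
      have m5 := hout _ hzq
      have h6 := hC _ m3 m4 m5
      rw [← hq'] at h6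
      have h7 := τ.injective h6
      have h8 := pt_inj ⟨wz q q', hz3⟩ q h7
      exact hz1 (congrArg Fin.val h8)
  apply Equiv.ext
  intro p
  have h := hall ⟨ix p, ix_lt p⟩
  simp only [pt_ix] at h
  exact h

/-! ## The permutation parts of the monomial automorphisms -/

/-- The permutations underlying monomial automorphisms. -/
def MonoPerms : Set (Equiv.Perm ArrayPt) := {σ | ∃ c, IsAuto σ c}

theorem mono_subset {σ : Equiv.Perm ArrayPt} (h : σ ∈ MonoPerms) : σ ∈ AutH := by
  obtain ⟨c, hc⟩ := h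
  exact mem_AutH_of_isAuto hc

theorem mono_mul {σ σ' : Equiv.Perm ArrayPt} (h : σ ∈ MonoPerms) (h' : σ' ∈ MonoPerms) :
    σ * σ' ∈ MonoPerms := by
  obtain ⟨c, hc⟩ := h
  obtain ⟨c', hc'⟩ := h'
  exact ⟨_, isAuto_mul hc hc'⟩

theorem mono_one : (1 : Equiv.Perm ArrayPt) ∈ MonoPerms := ⟨_, isAuto_one⟩

theorem cperm_mono (k : Fin 5) (b : Fin 12) : cperm k b ∈ MonoPerms := ⟨cs k b, chain_isAuto k b⟩

theorem cperm_apply (k : Fin 5) (b : Fin 12) (p : ArrayPt) : cperm k b p = cf k b p := rfl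

theorem exists_pt (p : ArrayPt) : ∃ b : Fin 12, p = pt b.val :=
  ⟨⟨ix p, ix_lt p⟩, (pt_ix p).symm⟩

theorem pt_inj5 {j j' : Fin 5} (h : pt j.val = pt j'.val) : j = j' := by
  have h1 := pt_inj ⟨j.val, by omega⟩ ⟨j'.val, by omega⟩ h
  exact Fin.ext (Fin.mk.inj_iff.1 h1)

theorem descend : ∀ n : ℕ, n ≤ 5 → ∀ τ ∈ AutH,
    (∀ j : Fin 5, j.val < 5 - n → τ (pt j.val) = pt j.val) → τ ∈ MonoPerms := by
  intro n
  induction n with
  | zero =>
    intro _ τ hτ hfix
    have h1 := trivial_of_fix hτ fun j => hfix j (by omega)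
    rw [h1]
    exact mono_one
  | succ n ih =>
    intro hn τ hτ hfix
    obtain ⟨b, hb⟩ := exists_pt (τ (pt (4 - n)))
    have hkb : 4 - n ≤ b.val := by
      by_contra hlt
      have h1 := hfix ⟨b.val, by omega⟩ (by simp only; omega)
      simp only at h1
      have h2 := τ.injective (h1.trans hb.symm)
      have h3 := pt_inj ⟨b.val, by omega⟩ ⟨4 - n, by omega⟩ h2
      have h4 := Fin.mk.inj_iff.1 h3
      omega
    obtain ⟨hact1, hact2⟩ := chain_act ⟨4 - n, by omega⟩ b hkb
    set g := cperm ⟨4 - n, by omega⟩ b with hg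
    have hgA : g ∈ AutH := mono_subset (cperm_mono _ _)
    have hτ' : g⁻¹ * τ ∈ AutH := AutH.mul_mem (AutH.inv_mem hgA) hτ
    have hfix' : ∀ j : Fin 5, j.val < 5 - n → (g⁻¹ * τ) (pt j.val) = pt j.val := by
      intro j hj
      rw [Equiv.Perm.mul_apply, Equiv.Perm.inv_eq_iff_eq]
      by_cases hj' : j.val < 4 - n
      · rw [hfix j (by omega)]
        exact (hact1 j hj').symm
      · have hj'' : j.val = 4 - n := by omega
        rw [hj'', hb]
        exact hact2.symm
    have h1 := ih (by omega) _ hτ' hfix'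
    have h2 : τ = g * (g⁻¹ * τ) := by group
    rw [h2]
    exact mono_mul (cperm_mono _ _) h1

theorem AutH_subset {τ : Equiv.Perm ArrayPt} (hτ : τ ∈ AutH) : τ ∈ MonoPerms :=
  descend 5 le_rfl τ hτ fun j hj => by omega

theorem monoPerms_eq : MonoPerms = (AutH : Set (Equiv.Perm ArrayPt)) :=
  Set.eq_of_subset_of_subset (fun _ h => mono_subset h) fun _ h => AutH_subset h

end TGA
end Cfsg.Agent.Lib.H28
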