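import Cfsg.Agent.Lib.H28.TernaryAut

set_option autoImplicit false

namespace Cfsg.Agent.Lib.H28
namespace TGA

open Cfsg Cfsg.Agent.Lib.H8.TG
open scoped Pointwise

/-! ## The order of the automorphism group of the hexads -/

/-- The image of the base under an automorphism. -/
def baseImage (σ : AutH) : Fin 5 ↪ ArrayPt :=
  ⟨fun j => σ.1 (pt j.val), fun _ _ h => pt_inj5 (σ.1.injective h)⟩

theorem baseImage_apply (σ : AutH) (j : Fin 5) : baseImage σ j = σ.1 (pt j.val) := rfl

theorem baseImage_injective : Function.Injective baseImage := by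
  intro σ σ' h
  have h1 : ∀ j : Fin 5, (σ'.1⁻¹ * σ.1) (pt j.val) = pt j.val := by
    intro j
    have h2 := DFunLike.congr_fun h j
    rw [baseImage_apply, baseImage_apply] at h2
    rw [Equiv.Perm.mul_apply, h2, Equiv.Perm.inv_def, Equiv.symm_apply_apply]
  have h3 := trivial_of_fix (AutH.mul_mem (AutH.inv_mem σ'.2) σ.2) h1
  apply Subtype.ext
  have h4 : σ.1 = σ'.1 * (σ'.1⁻¹ * σ.1) := by group
  rw [h4, h3, mul_one]

theorem exists_of_embedding : ∀ n : ℕ, n ≤ 5 → ∀ e : Fin 5 ↪ ArrayPt,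
    (∀ j : Fin 5, j.val < 5 - n → e j = pt j.val) →
    ∃ σ ∈ AutH, ∀ j : Fin 5, σ (pt j.val) = e j := by
  intro n
  induction n with
  | zero =>
    intro _ e he
    exact ⟨1, AutH.one_mem, fun j => (he j (by omega)).symm⟩
  | succ n ih =>
    intro hn e he
    obtain ⟨b, hb⟩ := exists_pt (e ⟨4 - n, by omega⟩)
    have hkb : 4 - n ≤ b.val := by
      by_contra hlt
      have h1 := he ⟨b.val, by omega⟩ (by simp only; omega)
      have h2 := e.injective (h1.trans hb.symm)
      have h4 := Fin.mk.inj_iff.1 h2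
      omega
    obtain ⟨hact1, hact2⟩ := chain_act ⟨4 - n, by omega⟩ b hkb
    set g := cperm ⟨4 - n, by omega⟩ b with hg
    have hgA : g ∈ AutH := mono_subset (cperm_mono _ _)
    have he' : ∀ j : Fin 5, j.val < 5 - n →
        (e.trans (Equiv.toEmbedding g⁻¹)) j = pt j.val := by
      intro j hj
      rw [Function.Embedding.trans_apply, Equiv.toEmbedding_apply, Equiv.Perm.inv_eq_iff_eq]
      by_cases hj' : j.val < 4 - n
      · rw [he j (by omega)]
        exact (hact1 j hj').symm
      · have hj'' : j = ⟨4 - n, by omega⟩ := Fin.ext (by simp only; omega)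
        rw [hj'', hb]
        exact hact2.symm
    obtain ⟨σ', hσ', hσe⟩ := ih (by omega) _ he'
    refine ⟨g * σ', AutH.mul_mem hgA hσ', fun j => ?_⟩
    rw [Equiv.Perm.mul_apply, hσe j, Function.Embedding.trans_apply, Equiv.toEmbedding_apply,
      Equiv.Perm.inv_def, Equiv.apply_symm_apply]

theorem baseImage_surjective : Function.Surjective baseImage := by
  intro e
  obtain ⟨σ, hσ, h⟩ := exists_of_embedding 5 le_rfl e fun j hj => by omega
  exact ⟨⟨σ, hσ⟩, Function.Embedding.ext fun j => h j⟩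

theorem card_AutH : Nat.card AutH = 95040 := by
  rw [Nat.card_congr (Equiv.ofBijective baseImage ⟨baseImage_injective, baseImage_surjective⟩),
    Nat.card_eq_fintype_card, Fintype.card_embedding_eq]
  have h : Fintype.card ArrayPt = 12 := by
    simp [ZMod.card]
  rw [h, Fintype.card_fin]
  decide

/-! ## The order of the monomial group -/

theorem monomialMap_injective (σ : Equiv.Perm ArrayPt) (c : ArrayPt → (ZMod 3)ˣ) :
    Function.Injective (monomialMap σ c) := by
  intro x y h
  funext p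
  have h1 := congrFun h (σ p)
  rw [monomialMap_apply, monomialMap_apply, Equiv.symm_apply_apply] at h1
  exact (Units.mul_right_inj _).1 h1

theorem isAuto_surj {σ : Equiv.Perm ArrayPt} {c : ArrayPt → (ZMod 3)ˣ} (h : IsAuto σ c)
    {y : ArrayPt → ZMod 3} (hy : y ∈ ternaryGolayCode) :
    ∃ x ∈ ternaryGolayCode, monomialMap σ c x = y := by
  let F : ↥ternaryGolayCode → ↥ternaryGolayCode := fun x => ⟨monomialMap σ c x.1, h x.1 x.2⟩
  have hinj : Function.Injective F := by
    intro x x' hxx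
    apply Subtype.ext
    exact monomialMap_injective σ c (congrArg Subtype.val hxx)
  obtain ⟨x, hx⟩ := (Finite.injective_iff_surjective.1 hinj) ⟨y, hy⟩
  exact ⟨x.1, x.2, congrArg Subtype.val hx⟩

theorem isAuto_ratio {σ : Equiv.Perm ArrayPt} {c c' : ArrayPt → (ZMod 3)ˣ} (h : IsAuto σ c)
    (h' : IsAuto σ c') : (∀ p, c' p = c p) ∨ (∀ p, c' p = -c p) := by
  have hd : ∀ y ∈ ternaryGolayCode,
      monomialMap 1 (fun p => c' p * (c p)⁻¹) y ∈ ternaryGolayCode := by
    intro y hy
    obtain ⟨x, hx, rfl⟩ := isAuto_surj h hy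
    have e : monomialMap 1 (fun p => c' p * (c p)⁻¹) (monomialMap σ c x) = monomialMap σ c' x := by
      funext i
      simp only [monomialMap_apply, Units.val_mul]
      have h1 : ((1 : Equiv.Perm ArrayPt).symm i) = i := rfl
      rw [h1, mul_assoc, ← mul_assoc (((c i)⁻¹ : (ZMod 3)ˣ) : ZMod 3), Units.inv_mul, one_mul]
    rw [e]
    exact h' x hx
  rcases Cfsg.Agent.S1593.result _ hd with h1 | h1
  · left
    intro p
    have h2 := h1 p
    rw [mul_inv_eq_one] at h2
    exact h2
  · right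
    intro p
    have h2 := h1 p
    rw [mul_inv_eq_iff_eq_mul] at h2
    rw [h2, neg_one_mul]

theorem isAuto_scale {σ : Equiv.Perm ArrayPt} {c : ArrayPt → (ZMod 3)ˣ} (h : IsAuto σ c)
    (ε : (ZMod 3)ˣ) : IsAuto σ (fun p => ε * c p) := by
  intro x hx
  have e : monomialMap σ (fun p => ε * c p) x = (ε : ZMod 3) • monomialMap σ c x := by
    funext i
    simp only [monomialMap_apply, Units.val_mul, Pi.smul_apply, smul_eq_mul, mul_assoc]
  rw [e]
  exact Submodule.smul_mem _ _ (h x hx)

/-- A chosen sign vector for every automorphism of the hexads. -/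
noncomputable def sgnOf (σ : AutH) : ArrayPt → (ZMod 3)ˣ := Classical.choose (AutH_subset σ.2)

theorem sgnOf_spec (σ : AutH) : IsAuto σ.1 (sgnOf σ) := Classical.choose_spec (AutH_subset σ.2)

/-- The monomial group as a set of pairs. -/
abbrev MonoGroup : Type :=
  {f : Equiv.Perm ArrayPt × (ArrayPt → (ZMod 3)ˣ) //
    ∀ x ∈ ternaryGolayCode, monomialMap f.1 f.2 x ∈ ternaryGolayCode}

/-- The monomial group is in bijection with pairs (automorphism of the hexads, sign). -/
noncomputable def monoEquiv : MonoGroup ≃ AutH × (ZMod 3)ˣ where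
  toFun f := (⟨f.1.1, mem_AutH_of_isAuto f.2⟩,
    f.1.2 (pt 0) * (sgnOf ⟨f.1.1, mem_AutH_of_isAuto f.2⟩ (pt 0))⁻¹)
  invFun g := ⟨(g.1.1, fun p => g.2 * sgnOf g.1 p), isAuto_scale (sgnOf_spec g.1) g.2⟩
  left_inv := by
    rintro ⟨⟨σ, c⟩, h⟩
    apply Subtype.ext
    simp only
    refine Prod.ext rfl ?_
    simp only
    funext p
    rcases isAuto_ratio (sgnOf_spec ⟨σ, mem_AutH_of_isAuto h⟩) h with h1 | h1
    · have h2 : ∀ p, c p = sgnOf ⟨σ, mem_AutH_of_isAuto h⟩ p := h1
      rw [h2 (pt 0), h2 p, mul_inv_cancel, one_mul]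
    · have h2 : ∀ p, c p = -sgnOf ⟨σ, mem_AutH_of_isAuto h⟩ p := h1
      rw [h2 (pt 0), h2 p, neg_mul, mul_inv_cancel, neg_one_mul]
  right_inv := by
    rintro ⟨σ, ε⟩
    refine Prod.ext rfl ?_
    simp only
    rw [mul_inv_cancel_right]

theorem card_units : Nat.card (ZMod 3)ˣ = 2 := by
  rw [Nat.card_eq_fintype_card]
  decide

theorem card_monoGroup : Nat.card MonoGroup = 190080 := by
  rw [Nat.card_congr monoEquiv, Nat.card_prod, card_AutH, card_units]

end TGA
end Cfsg.Agent.Lib.H28
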