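import Mathlib
import Cfsg.Agent.S1592
import Cfsg.Agent.S1593

set_option autoImplicit false

namespace Cfsg.Agent.Lib.H28
namespace TGA

open Cfsg Cfsg.Agent.Lib.H8.TG

/-- Linear index of a position of the 4 × 3 array. -/
def ix (p : ArrayPt) : Nat := 3 * p.1.val + ZMod.val p.2

/-- The position with a given linear index. -/
def pt (k : Nat) : ArrayPt := (⟨k / 3 % 4, Nat.mod_lt _ (by decide)⟩, ((k % 3 : ℕ) : ZMod 3))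

def chainPerm : List (List Nat) :=
  [[0, 1, 2, 3, 4, 5, 6, 7, 8, 9, 10, 11],
  [1, 0, 2, 3, 4, 5, 11, 9, 10, 7, 8, 6],
  [2, 0, 1, 3, 4, 5, 8, 6, 7, 10, 11, 9],
  [3, 0, 1, 2, 4, 5, 10, 7, 6, 8, 9, 11],
  [4, 0, 1, 2, 3, 5, 6, 9, 10, 11, 7, 8],
  [5, 0, 1, 2, 3, 4, 9, 6, 8, 7, 11, 10],
  [6, 0, 1, 2, 3, 9, 5, 4, 7, 10, 8, 11],
  [7, 0, 1, 2, 3, 11, 10, 8, 9, 4, 5, 6],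
  [8, 0, 1, 2, 3, 10, 7, 11, 4, 6, 9, 5],
  [9, 0, 1, 2, 3, 6, 4, 5, 11, 8, 10, 7],
  [10, 0, 1, 2, 3, 8, 11, 7, 5, 9, 6, 4],
  [11, 0, 1, 2, 3, 7, 8, 10, 6, 5, 4, 9],
  [0, 1, 2, 3, 4, 5, 6, 7, 8, 9, 10, 11],
  [0, 1, 2, 3, 4, 5, 6, 7, 8, 9, 10, 11],
  [0, 2, 1, 3, 4, 5, 9, 10, 11, 6, 7, 8],
  [0, 3, 1, 2, 4, 5, 11, 8, 9, 7, 6, 10],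
  [0, 4, 1, 2, 3, 5, 8, 11, 7, 9, 10, 6],
  [0, 5, 1, 2, 3, 4, 10, 7, 11, 6, 8, 9],
  [0, 6, 1, 2, 3, 9, 11, 10, 8, 4, 7, 5],
  [0, 7, 1, 2, 3, 11, 6, 4, 5, 8, 9, 10],
  [0, 8, 1, 2, 3, 10, 5, 6, 9, 11, 4, 7],
  [0, 9, 1, 2, 3, 6, 7, 8, 10, 5, 11, 4],
  [0, 10, 1, 2, 3, 8, 4, 9, 6, 7, 5, 11],
  [0, 11, 1, 2, 3, 7, 9, 5, 4, 10, 6, 8],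
  [0, 1, 2, 3, 4, 5, 6, 7, 8, 9, 10, 11],
  [0, 1, 2, 3, 4, 5, 6, 7, 8, 9, 10, 11],
  [0, 1, 2, 3, 4, 5, 6, 7, 8, 9, 10, 11],
  [0, 1, 3, 2, 4, 5, 7, 6, 10, 11, 8, 9],
  [0, 1, 4, 2, 3, 5, 9, 10, 6, 8, 11, 7],
  [0, 1, 5, 2, 3, 4, 6, 8, 9, 10, 7, 11],
  [0, 1, 6, 2, 3, 9, 4, 7, 5, 11, 10, 8],
  [0, 1, 7, 2, 3, 11, 8, 9, 10, 6, 4, 5],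
  [0, 1, 8, 2, 3, 10, 11, 4, 7, 5, 6, 9],
  [0, 1, 9, 2, 3, 6, 5, 11, 4, 7, 8, 10],
  [0, 1, 10, 2, 3, 8, 7, 5, 11, 4, 9, 6],
  [0, 1, 11, 2, 3, 7, 10, 6, 8, 9, 5, 4],
  [0, 1, 2, 3, 4, 5, 6, 7, 8, 9, 10, 11],
  [0, 1, 2, 3, 4, 5, 6, 7, 8, 9, 10, 11],
  [0, 1, 2, 3, 4, 5, 6, 7, 8, 9, 10, 11],
  [0, 1, 2, 3, 4, 5, 6, 7, 8, 9, 10, 11],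
  [0, 1, 2, 4, 3, 5, 10, 9, 11, 7, 6, 8],
  [0, 1, 2, 5, 3, 4, 8, 6, 7, 11, 9, 10],
  [0, 1, 2, 6, 3, 9, 7, 4, 10, 8, 5, 11],
  [0, 1, 2, 7, 3, 11, 9, 8, 4, 5, 10, 6],
  [0, 1, 2, 8, 3, 10, 4, 11, 6, 9, 7, 5],
  [0, 1, 2, 9, 3, 6, 11, 5, 8, 10, 4, 7],
  [0, 1, 2, 10, 3, 8, 5, 7, 9, 6, 11, 4],
  [0, 1, 2, 11, 3, 7, 6, 10, 5, 4, 8, 9],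
  [0, 1, 2, 3, 4, 5, 6, 7, 8, 9, 10, 11],
  [0, 1, 2, 3, 4, 5, 6, 7, 8, 9, 10, 11],
  [0, 1, 2, 3, 4, 5, 6, 7, 8, 9, 10, 11],
  [0, 1, 2, 3, 4, 5, 6, 7, 8, 9, 10, 11],
  [0, 1, 2, 3, 4, 5, 6, 7, 8, 9, 10, 11],
  [0, 1, 2, 3, 5, 4, 9, 11, 10, 6, 8, 7],
  [0, 1, 2, 3, 6, 9, 5, 8, 11, 4, 7, 10],
  [0, 1, 2, 3, 7, 11, 10, 5, 6, 8, 9, 4],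
  [0, 1, 2, 3, 8, 10, 7, 9, 5, 11, 4, 6],
  [0, 1, 2, 3, 9, 6, 4, 10, 7, 5, 11, 8],
  [0, 1, 2, 3, 10, 8, 11, 6, 4, 7, 5, 9],
  [0, 1, 2, 3, 11, 7, 8, 4, 9, 10, 6, 5]]

def chainInv : List (List Nat) :=
  [[0, 1, 2, 3, 4, 5, 6, 7, 8, 9, 10, 11],
  [1, 0, 2, 3, 4, 5, 11, 9, 10, 7, 8, 6],
  [1, 2, 0, 3, 4, 5, 7, 8, 6, 11, 9, 10],
  [1, 2, 3, 0, 4, 5, 8, 7, 9, 10, 6, 11],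
  [1, 2, 3, 4, 0, 5, 6, 10, 11, 7, 8, 9],
  [1, 2, 3, 4, 5, 0, 7, 9, 8, 6, 11, 10],
  [1, 2, 3, 4, 7, 6, 0, 8, 10, 5, 9, 11],
  [1, 2, 3, 4, 9, 10, 11, 0, 7, 8, 6, 5],
  [1, 2, 3, 4, 8, 11, 9, 6, 0, 10, 5, 7],
  [1, 2, 3, 4, 6, 7, 5, 11, 9, 0, 10, 8],
  [1, 2, 3, 4, 11, 8, 10, 7, 5, 9, 0, 6],
  [1, 2, 3, 4, 10, 9, 8, 5, 6, 11, 7, 0],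
  [0, 1, 2, 3, 4, 5, 6, 7, 8, 9, 10, 11],
  [0, 1, 2, 3, 4, 5, 6, 7, 8, 9, 10, 11],
  [0, 2, 1, 3, 4, 5, 9, 10, 11, 6, 7, 8],
  [0, 2, 3, 1, 4, 5, 10, 9, 7, 8, 11, 6],
  [0, 2, 3, 4, 1, 5, 11, 8, 6, 9, 10, 7],
  [0, 2, 3, 4, 5, 1, 9, 7, 10, 11, 6, 8],
  [0, 2, 3, 4, 9, 11, 1, 10, 8, 5, 7, 6],
  [0, 2, 3, 4, 7, 8, 6, 1, 9, 10, 11, 5],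
  [0, 2, 3, 4, 10, 6, 7, 11, 1, 8, 5, 9],
  [0, 2, 3, 4, 11, 9, 5, 6, 7, 1, 8, 10],
  [0, 2, 3, 4, 6, 10, 8, 9, 5, 7, 1, 11],
  [0, 2, 3, 4, 8, 7, 10, 5, 11, 6, 9, 1],
  [0, 1, 2, 3, 4, 5, 6, 7, 8, 9, 10, 11],
  [0, 1, 2, 3, 4, 5, 6, 7, 8, 9, 10, 11],
  [0, 1, 2, 3, 4, 5, 6, 7, 8, 9, 10, 11],
  [0, 1, 3, 2, 4, 5, 7, 6, 10, 11, 8, 9],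
  [0, 1, 3, 4, 2, 5, 8, 11, 9, 6, 7, 10],
  [0, 1, 3, 4, 5, 2, 6, 10, 7, 8, 9, 11],
  [0, 1, 3, 4, 6, 8, 2, 7, 11, 5, 10, 9],
  [0, 1, 3, 4, 10, 11, 9, 2, 6, 7, 8, 5],
  [0, 1, 3, 4, 7, 9, 10, 8, 2, 11, 5, 6],
  [0, 1, 3, 4, 8, 6, 5, 9, 10, 2, 11, 7],
  [0, 1, 3, 4, 9, 7, 11, 6, 5, 10, 2, 8],
  [0, 1, 3, 4, 11, 10, 7, 5, 8, 9, 6, 2],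
  [0, 1, 2, 3, 4, 5, 6, 7, 8, 9, 10, 11],
  [0, 1, 2, 3, 4, 5, 6, 7, 8, 9, 10, 11],
  [0, 1, 2, 3, 4, 5, 6, 7, 8, 9, 10, 11],
  [0, 1, 2, 3, 4, 5, 6, 7, 8, 9, 10, 11],
  [0, 1, 2, 4, 3, 5, 10, 9, 11, 7, 6, 8],
  [0, 1, 2, 4, 5, 3, 7, 8, 6, 10, 11, 9],
  [0, 1, 2, 4, 7, 10, 3, 6, 9, 5, 8, 11],
  [0, 1, 2, 4, 8, 9, 11, 3, 7, 6, 10, 5],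
  [0, 1, 2, 4, 6, 11, 8, 10, 3, 9, 5, 7],
  [0, 1, 2, 4, 10, 7, 5, 11, 8, 3, 9, 6],
  [0, 1, 2, 4, 11, 6, 9, 7, 5, 8, 3, 10],
  [0, 1, 2, 4, 9, 8, 6, 5, 10, 11, 7, 3],
  [0, 1, 2, 3, 4, 5, 6, 7, 8, 9, 10, 11],
  [0, 1, 2, 3, 4, 5, 6, 7, 8, 9, 10, 11],
  [0, 1, 2, 3, 4, 5, 6, 7, 8, 9, 10, 11],
  [0, 1, 2, 3, 4, 5, 6, 7, 8, 9, 10, 11],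
  [0, 1, 2, 3, 4, 5, 6, 7, 8, 9, 10, 11],
  [0, 1, 2, 3, 5, 4, 9, 11, 10, 6, 8, 7],
  [0, 1, 2, 3, 9, 6, 4, 10, 7, 5, 11, 8],
  [0, 1, 2, 3, 11, 7, 8, 4, 9, 10, 6, 5],
  [0, 1, 2, 3, 10, 8, 11, 6, 4, 7, 5, 9],
  [0, 1, 2, 3, 6, 9, 5, 8, 11, 4, 7, 10],
  [0, 1, 2, 3, 8, 10, 7, 9, 5, 11, 4, 6],
  [0, 1, 2, 3, 7, 11, 10, 5, 6, 8, 9, 4]]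

def chainSgn : List (List Nat) :=
  [[1, 1, 1, 1, 1, 1, 1, 1, 1, 1, 1, 1],
  [1, 1, 1, 1, 1, 1, 1, 1, 1, 1, 1, 1],
  [1, 1, 1, 1, 1, 1, 1, 1, 1, 1, 1, 1],
  [1, 1, 2, 2, 1, 1, 2, 2, 1, 2, 1, 2],
  [1, 1, 2, 1, 2, 1, 1, 2, 2, 2, 2, 1],
  [1, 1, 2, 1, 1, 2, 2, 1, 2, 1, 2, 2],
  [1, 2, 1, 1, 2, 1, 2, 2, 2, 1, 1, 2],
  [1, 2, 2, 2, 2, 1, 1, 1, 1, 1, 2, 2],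
  [1, 1, 1, 2, 1, 1, 2, 2, 1, 1, 2, 1],
  [1, 2, 1, 1, 1, 2, 1, 2, 1, 2, 2, 2],
  [1, 1, 1, 2, 1, 1, 1, 1, 2, 2, 1, 2],
  [1, 2, 2, 2, 1, 2, 1, 2, 2, 1, 1, 1],
  [1, 1, 1, 1, 1, 1, 1, 1, 1, 1, 1, 1],
  [1, 1, 1, 1, 1, 1, 1, 1, 1, 1, 1, 1],
  [1, 1, 1, 1, 1, 1, 1, 1, 1, 1, 1, 1],
  [1, 1, 2, 2, 1, 1, 2, 2, 1, 2, 1, 2],
  [1, 1, 2, 1, 2, 1, 1, 2, 2, 2, 2, 1],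
  [1, 1, 2, 1, 1, 2, 2, 1, 2, 1, 2, 2],
  [1, 2, 1, 1, 2, 1, 2, 2, 2, 1, 1, 2],
  [1, 2, 2, 2, 2, 1, 1, 1, 1, 1, 2, 2],
  [1, 1, 1, 2, 1, 1, 2, 2, 1, 1, 2, 1],
  [1, 2, 1, 1, 1, 2, 1, 2, 1, 2, 2, 2],
  [1, 1, 1, 2, 1, 1, 1, 1, 2, 2, 1, 2],
  [1, 2, 2, 2, 1, 2, 1, 2, 2, 1, 1, 1],
  [1, 1, 1, 1, 1, 1, 1, 1, 1, 1, 1, 1],
  [1, 1, 1, 1, 1, 1, 1, 1, 1, 1, 1, 1],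
  [1, 1, 1, 1, 1, 1, 1, 1, 1, 1, 1, 1],
  [1, 1, 2, 2, 1, 1, 2, 2, 1, 2, 1, 2],
  [1, 1, 2, 1, 2, 1, 1, 2, 2, 2, 2, 1],
  [1, 1, 2, 1, 1, 2, 2, 1, 2, 1, 2, 2],
  [1, 2, 1, 1, 2, 1, 2, 2, 2, 1, 1, 2],
  [1, 2, 2, 2, 2, 1, 1, 1, 1, 1, 2, 2],
  [1, 1, 1, 2, 1, 1, 2, 2, 1, 1, 2, 1],
  [1, 2, 1, 1, 1, 2, 1, 2, 1, 2, 2, 2],
  [1, 1, 1, 2, 1, 1, 1, 1, 2, 2, 1, 2],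
  [1, 2, 2, 2, 1, 2, 1, 2, 2, 1, 1, 1],
  [1, 1, 1, 1, 1, 1, 1, 1, 1, 1, 1, 1],
  [1, 1, 1, 1, 1, 1, 1, 1, 1, 1, 1, 1],
  [1, 1, 1, 1, 1, 1, 1, 1, 1, 1, 1, 1],
  [1, 1, 1, 1, 1, 1, 1, 1, 1, 1, 1, 1],
  [1, 1, 1, 1, 1, 1, 1, 1, 1, 1, 1, 1],
  [1, 1, 1, 1, 1, 1, 1, 1, 1, 1, 1, 1],
  [1, 2, 2, 1, 1, 1, 1, 1, 1, 1, 1, 1],
  [1, 2, 1, 2, 2, 2, 2, 2, 2, 2, 2, 2],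
  [1, 1, 2, 2, 2, 2, 2, 2, 2, 2, 2, 2],
  [1, 2, 2, 1, 1, 1, 1, 1, 1, 1, 1, 1],
  [1, 1, 2, 2, 2, 2, 2, 2, 2, 2, 2, 2],
  [1, 2, 1, 2, 2, 2, 2, 2, 2, 2, 2, 2],
  [1, 1, 1, 1, 1, 1, 1, 1, 1, 1, 1, 1],
  [1, 1, 1, 1, 1, 1, 1, 1, 1, 1, 1, 1],
  [1, 1, 1, 1, 1, 1, 1, 1, 1, 1, 1, 1],
  [1, 1, 1, 1, 1, 1, 1, 1, 1, 1, 1, 1],
  [1, 1, 1, 1, 1, 1, 1, 1, 1, 1, 1, 1],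
  [1, 1, 1, 1, 1, 1, 1, 1, 1, 1, 1, 1],
  [1, 2, 2, 1, 1, 1, 1, 1, 1, 1, 1, 1],
  [1, 2, 1, 2, 2, 2, 2, 2, 2, 2, 2, 2],
  [1, 1, 2, 2, 2, 2, 2, 2, 2, 2, 2, 2],
  [1, 2, 2, 1, 1, 1, 1, 1, 1, 1, 1, 1],
  [1, 1, 2, 2, 2, 2, 2, 2, 2, 2, 2, 2],
  [1, 2, 1, 2, 2, 2, 2, 2, 2, 2, 2, 2]]

def witZ : List Nat := [0, 0, 0, 0, 0, 0, 0, 0, 0, 0, 0, 0, 0, 0, 0, 0, 0, 0, 0, 0, 0, 0, 0, 0, 0, 0, 0, 0, 0, 0, 0, 0, 0, 0, 0, 0, 0, 0, 0, 0, 0, 0, 0, 0, 0, 0, 0, 0, 0, 0, 0, 0, 0, 0, 0, 0, 0, 0, 0, 0, 0, 0, 0, 0, 0, 0, 0, 0, 0, 0, 0, 0, 0, 0, 0, 0, 0, 0, 0, 8, 10, 8, 8, 8, 0, 0, 0, 0, 0, 0, 10, 0, 10, 10, 8, 10, 0, 0, 0, 0, 0, 0, 9, 9, 0, 10, 9, 9, 0, 0, 0, 0, 0, 0, 8, 8, 11, 0,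 8, 8, 0, 0, 0, 0, 0, 0, 8, 8, 7, 8, 0, 8, 0, 0, 0, 0, 0, 0, 9, 9, 9, 8, 9, 0]

def witT1 : List T :=
  [(0, 0, 0, 0, 0, 0),
  (0, 0, 0, 0, 0, 0),
  (0, 0, 0, 0, 0, 0),
  (0, 0, 0, 0, 0, 0),
  (0, 0, 0, 0, 0, 0),
  (0, 0, 0, 0, 0, 0),
  (0, 0, 0, 0, 0, 0),
  (0, 0, 0, 0, 0, 0),
  (0, 0, 0, 0, 0, 0),
  (0, 0, 0, 0, 0, 0),
  (0, 0, 0, 0, 0, 0),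
  (0, 0, 0, 0, 0, 0),
  (0, 0, 0, 0, 0, 0),
  (0, 0, 0, 0, 0, 0),
  (0, 0, 0, 0, 0, 0),
  (0, 0, 0, 0, 0, 0),
  (0, 0, 0, 0, 0, 0),
  (0, 0, 0, 0, 0, 0),
  (0, 0, 0, 0, 0, 0),
  (0, 0, 0, 0, 0, 0),
  (0, 0, 0, 0, 0, 0),
  (0, 0, 0, 0, 0, 0),
  (0, 0, 0, 0, 0, 0),
  (0, 0, 0, 0, 0, 0),
  (0, 0, 0, 0, 0, 0),
  (0, 0, 0, 0, 0, 0),
  (0, 0, 0, 0, 0, 0),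
  (0, 0, 0, 0, 0, 0),
  (0, 0, 0, 0, 0, 0),
  (0, 0, 0, 0, 0, 0),
  (0, 0, 0, 0, 0, 0),
  (0, 0, 0, 0, 0, 0),
  (0, 0, 0, 0, 0, 0),
  (0, 0, 0, 0, 0, 0),
  (0, 0, 0, 0, 0, 0),
  (0, 0, 0, 0, 0, 0),
  (0, 0, 0, 0, 0, 0),
  (0, 0, 0, 0, 0, 0),
  (0, 0, 0, 0, 0, 0),
  (0, 0, 0, 0, 0, 0),
  (0, 0, 0, 0, 0, 0),
  (0, 0, 0, 0, 0, 0),
  (0, 0, 0, 0, 0, 0),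
  (0, 0, 0, 0, 0, 0),
  (0, 0, 0, 0, 0, 0),
  (0, 0, 0, 0, 0, 0),
  (0, 0, 0, 0, 0, 0),
  (0, 0, 0, 0, 0, 0),
  (0, 0, 0, 0, 0, 0),
  (0, 0, 0, 0, 0, 0),
  (0, 0, 0, 0, 0, 0),
  (0, 0, 0, 0, 0, 0),
  (0, 0, 0, 0, 0, 0),
  (0, 0, 0, 0, 0, 0),
  (0, 0, 0, 0, 0, 0),
  (0, 0, 0, 0, 0, 0),
  (0, 0, 0, 0, 0, 0),
  (0, 0, 0, 0, 0, 0),
  (0, 0, 0, 0, 0, 0),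
  (0, 0, 0, 0, 0, 0),
  (0, 0, 0, 0, 0, 0),
  (0, 0, 0, 0, 0, 0),
  (0, 0, 0, 0, 0, 0),
  (0, 0, 0, 0, 0, 0),
  (0, 0, 0, 0, 0, 0),
  (0, 0, 0, 0, 0, 0),
  (0, 0, 0, 0, 0, 0),
  (0, 0, 0, 0, 0, 0),
  (0, 0, 0, 0, 0, 0),
  (0, 0, 0, 0, 0, 0),
  (0, 0, 0, 0, 0, 0),
  (0, 0, 0, 0, 0, 0),
  (0, 0, 0, 0, 0, 0),
  (0, 0, 0, 0, 0, 0),
  (0, 0, 0, 0, 0, 0),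
  (0, 0, 0, 0, 0, 0),
  (0, 0, 0, 0, 0, 0),
  (0, 0, 0, 0, 0, 0),
  (0, 0, 0, 0, 0, 0),
  (0, 1, 2, 2, 0, 1),
  (1, 2, 1, 0, 0, 1),
  (0, 1, 2, 2, 0, 1),
  (0, 1, 2, 2, 0, 1),
  (0, 1, 2, 2, 0, 1),
  (0, 0, 0, 0, 0, 0),
  (0, 0, 0, 0, 0, 0),
  (0, 0, 0, 0, 0, 0),
  (0, 0, 0, 0, 0, 0),
  (0, 0, 0, 0, 0, 0),
  (0, 0, 0, 0, 0, 0),
  (1, 0, 0, 1, 2, 0),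
  (0, 0, 0, 0, 0, 0),
  (1, 0, 0, 1, 2, 0),
  (1, 0, 0, 1, 2, 0),
  (1, 2, 0, 2, 0, 0),
  (1, 0, 0, 1, 2, 0),
  (0, 0, 0, 0, 0, 0),
  (0, 0, 0, 0, 0, 0),
  (0, 0, 0, 0, 0, 0),
  (0, 0, 0, 0, 0, 0),
  (0, 0, 0, 0, 0, 0),
  (0, 0, 0, 0, 0, 0),
  (0, 1, 0, 1, 2, 0),
  (0, 1, 0, 1, 2, 0),
  (0, 0, 0, 0, 0, 0),
  (0, 0, 1, 2, 1, 0),
  (0, 1, 0, 1, 2, 0),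
  (0, 1, 0, 1, 2, 0),
  (0, 0, 0, 0, 0, 0),
  (0, 0, 0, 0, 0, 0),
  (0, 0, 0, 0, 0, 0),
  (0, 0, 0, 0, 0, 0),
  (0, 0, 0, 0, 0, 0),
  (0, 0, 0, 0, 0, 0),
  (0, 1, 0, 1, 2, 0),
  (0, 1, 0, 1, 2, 0),
  (1, 0, 2, 1, 2, 0),
  (0, 0, 0, 0, 0, 0),
  (0, 1, 0, 1, 2, 0),
  (0, 1, 0, 1, 2, 0),
  (0, 0, 0, 0, 0, 0),
  (0, 0, 0, 0, 0, 0),
  (0, 0, 0, 0, 0, 0),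
  (0, 0, 0, 0, 0, 0),
  (0, 0, 0, 0, 0, 0),
  (0, 0, 0, 0, 0, 0),
  (0, 0, 1, 2, 1, 0),
  (0, 0, 1, 2, 1, 0),
  (1, 0, 0, 1, 2, 0),
  (0, 0, 1, 2, 1, 0),
  (0, 0, 0, 0, 0, 0),
  (0, 0, 1, 2, 1, 0),
  (0, 0, 0, 0, 0, 0),
  (0, 0, 0, 0, 0, 0),
  (0, 0, 0, 0, 0, 0),
  (0, 0, 0, 0, 0, 0),
  (0, 0, 0, 0, 0, 0),
  (0, 0, 0, 0, 0, 0),
  (1, 0, 2, 1, 2, 0),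
  (1, 0, 2, 1, 2, 0),
  (1, 0, 2, 1, 2, 0),
  (1, 2, 2, 0, 0, 0),
  (1, 0, 2, 1, 2, 0),
  (0, 0, 0, 0, 0, 0)]

def witT2 : List T :=
  [(0, 0, 0, 0, 0, 0),
  (0, 0, 0, 0, 0, 0),
  (0, 0, 0, 0, 0, 0),
  (0, 0, 0, 0, 0, 0),
  (0, 0, 0, 0, 0, 0),
  (0, 0, 0, 0, 0, 0),
  (0, 0, 0, 0, 0, 0),
  (0, 0, 0, 0, 0, 0),
  (0, 0, 0, 0, 0, 0),
  (0, 0, 0, 0, 0, 0),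
  (0, 0, 0, 0, 0, 0),
  (0, 0, 0, 0, 0, 0),
  (0, 0, 0, 0, 0, 0),
  (0, 0, 0, 0, 0, 0),
  (0, 0, 0, 0, 0, 0),
  (0, 0, 0, 0, 0, 0),
  (0, 0, 0, 0, 0, 0),
  (0, 0, 0, 0, 0, 0),
  (0, 0, 0, 0, 0, 0),
  (0, 0, 0, 0, 0, 0),
  (0, 0, 0, 0, 0, 0),
  (0, 0, 0, 0, 0, 0),
  (0, 0, 0, 0, 0, 0),
  (0, 0, 0, 0, 0, 0),
  (0, 0, 0, 0, 0, 0),
  (0, 0, 0, 0, 0, 0),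
  (0, 0, 0, 0, 0, 0),
  (0, 0, 0, 0, 0, 0),
  (0, 0, 0, 0, 0, 0),
  (0, 0, 0, 0, 0, 0),
  (0, 0, 0, 0, 0, 0),
  (0, 0, 0, 0, 0, 0),
  (0, 0, 0, 0, 0, 0),
  (0, 0, 0, 0, 0, 0),
  (0, 0, 0, 0, 0, 0),
  (0, 0, 0, 0, 0, 0),
  (0, 0, 0, 0, 0, 0),
  (0, 0, 0, 0, 0, 0),
  (0, 0, 0, 0, 0, 0),
  (0, 0, 0, 0, 0, 0),
  (0, 0, 0, 0, 0, 0),
  (0, 0, 0, 0, 0, 0),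
  (0, 0, 0, 0, 0, 0),
  (0, 0, 0, 0, 0, 0),
  (0, 0, 0, 0, 0, 0),
  (0, 0, 0, 0, 0, 0),
  (0, 0, 0, 0, 0, 0),
  (0, 0, 0, 0, 0, 0),
  (0, 0, 0, 0, 0, 0),
  (0, 0, 0, 0, 0, 0),
  (0, 0, 0, 0, 0, 0),
  (0, 0, 0, 0, 0, 0),
  (0, 0, 0, 0, 0, 0),
  (0, 0, 0, 0, 0, 0),
  (0, 0, 0, 0, 0, 0),
  (0, 0, 0, 0, 0, 0),
  (0, 0, 0, 0, 0, 0),
  (0, 0, 0, 0, 0, 0),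
  (0, 0, 0, 0, 0, 0),
  (0, 0, 0, 0, 0, 0),
  (0, 0, 0, 0, 0, 0),
  (0, 0, 0, 0, 0, 0),
  (0, 0, 0, 0, 0, 0),
  (0, 0, 0, 0, 0, 0),
  (0, 0, 0, 0, 0, 0),
  (0, 0, 0, 0, 0, 0),
  (0, 0, 0, 0, 0, 0),
  (0, 0, 0, 0, 0, 0),
  (0, 0, 0, 0, 0, 0),
  (0, 0, 0, 0, 0, 0),
  (0, 0, 0, 0, 0, 0),
  (0, 0, 0, 0, 0, 0),
  (0, 0, 0, 0, 0, 0),
  (0, 0, 0, 0, 0, 0),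
  (0, 0, 0, 0, 0, 0),
  (0, 0, 0, 0, 0, 0),
  (0, 0, 0, 0, 0, 0),
  (0, 0, 0, 0, 0, 0),
  (0, 0, 0, 0, 0, 0),
  (1, 0, 2, 0, 2, 2),
  (1, 0, 1, 1, 1, 2),
  (1, 0, 2, 0, 2, 2),
  (1, 0, 2, 0, 2, 2),
  (1, 0, 2, 0, 2, 2),
  (0, 0, 0, 0, 0, 0),
  (0, 0, 0, 0, 0, 0),
  (0, 0, 0, 0, 0, 0),
  (0, 0, 0, 0, 0, 0),
  (0, 0, 0, 0, 0, 0),
  (0, 0, 0, 0, 0, 0),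
  (1, 2, 2, 0, 2, 0),
  (0, 0, 0, 0, 0, 0),
  (1, 2, 2, 0, 2, 0),
  (1, 2, 2, 0, 2, 0),
  (0, 1, 2, 0, 1, 0),
  (1, 2, 2, 0, 2, 0),
  (0, 0, 0, 0, 0, 0),
  (0, 0, 0, 0, 0, 0),
  (0, 0, 0, 0, 0, 0),
  (0, 0, 0, 0, 0, 0),
  (0, 0, 0, 0, 0, 0),
  (0, 0, 0, 0, 0, 0),
  (1, 0, 1, 1, 0, 0),
  (1, 0, 1, 1, 0, 0),
  (0, 0, 0, 0, 0, 0),
  (1, 1, 2, 1, 0, 0),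
  (1, 0, 1, 1, 0, 0),
  (1, 0, 1, 1, 0, 0),
  (0, 0, 0, 0, 0, 0),
  (0, 0, 0, 0, 0, 0),
  (0, 0, 0, 0, 0, 0),
  (0, 0, 0, 0, 0, 0),
  (0, 0, 0, 0, 0, 0),
  (0, 0, 0, 0, 0, 0),
  (1, 0, 1, 1, 0, 0),
  (1, 0, 1, 1, 0, 0),
  (1, 2, 0, 0, 2, 0),
  (0, 0, 0, 0, 0, 0),
  (1, 0, 1, 1, 0, 0),
  (1, 0, 1, 1, 0, 0),
  (0, 0, 0, 0, 0, 0),
  (0, 0, 0, 0, 0, 0),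
  (0, 0, 0, 0, 0, 0),
  (0, 0, 0, 0, 0, 0),
  (0, 0, 0, 0, 0, 0),
  (0, 0, 0, 0, 0, 0),
  (1, 1, 2, 1, 0, 0),
  (1, 1, 2, 1, 0, 0),
  (1, 2, 2, 0, 2, 0),
  (1, 1, 2, 1, 0, 0),
  (0, 0, 0, 0, 0, 0),
  (1, 1, 2, 1, 0, 0),
  (0, 0, 0, 0, 0, 0),
  (0, 0, 0, 0, 0, 0),
  (0, 0, 0, 0, 0, 0),
  (0, 0, 0, 0, 0, 0),
  (0, 0, 0, 0, 0, 0),
  (0, 0, 0, 0, 0, 0),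
  (1, 2, 0, 0, 2, 0),
  (1, 2, 0, 0, 2, 0),
  (1, 2, 0, 0, 2, 0),
  (0, 1, 1, 1, 1, 0),
  (1, 2, 0, 0, 2, 0),
  (0, 0, 0, 0, 0, 0)]

def witT3 : List T :=
  [(0, 0, 0, 0, 0, 0),
  (0, 0, 0, 0, 0, 0),
  (0, 0, 0, 0, 0, 0),
  (0, 0, 0, 0, 0, 0),
  (0, 0, 0, 0, 0, 0),
  (0, 0, 0, 0, 0, 0),
  (0, 0, 0, 0, 0, 0),
  (0, 0, 0, 0, 0, 0),
  (0, 0, 0, 0, 0, 0),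
  (0, 0, 0, 0, 0, 0),
  (0, 0, 0, 0, 0, 0),
  (0, 0, 0, 0, 0, 0),
  (0, 0, 0, 0, 0, 0),
  (0, 0, 0, 0, 0, 0),
  (0, 0, 0, 0, 0, 0),
  (0, 0, 0, 0, 0, 0),
  (0, 0, 0, 0, 0, 0),
  (0, 0, 0, 0, 0, 0),
  (0, 0, 0, 0, 0, 0),
  (0, 0, 0, 0, 0, 0),
  (0, 0, 0, 0, 0, 0),
  (0, 0, 0, 0, 0, 0),
  (0, 0, 0, 0, 0, 0),
  (0, 0, 0, 0, 0, 0),
  (0, 0, 0, 0, 0, 0),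
  (0, 0, 0, 0, 0, 0),
  (0, 0, 0, 0, 0, 0),
  (0, 0, 0, 0, 0, 0),
  (0, 0, 0, 0, 0, 0),
  (0, 0, 0, 0, 0, 0),
  (0, 0, 0, 0, 0, 0),
  (0, 0, 0, 0, 0, 0),
  (0, 0, 0, 0, 0, 0),
  (0, 0, 0, 0, 0, 0),
  (0, 0, 0, 0, 0, 0),
  (0, 0, 0, 0, 0, 0),
  (0, 0, 0, 0, 0, 0),
  (0, 0, 0, 0, 0, 0),
  (0, 0, 0, 0, 0, 0),
  (0, 0, 0, 0, 0, 0),
  (0, 0, 0, 0, 0, 0),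
  (0, 0, 0, 0, 0, 0),
  (0, 0, 0, 0, 0, 0),
  (0, 0, 0, 0, 0, 0),
  (0, 0, 0, 0, 0, 0),
  (0, 0, 0, 0, 0, 0),
  (0, 0, 0, 0, 0, 0),
  (0, 0, 0, 0, 0, 0),
  (0, 0, 0, 0, 0, 0),
  (0, 0, 0, 0, 0, 0),
  (0, 0, 0, 0, 0, 0),
  (0, 0, 0, 0, 0, 0),
  (0, 0, 0, 0, 0, 0),
  (0, 0, 0, 0, 0, 0),
  (0, 0, 0, 0, 0, 0),
  (0, 0, 0, 0, 0, 0),
  (0, 0, 0, 0, 0, 0),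
  (0, 0, 0, 0, 0, 0),
  (0, 0, 0, 0, 0, 0),
  (0, 0, 0, 0, 0, 0),
  (0, 0, 0, 0, 0, 0),
  (0, 0, 0, 0, 0, 0),
  (0, 0, 0, 0, 0, 0),
  (0, 0, 0, 0, 0, 0),
  (0, 0, 0, 0, 0, 0),
  (0, 0, 0, 0, 0, 0),
  (0, 0, 0, 0, 0, 0),
  (0, 0, 0, 0, 0, 0),
  (0, 0, 0, 0, 0, 0),
  (0, 0, 0, 0, 0, 0),
  (0, 0, 0, 0, 0, 0),
  (0, 0, 0, 0, 0, 0),
  (0, 0, 0, 0, 0, 0),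
  (0, 0, 0, 0, 0, 0),
  (0, 0, 0, 0, 0, 0),
  (0, 0, 0, 0, 0, 0),
  (0, 0, 0, 0, 0, 0),
  (0, 0, 0, 0, 0, 0),
  (0, 0, 0, 0, 0, 0),
  (0, 1, 1, 1, 0, 0),
  (1, 2, 2, 0, 0, 0),
  (0, 1, 2, 1, 0, 0),
  (0, 1, 1, 1, 0, 0),
  (0, 1, 2, 1, 0, 0),
  (0, 0, 0, 0, 0, 0),
  (0, 0, 0, 0, 0, 0),
  (0, 0, 0, 0, 0, 0),
  (0, 0, 0, 0, 0, 0),
  (0, 0, 0, 0, 0, 0),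
  (0, 0, 0, 0, 0, 0),
  (1, 0, 0, 2, 1, 1),
  (0, 0, 0, 0, 0, 0),
  (1, 0, 0, 1, 1, 0),
  (1, 0, 0, 2, 1, 1),
  (1, 2, 0, 1, 0, 0),
  (1, 0, 0, 1, 1, 0),
  (0, 0, 0, 0, 0, 0),
  (0, 0, 0, 0, 0, 0),
  (0, 0, 0, 0, 0, 0),
  (0, 0, 0, 0, 0, 0),
  (0, 0, 0, 0, 0, 0),
  (0, 0, 0, 0, 0, 0),
  (0, 1, 0, 1, 1, 1),
  (0, 1, 0, 2, 1, 0),
  (0, 0, 0, 0, 0, 0),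
  (0, 0, 1, 1, 1, 0),
  (0, 1, 0, 1, 1, 1),
  (0, 1, 0, 2, 1, 0),
  (0, 0, 0, 0, 0, 0),
  (0, 0, 0, 0, 0, 0),
  (0, 0, 0, 0, 0, 0),
  (0, 0, 0, 0, 0, 0),
  (0, 0, 0, 0, 0, 0),
  (0, 0, 0, 0, 0, 0),
  (0, 1, 0, 1, 1, 1),
  (0, 1, 0, 2, 1, 0),
  (1, 0, 2, 2, 1, 0),
  (0, 0, 0, 0, 0, 0),
  (0, 1, 0, 1, 1, 1),
  (0, 1, 0, 2, 1, 0),
  (0, 0, 0, 0, 0, 0),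
  (0, 0, 0, 0, 0, 0),
  (0, 0, 0, 0, 0, 0),
  (0, 0, 0, 0, 0, 0),
  (0, 0, 0, 0, 0, 0),
  (0, 0, 0, 0, 0, 0),
  (0, 0, 1, 1, 2, 1),
  (0, 0, 1, 1, 1, 0),
  (1, 0, 0, 1, 1, 0),
  (0, 0, 1, 1, 1, 0),
  (0, 0, 0, 0, 0, 0),
  (0, 0, 1, 1, 2, 1),
  (0, 0, 0, 0, 0, 0),
  (0, 0, 0, 0, 0, 0),
  (0, 0, 0, 0, 0, 0),
  (0, 0, 0, 0, 0, 0),
  (0, 0, 0, 0, 0, 0),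
  (0, 0, 0, 0, 0, 0),
  (1, 0, 1, 1, 1, 2),
  (1, 0, 2, 2, 1, 0),
  (1, 0, 2, 2, 1, 0),
  (1, 1, 2, 0, 0, 0),
  (1, 0, 1, 1, 1, 2),
  (0, 0, 0, 0, 0, 0)]

def witT4 : List T :=
  [(0, 0, 0, 0, 0, 0),
  (0, 0, 0, 0, 0, 0),
  (0, 0, 0, 0, 0, 0),
  (0, 0, 0, 0, 0, 0),
  (0, 0, 0, 0, 0, 0),
  (0, 0, 0, 0, 0, 0),
  (0, 0, 0, 0, 0, 0),
  (0, 0, 0, 0, 0, 0),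
  (0, 0, 0, 0, 0, 0),
  (0, 0, 0, 0, 0, 0),
  (0, 0, 0, 0, 0, 0),
  (0, 0, 0, 0, 0, 0),
  (0, 0, 0, 0, 0, 0),
  (0, 0, 0, 0, 0, 0),
  (0, 0, 0, 0, 0, 0),
  (0, 0, 0, 0, 0, 0),
  (0, 0, 0, 0, 0, 0),
  (0, 0, 0, 0, 0, 0),
  (0, 0, 0, 0, 0, 0),
  (0, 0, 0, 0, 0, 0),
  (0, 0, 0, 0, 0, 0),
  (0, 0, 0, 0, 0, 0),
  (0, 0, 0, 0, 0, 0),
  (0, 0, 0, 0, 0, 0),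
  (0, 0, 0, 0, 0, 0),
  (0, 0, 0, 0, 0, 0),
  (0, 0, 0, 0, 0, 0),
  (0, 0, 0, 0, 0, 0),
  (0, 0, 0, 0, 0, 0),
  (0, 0, 0, 0, 0, 0),
  (0, 0, 0, 0, 0, 0),
  (0, 0, 0, 0, 0, 0),
  (0, 0, 0, 0, 0, 0),
  (0, 0, 0, 0, 0, 0),
  (0, 0, 0, 0, 0, 0),
  (0, 0, 0, 0, 0, 0),
  (0, 0, 0, 0, 0, 0),
  (0, 0, 0, 0, 0, 0),
  (0, 0, 0, 0, 0, 0),
  (0, 0, 0, 0, 0, 0),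
  (0, 0, 0, 0, 0, 0),
  (0, 0, 0, 0, 0, 0),
  (0, 0, 0, 0, 0, 0),
  (0, 0, 0, 0, 0, 0),
  (0, 0, 0, 0, 0, 0),
  (0, 0, 0, 0, 0, 0),
  (0, 0, 0, 0, 0, 0),
  (0, 0, 0, 0, 0, 0),
  (0, 0, 0, 0, 0, 0),
  (0, 0, 0, 0, 0, 0),
  (0, 0, 0, 0, 0, 0),
  (0, 0, 0, 0, 0, 0),
  (0, 0, 0, 0, 0, 0),
  (0, 0, 0, 0, 0, 0),
  (0, 0, 0, 0, 0, 0),
  (0, 0, 0, 0, 0, 0),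
  (0, 0, 0, 0, 0, 0),
  (0, 0, 0, 0, 0, 0),
  (0, 0, 0, 0, 0, 0),
  (0, 0, 0, 0, 0, 0),
  (0, 0, 0, 0, 0, 0),
  (0, 0, 0, 0, 0, 0),
  (0, 0, 0, 0, 0, 0),
  (0, 0, 0, 0, 0, 0),
  (0, 0, 0, 0, 0, 0),
  (0, 0, 0, 0, 0, 0),
  (0, 0, 0, 0, 0, 0),
  (0, 0, 0, 0, 0, 0),
  (0, 0, 0, 0, 0, 0),
  (0, 0, 0, 0, 0, 0),
  (0, 0, 0, 0, 0, 0),
  (0, 0, 0, 0, 0, 0),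
  (0, 0, 0, 0, 0, 0),
  (0, 0, 0, 0, 0, 0),
  (0, 0, 0, 0, 0, 0),
  (0, 0, 0, 0, 0, 0),
  (0, 0, 0, 0, 0, 0),
  (0, 0, 0, 0, 0, 0),
  (0, 0, 0, 0, 0, 0),
  (1, 0, 1, 0, 1, 0),
  (1, 0, 2, 2, 1, 0),
  (1, 0, 2, 0, 1, 0),
  (1, 0, 2, 0, 1, 0),
  (1, 0, 1, 0, 1, 0),
  (0, 0, 0, 0, 0, 0),
  (0, 0, 0, 0, 0, 0),
  (0, 0, 0, 0, 0, 0),
  (0, 0, 0, 0, 0, 0),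
  (0, 0, 0, 0, 0, 0),
  (0, 0, 0, 0, 0, 0),
  (1, 1, 2, 0, 1, 1),
  (0, 0, 0, 0, 0, 0),
  (1, 2, 1, 0, 1, 0),
  (1, 2, 1, 0, 1, 0),
  (0, 1, 2, 0, 2, 0),
  (1, 1, 2, 0, 1, 1),
  (0, 0, 0, 0, 0, 0),
  (0, 0, 0, 0, 0, 0),
  (0, 0, 0, 0, 0, 0),
  (0, 0, 0, 0, 0, 0),
  (0, 0, 0, 0, 0, 0),
  (0, 0, 0, 0, 0, 0),
  (1, 0, 2, 1, 0, 1),
  (1, 0, 2, 1, 0, 1),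
  (0, 0, 0, 0, 0, 0),
  (1, 2, 2, 2, 0, 2),
  (1, 0, 2, 2, 0, 0),
  (1, 0, 2, 2, 0, 0),
  (0, 0, 0, 0, 0, 0),
  (0, 0, 0, 0, 0, 0),
  (0, 0, 0, 0, 0, 0),
  (0, 0, 0, 0, 0, 0),
  (0, 0, 0, 0, 0, 0),
  (0, 0, 0, 0, 0, 0),
  (1, 0, 2, 1, 0, 1),
  (1, 0, 2, 1, 0, 1),
  (1, 1, 0, 0, 1, 0),
  (0, 0, 0, 0, 0, 0),
  (1, 0, 2, 2, 0, 0),
  (1, 0, 2, 2, 0, 0),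
  (0, 0, 0, 0, 0, 0),
  (0, 0, 0, 0, 0, 0),
  (0, 0, 0, 0, 0, 0),
  (0, 0, 0, 0, 0, 0),
  (0, 0, 0, 0, 0, 0),
  (0, 0, 0, 0, 0, 0),
  (1, 2, 2, 2, 0, 2),
  (1, 2, 1, 1, 0, 0),
  (1, 2, 1, 0, 1, 0),
  (1, 2, 2, 2, 0, 2),
  (0, 0, 0, 0, 0, 0),
  (1, 2, 1, 1, 0, 0),
  (0, 0, 0, 0, 0, 0),
  (0, 0, 0, 0, 0, 0),
  (0, 0, 0, 0, 0, 0),
  (0, 0, 0, 0, 0, 0),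
  (0, 0, 0, 0, 0, 0),
  (0, 0, 0, 0, 0, 0),
  (1, 2, 0, 0, 1, 2),
  (1, 2, 0, 0, 1, 2),
  (1, 1, 0, 0, 1, 0),
  (0, 1, 2, 2, 1, 0),
  (1, 1, 0, 0, 1, 0),
  (0, 0, 0, 0, 0, 0)]

def h0T : T := (1, 1, 1, 2, 2, 0)


end TGA
end Cfsg.Agent.Lib.H28
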