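import Cfsg.Agent.Lib.H28.TernaryAutData

set_option autoImplicit false

namespace Cfsg.Agent.Lib.H28
namespace TGA

open Cfsg Cfsg.Agent.Lib.H8.TG

theorem pt_ix : ∀ p : ArrayPt, pt (ix p) = p := by
  decide +kernel

theorem ix_pt : ∀ k : Fin 12, ix (pt k.val) = k.val := by
  decide +kernel

theorem ix_lt : ∀ p : ArrayPt, ix p < 12 := by
  decide +kernel

/-- Chain element: the permutation as a function. -/
def cf (k : Fin 5) (b : Fin 12) (p : ArrayPt) : ArrayPt :=
  pt ((chainPerm.getD (12 * k.val + b.val) []).getD (ix p) 0)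

/-- Chain element: the inverse permutation as a function. -/
def cg (k : Fin 5) (b : Fin 12) (p : ArrayPt) : ArrayPt :=
  pt ((chainInv.getD (12 * k.val + b.val) []).getD (ix p) 0)

/-- Chain element: the signs. -/
def cs (k : Fin 5) (b : Fin 12) (p : ArrayPt) : (ZMod 3)ˣ :=
  if (chainSgn.getD (12 * k.val + b.val) []).getD (ix p) 1 = 1 then 1 else -1

theorem cg_cf : ∀ k b p, cg k b (cf k b p) = p := by
  decide +kernel

theorem cf_cg : ∀ k b p, cf k b (cg k b p) = p := by
  decide +kernel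

/-- Chain element: the permutation. -/
def cperm (k : Fin 5) (b : Fin 12) : Equiv.Perm ArrayPt := ⟨cf k b, cg k b, cg_cf k b, cf_cg k b⟩

/-- The standard basis of the coefficient space. -/
def basisT (i : Fin 6) : T :=
  match i with
  | 0 => (1, 0, 0, 0, 0, 0)
  | 1 => (0, 1, 0, 0, 0, 0)
  | 2 => (0, 0, 1, 0, 0, 0)
  | 3 => (0, 0, 0, 1, 0, 0)
  | 4 => (0, 0, 0, 0, 1, 0)
  | 5 => (0, 0, 0, 0, 0, 1)

set_option maxRecDepth 100000 in
theorem gen_lin : ∀ (t : T) (p : ArrayPt), gen t p =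
    t.1 * gen (basisT 0) p + t.2.1 * gen (basisT 1) p + t.2.2.1 * gen (basisT 2) p +
    t.2.2.2.1 * gen (basisT 3) p + t.2.2.2.2.1 * gen (basisT 4) p +
    t.2.2.2.2.2 * gen (basisT 5) p := by
  decide +kernel

set_option maxRecDepth 100000 in
theorem chain_auto : ∀ (k : Fin 5) (b : Fin 12) (i : Fin 6) (p : ArrayPt),
    gen (info (monomialMap (cperm k b) (cs k b) (gen (basisT i)))) p =
      monomialMap (cperm k b) (cs k b) (gen (basisT i)) p := by
  decide +kernel

set_option maxRecDepth 100000 in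
theorem chain_act : ∀ (k : Fin 5) (b : Fin 12), k.val ≤ b.val →
    (∀ j : Fin 5, j.val < k.val → cf k b (pt j.val) = pt j.val) ∧ cf k b (pt k.val) = pt b.val := by
  decide +kernel

/-- The base hexad. -/
def H0F : Finset ArrayPt := {pt 0, pt 1, pt 2, pt 3, pt 4, pt 5}

/-- The support of the code word with coefficient tuple `t`. -/
def sup (t : T) : Finset ArrayPt := ternarySupport (gen t)

theorem h0_fact : sup h0T = H0F := by
  decide +kernel

def wz (q q' : Fin 12) : Nat := witZ.getD (12 * q.val + q'.val) 0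
def w1 (q q' : Fin 12) : T := witT1.getD (12 * q.val + q'.val) (0, 0, 0, 0, 0, 0)
def w2 (q q' : Fin 12) : T := witT2.getD (12 * q.val + q'.val) (0, 0, 0, 0, 0, 0)
def w3 (q q' : Fin 12) : T := witT3.getD (12 * q.val + q'.val) (0, 0, 0, 0, 0, 0)
def w4 (q q' : Fin 12) : T := witT4.getD (12 * q.val + q'.val) (0, 0, 0, 0, 0, 0)

/-- The properties of one half of a witness. -/
def WitHalf (q q' : Fin 12) (a c : T) : Prop :=
  ((sup a ∩ H0F) ∪ {pt q.val}).card = 5 ∧
    (sup a ∩ H0F) ∪ {pt q.val} ⊆ sup a ∧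
    (sup a ∩ H0F) ∪ {pt q'.val} ⊆ sup c ∧
    pt (wz q q') ∈ sup a ∧ (sup a).card = 6 ∧ (sup c).card = 6

instance (q q' : Fin 12) (a c : T) : Decidable (WitHalf q q' a c) := by
  unfold WitHalf; infer_instance

/-- The properties of a witness. -/
def WitOK (q q' : Fin 12) : Prop :=
  WitHalf q q' (w1 q q') (w3 q q') ∧ WitHalf q q' (w2 q q') (w4 q q') ∧
    (∀ p, p ∈ sup (w3 q q') → p ∈ sup (w4 q q') → p ∉ H0F → p = pt q'.val) ∧
    wz q q' ≠ q.val ∧ 6 ≤ wz q q' ∧ wz q q' < 12

instance (q q' : Fin 12) : Decidable (WitOK q q') := by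
  unfold WitOK; infer_instance

set_option maxRecDepth 100000 in
theorem wit_fact : ∀ q q' : Fin 12, 6 ≤ q.val → 6 ≤ q'.val → q ≠ q' → WitOK q q' := by
  decide +kernel

end TGA
end Cfsg.Agent.Lib.H28
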