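/-
helper28 library: pairs inside the tetrads of the sextet of a 4-set (30 of them), tuples from lists, and
the shape of two pairs meeting in one point.
-/
import Cfsg.Agent.Lib.H28.M24Six
import Cfsg.Agent.Lib.H28.GolaySextet
import Cfsg.Agent.Lib.H28.GolayConcrete

set_option autoImplicit false
open scoped Pointwise
open Cfsg

namespace Cfsg.Agent.Lib.H28

/-- Pairs inside the other tetrads of the sextet of a 4-set `T`. -/
noncomputable def tetradPairs (T : Finset GolayPt) : Finset (Finset GolayPt) :=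
  ((tetrads golayCode T).erase T).biUnion (fun τ => τ.powersetCard 2)

theorem mem_tetradPairs {T t : Finset GolayPt} :
    t ∈ tetradPairs T ↔ ∃ τ ∈ tetrads golayCode T, τ ≠ T ∧ t ⊆ τ ∧ t.card = 2 := by
  unfold tetradPairs
  simp only [Finset.mem_biUnion, Finset.mem_erase, Finset.mem_powersetCard]
  constructor
  · rintro ⟨τ, ⟨h1, h2⟩, h3⟩; exact ⟨τ, h2, h1, h3⟩
  · rintro ⟨τ, h2, h1, h3⟩; exact ⟨τ, ⟨h1, h2⟩, h3⟩

theorem card_tetradPairs {T : Finset GolayPt} (hT : T.card = 4) : (tetradPairs T).card = 30 := by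
  classical
  have hC := golayCode_isAbsGolay
  unfold tetradPairs
  rw [Finset.card_biUnion]
  · have : ∀ τ ∈ (tetrads golayCode T).erase T, (τ.powersetCard 2).card = 6 := by
      intro τ hτ
      rw [Finset.card_powersetCard, card_of_mem_tetrads (Finset.mem_of_mem_erase hτ)]
      rfl
    rw [Finset.sum_congr rfl this, Finset.sum_const, Finset.card_erase_of_mem (self_mem_tetrads hT),
      card_tetrads hC hT]
    rfl
  · intro τ hτ τ' hτ' hne
    show Disjoint (τ.powersetCard 2) (τ'.powersetCard 2)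
    rw [Finset.disjoint_left]
    intro t ht ht'
    rw [Finset.mem_powersetCard] at ht ht'
    rw [Finset.mem_coe] at hτ hτ'
    have hd := tetrads_disjoint hC (Finset.mem_of_mem_erase hτ) (Finset.mem_of_mem_erase hτ') hne
    have : t ⊆ τ ∩ τ' := Finset.subset_inter ht.1 ht'.1
    rw [Finset.disjoint_iff_inter_eq_empty.1 hd, Finset.subset_empty] at this
    rw [this] at ht
    simp at ht

/-- A pair disjoint from the 4-set `T` lies with `T` in an octad iff it lies in another tetrad of the sextet. -/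
theorem exists_octad_iff_mem_tetradPairs {T t : Finset GolayPt} (hT : T.card = 4) (ht : t.card = 2)
    (hd : Disjoint T t) : (∃ o ∈ octads, T ∪ t ⊆ o) ↔ t ∈ tetradPairs T := by
  classical
  have hC := golayCode_isAbsGolay
  rw [mem_tetradPairs]
  constructor
  · rintro ⟨o, ho, hsub⟩
    have hTo : T ⊆ o := Finset.union_subset_left hsub
    obtain ⟨h1, h2, -⟩ := exists_tetrad_of_subset_octad (C := golayCode) hT ho hTo
    refine ⟨o \ T, h1, h2, ?_, ht⟩
    intro x hx
    rw [Finset.mem_sdiff]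
    exact ⟨hsub (Finset.mem_union_right _ hx), fun hxT => Finset.disjoint_left.1 hd hxT hx⟩
  · rintro ⟨τ, hτ, hne, hsub, -⟩
    refine ⟨T ∪ τ, union_tetrads_mem hC (self_mem_tetrads hT) hτ (Ne.symm hne), ?_⟩
    exact Finset.union_subset_union (Finset.Subset.refl _) hsub

theorem tetradPairs_disjoint {T t : Finset GolayPt} (hT : T.card = 4) (h : t ∈ tetradPairs T) : Disjoint T t := by
  classical
  have hC := golayCode_isAbsGolay
  rw [mem_tetradPairs] at h
  obtain ⟨τ, hτ, hne, hsub, -⟩ := h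
  exact Finset.disjoint_of_subset_right hsub (tetrads_disjoint hC (self_mem_tetrads hT) hτ (Ne.symm hne))


/-- The tuple of the entries of a list. -/
def tupleOf {α : Type*} (l : List α) {n : ℕ} (hn : l.length = n) : Fin n → α :=
  fun i => l.get (i.cast hn.symm)

theorem tupleOf_injective {α : Type*} {l : List α} (hl : l.Nodup) {n : ℕ} (hn : l.length = n) :
    Function.Injective (tupleOf l hn) := by
  intro i j hij
  have := (List.nodup_iff_injective_get.1 hl) hij
  exact Fin.cast_injective _ this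

theorem forall_tupleOf {α : Type*} {l : List α} {n : ℕ} (hn : l.length = n) (P : α → Prop) :
    (∀ i, P (tupleOf l hn i)) ↔ ∀ z ∈ l, P z := by
  constructor
  · intro h z hz
    obtain ⟨i, rfl⟩ := List.get_of_mem hz
    have := h (i.cast hn)
    exact this
  · intro h i
    exact h _ (List.get_mem _ _)

theorem pair_meet_one {α : Type*} [DecidableEq α] {s t : Finset α} (hs : s.card = 2) (ht : t.card = 2)
    (h : (s ∩ t).card = 1) : ∃ u u' c, u ≠ u' ∧ u ≠ c ∧ u' ≠ c ∧ s = {u, u'} ∧ t = {u, c} := by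
  obtain ⟨u, hu⟩ := Finset.card_eq_one.1 h
  have hmem : u ∈ s ∩ t := by rw [hu]; exact Finset.mem_singleton_self u
  rw [Finset.mem_inter] at hmem
  have h1 : (s.erase u).card = 1 := by rw [Finset.card_erase_of_mem hmem.1, hs]
  have h2 : (t.erase u).card = 1 := by rw [Finset.card_erase_of_mem hmem.2, ht]
  obtain ⟨u', hu'⟩ := Finset.card_eq_one.1 h1
  obtain ⟨c, hc⟩ := Finset.card_eq_one.1 h2
  have hu'm : u' ∈ s.erase u := by rw [hu']; exact Finset.mem_singleton_self _
  have hcm : c ∈ t.erase u := by rw [hc]; exact Finset.mem_singleton_self _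
  rw [Finset.mem_erase] at hu'm hcm
  refine ⟨u, u', c, hu'm.1.symm, hcm.1.symm, ?_, ?_, ?_⟩
  · rintro rfl
    have : u' ∈ s ∩ t := Finset.mem_inter.2 ⟨hu'm.2, hcm.2⟩
    rw [hu, Finset.mem_singleton] at this
    exact hu'm.1 this
  · rw [← hu', Finset.insert_erase hmem.1]
  · rw [← hc, Finset.insert_erase hmem.2]


theorem nodup_six {α : Type*} [DecidableEq α] {p q a b c d : α} (hpq : p ≠ q)
    (hps : p ∉ ({a, b} : Finset α)) (hqs : q ∉ ({a, b} : Finset α))
    (hpt : p ∉ ({c, d} : Finset α)) (hqt : q ∉ ({c, d} : Finset α)) (hab : a ≠ b) (hcd : c ≠ d)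
    (hd : Disjoint ({a, b} : Finset α) {c, d}) : [p, q, a, b, c, d].Nodup := by
  simp only [Finset.mem_insert, Finset.mem_singleton, not_or, Finset.disjoint_insert_left,
    Finset.disjoint_singleton_left] at hps hqs hpt hqt hd
  obtain ⟨hpa, hpb⟩ := hps
  obtain ⟨hqa, hqb⟩ := hqs
  obtain ⟨hpc, hpd⟩ := hpt
  obtain ⟨hqc, hqd⟩ := hqt
  obtain ⟨⟨hac, had⟩, hbc, hbd⟩ := hd
  simp only [List.nodup_cons, List.mem_cons, List.not_mem_nil, or_false, not_or, List.nodup_nil,
    and_true, not_false_eq_true]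
  exact ⟨⟨hpq, hpa, hpb, hpc, hpd⟩, ⟨hqa, hqb, hqc, hqd⟩, ⟨hab, hac, had⟩, ⟨hbc, hbd⟩, hcd⟩

theorem nodup_five {α : Type*} [DecidableEq α] {p q u u' c : α} (hpq : p ≠ q)
    (hps : p ∉ ({u, u'} : Finset α)) (hqs : q ∉ ({u, u'} : Finset α))
    (hpt : p ∉ ({u, c} : Finset α)) (hqt : q ∉ ({u, c} : Finset α)) (huu' : u ≠ u') (huc : u ≠ c)
    (hu'c : u' ≠ c) : [p, q, u, u', c].Nodup := by
  simp only [Finset.mem_insert, Finset.mem_singleton, not_or] at hps hqs hpt hqt
  obtain ⟨hpa, hpb⟩ := hps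
  obtain ⟨hqa, hqb⟩ := hqs
  obtain ⟨-, hpd⟩ := hpt
  obtain ⟨-, hqd⟩ := hqt
  simp only [List.nodup_cons, List.mem_cons, List.not_mem_nil, or_false, not_or, List.nodup_nil,
    and_true, not_false_eq_true]
  exact ⟨⟨hpq, hpa, hpb, hpd⟩, ⟨hqa, hqb, hqd⟩, ⟨huu', huc⟩, hu'c⟩

theorem exists_octad_tuple6_iff (p q a b e f : GolayPt) :
    (∃ o ∈ octads, ∀ i, tupleOf [p, q, a, b, e, f] (n := 6) rfl i ∈ o) ↔
    (∃ o ∈ octads, p ∈ o ∧ q ∈ o ∧ ({a, b} : Finset GolayPt) ∪ {e, f} ⊆ o) := by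
  refine exists_congr (fun o => and_congr Iff.rfl ?_)
  rw [forall_tupleOf (n := 6) rfl (fun z => z ∈ o)]
  simp only [List.mem_cons, List.not_mem_nil, or_false, forall_eq_or_imp, forall_eq,
    Finset.union_subset_iff, Finset.insert_subset_iff, Finset.singleton_subset_iff]
  constructor
  · rintro ⟨h1, h2, h3, h4, h5, h6⟩
    exact ⟨h1, h2, ⟨h3, h4⟩, h5, h6⟩
  · rintro ⟨h1, h2, ⟨h3, h4⟩, h5, h6⟩
    exact ⟨h1, h2, h3, h4, h5, h6⟩

end Cfsg.Agent.Lib.H28
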