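/-
helper28 library: the base triad `{∞, 0, 1}` and the base pair of complementary dodecads; generators of their
stabilizers in `M24`.
-/
import Cfsg.Agent.Lib.H28.SextTrioBase

set_option autoImplicit false

namespace Cfsg.Agent.Lib.H28

open Cfsg
open scoped Pointwise

/-- The mask of the triad `{∞, 0, 1}`. -/
def triad0 : ℕ := 8388611

def triadGenWords : List (List ℕ) := [[2, 1], [4, 4, 0, 3, 0, 4, 4, 0]]

/-- The number of masks of a key meeting the triad. -/
def triadInvK (k : List ℕ) : ℕ := (k.filter (fun m => m &&& triad0 != 0)).length

/-- The base dodecad and its complement. -/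
def dodPairKey : List ℕ := [340831, 16436384]

def dodPairGenWords : List (List ℕ) := [[1, 1, 1, 2, 1, 4, 0], [4, 2]]

theorem triadGenWords_mem : ∀ w ∈ triadGenWords, wordPerm w ∈ stabMask triad0 := by
  intro w hw
  apply wordPerm_mem_stabMask
  have : ∀ w ∈ triadGenWords, presCheck w triad0 = true := by decide +kernel
  exact this w hw

theorem triadGenWords_smul : ∀ w ∈ triadGenWords, wordPerm w • ptsMask triad0 = ptsMask triad0 := fun w hw =>
  (mem_stabMask_iff_smul.1 (triadGenWords_mem w hw)).2

theorem dodPairGenWords_smul : ∀ w ∈ dodPairGenWords, wordPerm w • decL dodPairKey = decL dodPairKey := by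
  have h : dodPairGenWords.all (fun w => sameL (dodPairKey.map (pullMask (wordTab (invWord w)))) dodPairKey)
      = true := by
    decide +kernel
  intro w hw
  exact wordPerm_smul_decL_of_sameL (List.all_eq_true.1 h w hw)

theorem dodPairKey_keyOK : keyOK dodPairKey = true := by decide +kernel

end Cfsg.Agent.Lib.H28
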