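/-
helper28 library: the stabilizer of a triad (3 points) on sextets: classes by the number of tetrads meeting the
triad (21, 630, 1120).
-/
import Cfsg.Agent.Lib.H28.CertTriadSext
import Cfsg.Agent.Lib.H28.M24Six

set_option autoImplicit false

namespace Cfsg.Agent.Lib.H28

open Cfsg
open scoped Pointwise

/-- The number of members of a family meeting a point set. -/
def triadInv (Y : Finset GolayPt) (S : Finset (Finset GolayPt)) : ℕ :=
  (S.filter fun t => (t ∩ Y).Nonempty).card

theorem triadInv_smul (g : Equiv.Perm GolayPt) (Y : Finset GolayPt) (S : Finset (Finset GolayPt)) :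
    triadInv (g • Y) (g • S) = triadInv Y S := by
  unfold triadInv
  rw [smul_family_eq_image, Finset.filter_image,
    Finset.card_image_of_injective _ (MulAction.injective g)]
  congr 1
  apply Finset.filter_congr
  intro t _
  rw [← Finset.smul_finset_inter, Finset.smul_finset_nonempty]

theorem triadInv_smul' (g : ↥M24) (Y : Finset GolayPt) (S : Finset (Finset GolayPt)) :
    triadInv (g • Y) (g • S) = triadInv Y S := triadInv_smul (g : Equiv.Perm GolayPt) Y S

theorem inter_nonempty_iff_land {a b : ℕ} (ha : a < 2 ^ 24) :
    (ptsMask a ∩ ptsMask b).Nonempty ↔ (a &&& b != 0) = true := by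
  rw [bne_iff_ne, Finset.nonempty_iff_ne_empty, Ne, ← Finset.disjoint_iff_inter_eq_empty]
  constructor
  · intro h h0
    exact h (disjoint_of_land_eq_zero h0)
  · intro h hd
    exact h (land_eq_zero_of_disjoint ha hd)

theorem triadInv_decL {k : List ℕ} (hk : keyOK k = true) :
    triadInv (ptsMask triad0) (decL k) = triadInvK k := by
  classical
  have hlt : ∀ m ∈ k, m < 2 ^ 24 := by
    unfold keyOK at hk
    rw [Bool.and_eq_true, List.all_eq_true] at hk
    intro m hm
    have := hk.1 m hm
    rwa [decide_eq_true_eq] at this
  unfold triadInv triadInvK decL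
  have e : (List.map ptsMask k).toFinset.filter (fun t => (t ∩ ptsMask triad0).Nonempty)
      = ((List.map ptsMask k).filter (fun t => decide ((t ∩ ptsMask triad0).Nonempty))).toFinset := by
    rw [List.toFinset_filter]
    apply Finset.filter_congr
    intro t _
    rw [decide_eq_true_iff]
  rw [e, List.toFinset_card_of_nodup ((nodup_map_ptsMask hk).filter _), List.filter_map, List.length_map]
  congr 1
  apply List.filter_congr
  intro m hm
  rw [Function.comp_apply]
  have := inter_nonempty_iff_land (b := triad0) (hlt m hm)
  by_cases h : (ptsMask m ∩ ptsMask triad0).Nonempty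
  · rw [decide_eq_true h, this.1 h]
  · rw [decide_eq_false h]
    symm
    rw [Bool.eq_false_iff]
    exact fun h' => h (this.2 h')

theorem triad0_card : (ptsMask triad0).card = 3 := by
  rw [card_ptsMask]; decide +kernel

/-- Transitivity of the stabilizer of a triad on the classes of sextets. -/
theorem triad_sextet_trans (g0 : ↥M24) :
    ∀ x ∈ sextets, ∀ y ∈ sextets, triadInv (g0 • ptsMask triad0) x = triadInv (g0 • ptsMask triad0) y →
      ∃ g : ↥M24, g • (g0 • ptsMask triad0) = g0 • ptsMask triad0 ∧ g • x = y :=
  class_trans_smul sextets (fun g _ hx => smul_mem_sextets' g hx) triadInv triadInv_smul' (ptsMask triad0)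
    (class_trans_of_certs (ptsMask triad0) sextets sextKs 1771 (fun _ hy => exists_sextKey hy) triadInv triadInvK
      (fun _ hk => triadInv_decL (sextKey_keyOK hk)) triadGenWords triadGenWords_smul triadSextJ triadSext_all
      triadSext_certs) g0

theorem triad_sextet_ncard (g0 : ↥M24) (j : ℕ) (hj : j ∈ triadSextJ) :
    {y | y ∈ sextets ∧ triadInv (g0 • ptsMask triad0) y = j}.ncard = triadSextN j := by
  rw [ncard_class_smul sextets (fun g _ hx => smul_mem_sextets' g hx) triadInv triadInv_smul' (ptsMask triad0) g0 j,
    class_ncard_of_keys (ptsMask triad0) sextets sextKs 1771 (fun _ hy => exists_sextKey hy)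
      (fun _ hk => decL_mem_sextets (sextKey_ok hk)) sextKs_inj sextKs_nodup triadInv triadInvK
      (fun _ hk => triadInv_decL (sextKey_keyOK hk)) j]
  exact triadSext_counts j hj

theorem exists_M24_smul_triad0 {Y : Finset GolayPt} (hY : Y.card = 3) : ∃ g ∈ M24, g • ptsMask triad0 = Y := by
  obtain ⟨g, hg, -, h⟩ := exists_M24_set_map ∅ (ptsMask triad0) Y (by rw [triad0_card, hY])
    (by rw [Finset.empty_inter, Finset.empty_inter])
    (by rw [Finset.empty_union, triad0_card]; norm_num)
    (by rw [Finset.empty_union, triad0_card]; intro h; norm_num at h)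
  exact ⟨g, hg, h⟩

end Cfsg.Agent.Lib.H28
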