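import Mathlib

/-!
# Two-generation of twisted groups, part A: generic lemmas (groups and finite fields)

* `comm_comm_root`: for a torus element `h` and `g = x(1) w`, the double commutator `⁅h, ⁅h, g⁆⁆` is a root element;
* `fill_of_sq`: an additive subgroup of a finite field stable under the squares of a generator is everything;
* `exists_pair_closure_top`: lifting a generating pair to the subtype;
* `exists_combo_ne_zero`: Dedekind independence for three iterates of an endomorphism.
-/

set_option autoImplicit false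

namespace Cfsg.Agent.Lib.H28.TwGen

section Group

variable {Γ : Type*} [Group Γ] {F : Type*} [Field F]

/-- `(w h⁻¹ w⁻¹)` acts on `x` through the action of `h` on `y`, if `w` maps `y` to `x` -/
theorem conj_transport (x y : F → Γ) (h w : Γ) (l' c : F) (hc : c ≠ 0) (hl' : l' ≠ 0)
    (h2 : ∀ t, h * y t * h⁻¹ = y (l' * t)) (h3 : ∀ t, w * y t * w⁻¹ = x (c * t)) (t : F) :
    (w * h⁻¹ * w⁻¹) * x t * (w * h⁻¹ * w⁻¹)⁻¹ = x (l'⁻¹ * t) := by
  have e1 : x t = w * y (c⁻¹ * t) * w⁻¹ := by
    rw [h3, ← mul_assoc, mul_inv_cancel₀ hc, one_mul]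
  have e2 : h⁻¹ * y (c⁻¹ * t) * h = y (l'⁻¹ * (c⁻¹ * t)) := by
    have := h2 (l'⁻¹ * (c⁻¹ * t))
    rw [← mul_assoc l', mul_inv_cancel₀ hl', one_mul] at this
    rw [← this]
    group
  have e3 : x (l'⁻¹ * t) = w * y (l'⁻¹ * (c⁻¹ * t)) * w⁻¹ := by
    rw [h3]
    congr 1
    field_simp
  rw [e3, ← e2, e1]
  group

/-- the double commutator of a torus element `h` with `g = x(1) w` is a root element -/
theorem comm_comm_root (x : F → Γ) (hx : ∀ s t, x (s + t) = x s * x t) (h w : Γ) (l m : F)
    (h1 : ∀ t, h * x t * h⁻¹ = x (l * t)) (hcomm : Commute h (w * h⁻¹ * w⁻¹))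
    (h2 : ∀ t, (w * h⁻¹ * w⁻¹) * x t * (w * h⁻¹ * w⁻¹)⁻¹ = x (m * t)) :
    h * (h * (x 1 * w) * h⁻¹ * (x 1 * w)⁻¹) * h⁻¹ * (h * (x 1 * w) * h⁻¹ * (x 1 * w)⁻¹)⁻¹ =
      x ((l - 1) * (l - l * m)) := by
  have x0 : x 0 = 1 := by
    have := hx 0 0
    rw [add_zero] at this
    exact (mul_eq_left.mp this.symm)
  have xneg : ∀ t, (x t)⁻¹ = x (-t) := by
    intro t
    rw [inv_eq_iff_mul_eq_one, ← hx, add_neg_cancel, x0]
  set k := w * h⁻¹ * w⁻¹ with hk
  -- first commutator
  have c1 : h * (x 1 * w) * h⁻¹ * (x 1 * w)⁻¹ = x l * (h * k) * x (-1) := by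
    rw [← xneg]
    have := h1 1
    rw [mul_one] at this
    rw [← this, hk]
    group
  have hk2 : ∀ t, (h * k) * x t * (h * k)⁻¹ = x (l * m * t) := by
    intro t
    have : (h * k) * x t * (h * k)⁻¹ = h * (k * x t * k⁻¹) * h⁻¹ := by group
    rw [this, h2, h1, mul_assoc]
  have hcomm2 : h * (h * k) * h⁻¹ = h * k := by
    have := hcomm.eq
    calc h * (h * k) * h⁻¹ = h * (k * h) * h⁻¹ := by rw [this]
      _ = h * k := by group
  rw [c1]
  have e1 : h * (x l * (h * k) * x (-1)) * h⁻¹ = x (l * l) * (h * k) * x (l * (-1)) := by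
    rw [← h1, ← h1]
    nth_rewrite 2 [← hcomm2]
    group
  rw [e1]
  have e2 : (x l * (h * k) * x (-1))⁻¹ = x 1 * (h * k)⁻¹ * x (-l) := by
    rw [mul_inv_rev, mul_inv_rev, xneg, xneg, neg_neg, mul_assoc]
  rw [e2]
  have e3 : x (l * l) * (h * k) * x (l * (-1)) * (x 1 * (h * k)⁻¹ * x (-l)) =
      x (l * l) * ((h * k) * (x (l * (-1)) * x 1) * (h * k)⁻¹) * x (-l) := by group
  rw [e3, ← hx, hk2, ← hx, ← hx]
  congr 1
  ring

/-- a generating pair of a subgroup gives a generating pair of the subtype -/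
theorem exists_pair_closure_top (H : Subgroup Γ) (a b : Γ) (h : Subgroup.closure {a, b} = H) :
    ∃ a' b' : ↥H, Subgroup.closure {a', b'} = ⊤ := by
  have ha : a ∈ H := by rw [← h]; exact Subgroup.subset_closure (by simp)
  have hb : b ∈ H := by rw [← h]; exact Subgroup.subset_closure (by simp)
  refine ⟨⟨a, ha⟩, ⟨b, hb⟩, ?_⟩
  apply Subgroup.map_injective H.subtype_injective
  rw [MonoidHom.map_closure, ← MonoidHom.range_eq_map, Subgroup.range_subtype]
  rw [Set.image_pair]
  exact h

end Group

section Field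

variable {F : Type*} [Field F] [Finite F]

/-- every element of a finite field is a difference of two squares -/
theorem exists_sq_sub_sq (t : F) : ∃ a b : F, t = a * a - b * b := by
  by_cases h2 : (2 : F) = 0
  · have hinj : Function.Injective (fun x : F => x * x) := by
      intro x y hxy
      simp only at hxy
      have : (x - y) * (x - y) = 0 := by
        have e : (x - y) * (x - y) = x * x - 2 * (x * y) + y * y := by ring
        rw [e, h2, zero_mul, sub_zero, hxy]
        have : y * y + y * y = 2 * (y * y) := by ring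
        rw [this, h2, zero_mul]
      exact sub_eq_zero.mp (mul_self_eq_zero.mp this)
    obtain ⟨s, hs⟩ := Finite.surjective_of_injective hinj t
    exact ⟨s, 0, by simp only at hs; rw [hs]; ring⟩
  · refine ⟨(t + 1) / 2, (t - 1) / 2, ?_⟩
    field_simp
    ring

/-- an additive subgroup stable under multiplication by the square of a generator of the multiplicative group,
and containing a non zero element, is everything -/
theorem fill_of_sq (S : AddSubgroup F) (κ : Fˣ) (hκ : ∀ u : Fˣ, u ∈ Subgroup.zpowers κ)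
    (hS : ∀ t ∈ S, (κ : F) ^ 2 * t ∈ S) (t0 : F) (h0 : t0 ∈ S) (ht0 : t0 ≠ 0) (t : F) : t ∈ S := by
  -- stable under the powers of `κ²`
  have hpow : ∀ n : ℕ, ∀ t ∈ S, ((κ : F) ^ 2) ^ n * t ∈ S := by
    intro n
    induction n with
    | zero => intro t ht; simpa using ht
    | succ n ih =>
      intro t ht
      rw [pow_succ, mul_assoc]
      exact ih _ (hS t ht)
  -- stable under all squares
  have hsq : ∀ s : F, ∀ t ∈ S, s * s * t ∈ S := by
    intro s t ht
    by_cases hs : s = 0
    · rw [hs, zero_mul, zero_mul]; exact S.zero_mem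
    · have hmem := hκ (Units.mk0 s hs)
      have hfin : IsOfFinOrder κ := isOfFinOrder_of_finite κ
      rw [← hfin.mem_powers_iff_mem_zpowers] at hmem
      obtain ⟨n, hn⟩ := hmem
      have hn' : (κ : F) ^ n = s := by
        have := congrArg (fun u : Fˣ => (u : F)) hn
        simpa using this
      have : s * s = ((κ : F) ^ 2) ^ n := by
        rw [← hn']; ring
      rw [this]
      exact hpow n t ht
  obtain ⟨a, b, hab⟩ := exists_sq_sub_sq (t * t0⁻¹)
  have : t = a * a * t0 - b * b * t0 := by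
    have : t = (t * t0⁻¹) * t0 := by field_simp
    rw [this, hab]; ring
  rw [this]
  exact S.sub_mem (hsq a t0 h0) (hsq b t0 h0)

end Field

end Cfsg.Agent.Lib.H28.TwGen
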