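import Mathlib
import Cfsg.Prelude.Def_ChevStructure
import Cfsg.Prelude.Def_LieExceptional
import Cfsg.Agent.Lib.H29.TwAut17
import Cfsg.Agent.Lib.H28.TwGenA

/-!
# Two-generation of twisted groups, part B: generic lemmas on a twisted group (`TwPack`)

* `RootIn M r`: the twisted root subgroup `X_r` lies in the subgroup `M`;
* `rootIn_perm`: transport of `RootIn` by a `σ`-fixed element of `N` lying in `M`;
* `root_fill`: if `M` contains a `σ`-fixed torus element `h` acting on `X_{r0}` by the square of a generator of the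
  multiplicative group and non trivially on `X_{r1}`, and the element `x_{r0}(1) w` with `w ∈ N` mapping `r1`
  to `r0`, then `M` contains `X_{r0}`.
-/

set_option autoImplicit false
set_option linter.unusedSectionVars false
set_option linter.unusedSimpArgs false
set_option linter.unusedVariables false

namespace Cfsg.Agent.Lib.H28.TwGen

open Cfsg.Lie Matrix Cfsg.Agent.Lib.H29.Chev

variable {D : ChevalleyDatum} {fd : FD} {fx : FX} {fc : FC} {fz : FZ} {F : Type*} [Field F]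

/-- the twisted root subgroup at `r` lies in `M` -/
def RootIn (C : Cert12 D fd fx fc fz) (ga : GA) (k : ℕ) (φ : F →+* F) (M : Subgroup (GL D.Idx F)) (r : ℕ) : Prop :=
  ∀ t ∈ Kr fd ga φ r, C.xS ga k φ r t ∈ M

variable (C : Cert12 D fd fx fc fz) {ga : GA} {k : ℕ} {φ : F →+* F} {RL sreps : List ℕ} {fq : FQ} {q : ℕ}

variable (W : TwPack C ga k φ RL sreps fq q)
include C W

/-- transport of a root subgroup by a `σ`-fixed element of `N` -/
theorem rootIn_perm (M : Subgroup (GL D.Idx F)) (m : GL D.Idx F) (hmM : m ∈ M) (hm : m ∈ D.monomialSubgroup F)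
    (hfix : C.c6.c2.sigma W.T.ginv φ m = m) (π : ℕ → ℕ) (hπ : C.c6.c2.Perm m π) (r : ℕ) (hr : r < fd.n)
    (h : RootIn C ga k φ M r) : RootIn C ga k φ M (π r) := by
  obtain ⟨c, hc0, hcK, hc⟩ := C.conj_xS_perm W.T W.T2 φ (k := k) m hm hfix π hπ r hr
  have hiff := C.perm_fixed_iff W.T W.T2 φ m hm hfix π hπ r hr
  intro t' ht'
  have hK : c⁻¹ * t' ∈ Kr fd ga φ r := by
    intro hf
    have hf' := hiff.mpr hf
    have h1 : (1 : F) ∈ Kr fd ga φ r := fun _ => map_one φ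
    have hcfix : φ c = c := by
      have := hcK 1 h1 hf'
      rwa [mul_one] at this
    rw [map_mul, map_inv₀, hcfix, ht' hf']
  have e := hc (c⁻¹ * t')
  rw [← mul_assoc, mul_inv_cancel₀ hc0, one_mul] at e
  rw [← e]
  exact mul_mem (mul_mem hmM (h _ hK)) (inv_mem hmM)

/-- iterated transport -/
theorem rootIn_perm_iter (M : Subgroup (GL D.Idx F)) (m : GL D.Idx F) (hmM : m ∈ M) (hm : m ∈ D.monomialSubgroup F)
    (hfix : C.c6.c2.sigma W.T.ginv φ m = m) (π : ℕ → ℕ) (hπ : C.c6.c2.Perm m π) (r : ℕ) (hr : r < fd.n)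
    (h : RootIn C ga k φ M r) (j : ℕ) : π^[j] r < fd.n ∧ RootIn C ga k φ M (π^[j] r) := by
  induction j with
  | zero => exact ⟨hr, h⟩
  | succ j ih =>
    rw [Function.iterate_succ_apply']
    exact ⟨(hπ _ ih.1).1, rootIn_perm C W M m hmM hm hfix π hπ _ ih.1 ih.2⟩

/-- the action of a `σ`-fixed element of the torus on the elements `x_S(t)` -/
theorem chi_conj_xS (x : Fin fd.l → Fˣ) (hfix : C.c6.c2.sigma W.T.ginv φ (chiHom D fd F x) = chiHom D fd F x)
    (r : ℕ) (hr : r < fd.n) (t : F) :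
    chiHom D fd F x * C.xS ga k φ r t * (chiHom D fd F x)⁻¹ = C.xS ga k φ r (chiC D fd F x r * t) :=
  C.conj_xS W.T φ _ hfix _ (fun s hs t => C.chi_conj_xA x s hs t) r hr t

omit W in
theorem chiC_ne_zero (x : Fin fd.l → Fˣ) (r : ℕ) (hr : r < fd.n) : chiC D fd F x r ≠ 0 := by
  have hr' : r < D.nroots := by rw [C.c6.c2.nroots_eq]; exact hr
  unfold chiC
  rw [dif_pos hr']
  exact Units.ne_zero _

/-- conjugates of elements of the torus by elements of `N` lie in the torus -/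
theorem conj_mem_diag (w h : GL D.Idx F) (hw : w ∈ D.monomialSubgroup F) (hh : h ∈ D.diagonalSubgroup F) :
    w * h * w⁻¹ ∈ D.diagonalSubgroup F := by
  have hle : D.diagonalSubgroup F ≤ D.monomialSubgroup F := le_sup_left
  have hn := C.c6.c2.diag_normal_monomial (F := F)
  have := hn.conj_mem ⟨h, hle hh⟩ (Subgroup.mem_subgroupOf.mpr hh) ⟨w, hw⟩
  rw [Subgroup.mem_subgroupOf] at this
  simpa using this

/-- the root subgroup `X_{r0}` lies in `M` -/
theorem root_fill [Finite F] (M : Subgroup (GL D.Idx F)) (x : Fin fd.l → Fˣ)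
    (hxfix : C.c6.c2.sigma W.T.ginv φ (chiHom D fd F x) = chiHom D fd F x) (hhM : chiHom D fd F x ∈ M)
    (w : GL D.Idx F) (hw : w ∈ D.monomialSubgroup F) (hwfix : C.c6.c2.sigma W.T.ginv φ w = w)
    (π : ℕ → ℕ) (hπ : C.c6.c2.Perm w π) (r0 r1 : ℕ) (hr0 : r0 < fd.n) (hr1 : r1 < fd.n) (hπr : π r1 = r0)
    (κ : Fˣ) (hκ : ∀ u : Fˣ, u ∈ Subgroup.zpowers κ) (hl : chiC D fd F x r0 = (κ : F) ^ 2)
    (hl1 : (κ : F) ^ 2 ≠ 1) (hl' : chiC D fd F x r1 ≠ 1)
    (hg : C.xS ga k φ r0 1 * w ∈ M) (t : F) : C.xS ga k φ r0 t ∈ M := by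
  set h := chiHom D fd F x with hh
  have hhd : h ∈ D.diagonalSubgroup F := by rw [C.diag_eq_range]; exact ⟨x, rfl⟩
  set l := chiC D fd F x r0 with hldef
  set l' := chiC D fd F x r1 with hl'def
  have hl0 : l ≠ 0 := chiC_ne_zero C x r0 hr0
  have hl'0 : l' ≠ 0 := chiC_ne_zero C x r1 hr1
  have hadd : ∀ s t, C.xS ga k φ r0 (s + t) = C.xS ga k φ r0 s * C.xS ga k φ r0 t :=
    fun s t => (C.xS_add W.T φ W.hk r0 hr0 s t).symm
  have h1 : ∀ t, h * C.xS ga k φ r0 t * h⁻¹ = C.xS ga k φ r0 (l * t) := fun t => chi_conj_xS C W x hxfix r0 hr0 t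
  have h2 : ∀ t, h * C.xS ga k φ r1 t * h⁻¹ = C.xS ga k φ r1 (l' * t) := fun t => chi_conj_xS C W x hxfix r1 hr1 t
  obtain ⟨c, hc0, _, hc⟩ := C.conj_xS_perm W.T W.T2 φ (k := k) w hw hwfix π hπ r1 hr1
  rw [hπr] at hc
  have h3 := conj_transport (fun t => C.xS ga k φ r0 t) (fun t => C.xS ga k φ r1 t) h w l' c hc0 hl'0 h2 hc
  have hcomm : Commute h (w * h⁻¹ * w⁻¹) :=
    C.c6.c2.diag_comm _ _ hhd (conj_mem_diag C W w h⁻¹ hw (inv_mem hhd))
  have key := comm_comm_root (fun t => C.xS ga k φ r0 t) hadd h w l l'⁻¹ h1 hcomm h3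
  have hE : C.xS ga k φ r0 ((l - 1) * (l - l * l'⁻¹)) ∈ M := by
    rw [← key]
    have hc1 : h * (C.xS ga k φ r0 1 * w) * h⁻¹ * (C.xS ga k φ r0 1 * w)⁻¹ ∈ M :=
      mul_mem (mul_mem (mul_mem hhM hg) (inv_mem hhM)) (inv_mem hg)
    exact mul_mem (mul_mem (mul_mem hhM hc1) (inv_mem hhM)) (inv_mem hc1)
  let S : AddSubgroup F :=
    { carrier := {t | C.xS ga k φ r0 t ∈ M}
      zero_mem' := by
        show C.xS ga k φ r0 0 ∈ M
        rw [C.xS_param_zero]; exact one_mem _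
      add_mem' := by
        intro a b ha hb
        show C.xS ga k φ r0 (a + b) ∈ M
        rw [hadd]; exact mul_mem ha hb
      neg_mem' := by
        intro a ha
        show C.xS ga k φ r0 (-a) ∈ M
        rw [← C.xS_inv W.T φ W.hk r0 hr0]; exact inv_mem ha }
  have hS : ∀ t ∈ S, (κ : F) ^ 2 * t ∈ S := by
    intro t ht
    show C.xS ga k φ r0 ((κ : F) ^ 2 * t) ∈ M
    rw [← hl, ← h1]
    exact mul_mem (mul_mem hhM ht) (inv_mem hhM)
  have ht0 : (l - 1) * (l - l * l'⁻¹) ≠ 0 := by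
    apply mul_ne_zero
    · rw [hl]; exact sub_ne_zero.mpr hl1
    · have : l - l * l'⁻¹ = l * l'⁻¹ * (l' - 1) := by field_simp
      rw [this]
      exact mul_ne_zero (mul_ne_zero hl0 (inv_ne_zero hl'0)) (sub_ne_zero.mpr hl')
  exact fill_of_sq S κ hκ hS _ hE ht0 t

end Cfsg.Agent.Lib.H28.TwGen
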