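import Mathlib
import Cfsg.Prelude.Def_ChevStructure
import Cfsg.Prelude.Def_LieExceptional
import Cfsg.Agent.Lib.H29.TwAut17
import Cfsg.Agent.Lib.H29.ChevTw33
import Cfsg.Agent.Lib.H29.TwAut13
import Cfsg.Agent.Lib.H28.TwGenB

/-!
# Two-generation of twisted groups, part C: long root subgroups from commutators of short root subgroups

* `exists_combo3_ne_zero`, `exists_combo2_ne_zero`: Dedekind independence for the iterates of an endomorphism;
* `rootIn_of_comm3`, `rootIn_of_comm2`: if the commutator of `x_r(t)` and `x_s(u)` (non fixed roots) is the fixed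
  root element `x_γ(c0 tu + c1 φ(tu) + ...)`, and `X_r, X_s ⊆ M`, then `X_γ ⊆ M`.
-/

set_option autoImplicit false
set_option linter.unusedSectionVars false
set_option linter.unusedSimpArgs false
set_option linter.unusedVariables false

namespace Cfsg.Agent.Lib.H28.TwGen

open Cfsg.Lie Matrix Cfsg.Agent.Lib.H29.Chev

section Dedekind

variable {F : Type*} [Field F]

theorem exists_combo3_ne_zero (φ : F →+* F) (h1 : ∃ s, φ s ≠ s) (h2 : ∃ s, φ (φ s) ≠ s) (c0 c1 c2 : F)
    (hc0 : c0 ≠ 0) : ∃ u, c0 * u + c1 * φ u + c2 * φ (φ u) ≠ 0 := by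
  by_contra hcon
  push Not at hcon
  let g : Fin 3 → (F →* F) := ![MonoidHom.id F, (φ : F →* F), ((φ.comp φ : F →+* F) : F →* F)]
  have hg0 : ∀ u, g 0 u = u := fun u => rfl
  have hg1 : ∀ u, g 1 u = φ u := fun u => rfl
  have hg2 : ∀ u, g 2 u = φ (φ u) := fun u => rfl
  have hinj : Function.Injective g := by
    obtain ⟨s1, hs1⟩ := h1
    obtain ⟨s2, hs2⟩ := h2
    have h01 : g 0 ≠ g 1 := by
      intro h
      have := DFunLike.congr_fun h s1
      rw [hg0, hg1] at this
      exact hs1 this.symm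
    have h02 : g 0 ≠ g 2 := by
      intro h
      have := DFunLike.congr_fun h s2
      rw [hg0, hg2] at this
      exact hs2 this.symm
    have h12 : g 1 ≠ g 2 := by
      intro h
      have := DFunLike.congr_fun h s1
      rw [hg1, hg2] at this
      exact hs1 (φ.injective this).symm
    intro i j hij
    fin_cases i <;> fin_cases j <;> first | rfl | (exfalso; simp only [Fin.zero_eta, Fin.mk_one, Fin.reduceFinMk] at hij; first | exact h01 hij | exact h02 hij | exact h12 hij | exact h01 hij.symm | exact h02 hij.symm | exact h12 hij.symm)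
  have li := (linearIndependent_monoidHom F F).comp g hinj
  rw [Fintype.linearIndependent_iff] at li
  have := li ![c0, c1, c2] (by
    funext u
    simp only [Fin.sum_univ_three, Function.comp, Matrix.cons_val_zero, Matrix.cons_val_one, Matrix.cons_val_two,
      Pi.add_apply, Pi.smul_apply, smul_eq_mul, Pi.zero_apply]
    show c0 * (g 0) u + c1 * (g 1) u + c2 * (g 2) u = 0
    rw [hg0, hg1, hg2]
    exact hcon u) 0
  exact hc0 (by simpa using this)

theorem exists_combo2_ne_zero (φ : F →+* F) (h1 : ∃ s, φ s ≠ s) (c0 c1 : F)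
    (hc0 : c0 ≠ 0) : ∃ u, c0 * u + c1 * φ u ≠ 0 := by
  by_contra hcon
  push Not at hcon
  let g : Fin 2 → (F →* F) := ![MonoidHom.id F, (φ : F →* F)]
  have hg0 : ∀ u, g 0 u = u := fun u => rfl
  have hg1 : ∀ u, g 1 u = φ u := fun u => rfl
  have hinj : Function.Injective g := by
    obtain ⟨s1, hs1⟩ := h1
    have h01 : g 0 ≠ g 1 := by
      intro h
      have := DFunLike.congr_fun h s1
      rw [hg0, hg1] at this
      exact hs1 this.symm
    intro i j hij
    fin_cases i <;> fin_cases j <;> first | rfl | (exfalso; simp only [Fin.zero_eta, Fin.mk_one] at hij; first | exact h01 hij | exact h01 hij.symm)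
  have li := (linearIndependent_monoidHom F F).comp g hinj
  rw [Fintype.linearIndependent_iff] at li
  have := li ![c0, c1] (by
    funext u
    simp only [Fin.sum_univ_two, Function.comp, Matrix.cons_val_zero, Matrix.cons_val_one,
      Pi.add_apply, Pi.smul_apply, smul_eq_mul, Pi.zero_apply]
    show c0 * (g 0) u + c1 * (g 1) u = 0
    rw [hg0, hg1]
    exact hcon u) 0
  exact hc0 (by simpa using this)

end Dedekind

variable {D : ChevalleyDatum} {fd : FD} {fx : FX} {fc : FC} {fz : FZ} {F : Type*} [Field F]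

variable (C : Cert12 D fd fx fc fz) {ga : GA} {k : ℕ} {φ : F →+* F} {RL sreps : List ℕ} {fq : FQ} {q : ℕ}

variable (W : TwPack C ga k φ RL sreps fq q)
include C W

/-- a fixed root element of a `σ`-fixed subgroup has a fixed parameter -/
theorem param_fixed_of_mem (M : Subgroup (GL D.Idx F)) (hM : M ≤ fixS (C.c6.c2.sigma W.T.ginv φ)) (γ : ℕ)
    (hγ : γ < fd.n) (hγf : fd.gRoot ga γ = γ) (d : F) (hd : C.c6.c2.xA γ d ∈ M) : φ d = d := by
  have h1 := (mem_fixS _ _).mp (hM hd)
  rw [C.c6.c2.sigma_xA W.T.ginv W.T.graph φ γ hγ, hγf, W.T.fix γ hγ hγf, Int.cast_one, one_mul] at h1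
  exact C.xA_param_inj γ hγ _ _ h1

/-- generic fill of a fixed root subgroup from an additive, `F_q`-homogeneous family of parameters -/
theorem rootIn_of_family (M : Subgroup (GL D.Idx F)) (hM : M ≤ fixS (C.c6.c2.sigma W.T.ginv φ)) (γ : ℕ)
    (hγ : γ < fd.n) (hγf : fd.gRoot ga γ = γ) (f : F → F) (hf : ∀ e u, φ e = e → f (e * u) = e * f u)
    (hfM : ∀ u, C.c6.c2.xA γ (f u) ∈ M) (hne : ∃ u, f u ≠ 0) : RootIn C ga k φ M γ := by
  obtain ⟨u0, hu0⟩ := hne
  have hd : φ (f u0) = f u0 := param_fixed_of_mem C W M hM γ hγ hγf _ (hfM u0)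
  intro v hv
  have hvf : φ v = v := hv hγf
  rw [C.xS_of_fixed W.T W.T2 φ γ hγf]
  have he : φ (v / f u0) = v / f u0 := by rw [map_div₀, hvf, hd]
  have := hfM ((v / f u0) * u0)
  rw [hf _ _ he, div_mul_cancel₀ _ hu0] at this
  exact this

/-- `k = 3`: the long root subgroup at `γ` from the commutator of two short root subgroups -/
theorem rootIn_of_comm3 [Finite F] (hk : k = 3) (M : Subgroup (GL D.Idx F))
    (hM : M ≤ fixS (C.c6.c2.sigma W.T.ginv φ)) (r s γ : ℕ)
    (hγ : γ < fd.n) (hnr : fd.gRoot ga r ≠ r) (hns : fd.gRoot ga s ≠ s) (hγf : fd.gRoot ga γ = γ)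
    (c0 c1 c2 : F) (hc0 : c0 ≠ 0)
    (hcomm : ∀ t u : F, C.xS ga k φ r t * C.xS ga k φ s u * (C.xS ga k φ r t)⁻¹ * (C.xS ga k φ s u)⁻¹ =
      C.c6.c2.xA γ (c0 * (t * u) + c1 * φ (t * u) + c2 * φ (φ (t * u))))
    (hR : RootIn C ga k φ M r) (hS : RootIn C ga k φ M s) : RootIn C ga k φ M γ := by
  have h1 := C.exists_not_fixed W
  have h2 : ∃ s : F, φ (φ s) ≠ s := by
    obtain ⟨s, hs⟩ := h1
    refine ⟨s, fun h => hs ?_⟩
    have h3 := W.hφk s
    rw [hk] at h3
    simp only [Function.iterate_succ, Function.iterate_zero, Function.comp, id] at h3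
    rw [h] at h3
    exact h3
  apply rootIn_of_family C W M hM γ hγ hγf (fun u => c0 * u + c1 * φ u + c2 * φ (φ u))
  · intro e u he
    simp only [map_mul, he]
    ring
  · intro u
    have := hcomm 1 u
    rw [one_mul] at this
    rw [← this]
    have hx : C.xS ga k φ r 1 ∈ M := hR 1 (fun h => absurd h hnr)
    have hy : C.xS ga k φ s u ∈ M := hS u (fun h => absurd h hns)
    exact mul_mem (mul_mem (mul_mem hx hy) (inv_mem hx)) (inv_mem hy)
  · exact exists_combo3_ne_zero φ h1 h2 c0 c1 c2 hc0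

/-- `k = 2`: the long root subgroup at `γ` from the commutator of two short root subgroups -/
theorem rootIn_of_comm2 [Finite F] (M : Subgroup (GL D.Idx F))
    (hM : M ≤ fixS (C.c6.c2.sigma W.T.ginv φ)) (r s γ : ℕ)
    (hγ : γ < fd.n) (hnr : fd.gRoot ga r ≠ r) (hns : fd.gRoot ga s ≠ s) (hγf : fd.gRoot ga γ = γ)
    (c0 c1 : F) (hc0 : c0 ≠ 0) (ψ : F → F) (hψ : ∀ e u, φ e = e → ψ (e * u) = e * ψ u)
    (hψ' : Function.Surjective ψ)
    (hcomm : ∀ t u : F, C.xS ga k φ r t * C.xS ga k φ s u * (C.xS ga k φ r t)⁻¹ * (C.xS ga k φ s u)⁻¹ =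
      C.c6.c2.xA γ (c0 * (t * ψ u) + c1 * φ (t * ψ u)))
    (hR : RootIn C ga k φ M r) (hS : RootIn C ga k φ M s) : RootIn C ga k φ M γ := by
  have h1 := C.exists_not_fixed W
  apply rootIn_of_family C W M hM γ hγ hγf (fun u => c0 * ψ u + c1 * φ (ψ u))
  · intro e u he
    simp only [hψ e u he, map_mul, he]
    ring
  · intro u
    have := hcomm 1 u
    rw [one_mul] at this
    rw [← this]
    have hx : C.xS ga k φ r 1 ∈ M := hR 1 (fun h => absurd h hnr)
    have hy : C.xS ga k φ s u ∈ M := hS u (fun h => absurd h hns)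
    exact mul_mem (mul_mem (mul_mem hx hy) (inv_mem hx)) (inv_mem hy)
  · obtain ⟨u', hu'⟩ := exists_combo2_ne_zero φ h1 c0 c1 hc0
    obtain ⟨u, rfl⟩ := hψ' u'
    exact ⟨u, hu'⟩

end Cfsg.Agent.Lib.H28.TwGen
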