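import Mathlib
import Cfsg.Prelude.Def_ChevStructure
import Cfsg.Prelude.Def_LieExceptional
import Cfsg.Agent.Lib.H29.TwAut17
import Cfsg.Agent.Lib.H28.TwGenB

/-!
# Two-generation of twisted groups, part D: the values of the roots at the torus elements `h_S(u)` of a non fixed
orbit, and generators of finite fields
-/

set_option autoImplicit false
set_option linter.unusedSectionVars false
set_option linter.unusedSimpArgs false
set_option linter.unusedVariables false

namespace Cfsg.Agent.Lib.H28.TwGen

open Cfsg.Lie Matrix Cfsg.Agent.Lib.H29.Chev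

section Gen

variable {F : Type*} [Field F] [Finite F]

/-- a generator of the multiplicative group of a finite field, with its order -/
theorem exists_generator : ∃ κ : Fˣ, (∀ u : Fˣ, u ∈ Subgroup.zpowers κ) ∧ orderOf κ = Nat.card F - 1 := by
  obtain ⟨κ, hκ⟩ := IsCyclic.exists_generator (α := Fˣ)
  refine ⟨κ, hκ, ?_⟩
  rw [orderOf_eq_card_of_forall_mem_zpowers hκ, Nat.card_units]

end Gen

variable {D : ChevalleyDatum} {fd : FD} {fx : FX} {fc : FC} {fz : FZ} {F : Type*} [Field F]

variable (C : Cert12 D fd fx fc fz) {ga : GA} {k : ℕ} {φ : F →+* F} {RL sreps : List ℕ} {fq : FQ} {q : ℕ}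

variable (W : TwPack C ga k φ RL sreps fq q)
include C W

/-- the value of the root `s` at the torus element attached to a non fixed orbit, `k = 3` -/
theorem chiC_yS3 (hk : k = 3) (i : ℕ) (hi : i < fd.l) (hne : ga.rh.getD i 0 ≠ i) (s : ℕ) (hs : s < fd.n) (u : Fˣ) :
    chiC D fd F (yS fd ga k φ i u) s =
      ((u ^ fd.carZ i s * (Units.map φ.toMonoidHom u) ^ fd.carZ (rhIt ga 1 i) s *
        (Units.map φ.toMonoidHom (Units.map φ.toMonoidHom u)) ^ fd.carZ (rhIt ga 2 i) s : Fˣ) : F) := by
  have hn := C.c6.c2.nroots_eq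
  have hs' : s < D.nroots := by omega
  have hl : ∀ a, rhIt ga a i < fd.l := fun a => C.rhIt_lt W.T W.T2 a i hi
  subst hk
  have key : entryHom D fd F (yS fd ga 3 φ i u) (Sum.inr ⟨s, hs'⟩) =
      u ^ fd.carZ i s * (Units.map φ.toMonoidHom u) ^ fd.carZ (rhIt ga 1 i) s *
        (Units.map φ.toMonoidHom (Units.map φ.toMonoidHom u)) ^ fd.carZ (rhIt ga 2 i) s := by
    unfold yS
    rw [if_neg hne]
    simp only [List.range_succ, List.range_zero, List.nil_append, List.cons_append, List.map_cons, List.map_nil,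
      List.prod_cons, List.prod_nil, mul_one, map_mul, Pi.mul_apply, dif_pos (hl 0), dif_pos (hl 1),
      dif_pos (hl 2)]
    rw [entry_mulSingle, entry_mulSingle, entry_mulSingle]
    simp only [Function.iterate_succ, Function.iterate_zero, Function.comp, id]
    rw [mul_assoc]
    rfl
  unfold chiC
  rw [dif_pos hs', key]

/-- the value of the root `s` at the torus element attached to a non fixed orbit, `k = 2` -/
theorem chiC_yS2 (hk : k = 2) (i : ℕ) (hi : i < fd.l) (hne : ga.rh.getD i 0 ≠ i) (s : ℕ) (hs : s < fd.n) (u : Fˣ) :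
    chiC D fd F (yS fd ga k φ i u) s =
      ((u ^ fd.carZ i s * (Units.map φ.toMonoidHom u) ^ fd.carZ (rhIt ga 1 i) s : Fˣ) : F) := by
  have hn := C.c6.c2.nroots_eq
  have hs' : s < D.nroots := by omega
  have hl : ∀ a, rhIt ga a i < fd.l := fun a => C.rhIt_lt W.T W.T2 a i hi
  subst hk
  have key : entryHom D fd F (yS fd ga 2 φ i u) (Sum.inr ⟨s, hs'⟩) =
      u ^ fd.carZ i s * (Units.map φ.toMonoidHom u) ^ fd.carZ (rhIt ga 1 i) s := by
    unfold yS
    rw [if_neg hne]
    simp only [List.range_succ, List.range_zero, List.nil_append, List.cons_append, List.map_cons, List.map_nil,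
      List.prod_cons, List.prod_nil, mul_one, map_mul, Pi.mul_apply, dif_pos (hl 0), dif_pos (hl 1)]
    rw [entry_mulSingle, entry_mulSingle]
    simp only [Function.iterate_succ, Function.iterate_zero, Function.comp, id]
    rfl
  unfold chiC
  rw [dif_pos hs', key]

end Cfsg.Agent.Lib.H28.TwGen
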