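import Mathlib
import Cfsg.Prelude.Def_LieTwisted
import Cfsg.Agent.Lib.H29.TwAutD4
import Cfsg.Agent.Lib.H28.TwGenC
import Cfsg.Agent.Lib.H28.TwGenD

/-!
# The twisted group of type `D₄` is generated by two elements (parametric in the commutator formula COMM)
-/

set_option autoImplicit false
set_option linter.unusedSectionVars false
set_option linter.unusedSimpArgs false
set_option linter.unusedVariables false

namespace Cfsg.Agent.Lib.H28.TwGen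

open Cfsg.Lie Matrix Cfsg.Agent.Lib.H29.Chev

/-- the permutation of the roots induced by the twisted Coxeter element -/
def piD4 : ℕ → ℕ := fdD4.piS fxD4 gaD4a 3 0 ∘ fdD4.piS fxD4 gaD4a 3 1

set_option maxRecDepth 1000000 in
theorem piD4_short : piD4 4 = 18 ∧ piD4^[1] 18 = 17 ∧ piD4^[2] 18 = 19 ∧ piD4^[3] 18 = 5 ∧ piD4^[4] 18 = 6 ∧
    piD4^[5] 18 = 4 := by decide +kernel

set_option maxRecDepth 1000000 in
theorem piD4_long : piD4^[1] 22 = 23 ∧ piD4^[2] 22 = 14 ∧ piD4^[3] 22 = 1 ∧ piD4^[4] 22 = 0 ∧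
    piD4^[5] 22 = 9 := by decide +kernel

theorem d4_data : fdD4.n = 24 ∧ fdD4.l = 4 ∧ fdD4.simples.getD 0 0 = 18 ∧ fdD4.simples.getD 1 0 = 14 ∧
    gaD4a.rh.getD 0 0 ≠ 0 ∧ rhIt gaD4a 1 0 = 2 ∧ rhIt gaD4a 2 0 = 3 ∧
    fdD4.gRoot gaD4a 18 ≠ 18 ∧ fdD4.gRoot gaD4a 17 ≠ 17 ∧ fdD4.gRoot gaD4a 5 ≠ 5 ∧ fdD4.gRoot gaD4a 22 = 22 ∧
    fdD4.carZ 0 18 = 2 ∧ fdD4.carZ 2 18 = 0 ∧ fdD4.carZ 3 18 = 0 ∧
    fdD4.carZ 0 4 = -1 ∧ fdD4.carZ 2 4 = 1 ∧ fdD4.carZ 3 4 = 1 := by decide +kernel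


variable {K : Type*} [Field K]

/-- the statement of the commutator formula COMM -/
def CommD4 (φ : K →+* K) : Prop :=
  ∃ c0 c1 c2 : K, c0 ≠ 0 ∧ ∀ t u : K,
    cert12_D4.xS gaD4a 3 φ 18 t * cert12_D4.xS gaD4a 3 φ 17 u *
      (cert12_D4.xS gaD4a 3 φ 18 t)⁻¹ * (cert12_D4.xS gaD4a 3 φ 17 u)⁻¹ =
    cert12_D4.c6.c2.xA 22 (c0 * (t * u) + c1 * φ (t * u) + c2 * φ (φ (t * u)))

theorem two_gen_D4_of_comm [Finite K] (q : ℕ) (hq : 1 ≤ q) (hK : Nat.card K = q ^ 3) (φ : K →+* K)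
    (hφ : ∀ x, φ x = x ^ q) (hφk : ∀ x : K, φ^[3] x = x) (hcomm : CommD4 φ) :
    ∃ a b : GL chevD4.Idx K,
      Subgroup.closure {a, b} = Subgroup.closure (cert12_D4.twGen gaD4a 3 φ srD4a) := by
  have W := twPack_D4 q hq hK φ hφ hφk
  obtain ⟨dn, dl, ds0, ds1, drh, drh1, drh2, dg18, dg17, dg5, dg22, c18a, c18b, c18c, c4a, c4b, c4c⟩ := d4_data
  have h0 : (0 : ℕ) ∈ srD4a := by decide
  have h1 : (1 : ℕ) ∈ srD4a := by decide
  have hl0 : 0 < fdD4.l := by rw [dl]; norm_num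
  have hl1 : 1 < fdD4.l := by rw [dl]; norm_num
  have hn : ∀ r, r < 24 → r < fdD4.n := fun r hr => by rw [dn]; exact hr
  -- `2 ≤ q`
  have hq2 : 2 ≤ q := by
    by_contra hlt
    have hq1 : q = 1 := by omega
    rw [hq1, one_pow] at hK
    have := Finite.one_lt_card (α := K)
    omega
  have hq3 : q ^ 3 = q * q * q := by ring
  have hqq : q + q * q + 2 ≤ q ^ 3 := by
    rw [hq3]
    have h4 : 2 * (q * q) ≤ q * q * q := by nlinarith
    nlinarith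
  obtain ⟨κ, hκ, hord⟩ := exists_generator (F := K)
  rw [hK] at hord
  have hφκ : Units.map φ.toMonoidHom κ = κ ^ q := by
    apply Units.ext
    simp [hφ]
  have hφφκ : Units.map φ.toMonoidHom (Units.map φ.toMonoidHom κ) = (κ ^ q) ^ q := by
    rw [hφκ, map_pow, hφκ]
  -- the two generators
  have hKr18 : ∀ t : K, t ∈ Kr fdD4 gaD4a φ (fdD4.simples.getD 0 0) := by
    intro t hf
    rw [ds0] at hf
    exact absurd hf dg18
  obtain ⟨_, hhG⟩ := cert12_D4.hS_mem W 0 h0 (κ : K) (Units.ne_zero κ) (hKr18 _)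
  have hheq := cert12_D4.hS_eq W.T W.T2 φ (k := 3) 0 hl0 κ
  rw [hheq] at hhG
  set x := yS fdD4 gaD4a 3 φ 0 κ with hx
  set w := cert12_D4.nS K gaD4a 3 0 * cert12_D4.nS K gaD4a 3 1 with hwdef
  have hwG : w ∈ cert12_D4.G1 gaD4a 3 φ srD4a := mul_mem (cert12_D4.nS_mem_G1 W 0 h0) (cert12_D4.nS_mem_G1 W 1 h1)
  have hx1G : cert12_D4.xS gaD4a 3 φ 18 1 ∈ cert12_D4.G1 gaD4a 3 φ srD4a := by
    have := cert12_D4.xS_mem_G1 W 0 h0 (1 : K) (hKr18 _)
    rwa [ds0] at this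
  refine ⟨chiHom chevD4 fdD4 K x, cert12_D4.xS gaD4a 3 φ 18 1 * w, ?_⟩
  set M := Subgroup.closure {chiHom chevD4 fdD4 K x, cert12_D4.xS gaD4a 3 φ 18 1 * w} with hM
  have hhM : chiHom chevD4 fdD4 K x ∈ M := Subgroup.subset_closure (by simp)
  have hgM : cert12_D4.xS gaD4a 3 φ 18 1 * w ∈ M := Subgroup.subset_closure (by simp)
  have hMG : M ≤ cert12_D4.G1 gaD4a 3 φ srD4a := by
    rw [hM, Subgroup.closure_le]
    intro g hg
    rcases hg with rfl | rfl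
    · exact hhG
    · exact mul_mem hx1G hwG
  have hMfix : M ≤ fixS (cert12_D4.c6.c2.sigma W.T.ginv φ) := hMG.trans (cert12_D4.G1_le_fix W)
  have hw : w ∈ chevD4.monomialSubgroup K :=
    mul_mem (cert12_D4.nS_mem_monomial W.T W.T2 0) (cert12_D4.nS_mem_monomial W.T W.T2 1)
  have hwfix : cert12_D4.c6.c2.sigma W.T.ginv φ w = w := cert12_D4.sigma_of_mem W hwG
  have hπ : cert12_D4.c6.c2.Perm w piD4 :=
    cert12_D4.c6.perm_mul (cert12_D4.perm_nS W.T W.T2 0 hl0) (cert12_D4.perm_nS W.T W.T2 1 hl1)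
  -- the values of the roots at `h`
  have hl : chiC chevD4 fdD4 K x 18 = (κ : K) ^ 2 := by
    rw [hx, chiC_yS3 cert12_D4 W rfl 0 hl0 drh 18 (hn 18 (by norm_num)) κ, drh1, drh2, c18a, c18b, c18c]
    simp
  have hκ2 : (κ : K) ^ 2 ≠ 1 := by
    have : κ ^ 2 ≠ 1 := pow_ne_one_of_lt_orderOf (by norm_num) (by rw [hord]; omega)
    intro h
    apply this
    apply Units.ext
    simpa using h
  have hl' : chiC chevD4 fdD4 K x 4 ≠ 1 := by
    rw [hx, chiC_yS3 cert12_D4 W rfl 0 hl0 drh 4 (hn 4 (by norm_num)) κ, drh1, drh2, c4a, c4b, c4c, hφφκ, hφκ]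
    intro h
    have h2 : κ ^ (-1 : ℤ) * (κ ^ q) ^ (1 : ℤ) * ((κ ^ q) ^ q) ^ (1 : ℤ) = 1 := Units.ext (by simpa using h)
    rw [zpow_one, zpow_one, _root_.zpow_neg_one, ← pow_mul, mul_assoc, ← pow_add, inv_mul_eq_one] at h2
    have h3 : κ ^ 1 = κ ^ (q + q * q) := by rw [pow_one]; exact h2
    have := pow_injOn_Iio_orderOf (x := κ) (by rw [Set.mem_Iio, hord]; omega) (by rw [Set.mem_Iio, hord]; omega) h3
    nlinarith
  -- the root subgroup of the short fundamental root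
  have hX18 : ∀ t, cert12_D4.xS gaD4a 3 φ 18 t ∈ M :=
    root_fill cert12_D4 W M x (cert12_D4.sigma_of_mem W hhG) hhM w hw hwfix piD4 hπ 18 4 (hn 18 (by norm_num))
      (hn 4 (by norm_num)) piD4_short.1 κ hκ hl hκ2 hl' hgM
  have hR18 : RootIn cert12_D4 gaD4a 3 φ M 18 := fun t _ => hX18 t
  have hwM : w ∈ M := by
    have : w = (cert12_D4.xS gaD4a 3 φ 18 1)⁻¹ * (cert12_D4.xS gaD4a 3 φ 18 1 * w) := by group
    rw [this]
    exact mul_mem (inv_mem (hX18 1)) hgM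
  have it := rootIn_perm_iter cert12_D4 W M w hwM hw hwfix piD4 hπ 18 (hn 18 (by norm_num)) hR18
  obtain ⟨_, p1, p2, p3, p4, p5⟩ := piD4_short
  have hR17 := (it 1).2
  rw [p1] at hR17
  have hR5 := (it 3).2
  rw [p3] at hR5
  -- the long roots
  obtain ⟨c0, c1, c2, hc0, hc⟩ := hcomm
  have hR22 : RootIn cert12_D4 gaD4a 3 φ M 22 :=
    rootIn_of_comm3 cert12_D4 W rfl M hMfix 18 17 22 (hn 22 (by norm_num)) dg18 dg17 dg22 c0 c1 c2 hc0 hc hR18 hR17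
  have it2 := rootIn_perm_iter cert12_D4 W M w hwM hw hwfix piD4 hπ 22 (hn 22 (by norm_num)) hR22
  obtain ⟨l1, l2, l3, l4, l5⟩ := piD4_long
  have hR14 := (it2 2).2
  rw [l2] at hR14
  have hR9 := (it2 5).2
  rw [l5] at hR9
  -- conclusion
  apply le_antisymm hMG
  rw [Subgroup.closure_le]
  rintro g ⟨i, hi, t, ht, hg⟩
  have hi2 : i = 0 ∨ i = 1 := by simpa [srD4a] using hi
  rcases hi2 with rfl | rfl
  · rw [ds0, dn] at hg
    rcases hg with rfl | rfl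
    · exact hX18 t
    · exact hR5 t (fun h => absurd h dg5)
  · have ht' := cert12_D4.Kr_neg W.T W.T2 φ _ (cert12_D4.c6.c2.simple_lt 1 hl1) t ht
    rw [ds1] at ht
    rw [ds1, dn] at ht' hg
    rcases hg with rfl | rfl
    · exact hR14 t ht
    · exact hR9 t ht'

end Cfsg.Agent.Lib.H28.TwGen

namespace Cfsg.Agent.Lib.H28.TwGen

open Cfsg.Lie Matrix Cfsg.Agent.Lib.H29.Chev

/-- S2407, parametric in the commutator formula COMM -/
theorem two_gen_twistedD4_of_comm {K : Type*} [Field K] [Fintype K] {q : ℕ} (hq : IsPrimePow q)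
    (hK : Fintype.card K = q ^ 3) (hcomm : ∀ φ : K →+* K, CommD4 φ) :
    ∃ a b : ↥(Lie.twistedD4 K q), Subgroup.closure {a, b} = ⊤ := by
  obtain ⟨φ, hφ, _, hφk⟩ := exists_frob hq hK
  have hq1 : 1 ≤ q := hq.one_lt.le
  have hKc : Nat.card K = q ^ 3 := by rw [Nat.card_eq_fintype_card, hK]
  have e : twistedD4 K q = Subgroup.closure (cert12_D4.twGen gaD4a 3 φ srD4a) := by
    unfold twistedD4 ChevalleyDatum.genSubgroup
    rw [twGen_D4 q φ hφ]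
  rw [e]
  obtain ⟨a, b, hab⟩ := two_gen_D4_of_comm q hq1 hKc φ hφ hφk (hcomm φ)
  exact exists_pair_closure_top _ a b hab

end Cfsg.Agent.Lib.H28.TwGen
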