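import Mathlib
import Cfsg.Prelude.Def_ChevStructure
import Cfsg.Prelude.Def_LieExceptional
import Cfsg.Agent.Lib.H29.ChevTw33
import Cfsg.Agent.Lib.H28.TwGenC

/-!
# Two-generation of twisted groups, part E: further transport lemmas for root subgroups

* `xS_mate`, `rootIn_mate` (`k = 2`): the root subgroups at `r` and `ρ r` coincide;
* `rootIn_of_comm_fixed`: the commutator of two fixed root subgroups;
* `rootIn_of_comm_short`: a commutator formula `⁅x_r(t), x_s(u)⁆ = x_γ(c t u)`.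
-/

set_option autoImplicit false
set_option linter.unusedSectionVars false
set_option linter.unusedSimpArgs false
set_option linter.unusedVariables false

namespace Cfsg.Agent.Lib.H28.TwGen

open Cfsg.Lie Matrix Cfsg.Agent.Lib.H29.Chev

variable {D : ChevalleyDatum} {fd : FD} {fx : FX} {fc : FC} {fz : FZ} {F : Type*} [Field F]

section Mate

variable (C : Cert12 D fd fx fc fz) {ga : GA} (T : TwSpec fd fx ga 2) (φ : F →+* F)
include C T

/-- `k = 2`: the element `x_S(t)` written at the other root of the orbit -/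
theorem xS_mate (hφk : ∀ x : F, φ^[2] x = x) (r : ℕ) (hr : r < fd.n) (hnf : fd.gRoot ga r ≠ r) (t : F) :
    C.xS ga 2 φ (fd.gRoot ga r) (((fd.gEps ga r : ℤ) : F) * φ t) = C.xS ga 2 φ r t := by
  have hr' := T.gRoot_lt r hr
  have hnf' : fd.gRoot ga (fd.gRoot ga r) ≠ fd.gRoot ga r := fun h => hnf (T.gRoot_inj _ _ hr' hr h)
  have e1 : C.aj ga φ r t 1 = C.aj ga φ (fd.gRoot ga r) (((fd.gEps ga r : ℤ) : F) * φ t) 0 := by
    rw [C.aj_zero T]
    unfold Cert12.aj
    rw [fd.gIt_succ, fd.gIt_zero, FD.eProd, FD.eProd, fd.gIt_zero, one_mul, Function.iterate_one]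
  have e2 : C.aj ga φ (fd.gRoot ga r) (((fd.gEps ga r : ℤ) : F) * φ t) 1 = C.aj ga φ r t 0 := by
    rw [← C.sigma_aj T φ _ hr', ← e1, C.sigma_aj T φ r hr]
    exact C.aj_k T φ hφk r hr t
  unfold Cert12.xS FD.os
  rw [if_neg hnf, if_neg hnf']
  simp only [List.range_succ, List.range_zero, List.nil_append, List.cons_append, List.map_cons, List.map_nil,
    List.prod_cons, List.prod_nil, mul_one]
  rw [e2, ← e1]
  exact C.aj_comm T φ r hr hnf t 1 0 (by norm_num) (by norm_num) (by norm_num)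

end Mate

variable (C : Cert12 D fd fx fc fz) {ga : GA} {k : ℕ} {φ : F →+* F} {RL sreps : List ℕ} {fq : FQ} {q : ℕ}

variable (W : TwPack C ga k φ RL sreps fq q)
include C W

/-- `k = 2`: the root subgroups at `r` and `ρ r` coincide -/
theorem rootIn_mate (hk : k = 2) (M : Subgroup (GL D.Idx F)) (r : ℕ) (hr : r < fd.n) (hnf : fd.gRoot ga r ≠ r)
    (h : RootIn C ga k φ M r) : RootIn C ga k φ M (fd.gRoot ga r) := by
  subst hk
  intro t' _
  have hφ2 : ∀ x : F, φ (φ x) = x := fun x => W.hφk x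
  have hε : ((fd.gEps ga r : ℤ) : F) * ((fd.gEps ga r : ℤ) : F) = 1 := by
    rw [← Int.cast_mul, fd.gEps_sq, Int.cast_one]
  have e := xS_mate C W.T φ W.hφk r hr hnf (φ (((fd.gEps ga r : ℤ) : F) * t'))
  rw [hφ2, ← mul_assoc, hε, one_mul] at e
  rw [e]
  exact h _ (fun hf => absurd hf hnf)

/-- the commutator of two fixed root subgroups -/
theorem rootIn_of_comm_fixed (M : Subgroup (GL D.Idx F)) (r s γ : ℕ) (hr : r < fd.n) (hs : s < fd.n)
    (h1 : s ≠ r) (h2 : s ≠ fd.n - 1 - r) (ε : ℤ) (hε : ε = 1 ∨ ε = -1) (hct : fd.commT r s = [(γ, ε, 1, 1)])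
    (hrf : fd.gRoot ga r = r) (hsf : fd.gRoot ga s = s) (hγf : fd.gRoot ga γ = γ)
    (hR : RootIn C ga k φ M r) (hS : RootIn C ga k φ M s) : RootIn C ga k φ M γ := by
  intro v hv
  rw [C.xS_of_fixed W.T W.T2 φ γ hγf]
  have hrG : ∀ t, φ t = t → C.c6.c2.xA r t ∈ M := by
    intro t ht
    rw [← C.xS_of_fixed W.T W.T2 φ r hrf]
    exact hR t (fun _ => ht)
  have hsG : ∀ t, φ t = t → C.c6.c2.xA s t ∈ M := by
    intro t ht
    rw [← C.xS_of_fixed W.T W.T2 φ s hsf]
    exact hS t (fun _ => ht)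
  have hle : ⁅M, M⁆ ≤ M := by
    rw [Subgroup.commutator_le]
    intro g₁ h₁ g₂ h₂
    rw [commutatorElement_def]
    exact mul_mem (mul_mem (mul_mem h₁ h₂) (inv_mem h₁)) (inv_mem h₂)
  exact hle (C.xA_mem_comm_of_cf W.T φ M r s γ hr hs h1 h2 ε hε hct hrG hsG v (hv hγf))

/-- a commutator formula `⁅x_r(t), x_s(u)⁆ = x_γ(c t u)` for non fixed `r`, `s` -/
theorem rootIn_of_comm_short (M : Subgroup (GL D.Idx F)) (r s γ : ℕ)
    (hnr : fd.gRoot ga r ≠ r) (hns : fd.gRoot ga s ≠ s) (c : F) (hc : c ≠ 0)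
    (hcomm : ∀ t u : F, C.xS ga k φ r t * C.xS ga k φ s u * (C.xS ga k φ r t)⁻¹ * (C.xS ga k φ s u)⁻¹ =
      C.xS ga k φ γ (c * (t * u)))
    (hR : RootIn C ga k φ M r) (hS : RootIn C ga k φ M s) : RootIn C ga k φ M γ := by
  intro v _
  have := hcomm 1 (c⁻¹ * v)
  rw [one_mul, ← mul_assoc, mul_inv_cancel₀ hc, one_mul] at this
  rw [← this]
  have hx : C.xS ga k φ r 1 ∈ M := hR 1 (fun h => absurd h hnr)
  have hy : C.xS ga k φ s (c⁻¹ * v) ∈ M := hS _ (fun h => absurd h hns)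
  exact mul_mem (mul_mem (mul_mem hx hy) (inv_mem hx)) (inv_mem hy)

end Cfsg.Agent.Lib.H28.TwGen
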