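import Mathlib
import Cfsg.Prelude.Def_LieTwisted
import Cfsg.Agent.Lib.H29.TwAutE6
import Cfsg.Agent.Lib.H28.TwGenD
import Cfsg.Agent.Lib.H28.TwGenE

/-!
# The twisted group of type `E₆` is generated by two elements (parametric in two commutator formulas)
-/

set_option autoImplicit false
set_option linter.unusedSectionVars false
set_option linter.unusedSimpArgs false
set_option linter.unusedVariables false

namespace Cfsg.Agent.Lib.H28.TwGen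

open Cfsg.Lie Matrix Cfsg.Agent.Lib.H29.Chev

/-- the permutation of the roots induced by the twisted Coxeter element -/
def piE6 : ℕ → ℕ :=
  fdE6.piS fxE6 gaE6a 2 0 ∘ fdE6.piS fxE6 gaE6a 2 1 ∘ fdE6.piS fxE6 gaE6a 2 2 ∘ fdE6.piS fxE6 gaE6a 2 3

set_option maxRecDepth 1000000 in
theorem piE6_O1 : piE6 13 = 56 ∧ piE6^[1] 56 = 42 ∧ piE6^[4] 56 = 50 ∧ piE6^[5] 56 = 41 ∧ piE6^[6] 56 = 35 ∧
    piE6^[7] 56 = 34 := by decide +kernel

set_option maxRecDepth 1000000 in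
theorem piE6_O2 : piE6^[1] 54 = 40 ∧ piE6^[10] 54 = 66 := by decide +kernel

set_option maxRecDepth 1000000 in
theorem piE6_L1 : piE6^[2] 70 = 39 ∧ piE6^[8] 70 = 32 ∧ piE6^[9] 70 = 63 := by decide +kernel

set_option maxRecDepth 1000000 in
theorem piE6_L2 : piE6^[3] 65 = 25 ∧ piE6^[9] 65 = 46 := by decide +kernel

set_option maxRecDepth 1000000 in
theorem e6_data : fdE6.n = 72 ∧ fdE6.l = 6 ∧ fdE6.simples.getD 0 0 = 56 ∧ fdE6.simples.getD 1 0 = 46 ∧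
    fdE6.simples.getD 2 0 = 42 ∧ fdE6.simples.getD 3 0 = 39 ∧
    gaE6a.rh.getD 0 0 ≠ 0 ∧ rhIt gaE6a 1 0 = 5 ∧
    fdE6.carZ 0 56 = 2 ∧ fdE6.carZ 5 56 = 0 ∧ fdE6.carZ 0 13 = -1 ∧ fdE6.carZ 5 13 = 0 := by decide +kernel

set_option maxRecDepth 1000000 in
theorem e6_groot : fdE6.gRoot gaE6a 35 = 15 ∧ fdE6.gRoot gaE6a 34 = 29 ∧
    fdE6.gRoot gaE6a 56 ≠ 56 ∧ fdE6.gRoot gaE6a 42 ≠ 42 ∧ fdE6.gRoot gaE6a 35 ≠ 35 ∧ fdE6.gRoot gaE6a 34 ≠ 34 ∧
    fdE6.gRoot gaE6a 41 ≠ 41 ∧ fdE6.gRoot gaE6a 50 ≠ 50 ∧ fdE6.gRoot gaE6a 40 ≠ 40 ∧ fdE6.gRoot gaE6a 66 ≠ 66 ∧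
    fdE6.gRoot gaE6a 15 ≠ 15 ∧ fdE6.gRoot gaE6a 29 ≠ 29 ∧
    fdE6.gRoot gaE6a 70 = 70 ∧ fdE6.gRoot gaE6a 39 = 39 ∧ fdE6.gRoot gaE6a 63 = 63 ∧ fdE6.gRoot gaE6a 65 = 65 ∧
    fdE6.commT 39 63 = [(65, 1, 1, 1)] := by decide +kernel


variable {K : Type*} [Field K]

/-- the statement of the commutator formula COMM-iv -/
def CommE6iv (φ : K →+* K) : Prop :=
  ∃ c : K, c ≠ 0 ∧ ∀ t u : K,
    cert12_E6.xS gaE6a 2 φ 41 t * cert12_E6.xS gaE6a 2 φ 50 u *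
      (cert12_E6.xS gaE6a 2 φ 41 t)⁻¹ * (cert12_E6.xS gaE6a 2 φ 50 u)⁻¹ =
    cert12_E6.xS gaE6a 2 φ 54 (c * (t * u))

/-- the statement of the commutator formula COMM-ii' -/
def CommE6ii (φ : K →+* K) : Prop :=
  ∃ c0 c1 : K, c0 ≠ 0 ∧ ∀ t u : K,
    cert12_E6.xS gaE6a 2 φ 40 t * cert12_E6.xS gaE6a 2 φ 66 u *
      (cert12_E6.xS gaE6a 2 φ 40 t)⁻¹ * (cert12_E6.xS gaE6a 2 φ 66 u)⁻¹ =
    cert12_E6.c6.c2.xA 70 (c0 * (t * φ u) + c1 * φ (t * φ u))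

theorem two_gen_E6_of_comm [Finite K] (q : ℕ) (hq : 1 ≤ q) (hK : Nat.card K = q ^ 2) (φ : K →+* K)
    (hφ : ∀ x, φ x = x ^ q) (hφk : ∀ x : K, φ^[2] x = x) (hiv : CommE6iv φ) (hii : CommE6ii φ) :
    ∃ a b : GL chevE6.Idx K,
      Subgroup.closure {a, b} = Subgroup.closure (cert12_E6.twGen gaE6a 2 φ srE6a) := by
  have W := twPack_E6 q hq hK φ hφ hφk
  obtain ⟨dn, dl, ds0, ds1, ds2, ds3, drh, drh1, c56a, c56b, c13a, c13b⟩ := e6_data
  obtain ⟨g35, g34, nf56, nf42, nf35, nf34, nf41, nf50, nf40, nf66, nf15, nf29, f70, f39, f63, f65, hct⟩ := e6_groot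
  have h0 : (0 : ℕ) ∈ srE6a := by decide
  have h1 : (1 : ℕ) ∈ srE6a := by decide
  have h2 : (2 : ℕ) ∈ srE6a := by decide
  have h3 : (3 : ℕ) ∈ srE6a := by decide
  have hl0 : 0 < fdE6.l := by rw [dl]; norm_num
  have hl1 : 1 < fdE6.l := by rw [dl]; norm_num
  have hl2 : 2 < fdE6.l := by rw [dl]; norm_num
  have hl3 : 3 < fdE6.l := by rw [dl]; norm_num
  have hn : ∀ r, r < 72 → r < fdE6.n := fun r hr => by rw [dn]; exact hr
  have hφ2 : ∀ x : K, φ (φ x) = x := fun x => hφk x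
  -- `2 ≤ q`
  have hq2 : 2 ≤ q := by
    by_contra hlt
    have hq1 : q = 1 := by omega
    rw [hq1, one_pow] at hK
    have := Finite.one_lt_card (α := K)
    omega
  have hqq : 4 ≤ q ^ 2 := by nlinarith
  obtain ⟨κ, hκ, hord⟩ := exists_generator (F := K)
  rw [hK] at hord
  -- the two generators
  have hKr56 : ∀ t : K, t ∈ Kr fdE6 gaE6a φ (fdE6.simples.getD 0 0) := by
    intro t hf
    rw [ds0] at hf
    exact absurd hf nf56
  obtain ⟨_, hhG⟩ := cert12_E6.hS_mem W 0 h0 (κ : K) (Units.ne_zero κ) (hKr56 _)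
  have hheq := cert12_E6.hS_eq W.T W.T2 φ (k := 2) 0 hl0 κ
  rw [hheq] at hhG
  set x := yS fdE6 gaE6a 2 φ 0 κ with hx
  set w := cert12_E6.nS K gaE6a 2 0 * (cert12_E6.nS K gaE6a 2 1 * (cert12_E6.nS K gaE6a 2 2 *
    cert12_E6.nS K gaE6a 2 3)) with hwdef
  have hwG : w ∈ cert12_E6.G1 gaE6a 2 φ srE6a :=
    mul_mem (cert12_E6.nS_mem_G1 W 0 h0) (mul_mem (cert12_E6.nS_mem_G1 W 1 h1)
      (mul_mem (cert12_E6.nS_mem_G1 W 2 h2) (cert12_E6.nS_mem_G1 W 3 h3)))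
  have hx1G : cert12_E6.xS gaE6a 2 φ 56 1 ∈ cert12_E6.G1 gaE6a 2 φ srE6a := by
    have := cert12_E6.xS_mem_G1 W 0 h0 (1 : K) (hKr56 _)
    rwa [ds0] at this
  refine ⟨chiHom chevE6 fdE6 K x, cert12_E6.xS gaE6a 2 φ 56 1 * w, ?_⟩
  set M := Subgroup.closure {chiHom chevE6 fdE6 K x, cert12_E6.xS gaE6a 2 φ 56 1 * w} with hM
  have hhM : chiHom chevE6 fdE6 K x ∈ M := Subgroup.subset_closure (by simp)
  have hgM : cert12_E6.xS gaE6a 2 φ 56 1 * w ∈ M := Subgroup.subset_closure (by simp)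
  have hMG : M ≤ cert12_E6.G1 gaE6a 2 φ srE6a := by
    rw [hM, Subgroup.closure_le]
    intro g hg
    rcases hg with rfl | rfl
    · exact hhG
    · exact mul_mem hx1G hwG
  have hMfix : M ≤ fixS (cert12_E6.c6.c2.sigma W.T.ginv φ) := hMG.trans (cert12_E6.G1_le_fix W)
  have hw : w ∈ chevE6.monomialSubgroup K :=
    mul_mem (cert12_E6.nS_mem_monomial W.T W.T2 0) (mul_mem (cert12_E6.nS_mem_monomial W.T W.T2 1)
      (mul_mem (cert12_E6.nS_mem_monomial W.T W.T2 2) (cert12_E6.nS_mem_monomial W.T W.T2 3)))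
  have hwfix : cert12_E6.c6.c2.sigma W.T.ginv φ w = w := cert12_E6.sigma_of_mem W hwG
  have hπ : cert12_E6.c6.c2.Perm w piE6 :=
    cert12_E6.c6.perm_mul (cert12_E6.perm_nS W.T W.T2 0 hl0) (cert12_E6.c6.perm_mul (cert12_E6.perm_nS W.T W.T2 1 hl1)
      (cert12_E6.c6.perm_mul (cert12_E6.perm_nS W.T W.T2 2 hl2) (cert12_E6.perm_nS W.T W.T2 3 hl3)))
  -- the values of the roots at `h`
  have hl : chiC chevE6 fdE6 K x 56 = (κ : K) ^ 2 := by
    rw [hx, chiC_yS2 cert12_E6 W rfl 0 hl0 drh 56 (hn 56 (by norm_num)) κ, drh1, c56a, c56b]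
    simp
  have hκ2 : (κ : K) ^ 2 ≠ 1 := by
    have : κ ^ 2 ≠ 1 := pow_ne_one_of_lt_orderOf (by norm_num) (by rw [hord]; omega)
    intro h
    apply this
    apply Units.ext
    simpa using h
  have hl' : chiC chevE6 fdE6 K x 13 ≠ 1 := by
    rw [hx, chiC_yS2 cert12_E6 W rfl 0 hl0 drh 13 (hn 13 (by norm_num)) κ, drh1, c13a, c13b]
    intro h
    have h2 : κ ^ (-1 : ℤ) * (Units.map φ.toMonoidHom κ) ^ (0 : ℤ) = 1 := Units.ext (by simpa using h)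
    rw [zpow_zero, mul_one, _root_.zpow_neg_one, inv_eq_one] at h2
    have : κ ^ 1 ≠ 1 := pow_ne_one_of_lt_orderOf (by norm_num) (by rw [hord]; omega)
    rw [pow_one] at this
    exact this h2
  -- the root subgroup of the first short fundamental root
  have hX56 : ∀ t, cert12_E6.xS gaE6a 2 φ 56 t ∈ M :=
    root_fill cert12_E6 W M x (cert12_E6.sigma_of_mem W hhG) hhM w hw hwfix piE6 hπ 56 13 (hn 56 (by norm_num))
      (hn 13 (by norm_num)) piE6_O1.1 κ hκ hl hκ2 hl' hgM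
  have hR56 : RootIn cert12_E6 gaE6a 2 φ M 56 := fun t _ => hX56 t
  have hwM : w ∈ M := by
    have : w = (cert12_E6.xS gaE6a 2 φ 56 1)⁻¹ * (cert12_E6.xS gaE6a 2 φ 56 1 * w) := by group
    rw [this]
    exact mul_mem (inv_mem (hX56 1)) hgM
  have it1 := rootIn_perm_iter cert12_E6 W M w hwM hw hwfix piE6 hπ 56 (hn 56 (by norm_num)) hR56
  obtain ⟨_, p1, p4, p5, p6, p7⟩ := piE6_O1
  have hR42 := (it1 1).2
  rw [p1] at hR42
  have hR50 := (it1 4).2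
  rw [p4] at hR50
  have hR41 := (it1 5).2
  rw [p5] at hR41
  have hR35 := (it1 6).2
  rw [p6] at hR35
  have hR34 := (it1 7).2
  rw [p7] at hR34
  have hR15 := rootIn_mate cert12_E6 W rfl M 35 (hn 35 (by norm_num)) nf35 hR35
  rw [g35] at hR15
  have hR29 := rootIn_mate cert12_E6 W rfl M 34 (hn 34 (by norm_num)) nf34 hR34
  rw [g34] at hR29
  -- the second orbit of short roots
  obtain ⟨c, hc, hcomm⟩ := hiv
  have hR54 : RootIn cert12_E6 gaE6a 2 φ M 54 :=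
    rootIn_of_comm_short cert12_E6 W M 41 50 54 nf41 nf50 c hc hcomm hR41 hR50
  have it2 := rootIn_perm_iter cert12_E6 W M w hwM hw hwfix piE6 hπ 54 (hn 54 (by norm_num)) hR54
  obtain ⟨o1, o10⟩ := piE6_O2
  have hR40 := (it2 1).2
  rw [o1] at hR40
  have hR66 := (it2 10).2
  rw [o10] at hR66
  -- the first orbit of long roots
  obtain ⟨c0, c1, hc0, hcomm2⟩ := hii
  have hR70 : RootIn cert12_E6 gaE6a 2 φ M 70 :=
    rootIn_of_comm2 cert12_E6 W M hMfix 40 66 70 (hn 70 (by norm_num)) nf40 nf66 f70 c0 c1 hc0 (fun u => φ u)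
      (fun e u he => by rw [map_mul, he]) (fun y => ⟨φ y, hφ2 y⟩) hcomm2 hR40 hR66
  have it3 := rootIn_perm_iter cert12_E6 W M w hwM hw hwfix piE6 hπ 70 (hn 70 (by norm_num)) hR70
  obtain ⟨l2, l8, l9⟩ := piE6_L1
  have hR39 := (it3 2).2
  rw [l2] at hR39
  have hR32 := (it3 8).2
  rw [l8] at hR32
  have hR63 := (it3 9).2
  rw [l9] at hR63
  -- the second orbit of long roots
  have hR65 : RootIn cert12_E6 gaE6a 2 φ M 65 :=
    rootIn_of_comm_fixed cert12_E6 W M 39 63 65 (hn 39 (by norm_num)) (hn 63 (by norm_num)) (by norm_num)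
      (by rw [dn]; norm_num) 1 (Or.inl rfl) hct f39 f63 f65 hR39 hR63
  have it4 := rootIn_perm_iter cert12_E6 W M w hwM hw hwfix piE6 hπ 65 (hn 65 (by norm_num)) hR65
  obtain ⟨m3, m9⟩ := piE6_L2
  have hR25 := (it4 3).2
  rw [m3] at hR25
  have hR46 := (it4 9).2
  rw [m9] at hR46
  -- conclusion
  apply le_antisymm hMG
  rw [Subgroup.closure_le]
  rintro g ⟨i, hi, t, ht, hg⟩
  have hi2 : i = 0 ∨ i = 1 ∨ i = 2 ∨ i = 3 := by simpa [srE6a] using hi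
  rcases hi2 with rfl | rfl | rfl | rfl
  · rw [ds0, dn] at hg
    rcases hg with rfl | rfl
    · exact hX56 t
    · exact hR15 t (fun h => absurd h nf15)
  · have ht' := cert12_E6.Kr_neg W.T W.T2 φ _ (cert12_E6.c6.c2.simple_lt 1 hl1) t ht
    rw [ds1] at ht
    rw [ds1, dn] at ht' hg
    rcases hg with rfl | rfl
    · exact hR46 t ht
    · exact hR25 t ht'
  · rw [ds2, dn] at hg
    rcases hg with rfl | rfl
    · exact hR42 t (fun h => absurd h nf42)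
    · exact hR29 t (fun h => absurd h nf29)
  · have ht' := cert12_E6.Kr_neg W.T W.T2 φ _ (cert12_E6.c6.c2.simple_lt 3 hl3) t ht
    rw [ds3] at ht
    rw [ds3, dn] at ht' hg
    rcases hg with rfl | rfl
    · exact hR39 t ht
    · exact hR32 t ht'

/-- S2406, parametric in the commutator formulas -/
theorem two_gen_twistedE6_of_comm {K : Type*} [Field K] [Fintype K] {q : ℕ} (hq : IsPrimePow q)
    (hK : Fintype.card K = q ^ 2) (hiv : ∀ φ : K →+* K, (∀ x, φ (φ x) = x) → CommE6iv φ)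
    (hii : ∀ φ : K →+* K, (∀ x, φ (φ x) = x) → CommE6ii φ) :
    ∃ a b : ↥(Lie.twistedE6 K q), Subgroup.closure {a, b} = ⊤ := by
  obtain ⟨φ, hφ, _, hφk⟩ := exists_frob hq hK
  have hq1 : 1 ≤ q := hq.one_lt.le
  have hKc : Nat.card K = q ^ 2 := by rw [Nat.card_eq_fintype_card, hK]
  have e : twistedE6 K q = Subgroup.closure (cert12_E6.twGen gaE6a 2 φ srE6a) := by
    unfold twistedE6 ChevalleyDatum.genSubgroup
    rw [twGen_E6 q φ hφ]
  rw [e]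
  have hφ2 : ∀ x : K, φ (φ x) = x := fun x => hφk x
  obtain ⟨a, b, hab⟩ := two_gen_E6_of_comm q hq1 hKc φ hφ hφk (hiv φ hφ2) (hii φ hφ2)
  exact exists_pair_closure_top _ a b hab

end Cfsg.Agent.Lib.H28.TwGen
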