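/-
helper28 library: the group `V` (unitriangular 5x5 matrices over the field of two elements modulo the centre, of
order 512): the centres of its maximal subgroups have order at most 8, and it has exactly one abelian subgroup of
order 64, which is elementary abelian.
-/
import Cfsg.Agent.Lib.H28.UT5Quot

set_option autoImplicit false

namespace Cfsg.Agent.Lib.H28.UT5

namespace V

/-! ### generalities -/

theorem card_subtype_le (p : V → Bool) : Nat.card {x : V // p x = true} ≤ (allV.filter p).length := by
  rw [Nat.card_eq_fintype_card, Fintype.card_subtype]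
  calc (Finset.univ.filter (fun x => p x = true)).card ≤ (allV.filter p).toFinset.card := by
        apply Finset.card_le_card
        intro x hx
        rw [Finset.mem_filter] at hx
        rw [List.mem_toFinset, List.mem_filter]
        exact ⟨mem_allV x, hx.2⟩
    _ ≤ (allV.filter p).length := List.toFinset_card_le _

theorem isPGroup : IsPGroup 2 V := IsPGroup.of_card (n := 9) (by rw [card_eq]; norm_num)

/-- commutation, computably -/
def commB (x y : V) : Bool := decide (mul' x y = mul' y x)

theorem commB_iff {x y : V} : commB x y = true ↔ x * y = y * x := by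
  unfold commB
  rw [decide_eq_true_eq]
  rfl

/-! ### the abelian subgroup of order 64 -/

/-- membership in the abelian subgroup: the middle entries vanish -/
def inN (x : V) : Bool := !x.a23 && !x.a24 && !x.a34

/-- the retraction onto the complementary dihedral subgroup -/
def sec (x : V) : V := ⟨false, false, false, x.a23, x.a24, false, x.a34, false, false⟩

theorem sec_mul (x y : V) : sec (x * y) = sec x * sec y := by
  rcases x with ⟨x12, x13, x14, x23, x24, x25, x34, x35, x45⟩
  rcases y with ⟨y12, y13, y14, y23, y24, y25, y34, y35, y45⟩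
  simp [sec, mul_def, mul', Bool.add_eq_xor, Bool.mul_eq_and]

/-- the retraction as a homomorphism -/
def secHom : V →* V where
  toFun := sec
  map_one' := rfl
  map_mul' := sec_mul

theorem sec_sec (x : V) : sec (sec x) = sec x := rfl

theorem sec_eq_one_iff (x : V) : sec x = 1 ↔ inN x = true := by
  rcases x with ⟨x12, x13, x14, x23, x24, x25, x34, x35, x45⟩
  simp [sec, inN, one_def, one', and_assoc]

theorem inN_comm_aux : allV.all (fun x => !inN x || allV.all (fun y => !inN y || commB x y)) = true := by
  decide +kernel

theorem inN_comm {x y : V} (hx : inN x = true) (hy : inN y = true) : x * y = y * x := by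
  have h1 := forall_of_all inN_comm_aux x
  rw [hx, Bool.not_true, Bool.false_or] at h1
  have h2 := List.all_eq_true.1 h1 y (mem_allV y)
  rw [hy, Bool.not_true, Bool.false_or] at h2
  exact commB_iff.1 h2

theorem inN_sq_aux : allV.all (fun x => !inN x || decide (mul' x x = one')) = true := by decide +kernel

theorem inN_sq {x : V} (hx : inN x = true) : x * x = 1 := by
  have h1 := forall_of_all inN_sq_aux x
  rw [hx, Bool.not_true, Bool.false_or, decide_eq_true_eq] at h1
  exact h1

/-- the abelian subgroup of order 64 -/
def NSub : Subgroup V := secHom.ker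

theorem mem_NSub {x : V} : x ∈ NSub ↔ inN x = true := by
  unfold NSub
  rw [MonoidHom.mem_ker]
  exact sec_eq_one_iff x

/-- the elements of the abelian subgroup, by their six free entries -/
def nEquiv : {x : V // inN x = true} ≃ (Bool × Bool × Bool × Bool × Bool × Bool) where
  toFun x := (x.1.a12, x.1.a13, x.1.a14, x.1.a25, x.1.a35, x.1.a45)
  invFun t := ⟨⟨t.1, t.2.1, t.2.2.1, false, false, t.2.2.2.1, false, t.2.2.2.2.1, t.2.2.2.2.2⟩, rfl⟩
  left_inv := by
    rintro ⟨⟨x12, x13, x14, x23, x24, x25, x34, x35, x45⟩, h⟩
    simp only [inN, Bool.and_eq_true, Bool.not_eq_true'] at h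
    obtain ⟨⟨rfl, rfl⟩, rfl⟩ := h
    rfl
  right_inv _ := rfl

theorem card_NSub : Nat.card ↥NSub = 64 := by
  have e : ↥NSub ≃ {x : V // inN x = true} :=
    Equiv.subtypeEquivRight (fun x => mem_NSub)
  rw [Nat.card_congr (e.trans nEquiv), Nat.card_eq_fintype_card]
  rfl

theorem NSub_elementary : Cfsg.IsElementaryAbelian 2 NSub := by
  refine ⟨isMulCommutative_of (fun x hx y hy => inN_comm (mem_NSub.1 hx) (mem_NSub.1 hy)), ?_⟩
  intro a ha
  rw [pow_two]
  exact inN_sq (mem_NSub.1 ha)

/-! ### uniqueness of the abelian subgroup of order 64 -/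

theorem comm_aux {s m n : V} (hc : n * m = m * n) : n * (s * m) = (s * m) * n ↔ n * s = s * n := by
  constructor
  · intro h
    have : (n * s) * m = (s * n) * m := by
      calc (n * s) * m = n * (s * m) := mul_assoc _ _ _
        _ = (s * m) * n := h
        _ = s * (m * n) := mul_assoc _ _ _
        _ = s * (n * m) := by rw [hc]
        _ = (s * n) * m := (mul_assoc _ _ _).symm
    exact mul_right_cancel this
  · intro h
    calc n * (s * m) = (n * s) * m := (mul_assoc _ _ _).symm
      _ = (s * n) * m := by rw [h]
      _ = s * (n * m) := mul_assoc _ _ _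
      _ = s * (m * n) := by rw [hc]
      _ = (s * m) * n := (mul_assoc _ _ _).symm

/-- an element of the abelian subgroup commutes with `a` if and only if it commutes with the retraction of `a` -/
theorem comm_sec_iff {a n : V} (hn : inN n = true) : n * a = a * n ↔ n * sec a = sec a * n := by
  have hm : inN ((sec a)⁻¹ * a) = true := by
    rw [← sec_eq_one_iff]
    show secHom ((secHom a)⁻¹ * a) = 1
    rw [map_mul, map_inv]
    show (sec (sec a))⁻¹ * sec a = 1
    rw [sec_sec, inv_mul_cancel]
  have hc := inN_comm hn hm
  have key := comm_aux (s := sec a) hc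
  rwa [mul_inv_cancel_left] at key

/-- the elements of the complementary dihedral subgroup -/
def secs : List V := allV.filter (fun x => decide (sec x = x))

theorem secs_length : secs.length = 8 := by decide +kernel

theorem sec_mem_secs (a : V) : sec a ∈ secs := by
  unfold secs
  rw [List.mem_filter]
  exact ⟨mem_allV _, by rw [decide_eq_true_eq, sec_sec]⟩

/-- the size of the centralizer of `d` in the abelian subgroup -/
def cenN1 (d : V) : ℕ := (allV.filter (fun n => inN n && commB n d)).length

/-- the size of the centralizer of `d` and `d'` in the abelian subgroup -/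
def cenN2 (d d' : V) : ℕ := (allV.filter (fun n => inN n && commB n d && commB n d')).length

theorem cenN1_le : secs.all (fun d => decide (d = one') || decide (cenN1 d ≤ 16)) = true := by decide +kernel

theorem cenN2_le : secs.all (fun d => secs.all (fun d' =>
    decide (d = one') || decide (d' = one') || decide (d = d') || decide (cenN2 d d' ≤ 8))) = true := by
  decide +kernel

theorem cenN1_le' {d : V} (hd : d ∈ secs) (h1 : d ≠ 1) : cenN1 d ≤ 16 := by
  have := List.all_eq_true.1 cenN1_le d hd
  rw [Bool.or_eq_true, decide_eq_true_eq, decide_eq_true_eq] at this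
  rcases this with h | h
  · exact absurd h h1
  · exact h

theorem cenN2_le' {d d' : V} (hd : d ∈ secs) (hd' : d' ∈ secs) (h1 : d ≠ 1) (h1' : d' ≠ 1) (hne : d ≠ d') :
    cenN2 d d' ≤ 8 := by
  have := List.all_eq_true.1 (List.all_eq_true.1 cenN2_le d hd) d' hd'
  rw [Bool.or_eq_true, Bool.or_eq_true, Bool.or_eq_true, decide_eq_true_eq, decide_eq_true_eq, decide_eq_true_eq,
    decide_eq_true_eq] at this
  rcases this with ((h | h) | h) | h
  · exact absurd h h1
  · exact absurd h h1'
  · exact absurd h hne
  · exact h

def e23V : V := ⟨false, false, false, true, false, false, false, false, false⟩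
def e34V : V := ⟨false, false, false, false, false, false, true, false, false⟩

theorem e23_e34 : e23V * e34V ≠ e34V * e23V := by decide

theorem card_secHom_range : Nat.card ↥secHom.range ≤ 8 := by
  have hinj : Function.Injective (fun y : ↥secHom.range =>
      (⟨y.1, by
        obtain ⟨x, hx⟩ := y.2
        rw [decide_eq_true_eq, ← hx]
        exact sec_sec x⟩ : {x : V // decide (sec x = x) = true})) := by
    intro y1 y2 h
    have h' : y1.1 = y2.1 := Subtype.mk.inj h
    exact Subtype.ext h'
  calc Nat.card ↥secHom.range ≤ Nat.card {x : V // decide (sec x = x) = true} :=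
        Nat.card_le_card_of_injective _ hinj
    _ ≤ secs.length := card_subtype_le _
    _ = 8 := secs_length

/-- the abelian subgroups of order 64 are equal to `NSub` -/
theorem unique_abelian {A : Subgroup V} (hA : IsMulCommutative ↥A) (hc : Nat.card ↥A = 64) : A = NSub := by
  suffices h : A ≤ NSub from Subgroup.eq_of_le_of_card_ge h (by rw [hc, card_NSub])
  by_contra hle
  obtain ⟨a, haA, haN⟩ := SetLike.not_le_iff_exists.1 hle
  let φ : ↥A →* V := secHom.comp A.subtype
  have hφ : ∀ x : ↥A, φ x = sec x.1 := fun _ => rfl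
  have hcard : Nat.card ↥φ.ker * Nat.card ↥φ.range = 64 := by
    rw [← hc, ← Subgroup.index_ker, Subgroup.card_mul_index]
  have hker : ∀ x : ↥φ.ker, inN x.1.1 = true := fun x => (sec_eq_one_iff _).1 (MonoidHom.mem_ker.1 x.2)
  have hkc : ∀ x : ↥φ.ker, ∀ b ∈ A, commB x.1.1 (sec b) = true := by
    intro x b hb
    rw [commB_iff, ← comm_sec_iff (hker x)]
    exact comm_of_mem hA x.1.2 hb
  have hsa : sec a ≠ 1 := fun h => haN (mem_NSub.2 ((sec_eq_one_iff a).1 h))
  -- the first bound
  have h16 : Nat.card ↥φ.ker ≤ 16 := by
    have hinj : Function.Injective (fun x : ↥φ.ker =>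
        (⟨x.1.1, by rw [hker x, hkc x a haA]; rfl⟩ : {n : V // (inN n && commB n (sec a)) = true})) := by
      intro x1 x2 h
      have h' : x1.1.1 = x2.1.1 := Subtype.mk.inj h
      exact Subtype.ext (Subtype.ext h')
    calc Nat.card ↥φ.ker ≤ Nat.card {n : V // (inN n && commB n (sec a)) = true} :=
          Nat.card_le_card_of_injective _ hinj
      _ ≤ cenN1 (sec a) := card_subtype_le _
      _ ≤ 16 := cenN1_le' (sec_mem_secs a) hsa
  have hr4 : 4 ≤ Nat.card ↥φ.range := by
    by_contra hlt
    have h3 : Nat.card ↥φ.range ≤ 3 := by omega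
    have := Nat.mul_le_mul h16 h3
    omega
  -- a second element
  have hb : ∃ b ∈ A, sec b ≠ 1 ∧ sec b ≠ sec a := by
    by_contra hno
    have hno' : ∀ b ∈ A, sec b = 1 ∨ sec b = sec a := by
      intro b hb
      by_contra h
      rw [not_or] at h
      exact hno ⟨b, hb, h.1, h.2⟩
    have hinj : Function.Injective (fun y : ↥φ.range => decide (y.1 = 1)) := by
      intro y1 y2 h0
      have h : decide (y1.1 = 1) = decide (y2.1 = 1) := h0
      obtain ⟨x1, hx1⟩ := y1.2
      obtain ⟨x2, hx2⟩ := y2.2
      apply Subtype.ext
      have h1 := hno' x1.1 x1.2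
      have h2 := hno' x2.1 x2.2
      rw [← hφ, hx1] at h1
      rw [← hφ, hx2] at h2
      by_cases hy : y1.1 = 1
      · have : decide (y2.1 = 1) = true := by rw [← h]; exact decide_eq_true hy
        rw [decide_eq_true_eq] at this
        rw [hy, this]
      · have : decide (y2.1 = 1) = false := by rw [← h]; exact decide_eq_false hy
        rw [decide_eq_false_iff_not] at this
        rw [h1.resolve_left hy, h2.resolve_left this]
    have := Nat.card_le_card_of_injective _ hinj
    have h2 : Nat.card Bool = 2 := by simp
    omega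
  obtain ⟨b, hbA, hb1, hba⟩ := hb
  have h8 : Nat.card ↥φ.ker ≤ 8 := by
    have hinj : Function.Injective (fun x : ↥φ.ker =>
        (⟨x.1.1, by rw [hker x, hkc x a haA, hkc x b hbA]; rfl⟩ :
          {n : V // (inN n && commB n (sec a) && commB n (sec b)) = true})) := by
      intro x1 x2 h
      have h' : x1.1.1 = x2.1.1 := Subtype.mk.inj h
      exact Subtype.ext (Subtype.ext h')
    calc Nat.card ↥φ.ker ≤ Nat.card {n : V // (inN n && commB n (sec a) && commB n (sec b)) = true} :=
          Nat.card_le_card_of_injective _ hinj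
      _ ≤ cenN2 (sec a) (sec b) := card_subtype_le _
      _ ≤ 8 := cenN2_le' (sec_mem_secs a) (sec_mem_secs b) hsa hb1 (Ne.symm hba)
  have hr8 : 8 ≤ Nat.card ↥φ.range := by
    by_contra hlt
    have h7 : Nat.card ↥φ.range ≤ 7 := by omega
    have := Nat.mul_le_mul h8 h7
    omega
  have hle' : φ.range ≤ secHom.range := by
    rintro _ ⟨x, rfl⟩
    exact ⟨x.1, rfl⟩
  have heq : φ.range = secHom.range :=
    Subgroup.eq_of_le_of_card_ge hle' (le_trans card_secHom_range hr8)
  have m1 : e23V ∈ φ.range := by rw [heq]; exact ⟨e23V, rfl⟩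
  have m2 : e34V ∈ φ.range := by rw [heq]; exact ⟨e34V, rfl⟩
  obtain ⟨x, hx⟩ := m1
  obtain ⟨y, hy⟩ := m2
  apply e23_e34
  rw [← hx, ← hy, ← map_mul, ← map_mul]
  congr 1
  exact hA.is_comm.comm x y

/-! ### the maximal subgroups -/

/-- A maximal subgroup of a finite `p`-group has index `p` (as in helper1's `Lib/H1/PGroupBasic`). -/
theorem coatom_index_of_isPGroup {G : Type*} [Group G] [Finite G] {p : ℕ} [hp : Fact p.Prime] (hG : IsPGroup p G)
    {M : Subgroup G} (hM : IsCoatom M) : M.index = p := by
  obtain ⟨n, hn⟩ := IsPGroup.iff_card.mp hG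
  obtain ⟨m, hm⟩ := IsPGroup.iff_card.mp (hG.to_subgroup M)
  have hdvd : p ^ m ∣ p ^ n := by rw [← hn, ← hm]; exact Subgroup.card_subgroup_dvd_card M
  have hmn : m ≤ n := (Nat.pow_dvd_pow_iff_le_right hp.out.one_lt).mp hdvd
  have hne : m ≠ n := by
    intro h
    apply hM.1
    apply Subgroup.eq_top_of_card_eq
    rw [hm, hn, h]
  have hlt : m + 1 ≤ n := by omega
  have hdvd' : p ^ (m + 1) ∣ Nat.card G := by rw [hn]; exact pow_dvd_pow _ hlt
  obtain ⟨K, hK, hMK⟩ := Sylow.exists_subgroup_card_pow_succ hdvd' hm
  have hMK' : M < K := by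
    apply lt_of_le_of_ne hMK
    intro h
    rw [← h, hm] at hK
    have := Nat.pow_right_injective hp.out.two_le hK
    omega
  have hKtop : K = ⊤ := hM.2 K hMK'
  have hcardG : Nat.card G = p ^ (m + 1) := by
    rw [← hK, hKtop, Subgroup.card_top]
  have h1 := M.card_mul_index
  rw [hm, hcardG, pow_succ] at h1
  exact Nat.eq_of_mul_eq_mul_left (pow_pos hp.out.pos m) h1

def e12V : V := ⟨true, false, false, false, false, false, false, false, false⟩
def e13V : V := ⟨false, true, false, false, false, false, false, false, false⟩
def e14V : V := ⟨false, false, true, false, false, false, false, false, false⟩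
def e24V : V := ⟨false, false, false, false, true, false, false, false, false⟩
def e25V : V := ⟨false, false, false, false, false, true, false, false, false⟩
def e35V : V := ⟨false, false, false, false, false, false, false, true, false⟩
def e45V : V := ⟨false, false, false, false, false, false, false, false, true⟩

/-- a power with a boolean exponent -/
def pw (b : Bool) (g : V) : V := bif b then g else one'

/-- the normal form -/
def nf (x : V) : V :=
  mul' (pw x.a45 e45V) (mul' (pw x.a34 e34V) (mul' (pw x.a35 e35V) (mul' (pw x.a23 e23V) (mul' (pw x.a24 e24V)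
    (mul' (pw x.a25 e25V) (mul' (pw x.a12 e12V) (mul' (pw x.a13 e13V) (pw x.a14 e14V))))))))

theorem nf_eq_aux : allV.all (fun x => decide (nf x = x)) = true := by decide +kernel

theorem nf_eq (x : V) : nf x = x := by
  have := forall_of_all nf_eq_aux x
  rwa [decide_eq_true_eq] at this

theorem pw_mem_iff {M : Subgroup V} (b : Bool) (g : V) : pw b g ∈ M ↔ (b = true → g ∈ M) := by
  cases b
  · simp only [pw, cond_false, Bool.false_eq_true, false_imp_iff, iff_true]
    exact M.one_mem
  · simp [pw]

/-- the linear form with coefficients `c1`, `c2`, `c3`, `c4` on the entries next to the diagonal -/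
def lin (c1 c2 c3 c4 : Bool) (x : V) : Bool := xor (xor (c1 && x.a12) (c2 && x.a23)) (xor (c3 && x.a34) (c4 && x.a45))

open Classical in
theorem mem_iff_lin {M : Subgroup V} (h2 : M.index = 2) (x : V) :
    x ∈ M ↔ lin (decide (e12V ∉ M)) (decide (e23V ∉ M)) (decide (e34V ∉ M)) (decide (e45V ∉ M)) x = false := by
  have sq : ∀ g : V, g * g ∈ M := Subgroup.mul_self_mem_of_index_two h2
  have h13 : e13V ∈ M := by
    have := sq (e12V * e23V)
    rwa [show (e12V * e23V) * (e12V * e23V) = e13V from by decide] at this
  have h24 : e24V ∈ M := by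
    have := sq (e23V * e34V)
    rwa [show (e23V * e34V) * (e23V * e34V) = e24V from by decide] at this
  have h35 : e35V ∈ M := by
    have := sq (e34V * e45V)
    rwa [show (e34V * e45V) * (e34V * e45V) = e35V from by decide] at this
  have h14 : e14V ∈ M := by
    have := sq (e13V * e34V)
    rwa [show (e13V * e34V) * (e13V * e34V) = e14V from by decide] at this
  have h25 : e25V ∈ M := by
    have := sq (e24V * e45V)
    rwa [show (e24V * e45V) * (e24V * e45V) = e25V from by decide] at this
  have hx : x ∈ M ↔ nf x ∈ M := by rw [nf_eq]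
  rw [hx]
  unfold nf
  simp only [← mul_eq]
  rw [Subgroup.mul_mem_iff_of_index_two h2, Subgroup.mul_mem_iff_of_index_two h2,
    Subgroup.mul_mem_iff_of_index_two h2, Subgroup.mul_mem_iff_of_index_two h2,
    Subgroup.mul_mem_iff_of_index_two h2, Subgroup.mul_mem_iff_of_index_two h2,
    Subgroup.mul_mem_iff_of_index_two h2, Subgroup.mul_mem_iff_of_index_two h2]
  simp only [pw_mem_iff, h13, h24, h35, h14, h25, imp_true_iff, iff_true, true_iff]
  unfold lin
  by_cases p1 : e12V ∈ M <;> by_cases p2 : e23V ∈ M <;> by_cases p3 : e34V ∈ M <;> by_cases p4 : e45V ∈ M <;>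
    cases x.a12 <;> cases x.a23 <;> cases x.a34 <;> cases x.a45 <;> simp [p1, p2, p3, p4]

/-- elements generating each maximal subgroup together with the Frattini subgroup -/
def Llist : List V :=
  [e12V, e13V, e14V, e23V, e24V, e25V, e34V, e35V, e45V, mul' e12V e23V, mul' e12V e34V, mul' e12V e45V,
    mul' e23V e34V, mul' e23V e45V, mul' e34V e45V]

/-- membership in the centre of the maximal subgroup with coefficients `c`, tested on `Llist` -/
def cenB (c1 c2 c3 c4 : Bool) (z : V) : Bool :=
  !(lin c1 c2 c3 c4 z) && Llist.all (fun m => lin c1 c2 c3 c4 m || commB m z)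

theorem cen_le : ∀ c1 c2 c3 c4 : Bool, (c1 || c2 || c3 || c4) = true →
    (allV.filter (cenB c1 c2 c3 c4)).length ≤ 8 := by decide +kernel

open Classical in
/-- the centre of a maximal subgroup has order at most 8 -/
theorem coatom_center {M : Subgroup V} (hM : IsCoatom M) : Nat.card ↥(Subgroup.center ↥M) ≤ 8 := by
  have : Fact (Nat.Prime 2) := ⟨Nat.prime_two⟩
  have h2 : M.index = 2 := coatom_index_of_isPGroup isPGroup hM
  have hmem := mem_iff_lin h2
  generalize decide (e12V ∉ M) = c1 at hmem
  generalize decide (e23V ∉ M) = c2 at hmem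
  generalize decide (e34V ∉ M) = c3 at hmem
  generalize decide (e45V ∉ M) = c4 at hmem
  have hc : (c1 || c2 || c3 || c4) = true := by
    by_contra hno
    apply hM.1
    rw [eq_top_iff]
    intro x _
    rw [hmem]
    revert hno
    cases c1 <;> cases c2 <;> cases c3 <;> cases c4 <;> simp [lin]
  have hinj : Function.Injective (fun z : ↥(Subgroup.center ↥M) =>
      (⟨z.1.1, by
        unfold cenB
        rw [Bool.and_eq_true, (hmem z.1.1).1 z.1.2, List.all_eq_true]
        refine ⟨rfl, ?_⟩
        intro m _
        rw [Bool.or_eq_true]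
        by_cases hm : lin c1 c2 c3 c4 m = true
        · exact Or.inl hm
        · right
          rw [Bool.not_eq_true] at hm
          have hmM : m ∈ M := (hmem m).2 hm
          have := Subgroup.mem_center_iff.1 z.2 ⟨m, hmM⟩
          exact commB_iff.2 (congrArg Subtype.val this)⟩ : {z : V // cenB c1 c2 c3 c4 z = true})) := by
    intro z1 z2 h
    have h' : z1.1.1 = z2.1.1 := Subtype.mk.inj h
    exact Subtype.ext (Subtype.ext h')
  calc Nat.card ↥(Subgroup.center ↥M) ≤ Nat.card {z : V // cenB c1 c2 c3 c4 z = true} :=
        Nat.card_le_card_of_injective _ hinj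
    _ ≤ (allV.filter (cenB c1 c2 c3 c4)).length := card_subtype_le _
    _ ≤ 8 := cen_le c1 c2 c3 c4 hc

/-! ### conclusion -/

theorem good : Good V :=
  ⟨fun _ hM => coatom_center hM, ⟨NSub, NSub_elementary, card_NSub⟩,
    fun _ _ hA hAc hB hBc => (unique_abelian hA hAc).trans (unique_abelian hB hBc).symm⟩

end V
end Cfsg.Agent.Lib.H28.UT5
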